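import Mathlib.LinearAlgebra.Dual.Lemmas
import Mathlib.LinearAlgebra.LinearIndependent.Defs
import Mathlib.Data.Complex.Basic
import Mathlib.Tactic
import Cfsg.Prelude.Def_Transfer

/-! Automorphisms of extraspecial 2-groups trivial modulo the centre are inner. -/

set_option autoImplicit false

namespace CfsgLib.Trans3

/-- A finite group has at most `|H|` homomorphisms to a group of order two. -/
theorem card_hom_to_order_two_le {H Z : Type*} [Group H] [Finite H] [Group Z]
    (hZ : Nat.card Z = 2) : Nat.card (H →* Z) ≤ Nat.card H := by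
  classical
  haveI : Finite Z := Nat.finite_of_card_ne_zero (by omega)
  obtain ⟨a, b, hab, huniv⟩ := Nat.card_eq_two_iff.1 hZ
  obtain ⟨w, hw⟩ : ∃ w : Z, w ≠ 1 := by
    by_cases h : a = 1
    · exact ⟨b, fun hb => hab (h.trans hb.symm)⟩
    · exact ⟨a, h⟩
  have htwo : ∀ z : Z, z = 1 ∨ z = w := by
    intro z
    have hz : z ∈ ({a, b} : Set Z) := by rw [huniv]; trivial
    have h1 : (1 : Z) ∈ ({a, b} : Set Z) := by rw [huniv]; trivial
    have h2 : w ∈ ({a, b} : Set Z) := by rw [huniv]; trivial
    simp only [Set.mem_insert_iff, Set.mem_singleton_iff] at hz h1 h2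
    rcases hz with rfl | rfl <;> rcases h1 with h1 | h1 <;> rcases h2 with h2 | h2 <;>
      first | (left; exact h1.symm) | (right; exact h2.symm) | (exact absurd (h2.trans h1.symm) hw)
  have hww : w * w = 1 := by
    rcases htwo (w * w) with h | h
    · exact h
    · exact absurd (mul_left_cancel (h.trans (mul_one w).symm)) hw
  let s : Z →* ℂ :=
    { toFun := fun z => if z = 1 then 1 else -1
      map_one' := by simp
      map_mul' := fun x y => by
        rcases htwo x with rfl | rfl <;> rcases htwo y with rfl | rfl <;> simp [hw, hww] }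
  have hs : Function.Injective s := fun x y h => by
    have h' : (if x = 1 then (1 : ℂ) else -1) = if y = 1 then 1 else -1 := h
    rcases htwo x with rfl | rfl <;> rcases htwo y with rfl | rfl <;>
      simp [hw] at h' ⊢ <;> norm_num at h'
  have hli : LinearIndependent ℂ fun f : H →* Z => ((s.comp f : H →* ℂ) : H → ℂ) :=
    (linearIndependent_monoidHom H ℂ).comp (fun f => s.comp f)
      (fun f g h => MonoidHom.ext fun x => hs (DFunLike.congr_fun h x))
  haveI := Fintype.ofFinite H
  haveI : Finite (H →* Z) := Finite.of_injective _ (DFunLike.coe_injective (F := H →* Z))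
  haveI := Fintype.ofFinite (H →* Z)
  have := hli.fintype_card_le_finrank
  rw [Module.finrank_fintype_fun_eq_card] at this
  simpa [Nat.card_eq_fintype_card] using this

/-- An automorphism of an extraspecial 2-group trivial modulo the centre is inner. -/
theorem exists_conj_of_trivial_mod_center {E : Type*} [Group E] [Finite E]
    (hE : Cfsg.IsExtraspecial 2 E) (φ : E ≃* E)
    (hφ : ∀ x : E, φ x * x⁻¹ ∈ Subgroup.center E) : ∃ g : E, ∀ x : E, φ x = g * x * g⁻¹ := by
  classical
  obtain ⟨⟨-, -, hcomm⟩, hcard⟩ := hE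
  have hk : ∀ g x : E, g * x * g⁻¹ * x⁻¹ ∈ Subgroup.center E := fun g x => by
    rw [← hcomm, commutator_def, ← commutatorElement_def]
    exact Subgroup.commutator_mem_commutator (Subgroup.mem_top g) (Subgroup.mem_top x)
  -- displacement homomorphisms into the centre
  let mk : ∀ ψ : E →* E, (∀ x, ψ x * x⁻¹ ∈ Subgroup.center E) → E →* Subgroup.center E :=
    fun ψ h =>
    { toFun := fun x => ⟨ψ x * x⁻¹, h x⟩
      map_one' := Subtype.ext (by simp)
      map_mul' := fun x y => Subtype.ext (by
        show ψ (x * y) * (x * y)⁻¹ = ψ x * x⁻¹ * (ψ y * y⁻¹)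
        have := Subgroup.mem_center_iff.1 (h y) x⁻¹
        rw [map_mul, mul_inv_rev, mul_assoc (ψ x) x⁻¹, this]
        group) }
  have hker : ∀ f : E →* Subgroup.center E, Subgroup.center E ≤ f.ker := fun f => by
    nth_rewrite 1 [← hcomm]
    rw [commutator_def, Subgroup.commutator_le]
    intro x _ y _
    rw [MonoidHom.mem_ker, map_commutatorElement, commutatorElement_eq_one_iff_commute]
    exact Subtype.ext (Subgroup.mem_center_iff.1 (f y).2 (f x))
  let V := E ⧸ Subgroup.center E
  let F : E → (V →* Subgroup.center E) := fun g =>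
    QuotientGroup.lift _ (mk (MulAut.conj g).toMonoidHom (fun x => by simpa using hk g x)) (hker _)
  have hFeq : ∀ g g', F g = F g' → g⁻¹ * g' ∈ Subgroup.center E := by
    intro g g' h
    rw [Subgroup.mem_center_iff]
    intro x
    have h1 : (g * x * g⁻¹ * x⁻¹ : E) = g' * x * g'⁻¹ * x⁻¹ :=
      congrArg Subtype.val (DFunLike.congr_fun h (QuotientGroup.mk x))
    have h2 : g * x * g⁻¹ = g' * x * g'⁻¹ := mul_right_cancel h1
    calc x * (g⁻¹ * g') = g⁻¹ * (g * x * g⁻¹) * g' := by group
      _ = g⁻¹ * (g' * x * g'⁻¹) * g' := by rw [h2]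
      _ = g⁻¹ * g' * x := by group
  let Fq : V → (V →* Subgroup.center E) := fun v => F v.out
  have hinj : Function.Injective Fq := fun v v' h => by
    rw [← QuotientGroup.out_eq' v, ← QuotientGroup.out_eq' v', QuotientGroup.eq]
    exact hFeq _ _ h
  haveI : Finite (V →* Subgroup.center E) :=
    Finite.of_injective _ (DFunLike.coe_injective (F := V →* Subgroup.center E))
  have hsurj : Function.Surjective Fq :=
    (hinj.bijective_of_nat_card_le (card_hom_to_order_two_le hcard)).2
  obtain ⟨v, hv⟩ := hsurj (QuotientGroup.lift _ (mk φ.toMonoidHom hφ) (hker _))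
  refine ⟨v.out, fun x => ?_⟩
  have h1 : (v.out * x * v.out⁻¹ * x⁻¹ : E) = φ x * x⁻¹ :=
    congrArg Subtype.val (DFunLike.congr_fun hv (QuotientGroup.mk x))
  exact (mul_right_cancel h1).symm

end CfsgLib.Trans3
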