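import Mathlib.GroupTheory.Nilpotent
import Mathlib.GroupTheory.Sylow
import Mathlib.Tactic

/-! The Baer–Suzuki theorem: a conjugation-invariant set, any two members of which generate a
`p`-group, generates a `p`-group. -/

set_option autoImplicit false

namespace CfsgLib.Trans3

variable {G : Type*} [Group G] [Finite G] {p : ℕ}

omit [Finite G] in
theorem closure_normal_of_conj_mem {C : Set G} (hC : ∀ g : G, ∀ x ∈ C, g * x * g⁻¹ ∈ C) :
    (Subgroup.closure C).Normal := by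
  refine ⟨fun x hx g => ?_⟩
  induction hx using Subgroup.closure_induction with
  | mem x hx => exact Subgroup.subset_closure (hC g x hx)
  | one => simp
  | mul a b _ _ h1 h2 => convert mul_mem h1 h2 using 1; group
  | inv a _ h1 => convert inv_mem h1 using 1; group

theorem isPGroup_closure_of_pairwise [Fact p.Prime] {C : Set G}
    (hC : ∀ g : G, ∀ x ∈ C, g * x * g⁻¹ ∈ C)
    (hpair : ∀ x ∈ C, ∀ y ∈ C, IsPGroup p (Subgroup.closure ({x, y} : Set G))) :
    IsPGroup p (Subgroup.closure C) := by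
  classical
  by_contra hnot
  let S : Set (Set G) := {M | M ⊆ C ∧ IsPGroup p (Subgroup.closure M)}
  have hfin : S.Finite := Set.toFinite _
  -- maximal extensions
  have hext : ∀ M ∈ S, ∃ N, Maximal (· ∈ S) N ∧ M ⊆ N := fun M hM => by
    obtain ⟨N, hMN, hN⟩ := hfin.exists_le_maximal hM
    exact ⟨N, hN, hMN⟩
  have hfull : ∀ M, Maximal (· ∈ S) M → ∀ x ∈ C, x ∈ Subgroup.closure M → x ∈ M := by
    intro M hM x hx hxM
    have : insert x M ∈ S := ⟨Set.insert_subset hx hM.prop.1, by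
      refine hM.prop.2.to_le ((Subgroup.closure_le _).2 ?_)
      exact Set.insert_subset hxM Subgroup.subset_closure⟩
    exact hM.eq_of_ge this (Set.subset_insert x M) ▸ Set.mem_insert x M
  let T : Set (Set G × Set G) := {q | Maximal (· ∈ S) q.1 ∧ Maximal (· ∈ S) q.2 ∧ q.1 ≠ q.2}
  have hTne : T.Nonempty := by
    obtain ⟨M, hM, -⟩ := hext ∅ ⟨Set.empty_subset _, by
      rw [Subgroup.closure_empty]; exact IsPGroup.of_bot⟩
    obtain ⟨x, hx, hxM⟩ : ∃ x ∈ C, x ∉ M := by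
      by_contra h
      exact hnot ((Set.Subset.antisymm hM.prop.1 fun x hx => not_not.1 fun hxM =>
        h ⟨x, hx, hxM⟩) ▸ hM.prop.2)
    obtain ⟨N, hN, hxN⟩ := hext {x} ⟨Set.singleton_subset_iff.2 hx, by
      have := hpair x hx x hx; rwa [Set.pair_eq_singleton] at this⟩
    refine ⟨(M, N), hM, hN, fun h => hxM ?_⟩
    have h' : M = N := h
    exact h' ▸ hxN rfl
  obtain ⟨⟨M₁, M₂⟩, ⟨h1, h2, hne⟩, hmax⟩ :=
    Set.exists_max_image T (fun q => (q.1 ∩ q.2).ncard) (Set.toFinite _) hTne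
  let I := M₁ ∩ M₂
  let R := Subgroup.closure I
  have key : ∀ M, Maximal (· ∈ S) M → I ⊆ M → M ≠ I →
      ∃ c ∈ M, c ∉ I ∧ c ∈ Subgroup.normalizer (R : Set G) := by
    intro M hM hIM hMI
    by_contra hno
    have hno : ∀ c ∈ M, c ∈ Subgroup.normalizer (R : Set G) → c ∈ I := fun c hc hn =>
      not_not.1 fun h => hno ⟨c, hc, h, hn⟩
    let P := Subgroup.closure M
    haveI : Group.IsNilpotent P := hM.prop.2.isNilpotent
    let R' : Subgroup P := R.subgroupOf P
    let N := Subgroup.normalizer (R' : Set P)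
    have hRP : R ≤ P := Subgroup.closure_mono hIM
    have hNR : ∀ g : P, g ∈ N → (g : G) ∈ Subgroup.normalizer (R : Set G) := by
      intro g hg y
      constructor
      · intro hy
        exact (hg ⟨y, hRP hy⟩).1 hy
      · intro hy
        have hy' := hRP hy
        have hyP : y ∈ P := by
          have := mul_mem (mul_mem (inv_mem g.2) hy') g.2
          rwa [show (g : G)⁻¹ * (↑g * y * (↑g)⁻¹) * ↑g = y by group] at this
        exact (hg ⟨y, hyP⟩).2 hy
    have hN : ∀ g : P, g ∈ Subgroup.normalizer (N : Set P) → g ∈ N := by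
      intro g hg
      have hI : ∀ g : P, g ∈ Subgroup.normalizer (N : Set P) → ∀ x ∈ I,
          (g : G) * x * (g : G)⁻¹ ∈ I := by
        intro g hg x hx
        have hxP : x ∈ P := hRP (Subgroup.subset_closure hx)
        have hxN : (⟨x, hxP⟩ : P) ∈ N := Subgroup.le_normalizer (Subgroup.subset_closure hx)
        exact hno _ (hfull M hM _ (hC g x (h1.prop.1 hx.1))
          (mul_mem (mul_mem g.2 hxP) (inv_mem g.2))) (hNR _ ((hg _).1 hxN))
      have hR : ∀ g : P, g ∈ Subgroup.normalizer (N : Set P) → ∀ y ∈ R,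
          (g : G) * y * (g : G)⁻¹ ∈ R := fun g hg y hy =>
        show y ∈ R.comap (MulAut.conj (g : G)).toMonoidHom from
          (Subgroup.closure_le (R.comap (MulAut.conj (g : G)).toMonoidHom)).2
            (fun x hx => Subgroup.subset_closure (hI g hg x hx)) hy
      intro y
      refine ⟨fun hy => hR g hg y hy, fun hy => ?_⟩
      have := hR g⁻¹ (inv_mem hg) _ hy
      simpa [mul_assoc, R', Subgroup.mem_subgroupOf] using this
    have hNtop : N = ⊤ := by
      by_contra h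
      obtain ⟨g, hg, hgN⟩ := SetLike.exists_of_lt
        (Group.normalizerCondition_of_isNilpotent (G := P) N (lt_top_iff_ne_top.2 h))
      exact hgN (hN g hg)
    refine hMI (Set.Subset.antisymm (fun x hx => hno x hx
      (hNR ⟨x, Subgroup.subset_closure hx⟩ (hNtop ▸ Subgroup.mem_top _))) hIM)
  have hM1 : M₁ ≠ I := fun h =>
    hne (h1.eq_of_le h2.prop (fun x hx => (h ▸ hx : x ∈ I).2))
  have hM2 : M₂ ≠ I := fun h =>
    hne.symm (h2.eq_of_le h1.prop (fun x hx => (h ▸ hx : x ∈ I).1))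
  obtain ⟨c₁, hc₁, hc₁I, hn₁⟩ := key M₁ h1 Set.inter_subset_left hM1
  obtain ⟨c₂, hc₂, hc₂I, hn₂⟩ := key M₂ h2 Set.inter_subset_right hM2
  have hJ : I ∪ {c₁, c₂} ∈ S := by
    refine ⟨Set.union_subset (fun x hx => h1.prop.1 hx.1)
      (Set.insert_subset (h1.prop.1 hc₁) (Set.singleton_subset_iff.2 (h2.prop.1 hc₂))), ?_⟩
    rw [Subgroup.closure_union]
    exact (h1.prop.2.to_le (Subgroup.closure_mono Set.inter_subset_left)).to_sup_of_normal_left'
      (hpair c₁ (h1.prop.1 hc₁) c₂ (h2.prop.1 hc₂))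
      ((Subgroup.closure_le _).2 (Set.insert_subset hn₁ (Set.singleton_subset_iff.2 hn₂)))
  obtain ⟨M₃, h3, hJM⟩ := hext _ hJ
  by_cases h : M₁ = M₃
  · exact hc₂I ⟨h ▸ hJM (by simp), hc₂⟩
  · have hlt : I.ncard < (M₁ ∩ M₃).ncard := by
      refine Set.ncard_lt_ncard ⟨fun x hx => ⟨hx.1, hJM (Or.inl hx)⟩, fun hsub => ?_⟩
        (Set.toFinite _)
      exact hc₁I (hsub ⟨hc₁, hJM (Or.inr (by simp))⟩)
    exact absurd (hmax (M₁, M₃) ⟨h1, h3, h⟩) (not_le.2 hlt)

/-- Baer–Suzuki for a subgroup. -/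
theorem baer_suzuki [Fact p.Prime] (X : Subgroup G)
    (h : ∀ g : G, IsPGroup p ↥(X ⊔ X.map (MulAut.conj g).toMonoidHom)) :
    ∃ N : Subgroup G, N.Normal ∧ IsPGroup p N ∧ X ≤ N := by
  let C : Set G := {y | ∃ g : G, ∃ x ∈ X, y = g * x * g⁻¹}
  have hC : ∀ g : G, ∀ y ∈ C, g * y * g⁻¹ ∈ C := by
    rintro g _ ⟨a, x, hx, rfl⟩
    exact ⟨g * a, x, hx, by group⟩
  refine ⟨_, closure_normal_of_conj_mem hC, isPGroup_closure_of_pairwise hC ?_,
    fun x hx => Subgroup.subset_closure ⟨1, x, hx, by simp⟩⟩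
  rintro _ ⟨a, x, hx, rfl⟩ _ ⟨b, y, hy, rfl⟩
  refine ((h (a⁻¹ * b)).map (MulAut.conj a).toMonoidHom).to_le ((Subgroup.closure_le _).2 ?_)
  refine Set.insert_subset ⟨x, Subgroup.mem_sup_left hx, rfl⟩ (Set.singleton_subset_iff.2 ?_)
  refine ⟨_, Subgroup.mem_sup_right ⟨y, hy, rfl⟩, ?_⟩
  simp [mul_assoc]

end CfsgLib.Trans3
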