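import Mathlib.GroupTheory.OrderOfElement
import Mathlib.Tactic
import Cfsg.Prelude.Def_SporadicB

/-! Elementary facts about sets of 3-transpositions. -/

set_option autoImplicit false

namespace CfsgLib.Trans3

variable {G : Type*} [Group G]

theorem invol_mul_self {d : G} (hd : orderOf d = 2) : d * d = 1 := by
  rw [← pow_two, ← hd]; exact pow_orderOf_eq_one d

theorem invol_inv {d : G} (hd : orderOf d = 2) : d⁻¹ = d :=
  inv_eq_of_mul_eq_one_right (invol_mul_self hd)

theorem invol_ne_one {d : G} (hd : orderOf d = 2) : d ≠ 1 := by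
  rintro rfl; simp at hd

theorem invol_cancel {d : G} (hd : orderOf d = 2) (x : G) : d * (d * x) = x := by
  rw [← mul_assoc, invol_mul_self hd, one_mul]

theorem orderOf_conj (g d : G) : orderOf (g * d * g⁻¹) = orderOf d :=
  MulEquiv.orderOf_eq (MulAut.conj g) d

variable {E : Set G}

theorem sq_one (hE : Cfsg.IsThreeTranspositionSet E) {d : G} (hd : d ∈ E) : d * d = 1 :=
  invol_mul_self (hE.1 d hd)

theorem inv_eq (hE : Cfsg.IsThreeTranspositionSet E) {d : G} (hd : d ∈ E) : d⁻¹ = d :=
  invol_inv (hE.1 d hd)

theorem commute_iff_pow_two (hE : Cfsg.IsThreeTranspositionSet E) {d e : G} (hd : d ∈ E)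
    (he : e ∈ E) : Commute d e ↔ (d * e) ^ 2 = 1 := by
  constructor
  · intro h
    rw [h.mul_pow, pow_two, pow_two, sq_one hE hd, sq_one hE he, one_mul]
  · intro h
    have h1 : d * e = (d * e)⁻¹ := eq_inv_of_mul_eq_one_left (by rwa [← pow_two])
    rw [mul_inv_rev, inv_eq hE hd, inv_eq hE he] at h1
    exact h1

theorem pow_three (hE : Cfsg.IsThreeTranspositionSet E) {d e : G} (hd : d ∈ E) (he : e ∈ E)
    (h : ¬ Commute d e) : (d * e) ^ 3 = 1 :=
  (hE.2 d hd e he).resolve_left fun h2 => h ((commute_iff_pow_two hE hd he).2 h2)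

/-- Non-commuting members satisfy the braid relation. -/
theorem braid (hE : Cfsg.IsThreeTranspositionSet E) {d e : G} (hd : d ∈ E) (he : e ∈ E)
    (h : ¬ Commute d e) : d * e * d = e * d * e := by
  have h3 : (d * e * d) * (e * d * e) = 1 := by
    simpa [pow_succ, pow_zero, mul_assoc] using pow_three hE hd he h
  rw [eq_inv_of_mul_eq_one_left h3]
  simp [mul_inv_rev, inv_eq hE hd, inv_eq hE he, mul_assoc]

theorem orderOf_mul_noncomm (hE : Cfsg.IsThreeTranspositionSet E) {d e : G} (hd : d ∈ E)
    (he : e ∈ E) (h : ¬ Commute d e) : orderOf (d * e) = 3 := by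
  haveI : Fact (Nat.Prime 3) := ⟨Nat.prime_three⟩
  refine orderOf_eq_prime (pow_three hE hd he h) fun h1 => h ?_
  rw [commute_iff_pow_two hE hd he, h1, one_pow]

theorem ne_of_not_commute {d e : G} (h : ¬ Commute d e) : d ≠ e := by
  rintro rfl; exact h (Commute.refl d)

/-- For distinct commuting `a`, `b`: `e` centralises `a * b` iff it centralises both. -/
theorem commute_mul_iff (hE : Cfsg.IsThreeTranspositionSet E) {a b e : G} (ha : a ∈ E)
    (hb : b ∈ E) (he : e ∈ E) (hab : a ≠ b) (hcomm : Commute a b) :
    Commute e (a * b) ↔ Commute e a ∧ Commute e b := by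
  refine ⟨fun h => ?_, fun h => h.1.mul_right h.2⟩
  by_cases hea : Commute e a
  · exact ⟨hea, by simpa using hea.inv_right.mul_right h⟩
  · exfalso
    have heb : ¬ Commute e b := fun heb =>
      hea (by simpa using h.mul_right heb.inv_right)
    have h1 := braid hE he ha hea
    have h2 := braid hE he hb heb
    have h4 : e * (a * b) * e = a * b := by
      rw [h.eq, mul_assoc, sq_one hE he, mul_one]
    have h5 : (e * a * e) * (e * b * e) = a * b := by
      calc (e * a * e) * (e * b * e) = e * a * (e * e) * b * e := by group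
        _ = e * (a * b) * e := by rw [sq_one hE he]; group
        _ = a * b := h4
    rw [h1, h2] at h5
    have h6 : e * a * b * e * b = b := by
      have h7 : a * (e * a * b * e * b) = a * b := by simpa [mul_assoc] using h5
      exact mul_left_cancel h7
    have h8 : e * (a * b) * e = 1 := by
      have : (e * (a * b) * e) * b = 1 * b := by simpa [mul_assoc] using h6
      exact mul_right_cancel this
    have h9 : a * b = 1 := h4.symm.trans h8
    exact hab (by rw [eq_inv_of_mul_eq_one_left h9, inv_eq hE hb])

/-- For three pairwise commuting members with `e` centralising none of them, `e` does not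
centralise the product. -/
theorem commute_mul_mul_iff (hE : Cfsg.IsThreeTranspositionSet E) {a b c e : G} (ha : a ∈ E)
    (hb : b ∈ E) (hc : c ∈ E) (he : e ∈ E) (hab : a ≠ b) (hac : a ≠ c) (hbc : b ≠ c)
    (h₁ : Commute a b) (h₂ : Commute a c) (h₃ : Commute b c) :
    Commute e (a * b * c) ↔ Commute e a ∧ Commute e b ∧ Commute e c := by
  refine ⟨fun h => ?_, fun h => (h.1.mul_right h.2.1).mul_right h.2.2⟩
  by_cases hea : Commute e a
  · have : Commute e (b * c) := by simpa [mul_assoc] using hea.inv_right.mul_right h
    exact ⟨hea, (commute_mul_iff hE hb hc he hbc h₃).1 this⟩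
  by_cases hec : Commute e c
  · have : Commute e (a * b) := by simpa [mul_assoc] using h.mul_right hec.inv_right
    exact absurd ((commute_mul_iff hE ha hb he hab h₁).1 this).1 hea
  by_cases heb : Commute e b
  · have hx : a * b * c = b * (a * c) := by rw [h₁.eq, mul_assoc]
    rw [hx] at h
    have : Commute e (a * c) := by simpa using heb.inv_right.mul_right h
    exact absurd ((commute_mul_iff hE ha hc he hac h₂).1 this).1 hea
  exfalso
  have ra := braid hE he ha hea
  have rb := braid hE he hb heb
  have rc := braid hE he hc hec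
  have iA := invol_cancel (hE.1 a ha)
  have iB := invol_cancel (hE.1 b hb)
  have iC := invol_cancel (hE.1 c hc)
  have iE := invol_cancel (hE.1 e he)
  -- `a e a = (b c) e (c b)`
  have k1 : a * e * a = b * c * e * (c * b) := by
    have h' : e * (a * b * c) = a * b * c * e := h.eq
    calc a * e * a = a * (e * (a * b * c)) * (c * b) := by
          simp only [mul_assoc]; rw [iC, sq_one hE hb, mul_one]
      _ = a * (a * b * c * e) * (c * b) := by rw [h']
      _ = b * c * e * (c * b) := by simp only [mul_assoc]; rw [iA]
  -- conjugating by `e`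
  have k2 : a = e * (b * c * e * (c * b)) * e := by
    rw [← k1, ← ra]; simp only [mul_assoc]; rw [iE, sq_one hE he, mul_one]
  have hbcb : b * c * b = c := by rw [h₃.eq, mul_assoc, sq_one hE hb, mul_one]
  have k3 : e * (b * c * e * (c * b)) * e = b * c * e * (c * b) := by
    calc e * (b * c * e * (c * b)) * e = (e * b * e) * (e * c * e) * (c * (b * e)) := by
          simp only [mul_assoc]; rw [iE]
      _ = (b * e * b) * (c * e * c) * (c * (b * e)) := by rw [rb, rc]
      _ = b * e * b * c * (e * b * e) := by simp only [mul_assoc]; rw [iC]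
      _ = b * e * (b * c * b) * e * b := by rw [rb]; simp only [mul_assoc]
      _ = b * (e * c * e) * b := by rw [hbcb]; simp only [mul_assoc]
      _ = b * c * e * (c * b) := by rw [rc]; simp only [mul_assoc]
  have k4 : a = a * e * a := (k2.trans k3).trans k1.symm
  have : e * a = 1 := by
    have : a * (e * a) = a * 1 := by rw [mul_one, ← mul_assoc]; exact k4.symm
    exact mul_left_cancel this
  exact hea (by rw [eq_inv_of_mul_eq_one_left this]; exact (Commute.refl a).inv_left)

end CfsgLib.Trans3
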