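import Mathlib.GroupTheory.Sylow
import Mathlib.GroupTheory.PGroup
import Mathlib.Tactic
import Cfsg.Prelude.Def_SporadicB
import Cfsg.Agent.Lib.Trans3.Basic

/-! Involutions centralising Sylow 2-subgroups. -/

set_option autoImplicit false

namespace CfsgLib.Trans3

variable {G : Type*} [Group G]

/-- An element of `p`-power order centralising a Sylow `p`-subgroup lies in it. -/
theorem mem_sylow_of_centralizes {p : ℕ} [Fact p.Prime] (P : Sylow p G) {t : G} {n : ℕ}
    (ht : orderOf t = p ^ n) (h : (P : Subgroup G) ≤ Subgroup.centralizer ({t} : Set G)) :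
    t ∈ (P : Subgroup G) := by
  have hn : Subgroup.zpowers t ≤ Subgroup.normalizer ((P : Subgroup G) : Set G) := by
    rw [Subgroup.zpowers_le]
    intro x
    constructor
    · intro hx
      have := Subgroup.mem_centralizer_singleton_iff.1 (h hx)
      rwa [show t * x * t⁻¹ = x by rw [← this, mul_inv_cancel_right]]
    · intro hx
      have := Subgroup.mem_centralizer_singleton_iff.1 (h hx)
      have e : x = t * x * t⁻¹ := by
        have h2 : t * (t * x * t⁻¹) = t * x := by rw [← this]; group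
        have := mul_left_cancel h2
        exact this.symm
      rw [e]; exact hx
  have hZ : IsPGroup p (Subgroup.zpowers t) := IsPGroup.of_card (by rw [Nat.card_zpowers, ht])
  have hsup : IsPGroup p ((Subgroup.zpowers t ⊔ (P : Subgroup G) : Subgroup G)) :=
    hZ.to_sup_of_normal_right' P.isPGroup' hn
  have := P.is_maximal' hsup le_sup_right
  rw [← this]
  exact le_sup_left (a := Subgroup.zpowers t) (Subgroup.mem_zpowers t)

theorem isTwoCentral_iff [Finite G] (t : G) (ht : orderOf t = 2) :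
    Cfsg.IsTwoCentralInvolution t ↔
      ∃ P : Sylow 2 G, (P : Subgroup G) ≤ Subgroup.centralizer ({t} : Set G) := by
  constructor
  · rintro ⟨-, P, -, hx⟩
    exact ⟨P, fun x hxP => Subgroup.mem_centralizer_singleton_iff.2 (hx x hxP)⟩
  · rintro ⟨P, hP⟩
    refine ⟨ht, P, mem_sylow_of_centralizes P (n := 1) (by simpa using ht) hP, fun x hx => ?_⟩
    exact Subgroup.mem_centralizer_singleton_iff.1 (hP hx)

theorem exists_isTwoCentral [Finite G] (h : Even (Nat.card G)) :
    ∃ t : G, Cfsg.IsTwoCentralInvolution t := by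
  obtain ⟨P⟩ : Nonempty (Sylow 2 G) := inferInstance
  haveI : Nontrivial (P : Subgroup G) := by
    have h1 : 2 ^ 1 ∣ Nat.card (P : Subgroup G) :=
      P.pow_dvd_card_of_pow_dvd_card (by simpa using h.two_dvd)
    rw [← Finite.one_lt_card_iff_nontrivial]
    have := Nat.le_of_dvd Nat.card_pos h1
    omega
  haveI : Nontrivial (Subgroup.center (P : Subgroup G)) := P.isPGroup'.center_nontrivial
  obtain ⟨n, hn⟩ : ∃ n, Nat.card (Subgroup.center (P : Subgroup G)) = 2 ^ n :=
    IsPGroup.iff_card.1 (P.isPGroup'.to_subgroup _)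
  have h2 : 2 ∣ Nat.card (Subgroup.center (P : Subgroup G)) := by
    rcases n with _ | n
    · have := Finite.one_lt_card (α := Subgroup.center (P : Subgroup G)); omega
    · rw [hn, pow_succ]; exact dvd_mul_left _ _
  obtain ⟨z, hz⟩ := exists_prime_orderOf_dvd_card' 2 h2
  refine ⟨((z : (P : Subgroup G)) : G), ?_, P, (z : (P : Subgroup G)).2, fun x hx => ?_⟩
  · rw [Subgroup.orderOf_coe, Subgroup.orderOf_coe, hz]
  · have := Subgroup.mem_center_iff.1 z.2 ⟨x, hx⟩
    exact congrArg Subtype.val this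

/-- An involution with a large 2-subgroup `Q` in its centraliser is the unique 2-central class. -/
theorem large_two_central [Finite G] (z : G) (hz : orderOf z = 2) (Q : Subgroup G)
    (hQC : Q ≤ Subgroup.centralizer ({z} : Set G))
    (hQn : ∀ g ∈ Subgroup.centralizer ({z} : Set G), ∀ q ∈ Q, g * q * g⁻¹ ∈ Q)
    (hQ2 : IsPGroup 2 Q) (hZ : Nat.card (Subgroup.center Q) = 2)
    (hlarge : Subgroup.centralizer (Q : Set G) ≤ Q) :
    (∃ P : Sylow 2 G, (P : Subgroup G) ≤ Subgroup.centralizer ({z} : Set G)) ∧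
      ∀ u : G, orderOf u = 2 →
        (∃ P : Sylow 2 G, (P : Subgroup G) ≤ Subgroup.centralizer ({u} : Set G)) → IsConj z u := by
  set C := Subgroup.centralizer ({z} : Set G) with hC
  have hzQ : z ∈ Q := hlarge fun q hq =>
    (Subgroup.mem_centralizer_singleton_iff.1 (hQC hq))
  -- the centre of `Q` is `{1, z}`
  have hcenter : ∀ w ∈ Q, (∀ q ∈ Q, q * w = w * q) → w = 1 ∨ w = z := by
    intro w hw hwc
    have hzc : (⟨z, hzQ⟩ : Q) ∈ Subgroup.center Q := Subgroup.mem_center_iff.2 fun q =>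
      Subtype.ext (Subgroup.mem_centralizer_singleton_iff.1 (hQC q.2))
    have hwc' : (⟨w, hw⟩ : Q) ∈ Subgroup.center Q := Subgroup.mem_center_iff.2 fun q =>
      Subtype.ext (hwc q q.2)
    by_contra hne
    simp only [not_or] at hne
    have h3 : ({1, ⟨z, hzQ⟩, ⟨w, hw⟩} : Set Q) ⊆ Subgroup.center Q := by
      rintro x (rfl | rfl | rfl)
      exacts [one_mem _, hzc, hwc']
    have h4 : ({1, ⟨z, hzQ⟩, ⟨w, hw⟩} : Set Q).ncard = 3 := by
      rw [Set.ncard_eq_three]
      refine ⟨1, ⟨z, hzQ⟩, ⟨w, hw⟩, ?_, ?_, ?_, rfl⟩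
      · intro h; exact invol_ne_one hz (congrArg Subtype.val h).symm
      · intro h; exact hne.1 (congrArg Subtype.val h).symm
      · intro h; exact hne.2 (congrArg Subtype.val h).symm
    have := Set.ncard_le_ncard h3 (Set.toFinite _)
    rw [h4, ← Nat.card_coe_set_eq, SetLike.coe_sort_coe, hZ] at this
    omega
  -- a Sylow 2-subgroup `T` of `C` containing `Q`, inside a Sylow 2-subgroup `P` of `G`
  obtain ⟨T, hT⟩ := (hQ2.of_equiv (Subgroup.subgroupOfEquivOfLe hQC).symm).exists_le_sylow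
  obtain ⟨P, hP⟩ := (T.isPGroup'.map C.subtype).exists_le_sylow
  have hQP : Q ≤ (P : Subgroup G) := fun q hq =>
    hP ⟨⟨q, hQC hq⟩, hT hq, rfl⟩
  have hcP : ∀ w ∈ (P : Subgroup G), (∀ x ∈ (P : Subgroup G), x * w = w * x) → w = 1 ∨ w = z := by
    intro w hw hwc
    have hwQ : w ∈ Q := hlarge fun q hq => hwc q (hQP hq)
    exact hcenter w hwQ fun q hq => hwc q (hQP hq)
  have hPC : (P : Subgroup G) ≤ C := by
    haveI : Nontrivial (P : Subgroup G) := by
      refine ⟨⟨z, hQP hzQ⟩, 1, fun h => invol_ne_one hz (congrArg Subtype.val h)⟩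
    haveI : Nontrivial (Subgroup.center (P : Subgroup G)) := P.isPGroup'.center_nontrivial
    obtain ⟨w, hw⟩ := exists_ne (1 : Subgroup.center (P : Subgroup G))
    have hwc : ∀ x ∈ (P : Subgroup G), x * ((w : (P : Subgroup G)) : G) = (w : (P : Subgroup G)) * x :=
      fun x hx => congrArg Subtype.val (Subgroup.mem_center_iff.1 w.2 ⟨x, hx⟩)
    rcases hcP _ (w : (P : Subgroup G)).2 hwc with h | h
    · exact absurd (Subtype.ext (Subtype.ext h)) hw
    · intro x hx
      rw [hC, Subgroup.mem_centralizer_singleton_iff, ← h]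
      exact hwc x hx
  refine ⟨⟨P, hPC⟩, fun u hu ⟨P', hP'⟩ => ?_⟩
  have huP' := mem_sylow_of_centralizes P' (n := 1) (by simpa using hu) hP'
  obtain ⟨g, hg⟩ := MulAction.exists_smul_eq G P' P
  have hgP : ∀ x, x ∈ (P' : Subgroup G) → g * x * g⁻¹ ∈ (P : Subgroup G) := by
    intro x hx
    rw [← hg, Sylow.coe_subgroup_smul, Subgroup.mem_pointwise_smul_iff_inv_smul_mem]
    simpa [MulAut.smul_def, MulAut.conj, mul_assoc] using hx
  have hmem : g * u * g⁻¹ ∈ (P : Subgroup G) := hgP u huP'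
  have hcen : ∀ x ∈ (P : Subgroup G), x * (g * u * g⁻¹) = g * u * g⁻¹ * x := by
    intro x hx
    have hx' : g⁻¹ * x * g ∈ (P' : Subgroup G) := by
      rw [← hg, Sylow.coe_subgroup_smul, Subgroup.mem_pointwise_smul_iff_inv_smul_mem] at hx
      simpa [MulAut.smul_def, MulAut.conj, mul_assoc] using hx
    have h := Subgroup.mem_centralizer_singleton_iff.1 (hP' hx')
    calc x * (g * u * g⁻¹) = g * (g⁻¹ * x * g * u) * g⁻¹ := by group
      _ = g * (u * (g⁻¹ * x * g)) * g⁻¹ := by rw [h]
      _ = g * u * g⁻¹ * x := by group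
  rcases hcP _ hmem hcen with h | h
  · exact absurd (conj_eq_one_iff.1 h) (invol_ne_one hu)
  · exact (isConj_iff.2 ⟨g, h⟩).symm

end CfsgLib.Trans3
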