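import Mathlib
import Cfsg.Prelude.Def_SporadicB

/-!
A generating conjugation-invariant set of involutions whose members pairwise commute or braid, any two of them having
a common braiding partner, is a class of 3-transpositions.
-/

set_option autoImplicit false

namespace CfsgLib.Trans3

variable {G : Type*} [Group G]

theorem braid_cube {d e : G} (hd : d * d = 1) (he : e * e = 1) (h : d * e * d = e * d * e) :
    (d * e) ^ 3 = 1 := by
  calc (d * e) ^ 3 = d * e * d * (e * d * e) := by rw [pow_three]; group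
    _ = e * d * (e * e) * d * e := by rw [h]; group
    _ = e * (d * d) * e := by rw [he, mul_one]; group
    _ = 1 := by rw [hd, mul_one, he]

theorem braid_isConj {d e : G} (hd : d * d = 1) (he : e * e = 1) (h : d * e * d = e * d * e) :
    IsConj d e := by
  refine isConj_iff.2 ⟨d * e, ?_⟩
  calc d * e * d * (d * e)⁻¹ = e * d * e * (e⁻¹ * d⁻¹) := by rw [h]; group
    _ = e := by group

/-- The criterion. -/
theorem isThreeTranspositionClass_of_braid (D : Set G) (hne : D.Nonempty)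
    (hconj : ∀ d ∈ D, ∀ g : G, g * d * g⁻¹ ∈ D) (hinv : ∀ d ∈ D, d * d = 1 ∧ d ≠ 1)
    (hpair : ∀ d ∈ D, ∀ e ∈ D, d * e = e * d ∨ d * e * d = e * d * e)
    (hconn : ∀ d ∈ D, ∀ e ∈ D, d * e = e * d →
      ∃ f ∈ D, d * f * d = f * d * f ∧ f * e * f = e * f * e)
    (hgen : Subgroup.closure D = ⊤) : Cfsg.IsThreeTranspositionClass D := by
  refine ⟨⟨fun d hd => orderOf_eq_prime (by rw [pow_two]; exact (hinv d hd).1) (hinv d hd).2,
    fun d hd e he => ?_⟩, ?_, hgen⟩
  · rcases hpair d hd e he with h | h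
    · left
      rw [(show Commute d e from h).mul_pow, pow_two, pow_two, (hinv d hd).1, (hinv e he).1, mul_one]
    · exact Or.inr (braid_cube (hinv d hd).1 (hinv e he).1 h)
  · obtain ⟨d, hd⟩ := hne
    refine ⟨d, hd, Set.ext fun e => ⟨fun he => ?_, fun he => ?_⟩⟩
    · rcases hpair d hd e he with h | h
      · obtain ⟨f, hf, h1, h2⟩ := hconn d hd e he h
        exact (braid_isConj (hinv d hd).1 (hinv f hf).1 h1).trans
          (braid_isConj (hinv f hf).1 (hinv e he).1 h2)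
      · exact braid_isConj (hinv d hd).1 (hinv e he).1 h
    · obtain ⟨g, rfl⟩ := isConj_iff.1 he
      exact hconj d hd g

/-- Conjugation preserves `rank (g - 1)`. -/
theorem rank_conj_sub_one {ι F : Type*} [Fintype ι] [DecidableEq ι] [Field F]
    (φ : G →* Matrix ι ι F) (g d : G) : (φ (g * d * g⁻¹) - 1).rank = (φ d - 1).rank := by
  have h1 : φ g * φ g⁻¹ = 1 := by rw [← map_mul, mul_inv_cancel, map_one]
  have e : φ (g * d * g⁻¹) - 1 = φ g * (φ d - 1) * φ g⁻¹ := by
    rw [map_mul, map_mul, mul_sub, sub_mul, mul_one, h1]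
  have hu : ∀ k : G, IsUnit (φ k).det :=
    fun k => (Matrix.isUnit_iff_isUnit_det _).1 ⟨φ.toHomUnits k, rfl⟩
  rw [e, Matrix.rank_mul_eq_left_of_isUnit_det _ _ (hu g⁻¹),
    Matrix.rank_mul_eq_right_of_isUnit_det _ _ (hu g)]

/-- A matrix with `A - 1` of rank one. -/
theorem exists_of_rank_sub_one {ι F : Type*} [Fintype ι] [DecidableEq ι] [Field F] {A : Matrix ι ι F}
    (h : (A - 1).rank = 1) : ∃ (w : ι → F) (c : (ι → F) →ₗ[F] F) (x₀ : ι → F), w ≠ 0 ∧ c x₀ = 1 ∧
      ∀ x, A.mulVec x = x + c x • w := by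
  rw [Matrix.rank] at h
  obtain ⟨⟨w, hw⟩, hw0, hall⟩ := finrank_eq_one_iff'.1 h
  have hw0' : w ≠ 0 := fun e => hw0 (Subtype.ext e)
  have hc : ∀ x, ∃ c : F, (A - 1).mulVec x = c • w := fun x => by
    obtain ⟨c, hc⟩ := hall ⟨(A - 1).mulVec x, ⟨x, rfl⟩⟩
    exact ⟨c, (congrArg Subtype.val hc).symm⟩
  choose c hc using hc
  obtain ⟨x₀, hx₀⟩ := LinearMap.mem_range.1 hw
  rw [Matrix.mulVecLin_apply, hc] at hx₀
  have hlin : ∀ a b, c (a + b) = c a + c b := fun a b => smul_left_injective F hw0' (by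
    show c (a + b) • w = (c a + c b) • w
    rw [add_smul, ← hc, ← hc, ← hc, Matrix.mulVec_add])
  have hsm : ∀ (t : F) a, c (t • a) = t * c a := fun t a => smul_left_injective F hw0' (by
    show c (t • a) • w = (t * c a) • w
    rw [mul_smul, ← hc, ← hc, Matrix.mulVec_smul])
  refine ⟨w, ⟨⟨c, hlin⟩, hsm⟩, x₀, hw0', smul_left_injective F hw0' (by simpa using hx₀), fun x => ?_⟩
  show _ = x + c x • w
  rw [← hc x, Matrix.sub_mulVec, Matrix.one_mulVec]; abel

/-- The converse. -/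
theorem rank_sub_one_of {ι F : Type*} [Fintype ι] [DecidableEq ι] [Field F] {A : Matrix ι ι F}
    {w x₀ : ι → F} (c : (ι → F) → F) (hw : w ≠ 0) (hc : c x₀ = 1)
    (h : ∀ x, A.mulVec x = x + c x • w) : (A - 1).rank = 1 := by
  have hN : ∀ x, (A - 1).mulVec x = c x • w := fun x => by
    rw [Matrix.sub_mulVec, Matrix.one_mulVec, h, add_sub_cancel_left]
  rw [Matrix.rank]
  refine finrank_eq_one_iff'.2 ⟨⟨w, x₀, by rw [Matrix.mulVecLin_apply, hN, hc, one_smul]⟩,
    fun e => hw (congrArg Subtype.val e), fun ⟨u, y, hy⟩ => ⟨c y, Subtype.ext ?_⟩⟩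
  rw [Matrix.mulVecLin_apply, hN] at hy
  exact hy

end CfsgLib.Trans3
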