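import Cfsg.Agent.Lib.Trans3.Classes
import Cfsg.Agent.Lib.Comp.FStar
import Cfsg.Agent.Lib.Solvable.Fitting

/-! The Fitting subgroup and the layer of a group generated by a class of 3-transpositions. -/

set_option autoImplicit false

namespace CfsgLib.Trans3

open Subgroup

variable {G : Type*} [Group G] {D : Set G}

theorem le_center_of_commute_class (hgen : closure D = ⊤) {H : Subgroup G}
    (h : ∀ x ∈ H, ∀ d ∈ D, Commute d x) : H ≤ center G := by
  intro x hx
  rw [mem_center_iff]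
  intro g
  have hg : g ∈ closure D := hgen ▸ mem_top g
  induction hg using closure_induction with
  | mem y hy => exact h x hx y hy
  | one => simp
  | mul a b _ _ h1 h2 => exact (Commute.mul_left h1 h2 : Commute (a * b) x)
  | inv a _ h1 => exact (Commute.inv_left h1 : Commute a⁻¹ x)

theorem eq_bot_of_perfect_le_center {N : Subgroup G} (hN : ⁅N, N⁆ = N) (h : N ≤ center G) :
    N = ⊥ := by
  rw [← hN, commutator_eq_bot_iff_le_centralizer]
  exact h.trans (center_le_centralizer _)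

/-- An element acting trivially modulo the centre of a perfect subgroup centralises it. -/
theorem commute_of_commutator_central {N : Subgroup G} (hN : ⁅N, N⁆ = N) {a : G}
    (h : ∀ x ∈ N, a * x * a⁻¹ * x⁻¹ ∈ N ⊓ centralizer (N : Set G)) {x : G} (hx : x ∈ N) :
    Commute a x := by
  have hcomm : ∀ u ∈ N, ∀ v ∈ N, a * (u * v * u⁻¹ * v⁻¹) * a⁻¹ = u * v * u⁻¹ * v⁻¹ := by
    intro u hu v hv
    let z := a * u * a⁻¹ * u⁻¹
    let w := a * v * a⁻¹ * v⁻¹
    have hz : ∀ y ∈ N, Commute z y := fun y hy =>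
      (mem_centralizer_iff.1 (h u hu).2 y hy).symm
    have hw : ∀ y ∈ N, Commute w y := fun y hy =>
      (mem_centralizer_iff.1 (h v hv).2 y hy).symm
    calc a * (u * v * u⁻¹ * v⁻¹) * a⁻¹ = (z * u) * (w * v) * (z * u)⁻¹ * (w * v)⁻¹ := by
          simp only [z, w]; group
      _ = z * (u * (w * v)) * u⁻¹ * z⁻¹ * v⁻¹ * w⁻¹ := by group
      _ = z * (u * w * v * u⁻¹) * z⁻¹ * v⁻¹ * w⁻¹ := by group
      _ = (u * w * v * u⁻¹) * v⁻¹ * w⁻¹ := by
          have h1 : u * w * v * u⁻¹ ∈ N :=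
            mul_mem (mul_mem (mul_mem hu (h v hv).1) hv) (inv_mem hu)
          rw [(hz _ h1).eq]; group
      _ = (w * u) * v * u⁻¹ * v⁻¹ * w⁻¹ := by rw [(hw u hu).eq]
      _ = w * (u * v * u⁻¹ * v⁻¹) * w⁻¹ := by group
      _ = u * v * u⁻¹ * v⁻¹ := by
          rw [(hw _ (mul_mem (mul_mem (mul_mem hu hv) (inv_mem hu)) (inv_mem hv))).eq]; group
  rw [← hN] at hx
  have hle : ⁅N, N⁆ ≤ centralizer ({a} : Set G) := by
    rw [commutator_le]
    intro u hu v hv
    rw [mem_centralizer_singleton_iff, commutatorElement_def]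
    exact (mul_inv_eq_iff_eq_mul.1 (hcomm u hu v hv)).symm
  exact (mem_centralizer_singleton_iff.1 (hle hx)).symm

theorem conj_mul_self_mem {N : Subgroup G} {d x : G} (hd : d * d = 1)
    (hnorm : d ∈ normalizer (N : Set G)) (hx : x ∈ N) : x * d * x⁻¹ * d ∈ N := by
  rw [show x * d * x⁻¹ * d = x * (d * x⁻¹ * d) by group]
  have h := (hnorm x⁻¹).1 (inv_mem hx)
  rw [inv_eq_of_mul_eq_one_right hd] at h
  exact mul_mem hx h

variable [Finite G]

/-- If the orbit of `d` under `N` consists of pairwise non-commuting members then `d` centralises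
`N`, provided `N` is perfect and centralises the solvable subnormal subgroups below it. -/
theorem commute_of_orbit_noncomm (hD : Cfsg.IsThreeTranspositionGroup D) {d : G} (hd : d ∈ D)
    {N : Subgroup G} (hperf : ⁅N, N⁆ = N) (hN : N.IsSubnormal)
    (hnorm : d ∈ normalizer (N : Set G))
    (hsol : ∀ R : Subgroup G, R.IsSubnormal → Group.IsSolvable R → N ≤ centralizer (R : Set G))
    (horb : ∀ x ∈ N, x * d * x⁻¹ = d ∨ ¬ Commute (x * d * x⁻¹) d) {x : G} (hx : x ∈ N) :
    Commute d x := by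
  have hdd := sq_one hD.1 hd
  let O : Set G := {a | ∃ x ∈ N, a = x * d * x⁻¹}
  have hOD : O ⊆ D := by rintro _ ⟨x, -, rfl⟩; exact conj_mem hD hd
  have hOd : ∀ a ∈ O, a * d ∈ N := by
    rintro _ ⟨x, hx, rfl⟩; exact conj_mul_self_mem hdd hnorm hx
  have hdO : ∀ a ∈ O, d * a ∈ N := fun a ha => by
    have := inv_mem (hOd a ha)
    rwa [mul_inv_rev, inv_eq hD.1 (hOD ha), inv_eq hD.1 hd] at this
  have hP : IsPGroup 3 (closure {x : G | ∃ a ∈ O, ∃ b ∈ O, x = a * b}) := by
    refine isPGroup_products (fun a ha => sq_one hD.1 (hOD ha)) ?_ ?_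
    · rintro _ ⟨u, hu, rfl⟩ _ ⟨v, hv, rfl⟩
      rcases horb (u⁻¹ * v) (mul_mem (inv_mem hu) hv) with h | h
      · have : v * d * v⁻¹ = u * d * u⁻¹ := by
          calc v * d * v⁻¹ = u * (u⁻¹ * v * d * (u⁻¹ * v)⁻¹) * u⁻¹ := by group
            _ = u * d * u⁻¹ := by rw [h]
        rw [this, show u * d * u⁻¹ * (u * d * u⁻¹) = u * (d * d) * u⁻¹ by group, hdd, mul_one,
          mul_inv_cancel, one_pow]
      · refine pow_three hD.1 (conj_mem hD hd) (conj_mem hD hd) fun h' => h ?_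
        have := (h'.map (MulAut.conj u⁻¹).toMonoidHom).symm
        simpa [mul_assoc] using this
    · rintro _ ⟨u, hu, rfl⟩ _ ⟨v, hv, rfl⟩
      refine ⟨u * d * u⁻¹ * d * (d * v * d⁻¹),
        mul_mem (conj_mul_self_mem hdd hnorm hu) ((hnorm v).1 hv), ?_⟩
      simp only [inv_eq hD.1 hd, mul_inv_rev, inv_inv, mul_assoc, invol_cancel (hD.1.1 d hd)]
  let P := closure {x : G | ∃ a ∈ O, ∃ b ∈ O, x = a * b}
  have hPN : P ≤ N := by
    rw [closure_le]
    rintro _ ⟨a, ha, b, hb, rfl⟩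
    rw [show a * b = (a * d) * (d * b) by rw [mul_assoc, invol_cancel (hD.1.1 d hd)]]
    exact mul_mem (hOd a ha) (hdO b hb)
  have hnormP : N ≤ normalizer (P : Set G) := by
    have key : ∀ g ∈ N, ∀ y ∈ P, g * y * g⁻¹ ∈ P := fun g hg y hy =>
      (closure_le (P.comap (MulAut.conj g).toMonoidHom)).2 (by
        rintro _ ⟨_, ⟨u, hu, rfl⟩, _, ⟨v, hv, rfl⟩, rfl⟩
        exact subset_closure ⟨g * (u * d * u⁻¹) * g⁻¹, ⟨g * u, mul_mem hg hu, by group⟩,
          g * (v * d * v⁻¹) * g⁻¹, ⟨g * v, mul_mem hg hv, by group⟩, by simp [mul_assoc]⟩) hy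
    intro g hg y
    refine ⟨key g hg y, fun hy => ?_⟩
    simpa [mul_assoc] using key g⁻¹ (inv_mem hg) _ hy
  have hPs : P.IsSubnormal := CfsgLib.Comp.isSubnormal_of_le_normalizer hPN hN hnormP
  haveI : Fact (Nat.Prime 3) := ⟨Nat.prime_three⟩
  haveI : Group.IsNilpotent P := hP.isNilpotent
  have hcent := hsol P hPs inferInstance
  refine commute_of_commutator_central hperf (fun y hy => ?_) hx
  have hmem : d * (y * d * y⁻¹) ∈ P :=
    subset_closure ⟨d, ⟨1, one_mem N, by simp⟩, _, ⟨y, hy, rfl⟩, rfl⟩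
  rw [show d * y * d⁻¹ * y⁻¹ = d * (y * d * y⁻¹) by rw [inv_eq hD.1 hd]; group]
  exact ⟨hPN hmem, le_centralizer_iff.1 hcent hmem⟩

theorem solvable_of_isPGroup {p : ℕ} (hp : p.Prime) {H : Subgroup G} (h : IsPGroup p H) :
    Group.IsSolvable H := by
  haveI := Fact.mk hp
  haveI : Group.IsNilpotent H := h.isNilpotent
  infer_instance

theorem pCore_le_center_of_three_lt (hD : Cfsg.IsThreeTranspositionGroup D) {p : ℕ}
    (hp : p.Prime) (hp3 : 3 < p) : Cfsg.pCore p G ≤ center G := by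
  haveI := CfsgLib.Amalgam.normal_pCore (G := G) (p := p)
  haveI := Fact.mk hp
  exact le_center_of_commute_class hD.2.2 fun x hx d hd => commute_of_normalizes_pGroup hD hp hp3 _
    CfsgLib.Amalgam.isPGroup_pCore hd (Subgroup.normalizer_eq_top (Cfsg.pCore p G) ▸ mem_top d) hx

/-- A non-central normal subgroup moves every member of a class of `D`. -/
theorem exists_moved (hD : Cfsg.IsThreeTranspositionClass D) {N : Subgroup G} [N.Normal]
    (h : ¬ N ≤ center G) {d : G} (hd : d ∈ D) : ∃ n ∈ N, n * d * n⁻¹ ≠ d := by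
  by_contra hno
  apply h
  refine le_center_of_commute_class hD.2.2 fun x hx e he => ?_
  obtain ⟨g, rfl⟩ := class_exists_conj hD hd he
  have hxd : g⁻¹ * x * g * d * (g⁻¹ * x * g)⁻¹ = d := not_not.1 fun hne =>
    hno ⟨_, by simpa using (inferInstance : N.Normal).conj_mem x hx g⁻¹, hne⟩
  have := congrArg (fun y => g * y * g⁻¹) hxd
  simp only [mul_inv_rev, inv_inv, mul_assoc, mul_inv_cancel_left] at this
  exact (mul_inv_eq_iff_eq_mul.1 (by simpa [mul_assoc] using this) :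
    x * (g * d * g⁻¹) = g * d * g⁻¹ * x).symm

theorem exists_vRel_ne (hD : Cfsg.IsThreeTranspositionClass D)
    (h : ¬ Cfsg.pCore 2 G ≤ center G) {d : G} (hd : d ∈ D) : ∃ v, VRel D d v ∧ v ≠ d := by
  haveI := CfsgLib.Amalgam.normal_pCore (G := G) (p := 2)
  obtain ⟨n, hn, hne⟩ := exists_moved hD h hd
  refine ⟨_, (vRel_iff (class_isGroup hD) hd).2 ⟨class_conj_mem hD n hd, ?_⟩, hne⟩
  rw [show d * (n * d * n⁻¹) = (d * n * d⁻¹) * n⁻¹ by rw [inv_eq hD.1 hd]; group]
  exact mul_mem ((inferInstance : (Cfsg.pCore 2 G).Normal).conj_mem n hn d) (inv_mem hn)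

theorem exists_wRel_ne (hD : Cfsg.IsThreeTranspositionClass D)
    (h : ¬ Cfsg.pCore 3 G ≤ center G) {d : G} (hd : d ∈ D) : ∃ w, WRel D d w ∧ w ≠ d := by
  haveI := CfsgLib.Amalgam.normal_pCore (G := G) (p := 3)
  obtain ⟨n, hn, hne⟩ := exists_moved hD h hd
  refine ⟨_, (wRel_iff (class_isGroup hD) hd).2 ⟨class_conj_mem hD n hd, ?_⟩, hne⟩
  rw [show d * (n * d * n⁻¹) = (d * n * d⁻¹) * n⁻¹ by rw [inv_eq hD.1 hd]; group]
  exact mul_mem ((inferInstance : (Cfsg.pCore 3 G).Normal).conj_mem n hn d) (inv_mem hn)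

theorem layer_commute_pCore {p : ℕ} (hp : p.Prime) {x t : G} (hx : x ∈ Cfsg.layer G)
    (ht : t ∈ Cfsg.pCore p G) : Commute x t :=
  (mem_centralizer_iff.1 (CfsgLib.Comp.layer_le_centralizer_of_isSolvable
    (CfsgLib.Amalgam.normal_pCore (p := p)).isSubnormal
    (solvable_of_isPGroup hp CfsgLib.Amalgam.isPGroup_pCore) hx) t ht).symm

theorem layer_eq_bot_of_two (hD : Cfsg.IsThreeTranspositionClass D)
    (h : ¬ Cfsg.pCore 2 G ≤ center G) : Cfsg.layer G = ⊥ := by
  have hG := class_isGroup hD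
  haveI := CfsgLib.Comp.layer_normal G
  refine eq_bot_of_perfect_le_center (CfsgLib.Comp.commutator_layer_self G)
    (le_center_of_commute_class hD.2.2 fun x hx d hd => ?_)
  refine commute_of_commutator_central (CfsgLib.Comp.commutator_layer_self G) (fun y hy => ?_) hx
  obtain ⟨v, hv, hne⟩ := exists_vRel_ne hD h hd
  have hv' := hv.conj hG y
  have heq : y * d * y⁻¹ * (y * v * y⁻¹) = d * v := by
    rw [show y * d * y⁻¹ * (y * v * y⁻¹) = y * (d * v) * y⁻¹ by group,
      (layer_commute_pCore Nat.prime_two hy ((vRel_iff hG hd).1 hv).2).eq, mul_assoc,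
      mul_inv_cancel, mul_one]
  have hne' : y * d * y⁻¹ ≠ y * v * y⁻¹ := fun h' => hne (by simpa using h'.symm)
  have hrel : VRel D d (y * d * y⁻¹) := by
    refine ⟨hd, class_conj_mem hD y hd, fun e he => ?_⟩
    have h1 := commute_mul_iff hD.1 hd hv.2.1 he hne.symm hv.commute
    have h2 := commute_mul_iff hD.1 hv'.1 hv'.2.1 he hne' hv'.commute
    rw [heq] at h2
    constructor
    · intro hc
      exact (h1.1 (h2.2 ⟨hc.symm, ((hv'.2.2 e he).2 hc).symm⟩)).1.symm
    · intro hc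
      exact (h2.1 (h1.2 ⟨hc.symm, ((hv.2.2 e he).2 hc).symm⟩)).1.symm
  have hmem : d * y * d⁻¹ * y⁻¹ ∈ Cfsg.layer G :=
    mul_mem ((inferInstance : (Cfsg.layer G).Normal).conj_mem y hy d) (inv_mem hy)
  refine ⟨hmem, mem_centralizer_iff.2 fun z hz => ?_⟩
  have hm := ((vRel_iff hG hd).1 hrel).2
  rw [show d * y * d⁻¹ * y⁻¹ = d * (y * d * y⁻¹) by rw [inv_eq hD.1 hd]; group]
  exact (layer_commute_pCore Nat.prime_two hz hm).eq

theorem layer_eq_bot_of_three (hD : Cfsg.IsThreeTranspositionClass D)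
    (h : ¬ Cfsg.pCore 3 G ≤ center G) : Cfsg.layer G = ⊥ := by
  have hG := class_isGroup hD
  haveI := CfsgLib.Comp.layer_normal G
  refine eq_bot_of_perfect_le_center (CfsgLib.Comp.commutator_layer_self G)
    (le_center_of_commute_class hD.2.2 fun x hx d hd => ?_)
  refine commute_of_orbit_noncomm hG hd (CfsgLib.Comp.commutator_layer_self G)
    (inferInstance : (Cfsg.layer G).Normal).isSubnormal
    (Subgroup.normalizer_eq_top (Cfsg.layer G) ▸ mem_top d)
    (fun R hR hs => CfsgLib.Comp.layer_le_centralizer_of_isSolvable hR hs) (fun y hy => ?_) hx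
  obtain ⟨w, hw, hne⟩ := exists_wRel_ne hD h hd
  refine or_iff_not_imp_left.2 fun hyd hc => ?_
  have heq : y * d * y⁻¹ * (y * w * y⁻¹) = d * w := by
    rw [show y * d * y⁻¹ * (y * w * y⁻¹) = y * (d * w) * y⁻¹ by group,
      (layer_commute_pCore Nat.prime_three hy ((wRel_iff hG hd).1 hw).2).eq, mul_assoc,
      mul_inv_cancel, mul_one]
  have hdw := hw.commute_of_commute (class_conj_mem hD y hd) hyd hc.symm
  have h1 : Commute (y * d * y⁻¹) (d * w) := hc.mul_right hdw.2.symm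
  rw [← heq] at h1
  refine (hw.conj hG y).not_commute (fun h' => hne (by simpa using h')) ?_
  simpa [mul_assoc] using (Commute.refl (y * d * y⁻¹)).inv_right.mul_right h1

omit [Finite G] in
theorem not_abelian_of_class (hD : Cfsg.IsThreeTranspositionClass D)
    (hD2 : ∃ a ∈ D, ∃ b ∈ D, a ≠ b) : center G ≠ ⊤ := by
  intro h
  obtain ⟨a, ha, b, hb, hab⟩ := hD2
  obtain ⟨g, rfl⟩ := class_exists_conj hD ha hb
  have hg : g ∈ center G := h ▸ mem_top g
  exact hab (by rw [← mem_center_iff.1 hg a, mul_assoc, mul_inv_cancel, mul_one])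

theorem fitting_le_center (hD : Cfsg.IsThreeTranspositionGroup D)
    (h2 : Cfsg.pCore 2 G ≤ center G) (h3 : Cfsg.pCore 3 G ≤ center G) :
    Cfsg.fittingSubgroup G ≤ center G := by
  rw [CfsgLib.Solvable.fittingSubgroup_eq_iSup_pCore]
  refine iSup_le fun p => ?_
  rcases lt_or_ge 3 p.1 with hp3 | hp3
  · exact pCore_le_center_of_three_lt hD p.2 hp3
  · have := p.2.two_le
    obtain h | h : p.1 = 2 ∨ p.1 = 3 := by omega
    · rw [h]; exact h2
    · rw [h]; exact h3

theorem layer_ne_bot (hD : Cfsg.IsThreeTranspositionClass D) (hD2 : ∃ a ∈ D, ∃ b ∈ D, a ≠ b)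
    (h2 : Cfsg.pCore 2 G ≤ center G) (h3 : Cfsg.pCore 3 G ≤ center G) : Cfsg.layer G ≠ ⊥ := by
  intro hE
  apply not_abelian_of_class hD hD2
  have hF := fitting_le_center (class_isGroup hD) h2 h3
  refine top_le_iff.1 fun x _ => ?_
  refine hF (CfsgLib.Comp.centralizer_generalizedFitting_le_fitting G ?_)
  rw [show Cfsg.generalizedFittingSubgroup G = Cfsg.layer G ⊔ Cfsg.fittingSubgroup G from rfl, hE,
    bot_sup_eq]
  exact mem_centralizer_iff.2 fun z hz => (mem_center_iff.1 (hF hz) x).symm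

end CfsgLib.Trans3
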