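import Mathlib.GroupTheory.Perm.Basic
import Mathlib.GroupTheory.Perm.Fin
import Mathlib.Data.Fintype.Perm
import Mathlib.GroupTheory.OrderOfElement
import Mathlib.Tactic

/-! Homomorphisms out of the symmetric groups of degree 3 and 4 from Coxeter relations. -/

set_option autoImplicit false

namespace CfsgLib.Trans3

/-- One rewriting step for words in the three Coxeter generators of `S₄`. -/
def symStep : List (Fin 3) → List (Fin 3)
  | 0 :: 0 :: t => t
  | 1 :: 1 :: t => t
  | 2 :: 2 :: t => t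
  | 2 :: 0 :: t => 0 :: 2 :: t
  | 1 :: 0 :: 1 :: t => 0 :: 1 :: 0 :: t
  | 2 :: 1 :: 2 :: t => 1 :: 2 :: 1 :: t
  | 2 :: 1 :: 0 :: 2 :: t => 1 :: 2 :: 1 :: 0 :: t
  | x :: t => x :: symStep t
  | [] => []

/-- Normal form of a word: iterate the rewriting step. -/
def symNorm : ℕ → List (Fin 3) → List (Fin 3)
  | 0, l => l
  | n + 1, l => symNorm n (symStep l)

/-- A word in the generators for each permutation of four points. -/
def symWord (σ : Equiv.Perm (Fin 4)) : List (Fin 3) :=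
  let r : List (Fin 3) := if σ 3 = 3 then [] else if σ 3 = 2 then [2] else
    if σ 3 = 1 then [1, 2] else [0, 1, 2]
  let τ : Equiv.Perm (Fin 4) :=
    (r.map fun i => Equiv.swap (Fin.castSucc i) i.succ).reverse.prod * σ
  let q : List (Fin 3) := if τ 2 = 2 then [] else if τ 2 = 1 then [1] else [0, 1]
  let υ : Equiv.Perm (Fin 4) :=
    (q.map fun i => Equiv.swap (Fin.castSucc i) i.succ).reverse.prod * τ
  r ++ q ++ (if υ 1 = 1 then [] else [0])

theorem symWord_prod : ∀ σ : Equiv.Perm (Fin 4),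
    ((symWord σ).map fun i => Equiv.swap (Fin.castSucc i) i.succ).prod = σ := by
  decide +kernel

theorem symWord_cons : ∀ σ : Equiv.Perm (Fin 4), ∀ i : Fin 3,
    symNorm 10 (i :: symWord σ) =
      symNorm 10 (symWord (Equiv.swap (Fin.castSucc i) i.succ * σ)) := by
  decide +kernel

variable {G : Type*} [Group G]

theorem symStep_sound (x : Fin 3 → G) (sq : ∀ i, x i * x i = 1)
    (h02 : x 2 * x 0 = x 0 * x 2) (h01 : x 1 * x 0 * x 1 = x 0 * x 1 * x 0)
    (h12 : x 2 * x 1 * x 2 = x 1 * x 2 * x 1) :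
    ∀ l : List (Fin 3), ((symStep l).map x).prod = (l.map x).prod := by
  intro l
  induction l using symStep.induct <;> simp_all [symStep] <;> simp only [← mul_assoc] <;>
    simp_all
  all_goals
    rw [← h12, mul_assoc (x 2 * x 1) (x 2) (x 0), h02, ← mul_assoc]

/-- The Coxeter relations of type `A₃` give a homomorphism from `S₄`. -/
theorem exists_hom_perm_four {a b c : G} (ha : a * a = 1) (hb : b * b = 1) (hc : c * c = 1)
    (hac : a * c = c * a) (hab : a * b * a = b * a * b) (hbc : b * c * b = c * b * c) :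
    ∃ φ : Equiv.Perm (Fin 4) →* G,
      φ (Equiv.swap 0 1) = a ∧ φ (Equiv.swap 1 2) = b ∧ φ (Equiv.swap 2 3) = c := by
  let x : Fin 3 → G := ![a, b, c]
  have sq : ∀ i, x i * x i = 1 := by intro i; fin_cases i <;> assumption
  have step := symStep_sound x sq hac.symm hab.symm hbc.symm
  have nrm : ∀ n l, ((symNorm n l).map x).prod = (l.map x).prod := by
    intro n
    induction n with
    | zero => intro l; rfl
    | succ n ih => intro l; rw [symNorm, ih, step]
  let f : Equiv.Perm (Fin 4) → G := fun σ => ((symWord σ).map x).prod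
  have hs : ∀ (i : Fin 3) σ, f (Equiv.swap (Fin.castSucc i) i.succ * σ) = x i * f σ := by
    intro i σ
    show _ = x i * ((symWord σ).map x).prod
    rw [← List.prod_cons, ← List.map_cons, ← nrm 10 (i :: symWord σ), symWord_cons, nrm]
  have w1 : symWord 1 = [] := by decide +kernel
  have f1 : f 1 = 1 := by simp [f, w1]
  have hl : ∀ (l : List (Fin 3)) σ,
      f ((l.map fun i => Equiv.swap (Fin.castSucc i) i.succ).prod * σ) = (l.map x).prod * f σ := by
    intro l
    induction l with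
    | nil => intro σ; simp
    | cons i l ih => intro σ; simp only [List.map_cons, List.prod_cons, mul_assoc]; rw [hs, ih]
  refine ⟨MonoidHom.mk' f fun σ τ => ?_, ?_, ?_, ?_⟩
  · rw [← symWord_prod σ, hl]
    conv_rhs => rw [show f ((symWord σ).map fun i => Equiv.swap (Fin.castSucc i) i.succ).prod =
      ((symWord σ).map x).prod by have := hl (symWord σ) 1; rwa [mul_one, f1, mul_one] at this]
  · have := hs 0 1; rw [mul_one, f1, mul_one] at this; exact this
  · have := hs 1 1; rw [mul_one, f1, mul_one] at this; exact this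
  · have := hs 2 1; rw [mul_one, f1, mul_one] at this; exact this

/-- A homomorphism from `S₄` with `(0 1)(2 3)` outside its kernel is injective. -/
theorem injective_of_hom_perm_four (φ : Equiv.Perm (Fin 4) →* G)
    (h : φ (Equiv.swap 0 1 * Equiv.swap 2 3) ≠ 1) : Function.Injective φ := by
  let t : Equiv.Perm (Fin 4) := Equiv.swap 0 1 * Equiv.swap 2 3
  have key : ∀ σ : Equiv.Perm (Fin 4), σ = 1 ∨ (∃ g, g * σ * g⁻¹ = t) ∨
      (∃ g k, k * (g * σ * g⁻¹ * σ⁻¹) * k⁻¹ = t) ∨
      (∃ k, k * ((σ * Equiv.swap 0 1 * σ⁻¹ * Equiv.swap 0 1) * Equiv.swap 1 2 *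
        (σ * Equiv.swap 0 1 * σ⁻¹ * Equiv.swap 0 1)⁻¹ * Equiv.swap 1 2) * k⁻¹ = t) ∨
      (∃ k, k * ((σ * Equiv.swap 1 2 * σ⁻¹ * Equiv.swap 1 2) * Equiv.swap 2 3 *
        (σ * Equiv.swap 1 2 * σ⁻¹ * Equiv.swap 1 2)⁻¹ * Equiv.swap 2 3) * k⁻¹ = t) ∨
      (∃ k, k * ((σ * Equiv.swap 2 3 * σ⁻¹ * Equiv.swap 2 3) * Equiv.swap 0 1 *
        (σ * Equiv.swap 2 3 * σ⁻¹ * Equiv.swap 2 3)⁻¹ * Equiv.swap 0 1) * k⁻¹ = t) := by
    decide +kernel
  have sw : ∀ i j : Fin 4, i ≠ j → φ (Equiv.swap i j) * φ (Equiv.swap i j) = 1 := fun i j _ => by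
    rw [← map_mul, Equiv.swap_mul_self, map_one]
  rw [injective_iff_map_eq_one]
  intro σ hσ
  rcases key σ with h1 | ⟨g, hg⟩ | ⟨g, k, hg⟩ | ⟨k, hg⟩ | ⟨k, hg⟩ | ⟨k, hg⟩
  · exact h1
  all_goals
    exfalso; apply h
    show φ t = 1
    rw [← hg]
    simp [hσ, map_inv, sw]

/-- The braid relation gives a homomorphism from `S₃`. -/
theorem exists_hom_perm_three {a b : G} (ha : a * a = 1) (hb : b * b = 1)
    (hab : a * b * a = b * a * b) (hne : a ≠ b) (ha1 : a ≠ 1) :
    ∃ φ : Equiv.Perm (Fin 3) →* G, Function.Injective φ ∧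
      φ (Equiv.swap 0 1) = a ∧ φ (Equiv.swap 1 2) = b := by
  obtain ⟨ψ, h1, h2, -⟩ := exists_hom_perm_four (G := G) (c := a) ha hb ha rfl hab hab.symm
  let e : Equiv.Perm (Fin 3) →* Equiv.Perm (Fin 4) :=
    (Equiv.permCongrHom (finSumFinEquiv (m := 3) (n := 1))).toMonoidHom.comp
      ((Equiv.Perm.sumCongrHom (Fin 3) (Fin 1)).comp (MonoidHom.inl _ _))
  have e1 : e (Equiv.swap 0 1) = Equiv.swap 0 1 := by decide +kernel
  have e2 : e (Equiv.swap 1 2) = Equiv.swap 1 2 := by decide +kernel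
  refine ⟨ψ.comp e, ?_, ?_, ?_⟩
  · rw [injective_iff_map_eq_one]
    intro σ hσ
    have key : ∀ τ : Equiv.Perm (Fin 3), τ = 1 ∨ (∃ g, g * τ * g⁻¹ = Equiv.swap 0 1) ∨
        (∃ g, g * τ * g⁻¹ = Equiv.swap 0 1 * Equiv.swap 1 2) := by decide +kernel
    rcases key σ with h | ⟨g, hg⟩ | ⟨g, hg⟩
    · exact h
    · exfalso
      have h' := congrArg (ψ.comp e) hg
      rw [map_mul, map_mul, hσ, mul_one, ← map_mul, mul_inv_cancel, map_one] at h'
      rw [MonoidHom.comp_apply, e1, h1] at h'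
      exact ha1 h'.symm
    · exfalso
      have h' := congrArg (ψ.comp e) hg
      rw [map_mul, map_mul, hσ, mul_one, ← map_mul, mul_inv_cancel, map_one] at h'
      rw [MonoidHom.comp_apply, map_mul, e1, e2, map_mul, h1, h2] at h'
      exact hne (by rw [eq_inv_of_mul_eq_one_left h'.symm, inv_eq_of_mul_eq_one_right hb])
  · rw [MonoidHom.comp_apply, e1, h1]
  · rw [MonoidHom.comp_apply, e2, h2]

end CfsgLib.Trans3
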