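import Mathlib
import Cfsg.Prelude.Def_Transfer
import Cfsg.Agent.Lib.Transfer.PPrimeAut

/-! Extraspecial 2-groups of both types as central extensions of a quadratic space over two
elements, with their 2-ranks. -/

set_option autoImplicit false

namespace CfsgLib.Trans3.ExtraTwo

open scoped commutatorElement

/-- The plane. -/
abbrev P2 : Type := ZMod 2 × ZMod 2

/-- The space. -/
abbrev Sp (n : ℕ) : Type := Fin n → P2

/-- Cocycle on one plane; `true` for the anisotropic plane. -/
def loc (m : Bool) (x y : P2) : ZMod 2 :=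
  x.1 * y.2 + if m then x.1 * y.1 + x.2 * y.2 else 0

theorem loc_add_left : ∀ (m : Bool) (x x' y : P2), loc m (x + x') y = loc m x y + loc m x' y := by
  decide

theorem loc_add_right : ∀ (m : Bool) (x y y' : P2), loc m x (y + y') = loc m x y + loc m x y' := by
  decide

theorem loc_symm : ∀ (m : Bool) (x y : P2),
    loc m x y + loc m y x = x.1 * y.2 + x.2 * y.1 := by decide

/-- Cocycle. -/
def beta {n : ℕ} (t : Fin n → Bool) (v w : Sp n) : ZMod 2 := ∑ i, loc (t i) (v i) (w i)

/-- Commutator form. -/
def alt {n : ℕ} (v w : Sp n) : ZMod 2 := ∑ i, ((v i).1 * (w i).2 + (v i).2 * (w i).1)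

variable {n : ℕ} (t : Fin n → Bool)

theorem beta_add_left (v v' w : Sp n) : beta t (v + v') w = beta t v w + beta t v' w := by
  simp only [beta, Pi.add_apply, loc_add_left, Finset.sum_add_distrib]

theorem beta_add_right (v w w' : Sp n) : beta t v (w + w') = beta t v w + beta t v w' := by
  simp only [beta, Pi.add_apply, loc_add_right, Finset.sum_add_distrib]

theorem beta_zero_left (w : Sp n) : beta t 0 w = 0 := by
  have h := beta_add_left t 0 0 w
  rw [add_zero] at h
  exact left_eq_add.1 h

theorem beta_zero_right (w : Sp n) : beta t w 0 = 0 := by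
  have h := beta_add_right t w 0 0
  rw [add_zero] at h
  exact left_eq_add.1 h

theorem beta_symm (v w : Sp n) : beta t v w + beta t w v = alt v w := by
  simp only [beta, alt, ← Finset.sum_add_distrib, loc_symm]

theorem alt_nondeg {v : Sp n} (hv : v ≠ 0) : ∃ w, alt v w = 1 := by
  obtain ⟨i, hi⟩ := Function.ne_iff.1 hv
  have key : ∀ x : P2, x ≠ 0 → ∃ y : P2, x.1 * y.2 + x.2 * y.1 = 1 := by decide
  obtain ⟨y, hy⟩ := key (v i) hi
  refine ⟨Pi.single i y, ?_⟩
  rw [alt, Finset.sum_eq_single i]
  · simpa using hy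
  · intro j _ hj; simp [hj]
  · simp

theorem z2_cases : ∀ a : ZMod 2, a = 0 ∨ a = 1 := by decide

theorem z2_add_self : ∀ a : ZMod 2, a + a = 0 := by decide

theorem sp_add_self (v : Sp n) : v + v = 0 := by
  funext i
  exact (by decide : ∀ x : P2, x + x = 0) (v i)

/-- The group. -/
@[ext] structure ES (n : ℕ) (t : Fin n → Bool) : Type where
  /-- Vector part. -/
  v : Sp n
  /-- Central part. -/
  c : ZMod 2

instance : Mul (ES n t) := ⟨fun x y => ⟨x.v + y.v, x.c + y.c + beta t x.v y.v⟩⟩
instance : One (ES n t) := ⟨⟨0, 0⟩⟩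
instance : Inv (ES n t) := ⟨fun x => ⟨x.v, x.c + beta t x.v x.v⟩⟩

theorem mul_v (x y : ES n t) : (x * y).v = x.v + y.v := rfl
theorem mul_c (x y : ES n t) : (x * y).c = x.c + y.c + beta t x.v y.v := rfl
theorem one_v : (1 : ES n t).v = 0 := rfl
theorem one_c : (1 : ES n t).c = 0 := rfl

instance : Group (ES n t) :=
  Group.ofLeftAxioms
    (fun a b c => by
      ext1
      · simp only [mul_v, add_assoc]
      · simp only [mul_c, mul_v, beta_add_left, beta_add_right]; ring)
    (fun a => by
      ext1
      · simp [mul_v, one_v]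
      · simp [mul_c, one_c, one_v, beta_zero_left])
    (fun a => by
      ext1
      · show a.v + a.v = 0
        exact sp_add_self _
      · show a.c + beta t a.v a.v + a.c + beta t a.v a.v = 0
        generalize a.c = p; generalize beta t a.v a.v = q; revert p q; decide)

/-- As a pair. -/
def toPair : ES n t ≃ Sp n × ZMod 2 where
  toFun x := (x.v, x.c)
  invFun p := ⟨p.1, p.2⟩
  left_inv _ := rfl
  right_inv _ := rfl

instance : Fintype (ES n t) := Fintype.ofEquiv _ (toPair t).symm

theorem card_ES : Nat.card (ES n t) = 2 ^ (2 * n + 1) := by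
  rw [Nat.card_congr (toPair t), Nat.card_eq_fintype_card, Fintype.card_prod, Fintype.card_fun,
    Fintype.card_prod, ZMod.card, Fintype.card_fin, pow_succ, pow_mul]
  norm_num

theorem sq_eq (x : ES n t) : x * x = ⟨0, beta t x.v x.v⟩ := by
  ext1
  · exact sp_add_self _
  · rw [mul_c, z2_add_self, zero_add]

theorem comm_iff (x y : ES n t) : x * y = y * x ↔ alt x.v y.v = 0 := by
  constructor
  · intro h
    have e := congrArg ES.c h
    simp only [mul_c] at e
    rw [← beta_symm t]
    revert e
    generalize x.c = a; generalize y.c = b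
    generalize beta t x.v y.v = p; generalize beta t y.v x.v = q
    revert a b p q; decide
  · intro h
    ext1
    · exact add_comm _ _
    · rw [← beta_symm t] at h
      simp only [mul_c]
      revert h
      generalize x.c = a; generalize y.c = b
      generalize beta t x.v y.v = p; generalize beta t y.v x.v = q
      revert a b p q; decide

theorem mem_center_iff (x : ES n t) : x ∈ Subgroup.center (ES n t) ↔ x.v = 0 := by
  rw [Subgroup.mem_center_iff]
  constructor
  · intro h
    by_contra hv
    obtain ⟨w, hw⟩ := alt_nondeg hv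
    have := (comm_iff t x ⟨w, 0⟩).1 (h _).symm
    rw [hw] at this
    exact one_ne_zero this
  · intro h y
    refine ((comm_iff t x y).2 ?_).symm
    simp [h, alt]

theorem card_center : Nat.card (Subgroup.center (ES n t)) = 2 := by
  rw [Nat.card_congr (β := ZMod 2)
    { toFun := fun x => x.1.c
      invFun := fun a => ⟨⟨0, a⟩, (mem_center_iff t _).2 rfl⟩
      left_inv := fun x => Subtype.ext (ES.ext ((mem_center_iff t _).1 x.2).symm rfl)
      right_inv := fun _ => rfl }, Nat.card_zmod]

theorem isPGroup_ES : IsPGroup 2 (ES n t) := IsPGroup.of_card (card_ES t)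

theorem isExtraspecial_ES (hn : 1 ≤ n) : Cfsg.IsExtraspecial 2 (ES n t) := by
  haveI : Fact (Nat.Prime 2) := ⟨Nat.prime_two⟩
  have hcomm : ∀ x y : ES n t, ⁅x, y⁆ ∈ Subgroup.center (ES n t) := by
    intro x y
    rw [mem_center_iff, commutatorElement_def]
    show x.v + y.v + x.v + y.v = 0
    rw [show x.v + y.v + x.v + y.v = (x.v + x.v) + (y.v + y.v) by abel, sp_add_self, sp_add_self,
      add_zero]
  have hsq : ∀ x : ES n t, x ^ 2 ∈ Subgroup.center (ES n t) := fun x => by
    rw [pow_two, sq_eq, mem_center_iff]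
  have hc : _root_.commutator (ES n t) = Subgroup.center (ES n t) := by
    refine le_antisymm (Subgroup.commutator_le.2 fun x _ y _ => hcomm x y) fun q hq => ?_
    rcases z2_cases q.c with h | h
    · have : q = 1 := ES.ext ((mem_center_iff t q).1 hq) h
      rw [this]; exact Subgroup.one_mem _
    · have hne : (fun _ => (1, 0) : Sp n) ≠ 0 := fun e => by
        have := congrArg Prod.fst (congrFun e ⟨0, hn⟩)
        simp at this
      obtain ⟨w, hw⟩ := alt_nondeg hne
      set a : ES n t := ⟨fun _ => (1, 0), 0⟩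
      set b : ES n t := ⟨w, 0⟩
      have : q = ⁅a, b⁆ := by
        have hnc : a * b ≠ b * a := fun e => by
          rw [comm_iff, hw] at e; exact one_ne_zero e
        have h1 := hcomm a b
        rw [mem_center_iff] at h1
        refine ES.ext (((mem_center_iff t q).1 hq).trans h1.symm) ?_
        rcases z2_cases (⁅a, b⁆ : ES n t).c with e | e
        · exfalso
          exact hnc (commutatorElement_eq_one_iff_mul_comm.1 (ES.ext h1 e))
        · rw [h, e]
      rw [this]
      exact Subgroup.commutator_mem_commutator (Subgroup.mem_top _) (Subgroup.mem_top _)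
  refine ⟨⟨isPGroup_ES t, le_antisymm
    (CfsgLib.Transfer.frattini_le_of_elementary_quotient _ hcomm hsq) ?_, hc⟩, card_center t⟩
  rw [← hc]
  exact CfsgLib.Transfer.commutator_le_frattini_pgroup (isPGroup_ES t)

/-- The sign of a scalar. -/
def chi (a : ZMod 2) : ℤ := if a = 0 then 1 else -1

theorem chi_add : ∀ a b : ZMod 2, chi (a + b) = chi a * chi b := by decide

theorem chi_sum {ι : Type*} (s : Finset ι) (f : ι → ZMod 2) :
    chi (∑ i ∈ s, f i) = ∏ i ∈ s, chi (f i) := by
  classical
  induction s using Finset.induction_on with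
  | empty => simp [chi]
  | insert a s ha ih => rw [Finset.sum_insert ha, Finset.prod_insert ha, chi_add, ih]

theorem gauss_sum : ∑ v : Sp n, chi (beta t v v) = ∏ i, if t i then -2 else 2 := by
  have key : ∀ m, ∑ x : P2, chi (loc m x x) = if m then -2 else 2 := by decide
  simp only [beta, chi_sum, ← key]
  exact (Fintype.prod_sum fun i x => chi (loc (t i) x x)).symm

/-- The facts on totally singular sets closed under addition. -/
theorem singular_bound (W : Finset (Sp n)) (h0 : (0 : Sp n) ∈ W)
    (hadd : ∀ x ∈ W, ∀ y ∈ W, x + y ∈ W) (hq : ∀ w ∈ W, beta t w w = 0) :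
    W.card ≤ 2 ^ n ∧ (W.card = 2 ^ n → 0 < ∑ v : Sp n, chi (beta t v v)) := by
  classical
  have altadd : ∀ (v w w' : Sp n), alt v (w + w') = alt v w + alt v w' := by
    intro v w w'
    rw [← beta_symm t, ← beta_symm t, ← beta_symm t, beta_add_left, beta_add_right]; ring
  have altsymm : ∀ v w : Sp n, alt v w = alt w v := fun v w => by
    rw [← beta_symm t, ← beta_symm t, add_comm]
  set Wp := Finset.univ.filter fun v : Sp n => ∀ w ∈ W, alt v w = 0 with hWp
  have hsub : W ⊆ Wp := by
    intro v hv
    simp only [hWp, Finset.mem_filter, Finset.mem_univ, true_and]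
    intro w hw
    have h := hq _ (hadd v hv w hw)
    rw [beta_add_left, beta_add_right, beta_add_right, hq v hv, hq w hw, zero_add, add_zero] at h
    rw [← beta_symm t]; exact h
  have inner : ∀ v, ∑ w ∈ W, chi (alt v w) = if v ∈ Wp then (W.card : ℤ) else 0 := by
    intro v
    split_ifs with hv
    · simp only [hWp, Finset.mem_filter, Finset.mem_univ, true_and] at hv
      rw [Finset.sum_congr rfl fun w hw => by rw [hv w hw, chi, if_pos rfl], Finset.sum_const,
        nsmul_eq_mul, mul_one]
    · simp only [hWp, Finset.mem_filter, Finset.mem_univ, true_and, not_forall] at hv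
      obtain ⟨w0, hw0, h⟩ := hv
      have h1 : alt v w0 = 1 := (z2_cases _).resolve_left h
      have e : ∑ w ∈ W, chi (alt v w) = ∑ w ∈ W, chi (alt v (w + w0)) := by
        refine (Finset.sum_nbij' (fun w => w + w0) (fun w => w + w0)
          (fun w hw => hadd w hw w0 hw0) (fun w hw => hadd w hw w0 hw0) ?_ ?_ fun w _ => rfl).symm
        · intro w _; show w + w0 + w0 = w; rw [add_assoc, sp_add_self, add_zero]
        · intro w _; show w + w0 + w0 = w; rw [add_assoc, sp_add_self, add_zero]
      have e2 : ∑ w ∈ W, chi (alt v (w + w0)) = -∑ w ∈ W, chi (alt v w) := by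
        rw [← Finset.sum_neg_distrib]
        refine Finset.sum_congr rfl fun w _ => ?_
        rw [altadd, h1, chi_add]; simp [chi]
      linarith
  have outer : ∀ w : Sp n, ∑ v : Sp n, chi (alt v w) =
      if w = 0 then (Fintype.card (Sp n) : ℤ) else 0 := by
    intro w
    split_ifs with hw
    · subst hw
      simp [alt, chi]
    · obtain ⟨u, hu⟩ := alt_nondeg hw
      have e : ∑ v : Sp n, chi (alt v w) = ∑ v : Sp n, chi (alt (v + u) w) :=
        (Equiv.sum_comp (Equiv.addRight u) fun v => chi (alt v w)).symm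
      have e2 : ∑ v : Sp n, chi (alt (v + u) w) = -∑ v : Sp n, chi (alt v w) := by
        rw [← Finset.sum_neg_distrib]
        refine Finset.sum_congr rfl fun v _ => ?_
        rw [altsymm, altadd, hu, chi_add, altsymm]; simp [chi]
      linarith
  have hprod : (W.card : ℤ) * Wp.card = 4 ^ n := by
    calc (W.card : ℤ) * Wp.card = ∑ v : Sp n, if v ∈ Wp then (W.card : ℤ) else 0 := by
          rw [Finset.sum_ite_mem, Finset.univ_inter, Finset.sum_const, nsmul_eq_mul, mul_comm]
      _ = ∑ w ∈ W, ∑ v : Sp n, chi (alt v w) := by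
          rw [Finset.sum_comm]; exact Finset.sum_congr rfl fun v _ => (inner v).symm
      _ = 4 ^ n := by
          rw [Finset.sum_congr rfl fun w _ => outer w, Finset.sum_ite_eq', if_pos h0,
            Fintype.card_fun, Fintype.card_prod, ZMod.card, Fintype.card_fin]
          norm_num
  have hle := Finset.card_le_card hsub
  have hprod' : W.card * Wp.card = 4 ^ n := by exact_mod_cast hprod
  have h4 : (4 : ℕ) ^ n = 2 ^ n * 2 ^ n := by rw [← mul_pow]; norm_num
  have hb : W.card ≤ 2 ^ n := by
    by_contra hc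
    push Not at hc
    have := Nat.mul_lt_mul'' hc (lt_of_lt_of_le hc hle)
    omega
  refine ⟨hb, fun hfull => ?_⟩
  have hWeq : W = Wp := by
    refine Finset.eq_of_subset_of_card_le hsub ?_
    rw [hfull, h4] at hprod'
    rw [hfull, Nat.eq_of_mul_eq_mul_left (by positivity) hprod']
  have hS : (W.card : ℤ) * ∑ v : Sp n, chi (beta t v v) = (W.card : ℤ) * W.card := by
    calc (W.card : ℤ) * ∑ v : Sp n, chi (beta t v v)
        = ∑ _w ∈ W, ∑ v : Sp n, chi (beta t v v) := by rw [Finset.sum_const, nsmul_eq_mul]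
      _ = ∑ w ∈ W, ∑ v : Sp n, chi (beta t v v) * chi (alt v w) := by
          refine Finset.sum_congr rfl fun w hw => ?_
          rw [← Equiv.sum_comp (Equiv.addRight w)]
          refine Finset.sum_congr rfl fun v _ => ?_
          simp only [Equiv.coe_addRight]
          rw [← chi_add, beta_add_left, beta_add_right, beta_add_right, hq w hw, add_zero,
            ← beta_symm t, add_assoc]
      _ = ∑ v : Sp n, chi (beta t v v) * if v ∈ Wp then (W.card : ℤ) else 0 := by
          rw [Finset.sum_comm]
          refine Finset.sum_congr rfl fun v _ => ?_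
          rw [← inner, Finset.mul_sum]
      _ = _ := by
          simp only [mul_ite, mul_zero, Finset.sum_ite_mem, Finset.univ_inter, ← hWeq]
          rw [Finset.sum_congr rfl fun v hv => by rw [hq v hv, chi, if_pos rfl, one_mul],
            Finset.sum_const, nsmul_eq_mul]
  have hpos : (0 : ℤ) < W.card := by exact_mod_cast Finset.card_pos.2 ⟨0, h0⟩
  rw [mul_left_cancel₀ hpos.ne' hS]
  exact hpos

/-- Subgroup from a space of singular vectors. -/
def ofSingular (S : AddSubgroup (Sp n)) : Subgroup (ES n t) where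
  carrier := {x | x.v ∈ S}
  one_mem' := S.zero_mem
  mul_mem' ha hb := S.add_mem ha hb
  inv_mem' ha := ha

theorem card_ofSingular (S : AddSubgroup (Sp n)) :
    Nat.card (ofSingular t S) = 2 * Nat.card S := by
  rw [Nat.card_congr (α := ofSingular t S) (β := ZMod 2 × S)
    { toFun := fun x => (x.1.c, ⟨x.1.v, x.2⟩)
      invFun := fun p => ⟨⟨p.2.1, p.1⟩, p.2.2⟩
      left_inv := fun _ => rfl
      right_inv := fun _ => rfl }, Nat.card_prod, Nat.card_zmod]

theorem elemAb_ofSingular (S : AddSubgroup (Sp n)) (hS : ∀ v ∈ S, beta t v v = 0) :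
    Cfsg.IsElementaryAbelian 2 (ofSingular t S) := by
  refine ⟨⟨⟨fun a b => Subtype.ext ?_⟩⟩, fun a ha => ?_⟩
  · show a.1 * b.1 = b.1 * a.1
    rw [comm_iff, ← beta_symm t]
    have h := hS _ (S.add_mem a.2 b.2)
    rw [beta_add_left, beta_add_right, beta_add_right, hS _ a.2, hS _ b.2, zero_add, add_zero] at h
    exact h
  · rw [pow_two, sq_eq, hS _ ha]; rfl

theorem ea_card (A : Subgroup (ES n t)) (hA : Cfsg.IsElementaryAbelian 2 A) :
    Nat.card A ≤ 2 * 2 ^ n ∧ (Nat.card A = 2 * 2 ^ n → 0 < ∑ v : Sp n, chi (beta t v v)) := by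
  classical
  set W := (Finset.univ.filter fun v : Sp n => ∃ x ∈ A, x.v = v) with hW
  have mW : ∀ v, v ∈ W ↔ ∃ x ∈ A, x.v = v := fun v => by simp [hW]
  obtain ⟨hb, heq⟩ := singular_bound t W ((mW 0).2 ⟨1, A.one_mem, rfl⟩)
    (fun x hx y hy => by
      obtain ⟨a, ha, rfl⟩ := (mW x).1 hx
      obtain ⟨b, hb, rfl⟩ := (mW y).1 hy
      exact (mW _).2 ⟨a * b, A.mul_mem ha hb, rfl⟩)
    (fun v hv => by
      obtain ⟨a, ha, rfl⟩ := (mW v).1 hv
      have := hA.2 a ha
      rw [pow_two, sq_eq] at this
      exact congrArg ES.c this)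
  have hle : Nat.card A ≤ 2 * W.card := by
    have := Nat.card_le_card_of_injective
      (fun x : A => ((x.1.c, (⟨x.1.v, (mW _).2 ⟨x.1, x.2, rfl⟩⟩ : W)) : ZMod 2 × W))
      (fun x y h => Subtype.ext (ES.ext (congrArg Subtype.val (congrArg Prod.snd h))
        (congrArg (fun p : ZMod 2 × W => p.1) h)))
    simpa using this
  exact ⟨by omega, fun h => heq (by omega)⟩

theorem rank_eq {r : ℕ} {A : Subgroup (ES n t)} (hA : Cfsg.IsElementaryAbelian 2 A)
    (hc : Nat.card A = 2 ^ r) (hub : ∀ B : Subgroup (ES n t), ∀ k, Cfsg.IsElementaryAbelian 2 B →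
      Nat.card B = 2 ^ k → k ≤ r) :
    sSup {k : ℕ | ∃ A : Subgroup (ES n t), Cfsg.IsElementaryAbelian 2 A ∧ Nat.card A = 2 ^ k} = r :=
  IsGreatest.csSup_eq ⟨⟨A, hA, hc⟩, fun _ ⟨B, hB, hBc⟩ => hub B _ hB hBc⟩

theorem both_ranks (n : ℕ) (hn : 1 ≤ n) : ∀ r ∈ ({n, n + 1} : Set ℕ),
    ∃ (E : Type) (_ : Group E) (_ : Finite E), Cfsg.IsExtraspecial 2 E ∧
      Nat.card E = 2 ^ (2 * n + 1) ∧
      sSup {k : ℕ | ∃ A : Subgroup E, Cfsg.IsElementaryAbelian 2 A ∧ Nat.card A = 2 ^ k} = r := by
  intro r hr
  simp only [Set.mem_insert_iff, Set.mem_singleton_iff] at hr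
  rcases hr with h | h <;> subst r
  · obtain ⟨m, rfl⟩ : ∃ m, n = m + 1 := ⟨n - 1, by omega⟩
    let t : Fin (m + 1) → Bool := fun i => decide (i = 0)
    let S : AddSubgroup (Sp (m + 1)) :=
      { carrier := {v | v 0 = 0 ∧ ∀ i, (v i).2 = 0}
        zero_mem' := ⟨rfl, fun _ => rfl⟩
        add_mem' := fun ha hb => ⟨by simp [ha.1, hb.1], fun i => by simp [ha.2 i, hb.2 i]⟩
        neg_mem' := fun ha => ⟨by simp [ha.1], fun i => by simp [ha.2 i]⟩ }
    have hS : ∀ v ∈ S, beta t v v = 0 := fun v hv => by
      refine Finset.sum_eq_zero fun i _ => ?_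
      by_cases hi : i = 0
      · subst hi; rw [hv.1]; simp [loc]
      · simp [t, hi, loc, hv.2 i]
    have hcard : Nat.card S = 2 ^ m := by
      rw [Nat.card_congr (α := S) (β := Fin m → ZMod 2)
        { toFun := fun v i => (v.1 i.succ).1
          invFun := fun w => ⟨fun i => Fin.cases (0, 0) (fun j => (w j, 0)) i, rfl, fun i => by
            refine Fin.cases ?_ (fun j => ?_) i <;> rfl⟩
          left_inv := fun v => Subtype.ext (funext fun i => by
            rcases Fin.eq_zero_or_eq_succ i with rfl | ⟨j, rfl⟩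
            · exact v.2.1.symm
            · exact Prod.ext rfl (v.2.2 j.succ).symm)
          right_inv := fun w => rfl }, Nat.card_fun, Nat.card_zmod, Nat.card_eq_fintype_card,
        Fintype.card_fin]
    refine ⟨ES (m + 1) t, inferInstance, inferInstance, isExtraspecial_ES t hn, card_ES t,
      rank_eq t (elemAb_ofSingular t S hS) (by rw [card_ofSingular, hcard, pow_succ']) ?_⟩
    intro B k hB hk
    obtain ⟨h1, h2⟩ := ea_card t B hB
    rw [hk, ← pow_succ'] at h1 h2
    have hk2 := (Nat.pow_le_pow_iff_right (by norm_num : 1 < 2)).1 h1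
    by_contra hc
    have hpos := h2 (by rw [show k = m + 1 + 1 by omega])
    rw [gauss_sum, Fin.prod_univ_succ] at hpos
    simp [t, Fin.succ_ne_zero] at hpos
    exact absurd hpos (not_lt.2 (by positivity))
  · let t : Fin n → Bool := fun _ => false
    let S : AddSubgroup (Sp n) :=
      { carrier := {v | ∀ i, (v i).2 = 0}
        zero_mem' := fun _ => rfl
        add_mem' := fun ha hb i => by simp [ha i, hb i]
        neg_mem' := fun ha i => by simp [ha i] }
    have hS : ∀ v ∈ S, beta t v v = 0 := fun v hv =>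
      Finset.sum_eq_zero fun i _ => by simp [t, loc, hv i]
    have hcard : Nat.card S = 2 ^ n := by
      rw [Nat.card_congr (α := S) (β := Fin n → ZMod 2)
        { toFun := fun v i => (v.1 i).1
          invFun := fun w => ⟨fun i => (w i, 0), fun _ => rfl⟩
          left_inv := fun v => Subtype.ext (funext fun i => Prod.ext rfl (v.2 i).symm)
          right_inv := fun w => rfl }, Nat.card_fun, Nat.card_zmod, Nat.card_eq_fintype_card,
        Fintype.card_fin]
    refine ⟨ES n t, inferInstance, inferInstance, isExtraspecial_ES t hn, card_ES t,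
      rank_eq t (elemAb_ofSingular t S hS) (by rw [card_ofSingular, hcard, pow_succ']) ?_⟩
    intro B k hB hk
    obtain ⟨h1, -⟩ := ea_card t B hB
    rw [hk, ← pow_succ'] at h1
    exact (Nat.pow_le_pow_iff_right (by norm_num : 1 < 2)).1 h1

end CfsgLib.Trans3.ExtraTwo
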