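import Cfsg.Prelude.Def_Classical
import Cfsg.Prelude.Def_KGroupFacts
import Cfsg.Agent.Lib.Trans3.ExtraTwo
import Cfsg.Agent.Lib.Transfer.ExtraspecialIso

/-!
The outer automorphism group of an extraspecial 2-group is the isometry group of its quadratic form.
-/

set_option autoImplicit false
set_option linter.style.haveILetI false

namespace CfsgLib.Trans3.ExtraTwo

open Matrix

section Aut

variable {n : ℕ} (t : Fin n → Bool)

/-- The lift of a vector. -/
def lift (v : Sp n) : ES n t := ⟨v, 0⟩

/-- The central element with given central part. -/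
def cen (c : ZMod 2) : ES n t := ⟨0, c⟩

theorem eq_lift_mul_cen (x : ES n t) : x = lift t x.v * cen t x.c := by
  ext1
  · simp [mul_v, lift, cen]
  · simp [mul_c, lift, cen, beta_zero_right]

theorem map_cen (φ : MulAut (ES n t)) (c : ZMod 2) : φ (cen t c) = cen t c := by
  rcases z2_cases c with rfl | rfl
  · exact map_one φ
  · have hv : (φ (cen t 1)).v = 0 := by
      rw [← mem_center_iff, Subgroup.mem_center_iff]
      intro y
      obtain ⟨y, rfl⟩ := φ.surjective y
      rw [← map_mul, ← map_mul, Subgroup.mem_center_iff.1 ((mem_center_iff t (cen t 1)).2 rfl) y]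
    rcases z2_cases (φ (cen t 1)).c with h | h
    · have h' : φ (cen t 1) = φ 1 := by rw [map_one]; exact ES.ext hv h
      exact absurd (congrArg ES.c (φ.injective h')) (by show (1 : ZMod 2) ≠ 0; decide)
    · exact ES.ext hv h

theorem v_map (φ : MulAut (ES n t)) (x : ES n t) : (φ x).v = (φ (lift t x.v)).v := by
  conv_lhs => rw [eq_lift_mul_cen t x]
  rw [map_mul, map_cen, mul_v]
  exact add_zero _

/-- The linear map induced on the vector parts. -/
def vLin (φ : MulAut (ES n t)) : Sp n →ₗ[ZMod 2] Sp n :=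
  AddMonoidHom.toZModLinearMap 2
    (AddMonoidHom.mk' (fun v => (φ (lift t v)).v) (fun v w => by
      rw [← mul_v, ← map_mul, v_map t φ (lift t v * lift t w)]
      rfl))

theorem vLin_apply (φ : MulAut (ES n t)) (v : Sp n) : vLin t φ v = (φ (lift t v)).v := rfl

theorem vLin_mul (φ ψ : MulAut (ES n t)) : vLin t (φ * ψ) = vLin t φ ∘ₗ vLin t ψ := by
  refine LinearMap.ext fun v => ?_
  rw [LinearMap.comp_apply, vLin_apply, vLin_apply, vLin_apply, MulAut.mul_apply, v_map]

theorem vLin_one : vLin t (1 : MulAut (ES n t)) = LinearMap.id := LinearMap.ext fun _ => rfl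

theorem q_vLin (φ : MulAut (ES n t)) (v : Sp n) :
    beta t (vLin t φ v) (vLin t φ v) = beta t v v := by
  have h := map_mul φ (lift t v) (lift t v)
  rw [sq_eq t (lift t v), sq_eq] at h
  rw [show (⟨0, beta t (lift t v).v (lift t v).v⟩ : ES n t) = cen t (beta t v v) from rfl,
    map_cen] at h
  exact (congrArg ES.c h).symm

variable {ι : Type} [Fintype ι] [DecidableEq ι] (L : Sp n ≃ₗ[ZMod 2] (ι → ZMod 2))
  (Q : (ι → ZMod 2) → ZMod 2) (hQ : ∀ v, Q (L v) = beta t v v)

/-- The matrix of an automorphism. -/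
noncomputable def mat : MulAut (ES n t) →* Matrix ι ι (ZMod 2) where
  toFun φ := LinearMap.toMatrix' (L.toLinearMap ∘ₗ vLin t φ ∘ₗ L.symm.toLinearMap)
  map_one' := by
    rw [vLin_one, show L.toLinearMap ∘ₗ LinearMap.id ∘ₗ L.symm.toLinearMap = LinearMap.id from
      LinearMap.ext fun x => L.apply_symm_apply x, LinearMap.toMatrix'_id]
  map_mul' φ ψ := by
    rw [← LinearMap.toMatrix'_comp, vLin_mul]
    congr 1
    refine LinearMap.ext fun x => ?_
    simp

theorem mat_mulVec (φ : MulAut (ES n t)) (u : ι → ZMod 2) :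
    mat t L φ *ᵥ u = L (vLin t φ (L.symm u)) := by
  show LinearMap.toMatrix' _ *ᵥ u = _
  rw [← Matrix.toLin'_apply, Matrix.toLin'_toMatrix']
  rfl

include hQ in
/-- Automorphisms act by isometries. -/
theorem psi_mem (φ : MulAut (ES n t)) :
    (mat t L).toHomUnits φ ∈ Cfsg.isometryGroup (ZMod 2) Q := fun u _ => by
  show Q (mat t L φ *ᵥ u) = Q u
  rw [mat_mulVec, hQ, q_vLin, ← hQ, L.apply_symm_apply]

/-- The action on the quadratic space. -/
noncomputable def psi : MulAut (ES n t) →* Cfsg.isometryGroup (ZMod 2) Q :=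
  (mat t L).toHomUnits.codRestrict _ (psi_mem t L Q hQ)

theorem exists_half (δ : (ι → ZMod 2) →ₗ[ZMod 2] (ι → ZMod 2) →ₗ[ZMod 2] ZMod 2)
    (hd : ∀ u, δ u u = 0) (hs : ∀ u w, δ u w = δ w u) :
    ∃ κ : (ι → ZMod 2) → ZMod 2, ∀ u w, κ (u + w) = κ u + κ w + δ u w := by
  classical
  set M := LinearMap.toMatrix₂' (ZMod 2) δ with hM
  have hδ : ∀ u w, δ u w = ∑ i, ∑ j, u i * M i j * w j := fun u w => by
    conv_lhs => rw [← Matrix.toLinearMap₂'_toMatrix' (R := ZMod 2) δ]
    rw [Matrix.toLinearMap₂'_apply']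
    simp only [dotProduct, Matrix.mulVec, Finset.mul_sum, mul_assoc]
    rfl
  have hMd : ∀ i, M i i = 0 := fun i => by
    rw [hM, LinearMap.toMatrix₂'_apply]; exact hd _
  have hMs : ∀ i j, M i j = M j i := fun i j => by
    rw [hM, LinearMap.toMatrix₂'_apply, LinearMap.toMatrix₂'_apply]; exact hs _ _
  let e := Fintype.equivFin ι
  refine ⟨fun u => ∑ i, ∑ j, if e i < e j then u i * M i j * u j else 0, fun u w => ?_⟩
  have h1 : ∀ i j, (if e i < e j then (u + w) i * M i j * (u + w) j else 0) =
      (if e i < e j then u i * M i j * u j else 0) + (if e i < e j then w i * M i j * w j else 0) +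
      ((if e i < e j then u i * M i j * w j else 0) + (if e i < e j then w i * M i j * u j else 0)) := by
    intro i j
    split_ifs
    · simp only [Pi.add_apply]; ring
    · simp
  simp only [h1, Finset.sum_add_distrib]
  congr 1
  rw [Finset.sum_comm (f := fun i j => if e i < e j then w i * M i j * u j else 0), hδ,
    ← Finset.sum_add_distrib]
  refine Finset.sum_congr rfl fun i _ => ?_
  rw [← Finset.sum_add_distrib]
  refine Finset.sum_congr rfl fun j _ => ?_
  rcases lt_trichotomy (e i) (e j) with h | h | h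
  · rw [if_pos h, if_neg h.asymm, add_zero]
  · obtain rfl := e.injective h
    simp [hMd]
  · rw [if_neg h.asymm, if_pos h, zero_add, hMs i j]; ring

theorem psi_surjective : Function.Surjective (psi t L Q hQ) := by
  intro g
  set A : Matrix ι ι (ZMod 2) := ((g : GL ι (ZMod 2)) : Matrix ι ι (ZMod 2)) with hA
  let G0 : Sp n →ₗ[ZMod 2] Sp n := L.symm.toLinearMap ∘ₗ Matrix.toLin' A ∘ₗ L.toLinearMap
  have hG0 : ∀ v, G0 v = L.symm (A *ᵥ L v) := fun v => rfl
  have hq : ∀ v, beta t (G0 v) (G0 v) = beta t v v := fun v => by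
    rw [← hQ, ← hQ, hG0, L.apply_symm_apply]
    exact g.2 (L v) (L v)
  have hinj : Function.Injective G0 := by
    intro v w h
    rw [hG0, hG0] at h
    refine L.injective ?_
    have h' := congrArg (fun x => ((g⁻¹ : Cfsg.isometryGroup (ZMod 2) Q) : GL ι (ZMod 2)).1 *ᵥ x)
      (L.symm.injective h)
    have hinv : ((g⁻¹ : Cfsg.isometryGroup (ZMod 2) Q) : GL ι (ZMod 2)).1 * A = 1 := by
      rw [hA, ← Units.val_mul, InvMemClass.coe_inv, inv_mul_cancel, Units.val_one]
    rw [Matrix.mulVec_mulVec, Matrix.mulVec_mulVec, hinv, Matrix.one_mulVec, Matrix.one_mulVec] at h'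
    exact h'
  let δ : (ι → ZMod 2) →ₗ[ZMod 2] (ι → ZMod 2) →ₗ[ZMod 2] ZMod 2 :=
    LinearMap.mk₂ (ZMod 2)
      (fun u w => beta t (G0 (L.symm u)) (G0 (L.symm w)) + beta t (L.symm u) (L.symm w))
      (fun u u' w => by simp only [map_add, beta_add_left]; ring)
      (fun c u w => by
        rcases z2_cases c with rfl | rfl
        · simp [beta_zero_left]
        · simp)
      (fun u w w' => by simp only [map_add, beta_add_right]; ring)
      (fun c u w => by
        rcases z2_cases c with rfl | rfl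
        · simp [beta_zero_right]
        · simp)
  have hδ : ∀ u w, δ u w =
      beta t (G0 (L.symm u)) (G0 (L.symm w)) + beta t (L.symm u) (L.symm w) := fun _ _ => rfl
  have hdiag : ∀ u, δ u u = 0 := fun u => by rw [hδ, hq, z2_add_self]
  obtain ⟨κ, hκ⟩ := exists_half δ hdiag (fun u w => by
    have h := hdiag (u + w)
    simp only [map_add, LinearMap.add_apply, hdiag, zero_add, add_zero] at h
    exact ((by decide : ∀ a b : ZMod 2, a + b = 0 → a = b) _ _ h).symm)
  let f : ES n t →* ES n t := MonoidHom.mk' (fun x => ⟨G0 x.v, x.c + κ (L x.v)⟩) (fun x y => by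
    ext1
    · simp [mul_v]
    · simp only [mul_c, mul_v, map_add L, hκ, hδ, L.symm_apply_apply]
      generalize x.c = a; generalize y.c = b; generalize κ (L x.v) = c; generalize κ (L y.v) = d
      generalize beta t (G0 x.v) (G0 y.v) = e; generalize beta t x.v y.v = e'
      revert a b c d e e'; decide)
  have hf : Function.Injective f := fun x y h => by
    have hv : x.v = y.v := hinj (congrArg ES.v h)
    have hc : x.c + κ (L x.v) = y.c + κ (L y.v) := congrArg ES.c h
    rw [hv] at hc
    exact ES.ext hv (add_right_cancel hc)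
  refine ⟨MulEquiv.ofBijective f (Finite.injective_iff_bijective.1 hf),
    Subtype.ext (Units.ext ?_)⟩
  show LinearMap.toMatrix' _ = A
  conv_rhs => rw [← LinearMap.toMatrix'_toLin' A]
  congr 1
  refine LinearMap.ext fun u => ?_
  show L (G0 (L.symm u)) = A *ᵥ u
  rw [hG0, L.apply_symm_apply, L.apply_symm_apply]

theorem conj_lift (u : Sp n) (x : ES n t) :
    MulAut.conj (lift t u) x = ⟨x.v, x.c + alt u x.v⟩ := by
  rw [MulAut.conj_apply, mul_inv_eq_iff_eq_mul]
  ext1
  · simp only [mul_v, lift]; abel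
  · simp only [mul_c, lift]
    rw [← beta_symm t u x.v]
    generalize x.c = a; generalize beta t u x.v = b; generalize beta t x.v u = c
    revert a b c; decide

theorem psi_ker : (psi t L Q hQ).ker = Cfsg.Inn (ES n t) := by
  apply le_antisymm
  · intro φ hφ
    have hid : ∀ v, vLin t φ v = v := fun v => by
      have h := congrArg (fun g : Cfsg.isometryGroup (ZMod 2) Q => (g : GL ι (ZMod 2)).1 *ᵥ L v) hφ
      have h' : mat t L φ *ᵥ L v = (1 : Matrix ι ι (ZMod 2)) *ᵥ L v := h
      rw [mat_mulVec, Matrix.one_mulVec, L.symm_apply_apply] at h'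
      exact L.injective h'
    have hlift : ∀ v, φ (lift t v) = ⟨v, (φ (lift t v)).c⟩ := fun v =>
      ES.ext (hid v) rfl
    let lam : Sp n →ₗ[ZMod 2] ZMod 2 := AddMonoidHom.toZModLinearMap 2
      (AddMonoidHom.mk' (fun v => (φ (lift t v)).c) (fun v w => by
        have h := map_mul φ (lift t v) (lift t w)
        rw [eq_lift_mul_cen t (lift t v * lift t w), map_mul, map_cen] at h
        have hc := congrArg ES.c h
        have hv : (φ (lift t v)).v = v := hid v
        have hw : (φ (lift t w)).v = w := hid w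
        simp only [mul_c, mul_v, lift, cen, beta_zero_right, add_zero] at hc
        simp only [lift] at hv hw ⊢
        rw [hv, hw] at hc
        generalize beta t v w = b at hc
        revert hc
        generalize (φ (⟨v + w, 0⟩ : ES n t)).c = A
        generalize (φ (⟨v, 0⟩ : ES n t)).c = B
        generalize (φ (⟨w, 0⟩ : ES n t)).c = C
        revert A B C b; decide))
    let altL : Sp n →ₗ[ZMod 2] Module.Dual (ZMod 2) (Sp n) :=
      LinearMap.mk₂ (ZMod 2) (fun v w => alt v w)
        (fun u u' w => by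
          simp only [alt, Pi.add_apply, Prod.fst_add, Prod.snd_add, ← Finset.sum_add_distrib]
          exact Finset.sum_congr rfl fun i _ => by ring)
        (fun c u w => by
          simp only [alt, Pi.smul_apply, Prod.smul_fst, Prod.smul_snd, smul_eq_mul, Finset.mul_sum]
          exact Finset.sum_congr rfl fun i _ => by ring)
        (fun u w w' => by
          simp only [alt, Pi.add_apply, Prod.fst_add, Prod.snd_add, ← Finset.sum_add_distrib]
          exact Finset.sum_congr rfl fun i _ => by ring)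
        (fun c u w => by
          simp only [alt, Pi.smul_apply, Prod.smul_fst, Prod.smul_snd, smul_eq_mul, Finset.mul_sum]
          exact Finset.sum_congr rfl fun i _ => by ring)
    have hsurj : Function.Surjective altL := by
      refine (LinearMap.injective_iff_surjective_of_finrank_eq_finrank
        (Subspace.dual_finrank_eq (K := ZMod 2) (V := Sp n)).symm).1 ?_
      rw [← LinearMap.ker_eq_bot, LinearMap.ker_eq_bot']
      intro v hv
      by_contra hne
      obtain ⟨w, hw⟩ := alt_nondeg hne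
      have : altL v w = 0 := by rw [hv]; rfl
      exact one_ne_zero (hw.symm.trans this)
    obtain ⟨u, hu⟩ := hsurj lam
    refine ⟨lift t u, MulEquiv.ext fun x => ?_⟩
    have hau : alt u x.v = (φ (lift t x.v)).c := LinearMap.congr_fun hu x.v
    rw [conj_lift, hau]
    conv_rhs => rw [eq_lift_mul_cen t x, map_mul, map_cen, hlift]
    ext1
    · simp [mul_v, cen]
    · simp only [mul_c, cen, beta_zero_right, add_zero]
      exact add_comm _ _
  · rintro _ ⟨y, rfl⟩
    refine Subtype.ext (Units.ext ?_)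
    show LinearMap.toMatrix' _ = (1 : Matrix ι ι (ZMod 2))
    rw [← LinearMap.toMatrix'_id]
    congr 1
    refine LinearMap.ext fun u => ?_
    show L (vLin t (MulAut.conj y) (L.symm u)) = u
    rw [vLin_apply, MulAut.conj_apply, mul_v, mul_v]
    show L (y.v + L.symm u + y.v) = u
    rw [add_right_comm, sp_add_self, zero_add, L.apply_symm_apply]

include hQ in
theorem out_equiv {E : Type*} [Group E] (e : E ≃* ES n t) :
    Nonempty (Cfsg.Out E ≃* Cfsg.isometryGroup (ZMod 2) Q) := by
  let c : MulAut E →* MulAut (ES n t) :=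
    MonoidHom.mk' (fun φ => e.symm.trans (φ.trans e)) (fun φ ψ => MulEquiv.ext fun x => by simp)
  let f := (psi t L Q hQ).comp c
  have hf : Function.Surjective f := by
    intro g
    obtain ⟨φ, hφ⟩ := psi_surjective t L Q hQ g
    refine ⟨e.trans (φ.trans e.symm), ?_⟩
    show psi t L Q hQ _ = g
    rw [← hφ]
    congr 1
    ext1 x
    simp [c]
  have hk : f.ker = Cfsg.Inn E := by
    rw [← MonoidHom.comap_ker, psi_ker]
    ext φ
    rw [Subgroup.mem_comap]
    constructor
    · rintro ⟨y, hy⟩
      refine ⟨e.symm y, MulEquiv.ext fun x => ?_⟩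
      have h := congrArg e.symm (MulEquiv.congr_fun hy (e x))
      simpa [c] using h
    · rintro ⟨y, rfl⟩
      exact ⟨e y, MulEquiv.ext fun x => by simp [c]⟩
  exact ⟨(QuotientGroup.quotientMulEquivOfEq hk.symm).trans
    (QuotientGroup.quotientKerEquivOfSurjective f hf)⟩

end Aut

/-- Coordinates for the plus type. -/
def coordPlus (n : ℕ) : Sp n ≃ₗ[ZMod 2] (Fin n ⊕ Fin n → ZMod 2) where
  toFun v := Sum.elim (fun i => (v i).1) (fun i => (v i).2)
  invFun u i := (u (.inl i), u (.inr i))
  left_inv _ := rfl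
  right_inv u := funext fun s => by cases s <;> rfl
  map_add' _ _ := funext fun s => by cases s <;> rfl
  map_smul' _ _ := funext fun s => by cases s <;> rfl

/-- The minus type tag. -/
def tMinus (m : ℕ) : Fin (m + 1) → Bool := fun i => decide (i = 0)

/-- Coordinates for the minus type. -/
def coordMinus (m : ℕ) : Sp (m + 1) ≃ₗ[ZMod 2] ((Fin m ⊕ Fin m) ⊕ Fin 2 → ZMod 2) where
  toFun v := Sum.elim (Sum.elim (fun i => (v i.succ).1) (fun i => (v i.succ).2))
    ![(v 0).1, (v 0).2]
  invFun u := Fin.cases (u (.inr 0), u (.inr 1)) (fun i => (u (.inl (.inl i)), u (.inl (.inr i))))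
  left_inv v := funext fun i => by refine Fin.cases ?_ (fun j => ?_) i <;> rfl
  right_inv u := funext fun s => by
    rcases s with (s | s) | s
    · rfl
    · rfl
    · fin_cases s <;> rfl
  map_add' _ _ := funext fun s => by
    rcases s with (s | s) | s
    · rfl
    · rfl
    · fin_cases s <;> rfl
  map_smul' _ _ := funext fun s => by
    rcases s with (s | s) | s
    · rfl
    · rfl
    · fin_cases s <;> rfl

theorem quad_plus (n : ℕ) (v : Sp n) :
    Cfsg.quadFormPlus n (ZMod 2) (coordPlus n v) = beta (fun _ => false) v v := by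
  show ∑ i, (v i).1 * (v i).2 = _
  simp [beta, loc]

theorem quad_minus (m : ℕ) (v : Sp (m + 1)) :
    Cfsg.quadFormMinus m (ZMod 2) 1 1 (coordMinus m v) = beta (tMinus m) v v := by
  rw [beta, Fin.sum_univ_succ]
  simp only [Cfsg.quadFormMinus, coordMinus, LinearEquiv.coe_mk, LinearMap.coe_mk, AddHom.coe_mk,
    Sum.elim_inl, Sum.elim_inr]
  have h : ∀ i : Fin m, loc (tMinus m i.succ) (v i.succ) (v i.succ) =
      (v i.succ).1 * (v i.succ).2 := fun i => by simp [loc, tMinus, Fin.succ_ne_zero]
  rw [Finset.sum_congr rfl fun i _ => h i]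
  simp only [loc, tMinus, decide_true, if_true, Matrix.cons_val_zero, Matrix.cons_val_one]
  ring

theorem plus_has (n : ℕ) : ∃ A : Subgroup (ES n (fun _ => false)),
    Cfsg.IsElementaryAbelian 2 A ∧ Nat.card A = 2 ^ (n + 1) := by
  let S : AddSubgroup (Sp n) :=
    { carrier := {v | ∀ i, (v i).2 = 0}
      zero_mem' := fun _ => rfl
      add_mem' := fun ha hb i => by simp [ha i, hb i]
      neg_mem' := fun ha i => by simp [ha i] }
  refine ⟨ofSingular _ S, elemAb_ofSingular _ S (fun v hv =>
    Finset.sum_eq_zero fun i _ => by simp [loc, hv i]), ?_⟩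
  rw [card_ofSingular, pow_succ']
  congr 1
  rw [Nat.card_congr (α := S) (β := Fin n → ZMod 2)
    { toFun := fun v i => (v.1 i).1
      invFun := fun w => ⟨fun i => (w i, 0), fun _ => rfl⟩
      left_inv := fun v => Subtype.ext (funext fun i => Prod.ext rfl (v.2 i).symm)
      right_inv := fun w => rfl }, Nat.card_fun, Nat.card_zmod, Nat.card_eq_fintype_card,
    Fintype.card_fin]

theorem minus_none (m : ℕ) : ¬ ∃ A : Subgroup (ES (m + 1) (tMinus m)),
    Cfsg.IsElementaryAbelian 2 A ∧ Nat.card A = 2 ^ (m + 1 + 1) := by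
  rintro ⟨A, hA, hc⟩
  have hpos := (ea_card _ A hA).2 (by rw [hc, pow_succ'])
  rw [gauss_sum, Fin.prod_univ_succ] at hpos
  simp [tMinus, Fin.succ_ne_zero] at hpos
  exact absurd hpos (not_lt.2 (by positivity))

theorem has_congr {E F : Type*} [Group E] [Group F] (e : E ≃* F) {k : ℕ}
    (h : ∃ A : Subgroup E, Cfsg.IsElementaryAbelian 2 A ∧ Nat.card A = k) :
    ∃ A : Subgroup F, Cfsg.IsElementaryAbelian 2 A ∧ Nat.card A = k := by
  obtain ⟨A, hA, hc⟩ := h
  refine ⟨A.map e.toMonoidHom, ⟨⟨⟨?_⟩⟩, ?_⟩, ?_⟩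
  · rintro ⟨_, a, ha, rfl⟩ ⟨_, b, hb, rfl⟩
    apply Subtype.ext
    show e a * e b = e b * e a
    rw [← map_mul, ← map_mul]
    exact congrArg e (congrArg Subtype.val (hA.1.is_comm.comm ⟨a, ha⟩ ⟨b, hb⟩))
  · rintro _ ⟨a, ha, rfl⟩
    show e a ^ 2 = 1
    rw [← map_pow, hA.2 a ha, map_one]
  · rw [← Nat.card_congr (A.equivMapOfInjective e.toMonoidHom e.injective).toEquiv, hc]

/-- Every extraspecial 2-group is one of the two models. -/
theorem iso_model {E : Type*} [Group E] [Finite E] (hE : Cfsg.IsExtraspecial 2 E) (m : ℕ)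
    (hcard : Nat.card E = 2 ^ (2 * (m + 1) + 1)) :
    Nonempty (E ≃* ES (m + 1) (fun _ => false)) ∨ Nonempty (E ≃* ES (m + 1) (tMinus m)) := by
  haveI : Fact (Nat.Prime 2) := ⟨Nat.prime_two⟩
  have h1 := Transfer.esGood_two_of_three hE (isExtraspecial_ES (fun _ : Fin (m + 1) => false) (by omega))
    (isExtraspecial_ES (tMinus m) (by omega)) _ ⊤ ⊤ ⊤ Transfer.isEsGood_top Transfer.isEsGood_top
    Transfer.isEsGood_top rfl (by rw [Subgroup.card_top, Subgroup.card_top, card_ES, hcard])
    (by rw [Subgroup.card_top, Subgroup.card_top, card_ES, hcard])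
  rcases h1 with e | e | e <;> obtain ⟨e⟩ := e
  · exact Or.inl ⟨Subgroup.topEquiv.symm.trans (e.trans Subgroup.topEquiv)⟩
  · exact absurd (has_congr (Subgroup.topEquiv.symm.trans (e.trans Subgroup.topEquiv)) (plus_has _))
      (minus_none m)
  · exact Or.inr ⟨Subgroup.topEquiv.symm.trans (e.trans Subgroup.topEquiv)⟩

/-- The main statement. -/
theorem out_main {E : Type*} [Group E] [Finite E] (hE : Cfsg.IsExtraspecial 2 E) (n : ℕ)
    (hn : 1 ≤ n) (hcard : Nat.card E = 2 ^ (2 * n + 1)) :
    ((∃ A : Subgroup E, Cfsg.IsElementaryAbelian 2 A ∧ Nat.card ↥A = 2 ^ (n + 1)) →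
      Nonempty (Cfsg.Out E ≃* Cfsg.isometryGroup (ZMod 2) (Cfsg.quadFormPlus n (ZMod 2)))) ∧
    ((¬ ∃ A : Subgroup E, Cfsg.IsElementaryAbelian 2 A ∧ Nat.card ↥A = 2 ^ (n + 1)) →
      Nonempty (Cfsg.Out E ≃*
        Cfsg.isometryGroup (ZMod 2) (Cfsg.quadFormMinus (n - 1) (ZMod 2) 1 1))) := by
  obtain ⟨m, rfl⟩ : ∃ m, n = m + 1 := ⟨n - 1, by omega⟩
  rw [Nat.add_sub_cancel]
  rcases iso_model hE m hcard with e | e <;> obtain ⟨e⟩ := e
  · exact ⟨fun _ => out_equiv _ (coordPlus _) _ (quad_plus _) e,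
      fun h => absurd (has_congr e.symm (plus_has _)) h⟩
  · exact ⟨fun h => absurd (has_congr e h) (minus_none m),
      fun _ => out_equiv _ (coordMinus m) _ (quad_minus m) e⟩

end CfsgLib.Trans3.ExtraTwo
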