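import Mathlib.GroupTheory.Sylow
import Mathlib.Tactic
import Cfsg.Prelude.Def_MonsterType
import Cfsg.Agent.Lib.Trans3.Basic
import Cfsg.Agent.Lib.Trans3.Sylow2

/-! Large extraspecial 2-subgroups: first facts. -/

set_option autoImplicit false

namespace CfsgLib.Trans3

variable {G : Type*} [Group G] {Q : Subgroup G}

/-- The centre of an extraspecial 2-subgroup is generated by one involution. -/
theorem exists_centre_gen (hE : Cfsg.IsExtraspecial 2 ↥Q) :
    ∃ z : G, orderOf z = 2 ∧ z ∈ Q ∧ (∀ q ∈ Q, q * z = z * q) ∧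
      (Subgroup.center ↥Q).map Q.subtype = Subgroup.zpowers z := by
  haveI : Fact (Nat.Prime 2) := ⟨Nat.prime_two⟩
  haveI : Finite (Subgroup.center ↥Q) := Nat.finite_of_card_ne_zero (by rw [hE.2]; omega)
  obtain ⟨c, hc⟩ := exists_prime_orderOf_dvd_card' (G := Subgroup.center ↥Q) 2 (by rw [hE.2])
  have ho : orderOf ((c : ↥Q) : G) = 2 := by rw [Subgroup.orderOf_coe, Subgroup.orderOf_coe, hc]
  refine ⟨((c : ↥Q) : G), ho, (c : ↥Q).2, fun q hq =>
    congrArg Subtype.val (Subgroup.mem_center_iff.1 c.2 ⟨q, hq⟩), le_antisymm ?_ ?_⟩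
  · rintro x ⟨y, hy, rfl⟩
    have hz : (⟨y, hy⟩ : Subgroup.center ↥Q) ∈ Subgroup.zpowers c := by
      rw [Subgroup.eq_top_of_card_eq (Subgroup.zpowers c) (by rw [Nat.card_zpowers, hc, hE.2])]
      trivial
    obtain ⟨n, hn⟩ := hz
    exact ⟨n, by simpa using congrArg (fun u : Subgroup.center ↥Q => ((u : ↥Q) : G)) hn⟩
  · rw [Subgroup.zpowers_le]
    exact ⟨(c : ↥Q), c.2, rfl⟩

theorem mem_zpowers_invol {z x : G} (hz : orderOf z = 2) (hx : x ∈ Subgroup.zpowers z) :
    x = 1 ∨ x = z := by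
  obtain ⟨n, rfl⟩ := hx
  rcases Int.even_or_odd' n with ⟨m, rfl | rfl⟩
  · left
    show z ^ (2 * m) = 1
    rw [zpow_mul, show z ^ (2 : ℤ) = 1 by rw [show (2 : ℤ) = ((2 : ℕ) : ℤ) from rfl, zpow_natCast,
      ← hz, pow_orderOf_eq_one], one_zpow]
  · right
    show z ^ (2 * m + 1) = z
    rw [zpow_add_one, zpow_mul, show z ^ (2 : ℤ) = 1 by rw [show (2 : ℤ) = ((2 : ℕ) : ℤ) from rfl,
      zpow_natCast, ← hz, pow_orderOf_eq_one], one_zpow, one_mul]

theorem centralizer_zpowers (z : G) :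
    Subgroup.centralizer ((Subgroup.zpowers z : Subgroup G) : Set G) =
      Subgroup.centralizer ({z} : Set G) := by
  rw [Subgroup.zpowers_eq_closure, Subgroup.centralizer_closure]

/-- The Frattini argument for a large extraspecial subgroup. -/
theorem large_frattini [Finite G] (hQ : Cfsg.IsLargeExtraspecial Q) (L : Subgroup G) [L.Normal]
    (hQL : Q ≤ L) : L ⊔ Subgroup.normalizer (Q : Set G) = ⊤ := by
  haveI : Fact (Nat.Prime 2) := ⟨Nat.prime_two⟩
  obtain ⟨z, hz, hzQ, hzc, hZ⟩ := exists_centre_gen hQ.1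
  obtain ⟨T, hT⟩ := (hQ.1.1.1.of_equiv (Subgroup.subgroupOfEquivOfLe hQL).symm).exists_le_sylow
  refine top_unique ((le_of_eq (Sylow.normalizer_sup_eq_top T).symm).trans (sup_le ?_ le_sup_left))
  refine le_sup_of_le_right fun g hg => ?_
  set S : Subgroup G := (T : Subgroup ↥L).map L.subtype with hS
  have hg' : ∀ x, x ∈ S ↔ g * x * g⁻¹ ∈ S := hg
  have hQS : Q ≤ S := fun q hq => ⟨⟨q, hQL hq⟩, hT hq, rfl⟩
  -- the centre of `S` is `⟨z⟩`
  have hcen : ∀ w, (∀ x ∈ S, x * w = w * x) → w = 1 ∨ w = z := by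
    intro w hw
    have : w ∈ Subgroup.centralizer (Q : Set G) := fun q hq => hw q (hQS hq)
    rw [hQ.2.1, hZ] at this
    exact mem_zpowers_invol hz this
  have hgz : g * z * g⁻¹ = z := by
    have hcz : ∀ x ∈ S, x * z = z * x := by
      haveI : Nontrivial ↥S :=
        ⟨⟨z, hQS hzQ⟩, 1, fun h => invol_ne_one hz (congrArg Subtype.val h)⟩
      haveI : Nontrivial (Subgroup.center ↥S) := (T.isPGroup'.map L.subtype).center_nontrivial
      obtain ⟨w, hw⟩ := exists_ne (1 : Subgroup.center ↥S)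
      have hwc : ∀ x ∈ S, x * ((w : ↥S) : G) = (w : ↥S) * x :=
        fun x hx => congrArg Subtype.val (Subgroup.mem_center_iff.1 w.2 ⟨x, hx⟩)
      rcases hcen _ hwc with h | h
      · exact absurd (Subtype.ext (Subtype.ext h)) hw
      · rwa [h] at hwc
    have hconjc : ∀ x ∈ S, x * (g * z * g⁻¹) = g * z * g⁻¹ * x := by
      intro x hx
      have hx' : g⁻¹ * x * g ∈ S := (hg' _).2 (by rwa [show g * (g⁻¹ * x * g) * g⁻¹ = x by group])
      calc x * (g * z * g⁻¹) = g * (g⁻¹ * x * g * z) * g⁻¹ := by group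
        _ = g * (z * (g⁻¹ * x * g)) * g⁻¹ := by rw [hcz _ hx']
        _ = g * z * g⁻¹ * x := by group
    rcases hcen (g * z * g⁻¹) hconjc with h | h
    · exact absurd (conj_eq_one_iff.1 h) (invol_ne_one hz)
    · exact h
  have := hQ.2.2.1
  rw [hZ, centralizer_zpowers] at this
  exact this (Subgroup.mem_centralizer_singleton_iff.2 (mul_inv_eq_iff_eq_mul.1 hgz))

end CfsgLib.Trans3
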