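import Mathlib
import Cfsg.Prelude.Def_MonsterType
import Cfsg.Prelude.Def_PLocal
import Cfsg.Agent.Lib.Trans3.ExtraTwo
import Cfsg.Agent.Lib.Trans3.Large
import Cfsg.Agent.Lib.Coprime.Generation
import Cfsg.Agent.Lib.Solvable.PCore

/-!
Centralisers of shape `2^{1+2n} : GL_n(2)`.
-/

set_option autoImplicit false

namespace CfsgLib.Trans3.LargeLinear

open Matrix CfsgLib.Trans3.ExtraTwo

/-- the plus type -/
abbrev T0 (n : ℕ) : Fin n → Bool := fun _ => false

variable {n : ℕ}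

/-- the row part -/
def rowPart (x : Sp n) : Fin n → ZMod 2 := fun i => (x i).1

/-- the column part -/
def colPart (x : Sp n) : Fin n → ZMod 2 := fun i => (x i).2

/-- natural action -/
def act (B : GL (Fin n) (ZMod 2)) (x : ES n (T0 n)) : ES n (T0 n) :=
  ⟨fun i => ((rowPart x.v ᵥ* ((B⁻¹ : GL (Fin n) (ZMod 2)) : Matrix (Fin n) (Fin n) (ZMod 2))) i,
    ((B : Matrix (Fin n) (Fin n) (ZMod 2)) *ᵥ colPart x.v) i), x.c⟩

theorem beta_eq (x y : Sp n) : beta (T0 n) x y = rowPart x ⬝ᵥ colPart y := by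
  simp [beta, loc, T0, rowPart, colPart, dotProduct]

/-- row and column vectors give an elementary abelian subgroup -/
def rows (n : ℕ) : AddSubgroup (Sp n) where
  carrier := {v | ∀ i, (v i).2 = 0}
  zero_mem' := fun _ => rfl
  add_mem' := fun ha hb i => by simp [ha i, hb i]
  neg_mem' := fun ha i => by simp [ha i]

theorem card_rows : Nat.card (rows n) = 2 ^ n := by
  rw [Nat.card_congr (α := rows n) (β := Fin n → ZMod 2)
    { toFun := fun v i => (v.1 i).1
      invFun := fun w => ⟨fun i => (w i, 0), fun _ => rfl⟩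
      left_inv := fun v => Subtype.ext (funext fun i => Prod.ext rfl (v.2 i).symm)
      right_inv := fun _ => rfl }]
  simp

theorem elemAb_rows : Cfsg.IsElementaryAbelian 2 (ofSingular (T0 n) (rows n)) :=
  elemAb_ofSingular _ _ fun v hv => by
    rw [beta_eq]
    have : colPart v = 0 := funext hv
    rw [this, dotProduct_zero]

theorem isExtraspecial_of_equiv {P R : Type*} [Group P] [Group R] (e : P ≃* R) (h : Cfsg.IsExtraspecial 2 P) :
    Cfsg.IsExtraspecial 2 R := by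
  obtain ⟨⟨hp, hf, hc⟩, hcard⟩ := h
  have hcen : Subgroup.center R = (Subgroup.center P).map e.toMonoidHom := by
    ext x
    rw [Subgroup.mem_map_equiv, Subgroup.mem_center_iff, Subgroup.mem_center_iff]
    constructor
    · intro hx y
      apply e.injective
      rw [map_mul, map_mul, MulEquiv.apply_symm_apply, hx]
    · intro hx y
      apply e.symm.injective
      rw [map_mul, map_mul, hx]
  have hfr : frattini R = (frattini P).map e.toMonoidHom := by
    refine le_antisymm (fun y hy => ?_) (Subgroup.map_le_iff_le_comap.2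
      (frattini_le_comap_frattini_of_surjective e.surjective))
    exact Subgroup.mem_map_equiv.2 (frattini_le_comap_frattini_of_surjective (φ := e.symm.toMonoidHom)
      e.symm.surjective hy)
  have hco : commutator R = (commutator P).map e.toMonoidHom := by
    rw [commutator_def, commutator_def, Subgroup.map_commutator, Subgroup.map_top_of_surjective _ e.surjective]
  exact ⟨⟨hp.of_equiv e, by rw [hfr, hf, hcen], by rw [hco, hc, hcen]⟩,
    by rw [hcen, Subgroup.card_map_of_injective e.injective, hcard]⟩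

/-- An invertible matrix moving one nonzero vector to another. -/
theorem exists_gl_map {w u : Fin n → ZMod 2} (hw : w ≠ 0) (hu : u ≠ 0) :
    ∃ h : GL (Fin n) (ZMod 2), (h : Matrix (Fin n) (Fin n) (ZMod 2)) *ᵥ w = u := by
  classical
  obtain ⟨ψ, hψw, hψu⟩ : ∃ ψ : Fin n → ZMod 2, ψ ⬝ᵥ w = 1 ∧ ψ ⬝ᵥ u = 1 := by
    obtain ⟨i, hi⟩ := Function.ne_iff.1 hw
    obtain ⟨j, hj⟩ := Function.ne_iff.1 hu
    have hi1 : w i = 1 := (z2_cases _).resolve_left hi
    have hj1 : u j = 1 := (z2_cases _).resolve_left hj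
    rcases z2_cases (w j) with h1 | h1
    swap
    · exact ⟨Pi.single j 1, by simp [h1], by simp [hj1]⟩
    rcases z2_cases (u i) with h2 | h2
    swap
    · exact ⟨Pi.single i 1, by simp [hi1], by simp [h2]⟩
    exact ⟨Pi.single i 1 + Pi.single j 1, by simp [add_dotProduct, hi1, h1], by simp [add_dotProduct, hj1, h2]⟩
  let M : Matrix (Fin n) (Fin n) (ZMod 2) := 1 + vecMulVec (u + w) ψ
  have hM : ∀ x, M *ᵥ x = x + (ψ ⬝ᵥ x) • (u + w) := fun x => by
    rw [add_mulVec, one_mulVec, vecMulVec_mulVec]; simp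
  have h0 : ψ ⬝ᵥ (u + w) = 0 := by rw [dotProduct_add, hψw, hψu]; decide
  have hMM : M * M = 1 := Matrix.ext_iff_mulVec.2 fun x => by
    rw [← mulVec_mulVec, hM, hM, dotProduct_add, dotProduct_smul, h0, smul_zero, add_zero, add_assoc,
      ← add_smul, z2_add_self, zero_smul, add_zero, one_mulVec]
  refine ⟨⟨M, M, hMM, hMM⟩, ?_⟩
  show M *ᵥ w = u
  rw [hM, hψw, one_smul, add_comm u, ← add_assoc]
  funext i
  simp [z2_add_self]

/-- `O₂(GL_n(2)) = 1`: a normal 2-subgroup is trivial. -/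
theorem gl_normal_two_eq_bot (N : Subgroup (GL (Fin n) (ZMod 2))) [N.Normal] (hN : IsPGroup 2 N) : N = ⊥ := by
  classical
  have : Fact (Nat.Prime 2) := ⟨Nat.prime_two⟩
  rcases Nat.eq_zero_or_pos n with rfl | hn
  · exact Subgroup.eq_bot_of_subsingleton N
  let _ : MulAction N (Fin n → ZMod 2) :=
    { smul := fun g v => ((g : GL (Fin n) (ZMod 2)) : Matrix (Fin n) (Fin n) (ZMod 2)) *ᵥ v
      one_smul := fun v => by show _ *ᵥ v = v; simp
      mul_smul := fun g h v => by show _ *ᵥ v = _ *ᵥ (_ *ᵥ v); simp [mulVec_mulVec] }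
  have hdvd : 2 ∣ Nat.card (Fin n → ZMod 2) := by
    simp only [Nat.card_eq_fintype_card, Fintype.card_fun, ZMod.card, Fintype.card_fin]
    exact dvd_pow_self 2 hn.ne'
  have h0 : (0 : Fin n → ZMod 2) ∈ MulAction.fixedPoints N (Fin n → ZMod 2) := fun g => mulVec_zero _
  obtain ⟨w, hw, hw0⟩ := hN.exists_fixed_point_of_prime_dvd_card_of_fixed_point _ hdvd h0
  rw [Subgroup.eq_bot_iff_forall]
  intro g hg
  refine Units.ext (Matrix.ext_iff_mulVec.2 fun u => ?_)
  rw [Units.val_one, one_mulVec]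
  by_cases hu : u = 0
  · subst hu; exact mulVec_zero _
  obtain ⟨h, hh⟩ := exists_gl_map hw0.symm hu
  have hc : h⁻¹ * g * h⁻¹⁻¹ ∈ N := (inferInstance : N.Normal).conj_mem g hg h⁻¹
  have h1 : ((h⁻¹ * g * h⁻¹⁻¹ : GL (Fin n) (ZMod 2)) : Matrix (Fin n) (Fin n) (ZMod 2)) *ᵥ w = w := hw ⟨_, hc⟩
  rw [inv_inv, Units.val_mul, Units.val_mul, ← mulVec_mulVec, hh, ← mulVec_mulVec] at h1
  have h2 := congrArg (fun v => (h : Matrix (Fin n) (Fin n) (ZMod 2)) *ᵥ v) h1
  simp only [mulVec_mulVec, ← mul_assoc, ← Units.val_mul, mul_inv_cancel, one_mul] at h2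
  rwa [hh] at h2

theorem act_trivial {B : GL (Fin n) (ZMod 2)} (h : ∀ x, (act B x).v = x.v) : B = 1 := by
  refine Units.ext (Matrix.ext_iff_mulVec.2 fun u => ?_)
  rw [Units.val_one, one_mulVec]
  have := h ⟨fun i => (0, u i), 0⟩
  funext i
  exact congrArg Prod.snd (congrFun this i)

variable {G : Type*} [Group G] [Finite G] (z : G) (q : ES n (T0 n) →* G) (k : GL (Fin n) (ZMod 2) →* G)

/-- The structure of a centraliser `2^{1+2n} : GL_n(2)`. -/
theorem structure_of (hn : 1 ≤ n) (hqi : Function.Injective q) (hki : Function.Injective k)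
    (hqz : q ⟨0, 1⟩ = z)
    (hC : ∀ g : G, g ∈ Subgroup.centralizer ({z} : Set G) ↔ ∃ x B, g = q x * k B)
    (hact : ∀ B x, k B * q x * (k B)⁻¹ = q (act B x))
    (A : Subgroup G) (hAQ : A ≤ q.range) (hAe : Cfsg.IsElementaryAbelian 2 A) (hA4 : 4 ≤ Nat.card A)
    (hAc : Subgroup.centralizer (A : Set G) ≤ A)
    (hAn : ∀ a ∈ A, a ≠ 1 → Subgroup.centralizer ({a} : Set G) ≤ Subgroup.normalizer (A : Set G))
    (Q : Subgroup G) (hQ : Q = (Cfsg.pCore 2 ↥(Subgroup.centralizer ({z} : Set G))).map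
      (Subgroup.centralizer ({z} : Set G)).subtype) :
    Cfsg.IsExtraspecial 2 ↥Q ∧ Nat.card ↥Q = 2 ^ (2 * n + 1) ∧
      (∃ E : Subgroup G, E ≤ Q ∧ Cfsg.IsElementaryAbelian 2 E ∧ Nat.card ↥E = 2 ^ (n + 1)) ∧
      Cfsg.IsLargeExtraspecial Q ∧
      ∃ K : Subgroup G, K ≤ Subgroup.centralizer ({z} : Set G) ∧ Q ⊓ K = ⊥ ∧
        Q ⊔ K = Subgroup.centralizer ({z} : Set G) ∧ Nonempty (↥K ≃* GL (Fin n) (ZMod 2)) := by
  classical
  have : Fact (Nat.Prime 2) := ⟨Nat.prime_two⟩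
  set C := Subgroup.centralizer ({z} : Set G) with hCdef
  have hqC : q.range ≤ C := fun g ⟨x, hx⟩ => (hC g).2 ⟨x, 1, by rw [map_one, mul_one, hx]⟩
  have hkC : k.range ≤ C := fun g ⟨B, hB⟩ => (hC g).2 ⟨1, B, by rw [map_one, one_mul, hB]⟩
  have hconjq : ∀ (x y : ES n (T0 n)), (q x * q y * (q x)⁻¹ : G) = q (x * y * x⁻¹) := fun x y => by simp
  have hv : ∀ x y : ES n (T0 n), (x * y * x⁻¹).v = y.v := fun x y => by
    show x.v + y.v + x.v = y.v
    rw [add_comm x.v, add_assoc, sp_add_self, add_zero]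
  -- an element `q x * k B` acting trivially modulo the centre has `B = 1`
  have htriv : ∀ x B, (∀ y, ∃ y', y'.v = y.v ∧ q x * k B * q y * (q x * k B)⁻¹ = q y') → B = 1 := by
    intro x B h
    refine act_trivial fun y => ?_
    obtain ⟨y', hy', e⟩ := h y
    have e2 : q x * k B * q y * (q x * k B)⁻¹ = q (x * act B y * x⁻¹) := by
      rw [← hconjq, ← hact]; group
    rw [e2] at e
    rw [← hv x (act B y), hqi e, hy']
  have hint : ∀ x B, q x = k B → B = 1 := fun x B h => htriv 1 B fun y =>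
    ⟨x * y * x⁻¹, hv x y, by rw [map_one, one_mul, ← h, hconjq]⟩
  have hnq : ∀ g ∈ C, ∀ y ∈ q.range, g * y * g⁻¹ ∈ q.range := by
    rintro g hg _ ⟨y, rfl⟩
    obtain ⟨x, B, rfl⟩ := (hC g).1 hg
    exact ⟨x * act B y * x⁻¹, by rw [← hconjq, ← hact]; group⟩
  have hp : IsPGroup 2 q.range := (isPGroup_ES (T0 n)).of_surjective q.rangeRestrict q.rangeRestrict_surjective
  -- the 2-core
  have hQq : Q = q.range := by
    subst hQ
    refine le_antisymm ?_ ?_
    · rintro _ ⟨g, hg, rfl⟩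
      obtain ⟨x, B, hxB⟩ := (hC g.1).1 g.2
      let π : C → GL (Fin n) (ZMod 2) := fun c => ((hC c.1).1 c.2).choose_spec.choose
      have hπ : ∀ c : C, ∃ x, (c : G) = q x * k (π c) := fun c =>
        ⟨((hC c.1).1 c.2).choose, ((hC c.1).1 c.2).choose_spec.choose_spec⟩
      have huniq : ∀ {x x' : ES n (T0 n)} {B B' : GL (Fin n) (ZMod 2)}, q x * k B = q x' * k B' → B = B' := by
        intro x x' B B' h
        have h1 : q (x'⁻¹ * x) = k (B' * B⁻¹) := by
          rw [map_mul, map_mul, map_inv, map_inv, eq_mul_inv_iff_mul_eq, mul_assoc, h, inv_mul_cancel_left]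
        exact (mul_inv_eq_one.1 (hint _ _ h1)).symm
      have hπe : ∀ (c : C) x B, (c : G) = q x * k B → π c = B := fun c x B h => by
        obtain ⟨x', hx'⟩ := hπ c
        exact huniq (hx'.symm.trans h)
      let φ : C →* GL (Fin n) (ZMod 2) := MonoidHom.mk' π fun c d => by
        obtain ⟨x, hx⟩ := hπ c
        obtain ⟨y, hy⟩ := hπ d
        refine hπe _ (x * act (π c) y) _ ?_
        rw [Subgroup.coe_mul, hx, hy, map_mul, map_mul, ← hact]; group
      have hsur : Function.Surjective φ := fun B =>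
        ⟨⟨k B, hkC ⟨B, rfl⟩⟩, hπe _ 1 _ (by rw [map_one, one_mul])⟩
      have hN : ((Cfsg.pCore 2 C).map φ).Normal :=
        Subgroup.Normal.map inferInstance φ hsur
      have hbot := gl_normal_two_eq_bot ((Cfsg.pCore 2 C).map φ) ((CfsgLib.Solvable.pCore_isPGroup 2).map φ)
      have hB : B = 1 := by
        rw [← hπe g x B hxB]
        exact Subgroup.mem_bot.1 (hbot ▸ ⟨g, hg, rfl⟩)
      exact ⟨x, by rw [hB, map_one, mul_one] at hxB; exact hxB.symm⟩
    · intro g hg
      refine ⟨⟨g, hqC hg⟩, CfsgLib.Solvable.le_pCore (N := q.range.subgroupOf C) ?_ ?_ hg, rfl⟩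
      · exact ⟨fun y hy c => hnq c.1 c.2 y.1 hy⟩
      · exact hp.comap_of_injective _ C.subtype_injective
  rw [hQq]
  have e : ES n (T0 n) ≃* q.range := MonoidHom.ofInjective hqi
  have hext : Cfsg.IsExtraspecial 2 q.range := isExtraspecial_of_equiv e (isExtraspecial_ES (T0 n) hn)
  have hzA : z ∈ A := hAc (Subgroup.mem_centralizer_iff.2 fun a ha =>
    Subgroup.mem_centralizer_singleton_iff.1 (hqC (hAQ ha)))
  have hcent : Subgroup.centralizer (q.range : Set G) = (Subgroup.center q.range).map q.range.subtype := by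
    refine le_antisymm (fun g hg => ?_) ?_
    · have hgC : g ∈ C := Subgroup.mem_centralizer_singleton_iff.2
        (Subgroup.mem_centralizer_iff.1 hg z ⟨_, hqz⟩).symm
      obtain ⟨x, B, rfl⟩ := (hC g).1 hgC
      have hB : B = 1 := htriv x B fun y => ⟨y, rfl, by
        rw [← Subgroup.mem_centralizer_iff.1 hg _ ⟨y, rfl⟩, mul_inv_cancel_right]⟩
      subst hB
      rw [map_one, mul_one] at hg ⊢
      exact ⟨⟨q x, x, rfl⟩, Subgroup.mem_center_iff.2 fun y =>
        Subtype.ext (Subgroup.mem_centralizer_iff.1 hg y.1 y.2), rfl⟩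
    · rintro _ ⟨c, hc, rfl⟩
      exact Subgroup.mem_centralizer_iff.2 fun y hy =>
        congrArg Subtype.val (Subgroup.mem_center_iff.1 hc ⟨y, hy⟩)
  have hcz : Subgroup.centralizer (((Subgroup.center q.range).map q.range.subtype : Subgroup G) : Set G) ≤ C := by
    intro g hg
    refine Subgroup.mem_centralizer_singleton_iff.2 (Subgroup.mem_centralizer_iff.1 hg z ?_).symm
    refine ⟨⟨q ⟨0, 1⟩, _, rfl⟩, Subgroup.mem_center_iff.2 fun ⟨_, y, hy⟩ => Subtype.ext ?_, hqz⟩
    subst hy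
    show q y * q ⟨0, 1⟩ = q ⟨0, 1⟩ * q y
    rw [← map_mul, ← map_mul, ← Subgroup.mem_center_iff.1 ((mem_center_iff (T0 n) ⟨0, 1⟩).2 rfl) y]
  refine ⟨hext, by rw [← Nat.card_congr e.toEquiv, card_ES],
    ⟨(ofSingular (T0 n) (rows n)).map q, Subgroup.map_le_range q _, ⟨?_, ?_⟩, ?_⟩, ⟨hext, hcent, ?_, ?_⟩,
    k.range, hkC, ?_, ?_, ⟨(MonoidHom.ofInjective hki).symm⟩⟩
  · exact ⟨⟨fun ⟨_, a, ha, e1⟩ ⟨_, b, hb, e2⟩ => Subtype.ext (by
      subst e1 e2
      show q a * q b = q b * q a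
      rw [← map_mul, ← map_mul]
      exact congrArg q (congrArg Subtype.val (elemAb_rows.1.is_comm.comm ⟨a, ha⟩ ⟨b, hb⟩)))⟩⟩
  · rintro _ ⟨a, ha, rfl⟩
    rw [← map_pow, elemAb_rows.2 a ha, map_one]
  · rw [Subgroup.card_map_of_injective hqi, card_ofSingular, card_rows, pow_succ, mul_comm]
  · refine hcz.trans fun g hg => Subgroup.mem_normalizer_iff.2 fun y => ⟨hnq g hg y, fun hy => ?_⟩
    have := hnq g⁻¹ (C.inv_mem hg) _ hy
    simpa [mul_assoc] using this
  · intro K hodd hQK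
    rw [Subgroup.eq_bot_iff_forall]
    have hAK : A ≤ Subgroup.normalizer (K : Set G) := hAQ.trans hQK
    obtain ⟨a, ha⟩ := IsPGroup.iff_card.1 (hp.to_le hAQ)
    have hcop : (Nat.card A).Coprime (Nat.card K) := by
      rw [ha]; exact Nat.Coprime.pow_left a (Nat.coprime_two_left.2 hodd)
    have hnc : ¬ IsCyclic A := by
      intro hc
      obtain ⟨g, hg⟩ := hc.exists_generator
      have h1 := orderOf_eq_card_of_forall_mem_zpowers hg
      have h2 : orderOf g ∣ 2 := orderOf_dvd_of_pow_eq_one (Subtype.ext (hAe.2 g g.2))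
      have h3 := Nat.le_of_dvd (by norm_num) h2
      omega
    have hinf : A ⊓ K = ⊥ := CfsgLib.Coprime.inf_eq_bot_of_coprime hcop
    have h1 : K ≤ Subgroup.centralizer (A : Set G) := by
      rw [← CfsgLib.Coprime.iSup_centralizer_eq hAe.1 hnc hAK hcop]
      refine iSup_le fun b g hg => ?_
      exact CfsgLib.Coprime.mem_centralizer_of_mem_normalizer hAK hinf hg.1 (hAn b.1 b.2.1 b.2.2 hg.2)
    intro g hg
    exact Subgroup.mem_bot.1 (hinf ▸ ⟨hAc (h1 hg), hg⟩)
  · rw [Subgroup.eq_bot_iff_forall]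
    rintro _ ⟨⟨x, rfl⟩, B, hB⟩
    rw [← hB, hint x B hB.symm, map_one]
  · refine le_antisymm (sup_le hqC hkC) fun g hg => ?_
    obtain ⟨x, B, rfl⟩ := (hC g).1 hg
    exact Subgroup.mul_mem_sup ⟨x, rfl⟩ ⟨B, rfl⟩

end CfsgLib.Trans3.LargeLinear
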