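import Cfsg.Agent.Lib.Trans3.Graph

/-! Fischer's rank three property for a primitive class of 3-transpositions of width at least two. -/

set_option autoImplicit false

namespace CfsgLib.Trans3

variable {G : Type*} [Group G] [Finite G] {D : Set G}
variable (hD : Cfsg.IsThreeTranspositionGroup D) (hP : Cfsg.IsPrimitiveUnderConj D)
include hD hP

omit [Finite G] hD hP in
theorem subset_of_ncard [Finite G] {s t : Set G} (h : s ⊆ t ∨ t ⊆ s) (hc : s.ncard ≤ t.ncard) :
    s ⊆ t :=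
  h.elim id fun h => (Set.eq_of_subset_of_ncard_le h hc).ge

/-- No member of `D` commutes with a point and with all its `Ω`-neighbours. -/
theorem no_common (Ω : G → G → Prop)
    (hconj : ∀ g z m, Ω z m → Ω (g * z * g⁻¹) (g * m * g⁻¹))
    (hsub : ∀ z m, Ω z m → z ∈ D ∧ m ∈ D ∧ ¬ Commute z m)
    (hstep : ∀ z c m, Ω z c → Ω c m → ¬ Commute z m → ∀ y ∈ D, Commute y z → Commute y c →
      ¬ Commute y m → Ω z m)
    {d c₀ : G} (h0 : Ω d c₀) {y : G} (hy : y ∈ D) (hyd : Commute y d)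
    (hall : ∀ m, Ω d m → Commute y m) : False := by
  let I : G → Set G := fun z => {u | u ∈ D ∧ Commute u z ∧ ∀ m, Ω z m → Commute u m}
  have himg : ∀ g z, I (g * z * g⁻¹) = (fun u => g * u * g⁻¹) '' I z := by
    intro g z
    ext u
    constructor
    · rintro ⟨hu, huz, hum⟩
      refine ⟨g⁻¹ * u * g, ⟨by simpa using hD.2.1 g⁻¹ u hu, ?_, fun m hm => ?_⟩, by group⟩
      · have := commute_conj_of_fix (g := g⁻¹) huz
        simpa [mul_assoc] using this
      · have := commute_conj_of_fix (g := g⁻¹) (hum _ (hconj g z m hm))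
        simpa [mul_assoc] using this
    · rintro ⟨v, ⟨hv, hvz, hvm⟩, rfl⟩
      refine ⟨hD.2.1 g v hv, commute_conj_of_fix hvz, fun m hm => ?_⟩
      have h1 := hconj g⁻¹ _ _ hm
      have h2 := commute_conj_of_fix (g := g) (hvm (g⁻¹ * m * g) (by simpa [mul_assoc] using h1))
      simpa [mul_assoc] using h2
  have hIeq : ∀ z c, Ω z c → I z = I c := by
    intro z c hzc
    obtain ⟨hzD, hcD, -⟩ := hsub z c hzc
    refine Set.eq_of_subset_of_ncard_le ?_ ?_
    · rintro u ⟨hu, huz, huall⟩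
      have huc := huall c hzc
      refine ⟨hu, huc, fun m hm => ?_⟩
      obtain ⟨-, hmD, hcm⟩ := hsub c m hm
      by_cases hzm : Commute z m
      · refine commute_of_commute_mid hD.1 hcD hmD hcm huc (huall _ ?_)
        have := hconj m z c hzc
        rwa [conj_eq_of_commute hzm.symm, self_conj_eq hD.1 hmD] at this
      · by_contra hn
        exact hn (huall m (hstep z c m hzc hm hzm u hu huz huc hn))
    · obtain ⟨g, hg⟩ := hP.1 z hzD c hcD
      rw [← hg, himg]
      exact (Set.ncard_image_of_injective _ (MulAut.conj g).injective).le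
  obtain ⟨hdD, hc₀, hn₀⟩ := hsub d c₀ h0
  have hconst : ∀ z ∈ D, I d = I z := fun z hz =>
    eq_of_equivariant hD hP (fun a b => I a = I b) (fun _ _ => rfl) (fun _ _ => Eq.symm)
      (fun _ _ _ => Eq.trans) (fun g a b h => by rw [himg, himg, h]) hdD hc₀
      (ne_of_not_commute hn₀) (hIeq d c₀ h0) hz
  refine eq_singleton_of_central hD hP hy fun z hz => ?_
  have : y ∈ I z := hconst z hz ▸ ⟨hy, hyd, hall⟩
  exact this.2.1

omit [Finite G] hP in
theorem ncard_common_conj [Finite G] {d c g : G} (hg : g * d * g⁻¹ = d) :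
    {y | y ∈ D ∧ Commute d y ∧ Commute (g * c * g⁻¹) y}.ncard =
      {y | y ∈ D ∧ Commute d y ∧ Commute c y}.ncard := by
  rw [← Set.ncard_image_of_injective {y | y ∈ D ∧ Commute d y ∧ Commute c y}
    (MulAut.conj g).injective]
  congr 1
  ext u
  constructor
  · rintro ⟨hu, hud, huc⟩
    refine ⟨g⁻¹ * u * g, ⟨by simpa using hD.2.1 g⁻¹ u hu, ?_, ?_⟩, by simp [mul_assoc]⟩
    · have := commute_conj_of_fix (g := g⁻¹) hud
      conv_lhs at this => rw [← hg]
      simpa [mul_assoc] using this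
    · simpa [mul_assoc] using commute_conj_of_fix (g := g⁻¹) huc
  · rintro ⟨v, ⟨hv, hvd, hvc⟩, rfl⟩
    refine ⟨hD.2.1 g v hv, ?_, commute_conj_of_fix hvc⟩
    have := commute_conj_of_fix (g := g) hvd
    rwa [hg] at this

variable (hw : ∃ a ∈ D, ∃ b ∈ D, a ≠ b ∧ Commute a b)
include hw

omit hw in
theorem hK_centralizer (d : G) :
    ∀ y ∈ D, Commute d y → y ∈ Subgroup.centralizer ({d} : Set G) := fun y _ h =>
  Subgroup.mem_centralizer_singleton_iff.2 h.symm

/-- The centraliser of `d` is transitive on the members not commuting with `d`. -/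
theorem trans_noncomm {d c₀ e₀ : G} (hd : d ∈ D) (hc₀ : c₀ ∈ D) (hdc : ¬ Commute d c₀)
    (he₀ : e₀ ∈ D) (hde : ¬ Commute d e₀) :
    ∃ g : G, g * d * g⁻¹ = d ∧ g * c₀ * g⁻¹ = e₀ := by
  let K := Subgroup.centralizer ({d} : Set G)
  have hK := hK_centralizer hD hP d
  have hmemK : ∀ g, g ∈ K → g * d * g⁻¹ = d := fun g hg =>
    conj_eq_of_commute (Subgroup.mem_centralizer_singleton_iff.1 hg)
  by_contra hne
  have hne' : ¬ Orb K c₀ e₀ := fun ⟨g, hg, h⟩ => hne ⟨g, hmemK g hg, h⟩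
  clear hne
  wlog hle : {y | y ∈ D ∧ Commute d y ∧ Commute e₀ y}.ncard ≤
      {y | y ∈ D ∧ Commute d y ∧ Commute c₀ y}.ncard generalizing c₀ e₀
  · exact this he₀ hde hc₀ hdc (fun h => hne' h.symm) (le_of_not_ge hle)
  let Ω : G → G → Prop := fun z m => ∃ g : G, g * d * g⁻¹ = z ∧ g * c₀ * g⁻¹ = m
  have hconj : ∀ g z m, Ω z m → Ω (g * z * g⁻¹) (g * m * g⁻¹) := by
    rintro g _ _ ⟨k, rfl, rfl⟩
    exact ⟨g * k, by group, by group⟩
  have hsub : ∀ z m, Ω z m → z ∈ D ∧ m ∈ D ∧ ¬ Commute z m := by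
    rintro _ _ ⟨g, rfl, rfl⟩
    exact ⟨conj_mem hD hd, conj_mem hD hc₀, fun h => hdc ((commute_conj_iff' g d c₀).1 h)⟩
  have hΩK : ∀ z m n, Ω z m → Orb (Subgroup.centralizer ({z} : Set G)) m n → Ω z n := by
    rintro z m n h ⟨g, hg, rfl⟩
    have := hconj g z m h
    rwa [conj_eq_of_commute (Subgroup.mem_centralizer_singleton_iff.1 hg)] at this
  -- every common partner of `d` and `e₀` commutes with all `Ω`-neighbours of `d`
  have hall : ∀ y ∈ D, Commute d y → Commute e₀ y → ∀ m, Ω d m → Commute y m := by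
    rintro y hy hdy hey m hm
    obtain ⟨g, hg, rfl⟩ := hm
    have horb : Orb K c₀ (g * c₀ * g⁻¹) :=
      ⟨g, Subgroup.mem_centralizer_singleton_iff.2 (commute_of_conj_eq hg), rfl⟩
    have hsub' := subset_of_ncard
      (comparable hD hd hK he₀ (conj_mem hD hc₀) hde
        (fun h => hdc ((commute_conj_iff' g d c₀).1 (by rwa [hg])))
        fun h => hne' (horb.trans h.symm))
      (by rw [ncard_common_conj hD hg]; exact hle)
    exact (hsub' ⟨hy, hdy, hey⟩).2.2.symm
  have hempty : ∀ y ∈ D, Commute d y → ¬ Commute e₀ y := by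
    intro y hy hdy hey
    refine no_common hD hP Ω hconj hsub ?_ (⟨1, by simp, by simp⟩ : Ω d c₀) hy hdy.symm (hall y hy hdy hey)
    intro z c m hzc hcm hzm u hu huz huc hum
    obtain ⟨hzD, hcD, hnzc⟩ := hsub z c hzc
    obtain ⟨-, hmD, hncm⟩ := hsub c m hcm
    by_contra hnot
    have hmid : ¬ Commute z (c * m * c) := fun h =>
      hnot (hΩK z c m hzc (orb_of_mid hD (hK_centralizer hD hP z) hcD hmD hncm h))
    have hmid' : ¬ Commute c (z * m * z) := by
      intro h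
      apply hmid
      have h1 := commute_conj_of_fix (g := z) h
      rw [self_conj_eq hD.1 hzD, self_conj_eq hD.1 hzD,
        show z * (z * m * z) * z = (z * z) * m * (z * z) by group, sq_one hD.1 hzD, one_mul,
        mul_one, braid hD.1 hzD hcD hnzc] at h1
      have h2 := commute_conj_of_fix (g := c) h1
      rwa [self_conj_eq hD.1 hcD, self_conj_eq hD.1 hcD,
        show c * (c * z * c) * c = (c * c) * z * (c * c) by group, sq_one hD.1 hcD, one_mul,
        mul_one] at h2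
    have h3 : Ω c (z * m * z) := hΩK c m _ hcm (orb_third hD hcD (hK_centralizer hD hP c)
      hzD hmD hu huc.symm huz hum hncm hzm hmid')
    have h4 := hconj z _ _ h3
    rw [self_conj_eq hD.1 hzD, self_conj_eq hD.1 hzD,
      show z * (z * m * z) * z = (z * z) * m * (z * z) by group, sq_one hD.1 hzD, one_mul,
      mul_one, braid hD.1 hzD hcD hnzc] at h4
    have h5 := hconj c _ _ h4
    rw [self_conj_eq hD.1 hcD, self_conj_eq hD.1 hcD,
      show c * (c * z * c) * c = (c * c) * z * (c * c) by group, sq_one hD.1 hcD, one_mul,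
      mul_one] at h5
    exact hnot (hΩK z _ m h5 (orb_third hD hzD (hK_centralizer hD hP z)
      hcD hmD hu huz.symm huc hum hzm hncm hmid).symm)
  -- the component of `d` avoids the orbit of `e₀`
  refine (closed_eq_univ hD hP hw
    (Z := {z | z ∈ D ∧ ¬ (¬ Commute d z ∧ Orb K e₀ z)}) hd
    ⟨hd, fun h => h.1 (Commute.refl d)⟩ ?_ he₀).2 ⟨hde, Orb.rfl' e₀⟩
  · rintro z ⟨hz, hzne⟩ w hwD - hzw
    refine ⟨hwD, fun ⟨hdw, horb⟩ => ?_⟩
    by_cases hdz : Commute d z
    · obtain ⟨g, hg, rfl⟩ := horb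
      have h1 := commute_conj_of_fix (g := g⁻¹) hzw
      have h2 := commute_conj_of_fix (g := g⁻¹) hdz
      rw [conj_eq_of_commute (g := g⁻¹) (d := d)
        (Subgroup.mem_centralizer_singleton_iff.1 (inv_mem hg))] at h2
      refine hempty _ (by simpa using hD.2.1 g⁻¹ z hz) ?_ ?_
      · simpa [mul_assoc] using h2
      · simpa [mul_assoc] using h1.symm
    · exact hzne ⟨hdz, horb.trans (orb_of_commute hD hd hK hwD hz hdw hdz hzw.symm)⟩

/-- The members commuting with `d` generate a subgroup transitive on the other members. -/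
theorem trans_noncomm_closure {d c₀ e₀ : G} (hd : d ∈ D) (hc₀ : c₀ ∈ D) (hdc : ¬ Commute d c₀)
    (he₀ : e₀ ∈ D) (hde : ¬ Commute d e₀) :
    ∃ g ∈ Subgroup.closure {y : G | y ∈ D ∧ Commute d y}, g * c₀ * g⁻¹ = e₀ := by
  let K := Subgroup.closure {y : G | y ∈ D ∧ Commute d y}
  have hK : ∀ y ∈ D, Commute d y → y ∈ K := fun y h h' => Subgroup.subset_closure ⟨h, h'⟩
  by_contra hne
  have hne' : ¬ Orb K c₀ e₀ := fun ⟨g, hg, h⟩ => hne ⟨g, hg, h⟩
  let S : G → Set G := fun c => {y | y ∈ D ∧ Commute d y ∧ Commute c y}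
  have heq : ∀ c e, c ∈ D → e ∈ D → ¬ Commute d c → ¬ Commute d e → ¬ Orb K c e → S c = S e := by
    intro c e hc he hdc hde hn
    obtain ⟨g, hg, rfl⟩ := trans_noncomm hD hP hw hd hc hdc he hde
    have hcard := ncard_common_conj hD (c := c) hg
    rcases comparable hD hd hK hc he hdc hde hn with h | h
    · exact Set.eq_of_subset_of_ncard_le h hcard.le
    · exact (Set.eq_of_subset_of_ncard_le h hcard.ge).symm
  have hall : ∀ m ∈ D, ¬ Commute d m → S m = S c₀ := by
    intro m hm hdm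
    by_cases h : Orb K m c₀
    · have h' : ¬ Orb K m e₀ := fun h' => hne' (h.symm.trans h')
      rw [heq m e₀ hm he₀ hdm hde h', heq c₀ e₀ hc₀ he₀ hdc hde hne']
    · exact heq m c₀ hm hc₀ hdm hdc h
  have hempty : ∀ m ∈ D, ¬ Commute d m → ∀ y ∈ D, Commute d y → ¬ Commute m y := by
    intro m hm hdm y hy hdy hmy
    refine no_common hD hP (fun z n => z ∈ D ∧ n ∈ D ∧ ¬ Commute z n)
      (fun g z n h => ⟨conj_mem hD h.1, conj_mem hD h.2.1,
        fun h' => h.2.2 ((commute_conj_iff' g z n).1 h')⟩) (fun _ _ h => h)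
      (fun z c n hzc hcn hzn _ _ _ _ _ => ⟨hzc.1, hcn.2.1, hzn⟩) ⟨hd, hc₀, hdc⟩ hy hdy.symm
      fun n hn => ?_
    have : y ∈ S n := by rw [hall n hn.2.1 hn.2.2, ← hall m hm hdm]; exact ⟨hy, hdy, hmy⟩
    exact this.2.2.symm
  exact hdc (closed_eq_univ hD hP hw (Z := {z | z ∈ D ∧ Commute d z}) hd ⟨hd, Commute.refl d⟩
    (fun z hz w hwD _ hzw => ⟨hwD, by_contra fun h => hempty w hwD h z hz.1 hz.2 hzw.symm⟩)
    hc₀).2

/-- The centraliser of `d` is transitive on the members commuting with `d` other than `d`. -/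
theorem trans_comm {d x x' : G} (hd : d ∈ D) (hx : x ∈ D) (hxd : x ≠ d) (hdx : Commute d x)
    (hx' : x' ∈ D) (hxd' : x' ≠ d) (hdx' : Commute d x') :
    ∃ g : G, g * d * g⁻¹ = d ∧ g * x * g⁻¹ = x' := by
  by_contra hne
  wlog hle : {c | c ∈ D ∧ ¬ Commute d c ∧ Commute x c}.ncard ≤
      {c | c ∈ D ∧ ¬ Commute d c ∧ Commute x' c}.ncard generalizing x x'
  · refine this hx' hxd' hdx' hx hxd hdx (fun ⟨g, h1, h2⟩ => hne ⟨g⁻¹, ?_, ?_⟩) (le_of_not_ge hle)
    · conv_lhs => rw [← h1]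
      group
    · rw [← h2]; group
  let T : G → Set G := fun u => {c | c ∈ D ∧ ¬ Commute d c ∧ Commute u c}
  have hcmp : ∀ u ∈ D, u ≠ d → Commute d u →
      (¬ ∃ g : G, g * d * g⁻¹ = d ∧ g * u * g⁻¹ = x') → T u ⊆ T x' ∨ T x' ⊆ T u := by
    intro u hu hud hdu hn
    by_contra h
    obtain ⟨h1, h2⟩ := not_or.1 h
    obtain ⟨c₂, ⟨hc₂, hdc₂, huc₂⟩, hc₂'⟩ := Set.not_subset.1 h1
    obtain ⟨c₁, ⟨hc₁, hdc₁, hxc₁⟩, hc₁'⟩ := Set.not_subset.1 h2
    have hn₁ : ¬ Commute u c₁ := fun h' => hc₁' ⟨hc₁, hdc₁, h'⟩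
    have hn₂ : ¬ Commute x' c₂ := fun h' => hc₂' ⟨hc₂, hdc₂, h'⟩
    have hux : Commute u x' := by
      by_contra hn'
      apply hn
      refine ⟨x' * u * x', ?_, ?_⟩
      · exact conj_eq_of_commute ((hdx'.mul_right hdu).mul_right hdx').symm
      · rw [self_conj_eq hD.1 (self_conj_mem hD hx' hu) u]
        calc x' * u * x' * u * (x' * u * x') = (u * x' * u) * u * (x' * u * x') := by
              rw [braid hD.1 hx' hu fun h' => hn' h'.symm]
          _ = u * x' * (u * u) * x' * u * x' := by group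
          _ = u * (x' * x') * u * x' := by rw [sq_one hD.1 hu]; group
          _ = x' := by rw [sq_one hD.1 hx', mul_one, sq_one hD.1 hu, one_mul]
    -- `s` swaps `d` and `u`; `g₁` moves `d` to `u` fixing `x'`; `g₂` moves `d` to `x'` fixing `u`
    obtain ⟨φ, f1, f2, f3⟩ := exists_hom_perm_four (sq_one hD.1 hd) (sq_one hD.1 hc₁)
      (sq_one hD.1 hu) hdu.eq (braid hD.1 hd hc₁ hdc₁)
      (braid hD.1 hc₁ hu fun h' => hn₁ h'.symm)
    obtain ⟨ψ, k1, k2, k3⟩ := exists_hom_perm_four (sq_one hD.1 hd) (sq_one hD.1 hc₂)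
      (sq_one hD.1 hx') hdx'.eq (braid hD.1 hd hc₂ hdc₂)
      (braid hD.1 hc₂ hx' fun h' => hn₂ h'.symm)
    let s := φ (Equiv.swap 0 3 * Equiv.swap 1 2)
    have hs1 : s * d * s⁻¹ = u := by
      simp only [s]; rw [← f1, ← f3]; simp only [← map_inv, ← map_mul]
      exact congrArg φ (by decide +kernel)
    have hs2 : s * u * s⁻¹ = d := by
      simp only [s]; rw [← f1, ← f3]; simp only [← map_inv, ← map_mul]
      exact congrArg φ (by decide +kernel)
    let g₁ := c₁ * u * c₁ * (d * c₁ * d)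
    have hg1 : g₁ * d * g₁⁻¹ = u := by
      simp only [g₁]; rw [← f1, ← f2, ← f3]; simp only [← map_inv, ← map_mul]
      exact congrArg φ (by decide +kernel)
    have hg1' : Commute g₁ x' :=
      ((hxc₁.symm.mul_left hux).mul_left hxc₁.symm).mul_left
        ((hdx'.mul_left hxc₁.symm).mul_left hdx')
    let g₂ := c₂ * x' * c₂ * (d * c₂ * d)
    have hg2 : g₂ * d * g₂⁻¹ = x' := by
      simp only [g₂]; rw [← k1, ← k2, ← k3]; simp only [← map_inv, ← map_mul]
      exact congrArg ψ (by decide +kernel)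
    have hg2' : Commute g₂ u :=
      ((huc₂.symm.mul_left hux.symm).mul_left huc₂.symm).mul_left
        ((hdu.mul_left huc₂.symm).mul_left hdu)
    refine hn ⟨g₁⁻¹ * g₂ * s, ?_, ?_⟩
    · calc g₁⁻¹ * g₂ * s * d * (g₁⁻¹ * g₂ * s)⁻¹
          = g₁⁻¹ * (g₂ * (s * d * s⁻¹) * g₂⁻¹) * g₁ := by group
        _ = g₁⁻¹ * (g₁ * d * g₁⁻¹) * g₁ := by rw [hs1, conj_eq_of_commute hg2', hg1]
        _ = d := by group
    · calc g₁⁻¹ * g₂ * s * u * (g₁⁻¹ * g₂ * s)⁻¹
          = g₁⁻¹ * (g₂ * (s * u * s⁻¹) * g₂⁻¹) * g₁ := by group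
        _ = g₁⁻¹ * (g₁ * x' * g₁⁻¹) * g₁ := by rw [hs2, hg2, conj_eq_of_commute hg1']
        _ = x' := by group
  -- `x` commutes with some member not commuting with `d`
  obtain ⟨c', hc', hdc', hxc'⟩ : ∃ c ∈ D, ¬ Commute d c ∧ Commute x c := by
    by_contra hno
    let C : G → Set G := fun z => {y | y ∈ D ∧ Commute z y}
    have hCimg : ∀ g z, C (g * z * g⁻¹) = (fun u => g * u * g⁻¹) '' C z := by
      intro g z
      ext u
      constructor
      · rintro ⟨hu, huz⟩
        exact ⟨g⁻¹ * u * g, ⟨by simpa using hD.2.1 g⁻¹ u hu,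
          by simpa [mul_assoc] using commute_conj_of_fix (g := g⁻¹) huz⟩, by group⟩
      · rintro ⟨v, ⟨hv, hvz⟩, rfl⟩
        exact ⟨hD.2.1 g v hv, commute_conj_of_fix hvz⟩
    have hCeq : C x = C d := by
      refine Set.eq_of_subset_of_ncard_le (fun c hc => ⟨hc.1, ?_⟩) ?_
      · by_contra h; exact hno ⟨c, hc.1, h, hc.2⟩
      · obtain ⟨g, hg⟩ := hP.1 x hx d hd
        rw [← hg, hCimg]
        exact (Set.ncard_image_of_injective _ (MulAut.conj g).injective).le
    obtain ⟨e, he, hde⟩ := exists_noncomm_of_primitive hD hP hd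
    refine hde ?_
    have h := eq_of_equivariant hD hP (fun a b => C a = C b) (fun _ _ => rfl) (fun _ _ => Eq.symm)
      (fun _ _ _ => Eq.trans) (fun g a b h => by rw [hCimg, hCimg, h]) hd hx hxd.symm hCeq.symm he
    have : d ∈ C e := h ▸ (⟨hd, Commute.refl d⟩ : d ∈ C d)
    exact this.2.symm
  refine no_common hD hP (fun z n => z ∈ D ∧ n ∈ D ∧ ¬ Commute z n)
    (fun g z n h => ⟨conj_mem hD h.1, conj_mem hD h.2.1,
      fun h' => h.2.2 ((commute_conj_iff' g z n).1 h')⟩) (fun _ _ h => h)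
    (fun z c n hzc hcn hzn _ _ _ _ _ => ⟨hzc.1, hcn.2.1, hzn⟩) ⟨hd, hc', hdc'⟩ hx' hdx'.symm
    fun c hc => ?_
  obtain ⟨g, hgd, rfl⟩ := trans_noncomm hD hP hw hd hc' hdc' hc.2.1 hc.2.2
  have hcard : (T (g * x * g⁻¹)).ncard = (T x).ncard := by
    rw [← Set.ncard_image_of_injective (T x) (MulAut.conj g).injective]
    congr 1
    ext u
    constructor
    · rintro ⟨hu, hdu, hxu⟩
      refine ⟨g⁻¹ * u * g, ⟨by simpa using hD.2.1 g⁻¹ u hu, fun h => hdu ?_,
        by simpa [mul_assoc] using commute_conj_of_fix (g := g⁻¹) hxu⟩, by simp [mul_assoc]⟩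
      have := commute_conj_of_fix (g := g) h
      rwa [hgd, show g * (g⁻¹ * u * g) * g⁻¹ = u by group] at this
    · rintro ⟨v, ⟨hv, hdv, hxv⟩, rfl⟩
      exact ⟨hD.2.1 g v hv, fun h => hdv ((commute_conj_iff' g d v).1 (by rwa [hgd])),
        commute_conj_of_fix hxv⟩
  have h1 := subset_of_ncard (hcmp (g * x * g⁻¹) (conj_mem hD hx)
    (fun h => hxd (by
      have : g * x * g⁻¹ = g * d * g⁻¹ := h.trans hgd.symm
      simpa using this))
    (by have := commute_conj_of_fix (g := g) hdx; rwa [hgd] at this)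
    fun ⟨k, k1, k2⟩ => hne ⟨k * g, by
      rw [show k * g * d * (k * g)⁻¹ = k * (g * d * g⁻¹) * k⁻¹ by group, hgd, k1], by
      rw [← k2]; group⟩) (hcard.le.trans hle)
  exact (h1 ⟨conj_mem hD hc', hc.2.2, commute_conj_of_fix hxc'⟩).2.2

end CfsgLib.Trans3
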