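import Cfsg.Agent.Lib.Trans3.Component
import Cfsg.Agent.Lib.Trans3.RankThree

/-! When conjugation on a class of 3-transpositions is primitive. -/

set_option autoImplicit false

namespace CfsgLib.Trans3

open Subgroup

variable {G : Type*} [Group G] [Finite G] {D : Set G}

/-- A class is primitive if a normal subgroup of index at most two lies in every non-central
normal subgroup and `O₂` is central. -/
theorem primitive_of_normal (hD : Cfsg.IsThreeTranspositionClass D)
    (hD2 : ∃ a ∈ D, ∃ b ∈ D, a ≠ b) (h2 : Cfsg.pCore 2 G ≤ center G) (L : Subgroup G) [L.Normal]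
    (hidx : L.index ≤ 2) (hmin : ∀ K : Subgroup G, K.Normal → L ≤ K ∨ K ≤ center G) :
    Cfsg.IsPrimitiveUnderConj D := by
  have hG := class_isGroup hD
  refine ⟨fun a ha b hb => class_exists_conj hD ha hb, hD2, fun B hBD hblock => ?_⟩
  by_contra hnot
  obtain ⟨hns, hne⟩ := not_or.1 hnot
  obtain ⟨d, hdB, b, hbB, hdb⟩ : ∃ d ∈ B, ∃ b ∈ B, d ≠ b := by
    by_contra h
    exact hns fun u hu v hv => not_not.1 fun huv => h ⟨u, hu, v, hv, huv⟩
  have hd := hBD hdB
  have hb := hBD hbB
  let T : G → Set G := fun g => (fun x => g * x * g⁻¹) '' B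
  have hTmul : ∀ g h, T (g * h) = (fun x => g * x * g⁻¹) '' T h := fun g h => by
    simp only [T, Set.image_image]; congr 1; funext x; group
  have hmem : ∀ g h x, x ∈ T h → g * x * g⁻¹ ∈ T (g * h) := fun g h x hx => by
    rw [hTmul]; exact ⟨x, hx, rfl⟩
  have hT1 : T 1 = B := by simp [T]
  have hTeq : ∀ g h x, x ∈ T g → x ∈ T h → T g = T h := by
    intro g h x hg hh
    rcases hblock (h⁻¹ * g) with he | hdisj
    · have he' : T (h⁻¹ * g) = T 1 := he.trans hT1.symm
      have h3 := hTmul h (h⁻¹ * g)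
      rw [mul_inv_cancel_left, he'] at h3
      rw [h3, ← hTmul, mul_one]
    · exact (Set.disjoint_iff.1 hdisj
        (⟨hmem h⁻¹ g x hg, by have := hmem h⁻¹ h x hh; rwa [inv_mul_cancel, hT1] at this⟩ :
          h⁻¹ * x * h⁻¹⁻¹ ∈ T (h⁻¹ * g) ∩ B)).elim
  have hfix : ∀ c ∈ B, T c = T 1 := fun c hc =>
    hTeq c 1 c ⟨c, hc, by group⟩ (hT1.symm ▸ hc)
  have hTD : ∀ h, ∀ x ∈ T h, x ∈ D := by
    rintro h _ ⟨z, hz, rfl⟩; exact class_conj_mem hD h (hBD hz)
  have move : ∀ c ∈ B, ∀ c' ∈ B, ∀ h, T (c * h) ≠ T h → T (c * h) = T (c' * h) := by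
    intro c hc c' hc' h hmv
    have hcD := hBD hc
    have hc'D := hBD hc'
    have heT : h * d * h⁻¹ ∈ T h := ⟨d, hdB, rfl⟩
    have he := hTD h _ heT
    have hnc : ¬ Commute c (h * d * h⁻¹) := fun hcom =>
      hmv (hTeq _ _ _ (by have := hmem c h _ heT; rwa [conj_eq_of_commute hcom] at this) heT)
    have hTe : T (c * h) = T (h * d * h⁻¹) :=
      hTeq _ _ (h * d * h⁻¹ * c * (h * d * h⁻¹)) (by
        have := hmem c h _ heT
        rwa [self_conj_eq hD.1 hcD, braid hD.1 hcD he hnc] at this) (by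
        have := hmem (h * d * h⁻¹) 1 c (hT1.symm ▸ hc)
        rwa [mul_one, self_conj_eq hD.1 he] at this)
    by_cases hmv' : T (c' * h) = T h
    · exfalso
      by_cases hcom : Commute c' (h * d * h⁻¹)
      · have h1 : T (h * d * h⁻¹) = T 1 := by
          have := hmem (h * d * h⁻¹) 1 c' (hT1.symm ▸ hc')
          rw [mul_one, conj_eq_of_commute hcom.symm] at this
          exact hTeq _ _ c' this (hT1.symm ▸ hc')
        have h2 := hTmul c (c * h)
        rw [← mul_assoc, sq_one hD.1 hcD, one_mul, hTe, h1, ← hTmul, mul_one, hfix c hc] at h2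
        exact hmv ((hTe.trans h1).trans h2.symm)
      · refine hmv (hTe.trans (hTeq _ _ (h * d * h⁻¹ * c' * (h * d * h⁻¹)) ?_ ?_))
        · have := hmem (h * d * h⁻¹) 1 c' (hT1.symm ▸ hc')
          rwa [mul_one, self_conj_eq hD.1 he] at this
        · have := hmem c' h _ heT
          rwa [hmv', self_conj_eq hD.1 hc'D, braid hD.1 hc'D he hcom] at this
    · rw [hTe]
      refine (hTeq _ _ (h * d * h⁻¹ * c' * (h * d * h⁻¹)) ?_ ?_).symm
      · have := hmem c' h _ heT
        have hnc' : ¬ Commute c' (h * d * h⁻¹) := fun hcom =>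
          hmv' (hTeq _ _ _ (by have := hmem c' h _ heT; rwa [conj_eq_of_commute hcom] at this) heT)
        rwa [self_conj_eq hD.1 hc'D, braid hD.1 hc'D he hnc'] at this
      · have := hmem (h * d * h⁻¹) 1 c' (hT1.symm ▸ hc')
        rwa [mul_one, self_conj_eq hD.1 he] at this
  let K : Subgroup G :=
    { carrier := {g | ∀ h, T (g * h) = T h}
      one_mem' := fun h => by rw [one_mul]
      mul_mem' := fun {g k} hg hk h => by rw [mul_assoc, hg (k * h), hk h]
      inv_mem' := fun {g} hg h => by rw [← hg (g⁻¹ * h), mul_inv_cancel_left] }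
  have hKn : K.Normal := ⟨fun g hg k h => by
    rw [show k * g * k⁻¹ * h = k * (g * (k⁻¹ * h)) by group, hTmul k, hg (k⁻¹ * h), ← hTmul,
      mul_inv_cancel_left]⟩
  have hdbK : d * b ∈ K := by
    intro h
    have key : T (d * h) = T (b * h) := by
      by_cases hdm : T (d * h) = T h
      · by_cases hbm : T (b * h) = T h
        · rw [hdm, hbm]
        · exact (move b hbB d hdB h hbm).symm
      · exact move d hdB b hbB h hdm
    rw [mul_assoc, hTmul d (b * h), ← key, ← hTmul, ← mul_assoc, sq_one hD.1 hd, one_mul]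
  rcases hmin K hKn with hLK | hKZ
  · apply hne
    have hall : ∀ g, T g = T 1 := by
      intro g
      by_cases hgL : g ∈ L
      · simpa using hLK hgL 1
      · by_cases hdL : d ∈ L
        · exfalso; apply hgL
          have hDL : closure D ≤ L := by
            rw [closure_le]
            intro e he
            obtain ⟨k, rfl⟩ := class_exists_conj hD hd he
            exact (inferInstance : L.Normal).conj_mem d hdL k
          exact hDL (hD.2.2 ▸ mem_top g)
        · have hi : L.index = 2 := by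
            have h0 : L.index ≠ 0 := index_ne_zero_of_finite
            have h1 : L.index ≠ 1 := fun h => hdL (index_eq_one.1 h ▸ mem_top d)
            omega
          have : g * d ∈ L := (mul_mem_iff_of_index_two hi).2 (by tauto)
          have h1 : T (g * d * d) = T d := hLK this d
          rwa [mul_assoc, sq_one hD.1 hd, mul_one, hfix d hdB] at h1
    refine Set.Subset.antisymm hBD fun x hx => ?_
    obtain ⟨g, rfl⟩ := class_exists_conj hD hd hx
    rw [← hT1, ← hall g]
    exact ⟨d, hdB, rfl⟩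
  · apply hdb
    have hz := hKZ hdbK
    have hrel : VRel D d b := by
      refine ⟨hd, hb, fun e _ => ⟨fun h => ?_, fun h => ?_⟩⟩
      · have := (Commute.mul_left (mem_center_iff.1 hz e).symm h : Commute (d * b * b) e)
        rwa [mul_assoc, sq_one hD.1 hb, mul_one] at this
      · have := (Commute.mul_left h (mem_center_iff.1 hz e).symm : Commute (d * (d * b)) e)
        rwa [invol_cancel (hD.1.1 d hd)] at this
    obtain ⟨e, he, hn⟩ := exists_noncomm hD hD2 hd
    have hv := conj_eq_of_vRel hG hrel he hn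
    have hm : e * (d * b) * e ∈ center G := by
      have := h2 ((vRel_iff hG hd).1 hrel).2
      have := (inferInstance : (center G).Normal).conj_mem _ this e
      rwa [self_conj_eq hD.1 he] at this
    rw [← mem_center_iff.1 hm d, mul_assoc, mul_inv_cancel, mul_one] at hv
    exact hv

theorem primitive_isClass (hD : Cfsg.IsThreeTranspositionGroup D)
    (hP : Cfsg.IsPrimitiveUnderConj D) : Cfsg.IsThreeTranspositionClass D := by
  obtain ⟨d, hd, -⟩ := hP.2.1
  refine ⟨hD.1, ⟨d, hd, Set.ext fun x => ⟨fun hx => ?_, fun hx => ?_⟩⟩, hD.2.2⟩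
  · obtain ⟨g, rfl⟩ := hP.1 d hd x hx; exact isConj_iff.2 ⟨g, rfl⟩
  · obtain ⟨g, rfl⟩ := isConj_iff.1 hx; exact conj_mem hD hd

variable (hD : Cfsg.IsThreeTranspositionGroup D) (hP : Cfsg.IsPrimitiveUnderConj D)
include hD hP

theorem primitive_pCore_two : Cfsg.pCore 2 G ≤ center G := by
  by_contra h
  have hC := primitive_isClass hD hP
  obtain ⟨d, hd, -⟩ := hP.2.1
  obtain ⟨v, hv, hne⟩ := exists_vRel_ne hC h hd
  obtain ⟨e, he, hde⟩ := exists_noncomm_of_primitive hD hP hd
  have hR := eq_of_equivariant hD hP (VRel D) (fun a ha => ⟨ha, ha, fun _ _ => Iff.rfl⟩)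
    (fun a b h => ⟨h.2.1, h.1, fun e he => (h.2.2 e he).symm⟩)
    (fun a b c h h' => ⟨h.1, h'.2.1, fun e he => (h'.2.2 e he).trans (h.2.2 e he)⟩)
    (fun g a b h => h.conj hD g) hd hv.2.1 hne.symm hv he
  exact hde hR.commute

theorem primitive_pCore_three (hw : ∃ a ∈ D, ∃ b ∈ D, a ≠ b ∧ Commute a b) :
    Cfsg.pCore 3 G ≤ center G := by
  by_contra h
  have hC := primitive_isClass hD hP
  obtain ⟨d, hd, -⟩ := hP.2.1
  obtain ⟨w, hw', hne⟩ := exists_wRel_ne hC h hd
  obtain ⟨e, he, hed, hde⟩ := exists_comm hD hP hw hd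
  exact WRel.not_commute (eq_of_equivariant hD hP (WRel D) (fun a ha => ⟨ha, ha, rfl⟩)
    (fun a b h => ⟨h.2.1, h.1, h.2.2.symm⟩)
    (fun a b c h h' => ⟨h.1, h'.2.1, h.2.2.trans h'.2.2⟩)
    (fun g a b h => h.conj hD g) hd hw'.2.1 hne.symm hw' he) hed hde

end CfsgLib.Trans3
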