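import Cfsg.Agent.Lib.Trans3.Primitive

/-! Index-two and simplicity facts for classes of 3-transpositions. -/

set_option autoImplicit false

namespace CfsgLib.Trans3

open Subgroup
open scoped commutatorElement

variable {G : Type*} [Group G] [Finite G] {D : Set G}

theorem index_le_two_of_congr (hD : Cfsg.IsThreeTranspositionClass D) (N : Subgroup G) [N.Normal]
    (h : ∀ a ∈ D, ∀ b ∈ D, a⁻¹ * b ∈ N) : N.index ≤ 2 ∧ commutator G ≤ N := by
  obtain ⟨d, hd, -⟩ := hD.2.1
  have hq : ∀ q : G ⧸ N, q = 1 ∨ q = (d : G ⧸ N) := by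
    intro q
    obtain ⟨g, rfl⟩ := QuotientGroup.mk_surjective q
    have hg : g ∈ closure D := hD.2.2 ▸ mem_top g
    have hdd : (d : G ⧸ N) * d = 1 := by
      rw [← QuotientGroup.mk_mul, sq_one hD.1 hd, QuotientGroup.mk_one]
    induction hg using closure_induction with
    | mem x hx => exact Or.inr (QuotientGroup.eq.2 (h d hd x hx)).symm
    | one => exact Or.inl (QuotientGroup.mk_one N)
    | mul a b _ _ h1 h2 =>
      rw [QuotientGroup.mk_mul]
      rcases h1 with h1 | h1 <;> rcases h2 with h2 | h2 <;> simp [h1, h2, hdd]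
    | inv a _ h1 =>
      rw [QuotientGroup.mk_inv]
      rcases h1 with h1 | h1
      · simp [h1]
      · exact Or.inr (by rw [h1]; exact inv_eq_of_mul_eq_one_right hdd)
  constructor
  · rw [index_eq_card]
    have hs : Function.Surjective (fun b : Bool => if b then (1 : G ⧸ N) else (d : G ⧸ N)) :=
      fun q => (hq q).elim (fun h => ⟨true, h.symm⟩) fun h => ⟨false, h.symm⟩
    simpa using Nat.card_le_card_of_surjective _ hs
  · show ⁅(⊤ : Subgroup G), ⊤⁆ ≤ N
    rw [commutator_le]
    intro a _ b _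
    rw [← QuotientGroup.eq_one_iff, commutatorElement_def]
    rcases hq a with h1 | h1 <;> rcases hq b with h2 | h2 <;>
      simp [QuotientGroup.mk_mul, QuotientGroup.mk_inv, h1, h2]

omit [Finite G] in
theorem congr_commutator (hD : Cfsg.IsThreeTranspositionClass D) {a b : G} (ha : a ∈ D)
    (hb : b ∈ D) : a⁻¹ * b ∈ commutator G := by
  obtain ⟨g, rfl⟩ := class_exists_conj hD ha hb
  have : ⁅a⁻¹, g⁆ ∈ commutator G := commutator_mem_commutator (mem_top _) (mem_top _)
  rwa [commutatorElement_def, inv_inv, show a⁻¹ * g * a * g⁻¹ = a⁻¹ * (g * a * g⁻¹) by group]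
    at this

omit [Finite G] in
theorem center_le_of_inf_commutator {K : Subgroup G} (hK : K.Normal)
    (h : K ⊓ commutator G = ⊥) : K ≤ center G := fun x hx => mem_center_iff.2 fun g => by
  have hm : g * x * g⁻¹ * x⁻¹ ∈ K ⊓ commutator G :=
    ⟨K.mul_mem (hK.conj_mem x hx g) (K.inv_mem hx), commutator_mem_commutator (mem_top g) (mem_top x)⟩
  rw [h, mem_bot] at hm
  exact mul_inv_eq_iff_eq_mul.1 (mul_inv_eq_one.1 hm)

/-- With non-abelian simple commutator subgroup a class of 3-transpositions is primitive, of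
width at least two, and `O₂` is central. -/
theorem primitive_of_simple_commutator (hD : Cfsg.IsThreeTranspositionClass D)
    [IsSimpleGroup (commutator G)] (hnab : ∃ x y : commutator G, x * y ≠ y * x) :
    Cfsg.IsPrimitiveUnderConj D ∧ (∃ a ∈ D, ∃ b ∈ D, a ≠ b ∧ Commute a b) := by
  have hG := class_isGroup hD
  have hmin : ∀ K : Subgroup G, K.Normal → commutator G ≤ K ∨ K ≤ center G := by
    intro K hK
    rcases IsSimpleGroup.eq_bot_or_eq_top_of_normal (K.subgroupOf (commutator G)) inferInstance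
      with h | h
    · exact Or.inr (center_le_of_inf_commutator hK (disjoint_iff.1 (subgroupOf_eq_bot.1 h)))
    · exact Or.inl (subgroupOf_eq_top.1 h)
  have hnp : ∀ p : ℕ, p.Prime → ¬ IsPGroup p (commutator G) := by
    intro p hp h
    haveI := Fact.mk hp
    haveI := h.center_nontrivial
    obtain ⟨x, y, hxy⟩ := hnab
    have htop := (IsSimpleGroup.eq_bot_or_eq_top_of_normal (center (commutator G))
      inferInstance).resolve_left ((nontrivial_iff_ne_bot _).1 inferInstance)
    exact hxy (mem_center_iff.1 (htop ▸ mem_top y) x)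
  have hcore : ∀ p : ℕ, p.Prime → Cfsg.pCore p G ≤ center G := fun p hp =>
    (hmin _ CfsgLib.Amalgam.normal_pCore).resolve_left fun h =>
      hnp p hp (CfsgLib.Amalgam.isPGroup_pCore.to_le h)
  have hD2 : ∃ a ∈ D, ∃ b ∈ D, a ≠ b := by
    by_contra h
    obtain ⟨x, y, hxy⟩ := hnab
    have hbot : commutator G ≤ ⊥ := (index_le_two_of_congr hD ⊥ fun a ha b hb => by
      rw [not_not.1 fun hne => h ⟨a, ha, b, hb, hne⟩, inv_mul_cancel]; exact one_mem _).2
    exact hxy (Subtype.ext ((mem_bot.1 (hbot (x * y).2)).trans (mem_bot.1 (hbot (y * x).2)).symm))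
  refine ⟨primitive_of_normal hD hD2 (hcore 2 Nat.prime_two) (commutator G)
    (index_le_two_of_congr hD _ fun a ha b hb => congr_commutator hD ha hb).1 hmin, ?_⟩
  by_contra hw
  have hP := isPGroup_products (fun x hx => sq_one hD.1 hx)
    (fun x hx y hy => by
      by_cases h : x = y
      · rw [h, sq_one hD.1 hy, one_pow]
      · exact pow_three hD.1 hx hy fun hc => hw ⟨x, hx, y, hy, h, hc⟩)
    (fun x hx y hy => self_conj_mem hG hx hy)
  have hle := CfsgLib.Amalgam.le_pCore (closure_normal_of_conj_mem (by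
    rintro g _ ⟨a, ha, b, hb, rfl⟩
    exact ⟨_, hG.2.1 g a ha, _, hG.2.1 g b hb, by group⟩)) hP
  haveI := CfsgLib.Amalgam.normal_pCore (G := G) (p := 3)
  refine hnp 3 Nat.prime_three (CfsgLib.Amalgam.isPGroup_pCore.to_le
    (index_le_two_of_congr hD (Cfsg.pCore 3 G) fun a ha b hb => ?_).2)
  rw [inv_eq hD.1 ha]
  exact hle (subset_closure ⟨a, ha, b, hb, rfl⟩)

/-- The quasisimple subgroup lies in every non-central normal subgroup. -/
theorem quasisimple_minimal (hD : Cfsg.IsThreeTranspositionGroup D)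
    (h2 : Cfsg.pCore 2 G ≤ center G) (h3 : Cfsg.pCore 3 G ≤ center G) (L : Subgroup G) [L.Normal]
    (hL : Cfsg.IsQuasisimple L) (hF : Cfsg.generalizedFittingSubgroup G = L ⊔ center G)
    (K : Subgroup G) (hK : K.Normal) : L ≤ K ∨ K ≤ center G := by
  have hn : ((K ⊓ L).subgroupOf L).Normal := (inferInstance : ((K ⊓ L).subgroupOf L).Normal)
  rcases CfsgLib.Comp.eq_or_le_centralizer_of_subnormal hL inf_le_right hn.isSubnormal with h | h
  · exact Or.inl (inf_eq_right.1 h)
  · refine Or.inr (le_trans ?_ (centralizer_le_center hD h2 h3 hF))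
    rw [← commutator_eq_bot_iff_le_centralizer]
    refine CfsgLib.Comp.commutator_eq_bot_of_perfect (Subgroup.isPerfect_iff.1 hL.1) ?_
    rw [commutator_eq_bot_iff_le_centralizer]
    exact (le_inf (commutator_le_left K L) (commutator_le_right K L)).trans h

theorem index_le_two_of_connected (hD : Cfsg.IsThreeTranspositionClass D) (L : Subgroup G)
    [L.Normal] (hL : Cfsg.IsQuasisimple L) (hc : (Cfsg.commutingGraph D).Connected) :
    L.index ≤ 2 ∧ commutator G ≤ L := by
  refine index_le_two_of_congr hD L fun a ha b hb => ?_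
  obtain ⟨p⟩ := hc.preconnected ⟨a, ha⟩ ⟨b, hb⟩
  suffices key : ∀ (u v : D), (Cfsg.commutingGraph D).Walk u v → (u : G)⁻¹ * v ∈ L from key _ _ p
  intro u v w
  induction w with
  | nil => rw [inv_mul_cancel]; exact one_mem L
  | @cons x y z h _ ih =>
    have hxy : Commute (x : G) y := h.2.elim id Commute.symm
    have h1 : (x : G)⁻¹ * y ∈ L := congr_mod_component hD L hL x.2 y.2 (by
      rw [hxy.eq]; simp [mul_assoc])
    have h2 := mul_mem h1 ih
    rwa [mul_assoc, mul_inv_cancel_left] at h2

end CfsgLib.Trans3
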