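import Cfsg.Agent.Lib.Trans3.ExtraSquare
import Cfsg.Agent.Lib.Trans3.InnerCentral

/-!
# Abelian subgroups of extraspecial 2-groups
-/

set_option autoImplicit false

namespace CfsgLib.Trans3

open scoped commutatorElement

variable {E : Type*} [Group E] [Finite E]

/-- An abelian subgroup has order squared at most twice the group order. -/
theorem ex_abelian_sq_le (hE : Cfsg.IsExtraspecial 2 E) (A : Subgroup E)
    (hA : ∀ x ∈ A, ∀ y ∈ A, x * y = y * x) : Nat.card A ^ 2 ≤ 2 * Nat.card E := by
  classical
  letI : CommGroup (Subgroup.center E) :=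
    { (inferInstance : Group (Subgroup.center E)) with
      mul_comm := fun a b => Subtype.ext (Subgroup.mem_center_iff.1 b.2 a) }
  have hc := CfsgLib.Transfer.special_commutatorElement_mem_center hE.1
  set B := A ⊔ Subgroup.center E
  have hB : ∀ x ∈ B, ∀ y ∈ B, x * y = y * x := by
    have h1 : A ≤ Subgroup.centralizer (A : Set E) := fun x hx =>
      Subgroup.mem_centralizer_iff.2 fun y hy => hA y hy x hx
    have h2 : B ≤ Subgroup.centralizer (A : Set E) := sup_le h1 (Subgroup.center_le_centralizer _)
    have h3 : A ≤ Subgroup.centralizer (B : Set E) := fun x hx =>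
      Subgroup.mem_centralizer_iff.2 fun y hy => (Subgroup.mem_centralizer_iff.1 (h2 hy) x hx).symm
    have h4 : B ≤ Subgroup.centralizer (B : Set E) := sup_le h3 (Subgroup.center_le_centralizer _)
    exact fun x hx y hy => (Subgroup.mem_centralizer_iff.1 (h4 hx) y hy).symm
  set N := Subgroup.centralizer (B : Set E)
  haveI hN : N.Normal := ⟨fun n hn g => by
    have : g * n * g⁻¹ = ⁅g, n⁆ * n := by rw [commutatorElement_def]; group
    rw [this]
    exact Subgroup.mul_mem _ (Subgroup.center_le_centralizer _ (hc g n)) hn⟩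
  let cm : B → E →* Subgroup.center E := fun b => MonoidHom.mk'
    (fun x => ⟨⁅(b : E), x⁆, hc _ _⟩) fun x y =>
      Subtype.ext (CfsgLib.Transfer.commutatorElement_mul_right hc (b : E) x y)
  have hker : ∀ b : B, N ≤ (cm b).ker := fun b n hn => Subtype.ext
    (commutatorElement_eq_one_iff_mul_comm.2 (Subgroup.mem_centralizer_iff.1 hn b b.2))
  let F : B →* (E ⧸ N →* Subgroup.center E) := MonoidHom.mk'
    (fun b => QuotientGroup.lift N (cm b) (hker b)) fun a b => by
      refine MonoidHom.ext fun x => ?_
      induction x using QuotientGroup.induction_on with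
      | H y => exact Subtype.ext (CfsgLib.Transfer.commutatorElement_mul_left hc _ _ _)
  have hF : F.ker ≤ (Subgroup.center E).subgroupOf B := fun b hb => by
    rw [Subgroup.mem_subgroupOf, Subgroup.mem_center_iff]
    intro y
    have h1 : (F b) (QuotientGroup.mk y) = 1 := by rw [MonoidHom.mem_ker.1 hb]; rfl
    exact (commutatorElement_eq_one_iff_mul_comm.1 (congrArg Subtype.val h1)).symm
  haveI : Finite (E ⧸ N →* Subgroup.center E) :=
    Finite.of_injective _ (DFunLike.coe_injective (F := E ⧸ N →* Subgroup.center E))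
  have hk : Nat.card F.ker ≤ 2 := by
    refine le_trans (Nat.card_le_card_of_injective (fun k : F.ker =>
      (⟨((k : B) : E), hF k.2⟩ : Subgroup.center E)) fun a b h => ?_) hE.2.le
    exact Subtype.ext (Subtype.ext (congrArg (fun w : Subgroup.center E => (w : E)) h))
  have hr : Nat.card F.range ≤ Nat.card (E ⧸ N) :=
    (Nat.card_le_card_of_injective _ Subtype.val_injective).trans (card_hom_to_order_two_le hE.2)
  have hBN : Nat.card B ≤ Nat.card N := Nat.card_le_card_of_injective
    (Subgroup.inclusion (fun x hx => Subgroup.mem_centralizer_iff.2 fun y hy => hB y hy x hx : B ≤ N))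
    (Subgroup.inclusion_injective _)
  have h1 := F.ker.card_mul_index
  rw [Subgroup.index_ker] at h1
  have h2 : Nat.card (E ⧸ N) * Nat.card N = Nat.card E := (Subgroup.card_eq_card_quotient_mul_card_subgroup N).symm
  have hAB : Nat.card A ≤ Nat.card B := Nat.card_le_card_of_injective
    (Subgroup.inclusion (le_sup_left : A ≤ B)) (Subgroup.inclusion_injective _)
  calc Nat.card A ^ 2 ≤ Nat.card B * Nat.card B := by
        rw [sq]; exact Nat.mul_le_mul hAB hAB
    _ ≤ (2 * Nat.card (E ⧸ N)) * Nat.card N := by
        refine Nat.mul_le_mul ?_ hBN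
        rw [← h1]
        exact Nat.mul_le_mul hk hr
    _ = 2 * Nat.card E := by rw [mul_assoc, h2]

end CfsgLib.Trans3
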