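import Mathlib.GroupTheory.Sylow
import Mathlib.Tactic
import Cfsg.Prelude.Def_FischerSpaces
import Cfsg.Agent.Lib.Trans3.Basic

/-! Conjugation-closed generating sets of 3-transpositions. -/

set_option autoImplicit false

namespace CfsgLib.Trans3

variable {G : Type*} [Group G] {D : Set G}

theorem conj_mem (hD : Cfsg.IsThreeTranspositionGroup D) {g d : G} (hd : d ∈ D) :
    g * d * g⁻¹ ∈ D := hD.2.1 g d hd

theorem self_conj_mem (hD : Cfsg.IsThreeTranspositionGroup D) {d e : G} (hd : d ∈ D)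
    (he : e ∈ D) : d * e * d ∈ D := by
  have := hD.2.1 d e he; rwa [inv_eq hD.1 hd] at this

theorem conjugatesOf_conj_mem {d₀ d : G} (hd : d ∈ conjugatesOf d₀) (g : G) :
    g * d * g⁻¹ ∈ conjugatesOf d₀ := by
  exact IsConj.trans hd (isConj_iff.2 ⟨g, rfl⟩)

theorem class_conj_mem (hD : Cfsg.IsThreeTranspositionClass D) (g : G) {d : G} (hd : d ∈ D) :
    g * d * g⁻¹ ∈ D := by
  obtain ⟨d₀, -, rfl⟩ := hD.2.1
  exact conjugatesOf_conj_mem hd g

theorem class_isGroup (hD : Cfsg.IsThreeTranspositionClass D) :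
    Cfsg.IsThreeTranspositionGroup D :=
  ⟨hD.1, fun g _ hd => class_conj_mem hD g hd, hD.2.2⟩

theorem class_exists_conj (hD : Cfsg.IsThreeTranspositionClass D) {d e : G} (hd : d ∈ D)
    (he : e ∈ D) : ∃ g : G, g * d * g⁻¹ = e := by
  obtain ⟨d₀, -, rfl⟩ := hD.2.1
  exact isConj_iff.1 ((IsConj.symm hd).trans he)

/-- A member of `D` normalising a `p`-subgroup, `p > 3`, centralises it. -/
theorem commute_of_normalizes_pGroup (hD : Cfsg.IsThreeTranspositionGroup D) {p : ℕ}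
    (hp : p.Prime) (hp3 : 3 < p) (P : Subgroup G) (hP : IsPGroup p P) {d : G} (hd : d ∈ D)
    (hnorm : d ∈ Subgroup.normalizer (P : Set G)) {x : G} (hx : x ∈ P) : Commute d x := by
  have hm : d * (x * d * x⁻¹) ∈ P := by
    have h1 : d * x * d⁻¹ ∈ P := (hnorm x).1 hx
    have h2 : d * (x * d * x⁻¹) = d * x * d⁻¹ * x⁻¹ := by
      rw [inv_eq hD.1 hd]; simp only [mul_assoc]
    rw [h2]; exact mul_mem h1 (inv_mem hx)
  obtain ⟨k, hk⟩ := hP ⟨_, hm⟩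
  have hk' : (d * (x * d * x⁻¹)) ^ p ^ k = 1 := by simpa using congrArg Subtype.val hk
  have h1 : orderOf (d * (x * d * x⁻¹)) ∣ p ^ k := orderOf_dvd_of_pow_eq_one hk'
  have h6 : orderOf (d * (x * d * x⁻¹)) ∣ 6 := by
    rcases hD.1.2 d hd _ (conj_mem hD (g := x) hd) with h | h
    · exact (orderOf_dvd_of_pow_eq_one h).trans (by norm_num)
    · exact (orderOf_dvd_of_pow_eq_one h).trans (by norm_num)
  have hc : Nat.Coprime (p ^ k) 6 := by
    refine Nat.Coprime.pow_left k ((Nat.Prime.coprime_iff_not_dvd hp).2 fun h => ?_)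
    have := Nat.le_of_dvd (by norm_num) h
    interval_cases p <;> first | (norm_num at hp; done) | norm_num at h | skip
  have := Nat.dvd_gcd h1 h6
  rw [Nat.coprime_iff_gcd_eq_one.1 hc] at this
  have h0 : d * (x * d * x⁻¹) = 1 := orderOf_eq_one_iff.1 (Nat.dvd_one.1 this)
  have h7 : x * d * x⁻¹ = d :=
    (inv_eq_of_mul_eq_one_right h0).symm.trans (inv_eq hD.1 hd)
  show d * x = x * d
  nth_rewrite 1 [← h7]
  group

theorem perp_classes_trivial (hD : Cfsg.IsThreeTranspositionSet D) {d : G} (hd : d ∈ D) :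
    {v : G | v ∈ D ∧ ∀ e ∈ D, Commute v e ↔ Commute d e} = {d} ∨
      {w : G | w ∈ D ∧ {y : G | y ∈ D ∧ y ≠ d ∧ Commute d y} =
        {y : G | y ∈ D ∧ y ≠ w ∧ Commute w y}} = {d} := by
  by_contra h
  obtain ⟨h1, h2⟩ := not_or.1 h
  obtain ⟨v, ⟨hv, hvV⟩, hvd⟩ : ∃ v, (v ∈ D ∧ ∀ e ∈ D, Commute v e ↔ Commute d e) ∧ v ≠ d := by
    by_contra hh
    exact h1 (Set.eq_singleton_iff_unique_mem.2 ⟨⟨hd, fun _ _ => Iff.rfl⟩,
      fun v hv => not_not.1 fun hne => hh ⟨v, hv, hne⟩⟩)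
  obtain ⟨w, ⟨hw, hwW⟩, hwd⟩ : ∃ w, (w ∈ D ∧ {y : G | y ∈ D ∧ y ≠ d ∧ Commute d y} =
      {y : G | y ∈ D ∧ y ≠ w ∧ Commute w y}) ∧ w ≠ d := by
    by_contra hh
    exact h2 (Set.eq_singleton_iff_unique_mem.2 ⟨⟨hd, rfl⟩,
      fun v hv => not_not.1 fun hne => hh ⟨v, hv, hne⟩⟩)
  have hdv : Commute d v := ((hvV d hd).2 (Commute.refl d)).symm
  have hwv : v ∈ {y : G | y ∈ D ∧ y ≠ w ∧ Commute w y} := hwW ▸ ⟨hv, hvd, hdv⟩
  have hdw : Commute d w := (hvV w hw).1 hwv.2.2.symm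
  have : w ∈ {y : G | y ∈ D ∧ y ≠ w ∧ Commute w y} := hwW ▸ ⟨hw, hwd, hdw⟩
  exact this.2.1 rfl

end CfsgLib.Trans3
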