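import Mathlib.GroupTheory.Sylow
import Mathlib.Tactic
import Cfsg.Prelude.Def_FischerSpaces
import Cfsg.Agent.Lib.Trans3.Group

/-! Width and commuting sets of 3-transpositions. -/

set_option autoImplicit false

namespace CfsgLib.Trans3

variable {G : Type*} [Group G] {D : Set G}

theorem commute_closure {E : Set G} (hc : ∀ a ∈ E, ∀ b ∈ E, Commute a b) {x y : G}
    (hx : x ∈ Subgroup.closure E) (hy : y ∈ Subgroup.closure E) : Commute x y := by
  have h1 : Subgroup.closure E ≤ Subgroup.centralizer E := by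
    rw [Subgroup.closure_le]
    intro a ha
    exact Subgroup.mem_centralizer_iff.2 fun b hb => (hc b hb a ha)
  have h2 : Subgroup.closure E ≤ Subgroup.centralizer (Subgroup.closure E : Set G) := by
    rw [Subgroup.centralizer_closure]; exact h1
  exact (Subgroup.mem_centralizer_iff.1 (h2 hy) x hx)

theorem isPGroup_two_closure_of_commute {E : Set G} (hc : ∀ a ∈ E, ∀ b ∈ E, Commute a b)
    (hi : ∀ a ∈ E, a * a = 1) : IsPGroup 2 (Subgroup.closure E) := by
  have h : ∀ x ∈ Subgroup.closure E, x * x = 1 := by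
    intro x hx
    induction hx using Subgroup.closure_induction with
    | mem x hx => exact hi x hx
    | one => simp
    | mul a b ha hb h1 h2 =>
      calc a * b * (a * b) = a * (b * a) * b := by group
        _ = a * (a * b) * b := by rw [(commute_closure hc hb ha).eq]
        _ = (a * a) * (b * b) := by group
        _ = 1 := by rw [h1, h2, one_mul]
    | inv a _ h1 => rw [← mul_inv_rev, h1, inv_one]
  rintro ⟨x, hx⟩
  exact ⟨1, Subtype.ext (by simpa [pow_two] using h x hx)⟩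

theorem le_commutingWidth [Finite G] {E : Set G} (hE : E ⊆ D)
    (hc : ∀ a ∈ E, ∀ b ∈ E, Commute a b) : E.ncard ≤ Cfsg.commutingWidth D := by
  refine le_csSup ⟨Nat.card G, ?_⟩ ⟨E, hE, Set.toFinite E, hc, rfl⟩
  rintro n ⟨F, -, -, -, rfl⟩
  exact Set.ncard_le_card F

theorem exists_commutingWidth [Finite G] (D : Set G) :
    ∃ E ⊆ D, (∀ a ∈ E, ∀ b ∈ E, Commute a b) ∧ E.ncard = Cfsg.commutingWidth D := by
  obtain ⟨E, h1, -, h2, h3⟩ := Nat.sSup_mem
    (s := {n : ℕ | ∃ E : Set G, E ⊆ D ∧ E.Finite ∧ (∀ a ∈ E, ∀ b ∈ E, Commute a b) ∧ E.ncard = n})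
    ⟨0, ∅, by simp, by simp, by simp, by simp⟩ ⟨Nat.card G, by
      rintro n ⟨F, -, -, -, rfl⟩
      exact Set.ncard_le_card F⟩
  exact ⟨E, h1, h2, h3⟩

theorem commute_of_mem_two_group (hD : Cfsg.IsThreeTranspositionSet D) {T : Subgroup G}
    (hT : IsPGroup 2 T) {a b : G} (ha : a ∈ D) (hb : b ∈ D) (haT : a ∈ T) (hbT : b ∈ T) :
    Commute a b := by
  by_contra h
  obtain ⟨k, hk⟩ := hT ⟨a * b, mul_mem haT hbT⟩
  have hk' : (a * b) ^ 2 ^ k = 1 := by simpa using congrArg Subtype.val hk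
  have h1 := orderOf_dvd_of_pow_eq_one hk'
  rw [orderOf_mul_noncomm hD ha hb h] at h1
  exact absurd (Nat.prime_three.dvd_of_dvd_pow h1) (by norm_num)

theorem ncard_inter_sylow [Finite G] (hD : Cfsg.IsThreeTranspositionGroup D) (T : Sylow 2 G) :
    {d : G | d ∈ D ∧ d ∈ T}.ncard = Cfsg.commutingWidth D := by
  refine le_antisymm (le_commutingWidth (fun d hd => hd.1)
    fun a ha b hb => commute_of_mem_two_group hD.1 T.2 ha.1 hb.1 ha.2 hb.2) ?_
  obtain ⟨E, hE, hc, hn⟩ := exists_commutingWidth D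
  obtain ⟨P, hP⟩ := (isPGroup_two_closure_of_commute hc
    fun a ha => sq_one hD.1 (hE ha)).exists_le_sylow
  obtain ⟨g, rfl⟩ := MulAction.exists_smul_eq G T P
  rw [← hn, ← Set.ncard_image_of_injective E (MulAut.conj g⁻¹).injective]
  refine Set.ncard_le_ncard ?_ (Set.toFinite _)
  rintro _ ⟨a, ha, rfl⟩
  refine ⟨by simpa using hD.2.1 g⁻¹ a (hE ha), ?_⟩
  have := hP (Subgroup.subset_closure ha)
  rw [Sylow.coe_subgroup_smul, Subgroup.mem_pointwise_smul_iff_inv_smul_mem] at this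
  simp [MulAut.smul_def] at this ⊢; exact this

end CfsgLib.Trans3
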