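import Cfsg.Agent.Lib.Golay.Co0Simple
import Cfsg.Prelude.Def_Spor_Conway
import Mathlib.GroupTheory.Perm.Cycle.Type

/-!
# No element of order 23 of the first Conway group commutes with an involution
-/

set_option autoImplicit false

namespace CfsgLib.Trans3

open Cfsg CfsgLib.Golay
open scoped Pointwise

/-- A permutation of order 23 of the points fixes exactly one point. -/
theorem perm23_struct {τ : Equiv.Perm GolayPt} (hτ : orderOf τ = 23) :
    ∃ p, τ p = p ∧ ∀ q r, q ≠ p → r ≠ p → ∃ i : ℕ, (τ ^ i) q = r := by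
  classical
  have hcyc : τ.IsCycle := Equiv.Perm.isCycle_of_prime_order' (by rw [hτ]; norm_num)
    (by rw [hτ]; simp)
  have hs : τ.support.card = 23 := hcyc.orderOf ▸ hτ
  obtain ⟨p, hp⟩ := Finset.card_eq_one.1 (show τ.supportᶜ.card = 1 by
    rw [Finset.card_compl, hs]; simp)
  have hfix : ∀ q, τ q = q ↔ q = p := fun q => by
    rw [← Equiv.Perm.notMem_support, ← Finset.mem_compl, hp, Finset.mem_singleton]
  exact ⟨p, (hfix p).2 rfl, fun q r hq hr =>
    hcyc.exists_pow_eq (mt (hfix q).1 hq) (mt (hfix r).1 hr)⟩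

/-- An involution commuting with a permutation of order 23. -/
theorem perm23_commute {τ σ : Equiv.Perm GolayPt} (hτ : orderOf τ = 23) (hσ : σ ^ 2 = 1)
    (hc : Commute σ τ) : σ = 1 := by
  classical
  obtain ⟨p, hp, htrans⟩ := perm23_struct hτ
  have hfix : ∀ q, τ q = q → q = p := fun q hq => by
    by_contra hne
    obtain ⟨q', hq'⟩ : ∃ q', q' ≠ p ∧ q' ≠ q := by
      by_contra h
      simp only [not_exists, not_and, not_not] at h
      have : Fintype.card GolayPt ≤ 2 := by
        rw [← Finset.card_univ]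
        exact le_trans (Finset.card_le_card (t := {p, q}) fun x _ => by
          by_cases hx : x = p
          · simp [hx]
          · simp [h x hx]) Finset.card_le_two
      simp at this
    obtain ⟨i, hi⟩ := htrans q q' hne hq'.1
    rw [Equiv.Perm.pow_apply_eq_self_of_apply_eq_self hq] at hi
    exact hq'.2 hi.symm
  have hcp : ∀ (i : ℕ) (x : GolayPt), σ ((τ ^ i) x) = (τ ^ i) (σ x) := fun i x =>
    Equiv.Perm.ext_iff.1 (hc.pow_right i).eq x
  have hσp : σ p = p := hfix _ (by
    have := hcp 1 p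
    rw [pow_one, hp] at this
    exact this.symm)
  obtain ⟨q, hq⟩ : ∃ q, q ≠ p := exists_ne p
  obtain ⟨k, hk⟩ := htrans q (σ q) hq (fun h => hq (σ.injective (h.trans hσp.symm)))
  have he : σ = τ ^ k := Equiv.ext fun x => by
    by_cases hx : x = p
    · rw [hx, hσp, Equiv.Perm.pow_apply_eq_self_of_apply_eq_self hp]
    · obtain ⟨i, rfl⟩ := htrans q x hq hx
      rw [hcp, ← hk, ← Equiv.Perm.mul_apply, ← Equiv.Perm.mul_apply, ← pow_add, ← pow_add, add_comm]
  subst he
  rw [← pow_mul] at hσ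
  have hd := orderOf_dvd_of_pow_eq_one hσ
  rw [hτ] at hd
  have : 23 ∣ k := (Nat.Coprime.dvd_mul_right (by norm_num)).1 hd
  exact orderOf_dvd_iff_pow_eq_one.1 (hτ.symm ▸ this)

/-- An invariant word of a permutation of order 23. -/
theorem perm23_word {τ : Equiv.Perm GolayPt} (hτ : orderOf τ = 23) {c : Finset GolayPt}
    (hc : c ∈ supports (golayCode : Set (GolayPt → ZMod 2))) (h : τ • c = c) :
    c = ∅ ∨ c = Finset.univ := by
  classical
  obtain ⟨p, hp, htrans⟩ := perm23_struct hτ
  have hpow : ∀ (i : ℕ) (x : GolayPt), x ∈ c → (τ ^ i) x ∈ c := by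
    intro i
    induction i with
    | zero => exact fun x hx => hx
    | succ i ih =>
      intro x hx
      rw [pow_succ', Equiv.Perm.mul_apply]
      have hmem := Finset.smul_mem_smul_finset (a := τ) (ih x hx)
      rwa [h] at hmem
  have h4 := supports_card hc
  by_cases hq : ∃ q ∈ c, q ≠ p
  · obtain ⟨q, hqc, hqp⟩ := hq
    have hsub : Finset.univ.erase p ⊆ c := fun r hr => by
      obtain ⟨i, rfl⟩ := htrans q r hqp (Finset.ne_of_mem_erase hr)
      exact hpow i q hqc
    have hcard := Finset.card_le_card hsub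
    rw [Finset.card_erase_of_mem (Finset.mem_univ p), Finset.card_univ] at hcard
    simp at hcard
    exact Or.inr (Finset.eq_univ_of_card _ (by simp; omega))
  · simp only [not_exists, not_and, not_not] at hq
    have hcard : c.card ≤ 1 :=
      (Finset.card_le_card (t := {p}) fun x hx => Finset.mem_singleton.2 (hq x hx)).trans_eq
        (Finset.card_singleton p)
    exact Or.inl (Finset.card_eq_zero.1 (by omega))

theorem co0_center_iff {g : Co0} : g ∈ Subgroup.center Co0 ↔ g = 1 ∨ g = negCo0 :=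
  ⟨center_Co0, fun h => h.elim (fun e => e ▸ Subgroup.one_mem _) fun e => e ▸ negCo0_central⟩

theorem negCo0_sq : negCo0 * negCo0 = 1 := sign0_sq _ _

/-- An element of order 23 and a square root of `±1` commuting with it. -/
theorem co0_twenty3 {a b : Co0} (ha : orderOf a = 23) (hc : Commute b a)
    (hb : b * b ∈ Subgroup.center Co0) : b ∈ Subgroup.center Co0 := by
  classical
  obtain ⟨x, hx, hP, huniq⟩ := unique_fixed (P := Subgroup.zpowers a) (by rw [Nat.card_zpowers, ha])
  have hax : a ∈ classStab x := hP (Subgroup.mem_zpowers a)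
  have hbx : b ∈ classStab x := by
    refine mem_classStab.2 (huniq (b • x) (by rw [co0_q, hx]) (Subgroup.zpowers_le.2 ?_))
    rw [mem_classStab, ← mul_smul, ← hc.eq, mul_smul]
    exact co0_cls b (mem_classStab.1 hax)
  obtain ⟨h, rfl⟩ := co0_trans8 (vec8_q pinf) hx
  rw [classStab_conj] at hax hbx
  set a' : N0 := ⟨h⁻¹ * a * h, hax⟩
  set b' : N0 := ⟨h⁻¹ * b * h, hbx⟩
  have ha' : orderOf a' = 23 := by
    rw [← Subgroup.orderOf_coe]
    show orderOf (h⁻¹ * a * h) = 23
    rw [← ha]
    exact orderOf_injective (MulAut.conj h⁻¹).toMonoidHom (MulAut.conj h⁻¹).injective a ▸ by simp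
  have : Fact (Nat.Prime 23) := ⟨by norm_num⟩
  have hτ : orderOf ((permPart a' : M24) : Equiv.Perm GolayPt) = 23 := by
    rw [Subgroup.orderOf_coe]
    refine orderOf_eq_prime (by rw [← map_pow, ← ha', pow_orderOf_eq_one, map_one]) fun h1 => ?_
    obtain ⟨c, hcs, e⟩ := permPart_eq_one h1
    have h2 : a' ^ 2 = 1 := Subtype.ext (by rw [SubmonoidClass.coe_pow, e, sq]; exact sign0_sq c hcs)
    have := orderOf_dvd_of_pow_eq_one h2
    rw [ha'] at this
    exact absurd (Nat.le_of_dvd (by norm_num) this) (by norm_num)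
  have hc' : Commute b' a' := Subtype.ext (by
    show h⁻¹ * b * h * (h⁻¹ * a * h) = h⁻¹ * a * h * (h⁻¹ * b * h)
    rw [show h⁻¹ * b * h * (h⁻¹ * a * h) = h⁻¹ * (b * a) * h by group, hc.eq]
    group)
  have hσ2 : ((permPart b' : M24) : Equiv.Perm GolayPt) ^ 2 = 1 := by
    rw [← SubmonoidClass.coe_pow, ← map_pow]
    have hb2 : ((b' ^ 2 : N0) : Co0) = b * b := by
      rw [SubmonoidClass.coe_pow, sq]
      show h⁻¹ * b * h * (h⁻¹ * b * h) = b * b
      rw [show h⁻¹ * b * h * (h⁻¹ * b * h) = h⁻¹ * (b * b) * h by group, mul_assoc,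
        ← Subgroup.mem_center_iff.1 hb h, inv_mul_cancel_left]
    have e1 : ∀ (c : Finset GolayPt) (hcs : c ∈ supports (golayCode : Set (GolayPt → ZMod 2)))
        (g : N0), (g : Co0) = sign0 c hcs → permPart g = 1 := fun c hcs g e => by
      rw [show g = ⟨monoCo0 (1 : M24) (1 : M24).2 c hcs, mono_mem_N0 1 c hcs⟩ from Subtype.ext e,
        permPart_mono]
    rcases center_Co0 hb with h1 | h1
    · rw [show b' ^ 2 = 1 from Subtype.ext (hb2.trans h1), map_one]; rfl
    · rw [e1 Finset.univ univ_code (b' ^ 2) (hb2.trans h1)]; rfl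
  have hone : permPart b' = 1 :=
    Subtype.ext (perm23_commute hτ hσ2 ((hc'.map permPart).map M24.subtype))
  obtain ⟨c, hcs, e⟩ := permPart_eq_one hone
  obtain ⟨τ, d, hd, ea⟩ := N0_rep a'.2
  have hτ' : permPart a' = τ := by
    rw [show a' = ⟨monoCo0 τ τ.2 d hd, mono_mem_N0 τ d hd⟩ from Subtype.ext ea, permPart_mono]
  have hinv : (τ : Equiv.Perm GolayPt) • c = c := by
    have h1 : monoCo0 τ τ.2 d hd * sign0 c hcs = sign0 c hcs * monoCo0 τ τ.2 d hd := by
      rw [← ea, ← e]; exact (congrArg Subtype.val hc'.eq).symm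
    rw [mono_mul_sign0, sign0_mul_mono] at h1
    have := (monoCo0_inj h1).2
    rw [symmDiff_comm c d] at this
    exact symmDiff_right_injective d this
  have hb1 : b = h * (b' : Co0) * h⁻¹ := by
    show b = h * (h⁻¹ * b * h) * h⁻¹
    group
  have hcen : (b' : Co0) ∈ Subgroup.center Co0 := by
    rw [e]
    rcases perm23_word (τ := (τ : Equiv.Perm GolayPt)) (hτ' ▸ hτ) hcs hinv with rfl | rfl
    · rw [show sign0 ∅ hcs = 1 from ?_]
      · exact Subgroup.one_mem _
      · refine co0_ext fun v => Subtype.ext ?_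
        rw [sign0, monoCo0_smul, one_smul]
        funext i
        simp [signedPerm]
        rfl
    · exact negCo0_central
  rw [hb1, Subgroup.mem_center_iff.1 hcen h, mul_inv_cancel_right]
  exact hcen

/-- In the first Conway group nothing of order 23 commutes with an involution. -/
theorem co1_no_commute23 {a u : Spor.Co1} (ha : orderOf a = 23) (hu : u * u = 1)
    (hc : Commute u a) : u = 1 := by
  obtain ⟨a₀, rfl⟩ := QuotientGroup.mk_surjective a
  obtain ⟨b, rfl⟩ := QuotientGroup.mk_surjective u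
  have hb : b * b ∈ Subgroup.center Co0 := (QuotientGroup.eq_one_iff _).1 hu
  have h23 : a₀ ^ 23 ∈ Subgroup.center Co0 :=
    (QuotientGroup.eq_one_iff _).1 (by rw [QuotientGroup.mk_pow, ← ha, pow_orderOf_eq_one])
  have h46 : (a₀ ^ 2) ^ 23 = 1 := by
    rw [← pow_mul, mul_comm, pow_mul, sq]
    rcases center_Co0 h23 with e | e <;> rw [e]
    · rw [mul_one]
    · exact negCo0_sq
  have : Fact (Nat.Prime 23) := ⟨by norm_num⟩
  have ha2 : orderOf (a₀ ^ 2) = 23 := by
    refine orderOf_eq_prime h46 fun h1 => ?_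
    have : (QuotientGroup.mk a₀ : Spor.Co1) ^ 2 = 1 := by rw [← QuotientGroup.mk_pow, h1]; rfl
    have := orderOf_dvd_of_pow_eq_one this
    rw [ha] at this
    exact absurd (Nat.le_of_dvd (by norm_num) this) (by norm_num)
  have hcm : Commute b (a₀ ^ 2) := by
    have h1 : (a₀ ^ 2)⁻¹ * (b * a₀ ^ 2 * b⁻¹) ∈ Subgroup.center Co0 := by
      rw [← QuotientGroup.eq_one_iff, QuotientGroup.mk_mul, QuotientGroup.mk_inv,
        QuotientGroup.mk_mul, QuotientGroup.mk_mul, QuotientGroup.mk_inv, QuotientGroup.mk_pow,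
        (hc.pow_right 2).eq, mul_inv_cancel_right, inv_mul_cancel]
    have hb' : b * a₀ ^ 2 * b⁻¹ = a₀ ^ 2 * ((a₀ ^ 2)⁻¹ * (b * a₀ ^ 2 * b⁻¹)) := by group
    generalize (a₀ ^ 2)⁻¹ * (b * a₀ ^ 2 * b⁻¹) = w at h1 hb'
    rcases center_Co0 h1 with rfl | rfl
    · rw [mul_one] at hb'
      exact mul_inv_eq_iff_eq_mul.1 hb'
    · exfalso
      have h2 := congrArg (· ^ 23) hb'
      simp only [conj_pow, h46, (show Commute (a₀ ^ 2) negCo0 from
        Subgroup.mem_center_iff.1 negCo0_central _).mul_pow] at h2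
      have h3 : negCo0 ^ 23 = negCo0 := by
        rw [show 23 = 2 * 11 + 1 from rfl, pow_succ, pow_mul, sq, negCo0_sq, one_pow, one_mul]
      simp [h3] at h2
      exact negCo0_ne_one h2.symm
  exact (QuotientGroup.eq_one_iff _).2 (co0_twenty3 ha2 hcm hb)

end CfsgLib.Trans3
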