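import Cfsg.Agent.Lib.Geom.Symp
import Cfsg.Prelude.Def_SporadicB

/-! The transvections of the symplectic group over two elements form a class of 3-transpositions. -/

set_option autoImplicit false

namespace CfsgLib.Trans3.SpTrans

open Matrix CfsgLib.Geom

variable {m : ℕ}

/-- The space. -/
abbrev V (m : ℕ) : Type := Fin m ⊕ Fin m → ZMod 2

/-- The transvection of a vector. -/
def tr (v : V m) : Matrix.symplecticGroup (Fin m) (ZMod 2) :=
  ⟨Cfsg.sympTransvection m v 1, sympTransvection_mem v 1⟩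

theorem tr_mulVec (v x : V m) :
    (tr v : Matrix (Fin m ⊕ Fin m) (Fin m ⊕ Fin m) (ZMod 2)) *ᵥ x =
      x + sympBilin m (ZMod 2) x v • v := by
  show Cfsg.sympTransvection m v 1 *ᵥ x = _
  rw [sympTransvection_mulVec, one_mul]

theorem sp_ext {A B : Matrix.symplecticGroup (Fin m) (ZMod 2)}
    (h : ∀ x, (A : Matrix (Fin m ⊕ Fin m) (Fin m ⊕ Fin m) (ZMod 2)) *ᵥ x =
      (B : Matrix (Fin m ⊕ Fin m) (Fin m ⊕ Fin m) (ZMod 2)) *ᵥ x) : A = B :=
  Subtype.ext (Matrix.ext_iff_mulVec.2 h)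

theorem sp_mul_mulVec (A B : Matrix.symplecticGroup (Fin m) (ZMod 2)) (x : V m) :
    ((A * B : Matrix.symplecticGroup (Fin m) (ZMod 2)) :
        Matrix (Fin m ⊕ Fin m) (Fin m ⊕ Fin m) (ZMod 2)) *ᵥ x =
      (A : Matrix (Fin m ⊕ Fin m) (Fin m ⊕ Fin m) (ZMod 2)) *ᵥ
        ((B : Matrix (Fin m ⊕ Fin m) (Fin m ⊕ Fin m) (ZMod 2)) *ᵥ x) :=
  (Matrix.mulVec_mulVec _ _ _).symm

theorem conj_tr (g : Matrix.symplecticGroup (Fin m) (ZMod 2)) (v : V m) :
    g * tr v * g⁻¹ = tr ((g : Matrix (Fin m ⊕ Fin m) (Fin m ⊕ Fin m) (ZMod 2)) *ᵥ v) := by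
  rw [mul_inv_eq_iff_eq_mul]
  refine sp_ext fun x => ?_
  rw [sp_mul_mulVec, sp_mul_mulVec, tr_mulVec, tr_mulVec, Matrix.mulVec_add, Matrix.mulVec_smul,
    spToLin_mem]

theorem bilin_symm (u v : V m) : sympBilin m (ZMod 2) v u = sympBilin m (ZMod 2) u v := by
  rw [sympBilin_swap]; exact (by decide : ∀ a : ZMod 2, -a = a) _

theorem z2 : ∀ a : ZMod 2, a = 0 ∨ a = 1 := by decide

theorem add_self_V (v : V m) : v + v = 0 := by
  funext i; exact (by decide : ∀ a : ZMod 2, a + a = 0) _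

theorem tr_sq (v : V m) : tr v * tr v = 1 := by
  refine sp_ext fun x => ?_
  rw [sp_mul_mulVec, tr_mulVec, tr_mulVec, map_add, LinearMap.add_apply, map_smul,
    LinearMap.smul_apply, sympBilin_self, smul_zero, add_zero, add_assoc, add_self_V, add_zero]
  simp

theorem exists_pair {v : V m} (hv : v ≠ 0) : ∃ x, sympBilin m (ZMod 2) v x = 1 := by
  by_contra! h
  exact hv (sympBilin_sep v fun y => (z2 _).resolve_right (h y))

theorem tr_ne_one {v : V m} (hv : v ≠ 0) : tr v ≠ 1 := by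
  intro h
  obtain ⟨x, hx⟩ := exists_pair hv
  have := tr_mulVec v x
  rw [h, bilin_symm, hx, one_smul] at this
  simp at this
  exact hv this

theorem z2_sum : ∀ p q : ZMod 2, q + p = 0 → p = q := by decide

/-- Rank-one elements are the transvections. -/
theorem rank_one_iff (A : Matrix.symplecticGroup (Fin m) (ZMod 2)) :
    ((A : Matrix (Fin m ⊕ Fin m) (Fin m ⊕ Fin m) (ZMod 2)) - 1).rank = 1 ↔
      ∃ v : V m, v ≠ 0 ∧ A = tr v := by
  haveI : Fact (Nat.Prime 2) := ⟨Nat.prime_two⟩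
  set N := (A : Matrix (Fin m ⊕ Fin m) (Fin m ⊕ Fin m) (ZMod 2)) - 1 with hN
  have hNx : ∀ x, (A : Matrix (Fin m ⊕ Fin m) (Fin m ⊕ Fin m) (ZMod 2)) *ᵥ x = x + N *ᵥ x := by
    intro x; rw [hN, Matrix.sub_mulVec, Matrix.one_mulVec]; abel
  rw [Matrix.rank]
  constructor
  · intro h
    obtain ⟨⟨w, hw⟩, hw0, hall⟩ := finrank_eq_one_iff'.1 h
    have hw0' : w ≠ 0 := fun e => hw0 (Subtype.ext e)
    have hc : ∀ x, ∃ c : ZMod 2, N *ᵥ x = c • w := fun x => by
      obtain ⟨c, hc⟩ := hall ⟨N *ᵥ x, ⟨x, rfl⟩⟩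
      exact ⟨c, (congrArg Subtype.val hc).symm⟩
    choose c hc using hc
    obtain ⟨x, hx⟩ := LinearMap.mem_range.1 hw
    rw [Matrix.mulVecLin_apply] at hx
    have hcx : c x = 1 := by
      rcases z2 (c x) with e | e
      · have := hc x
        rw [e, zero_smul, hx] at this
        exact absurd this hw0'
      · exact e
    have key : ∀ a b, c a * sympBilin m (ZMod 2) w b + c b * sympBilin m (ZMod 2) a w = 0 := by
      intro a b
      have h := spToLin_mem A a b
      rw [hNx, hNx, hc, hc] at h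
      simp only [map_add, LinearMap.add_apply, map_smul, LinearMap.smul_apply, sympBilin_self,
        smul_zero, add_zero, smul_eq_mul] at h
      linear_combination h
    have hxw : sympBilin m (ZMod 2) x w = 1 := by
      rcases z2 (sympBilin m (ZMod 2) x w) with e | e
      · exfalso
        obtain ⟨b, hb⟩ := exists_pair hw0'
        have := key x b
        rw [hcx, hb, e] at this
        simp at this
      · exact e
    refine ⟨w, hw0', sp_ext fun b => ?_⟩
    have := key x b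
    rw [hcx, hxw, one_mul, mul_one] at this
    rw [hNx, hc, tr_mulVec, bilin_symm w b]
    have hcb : c b = sympBilin m (ZMod 2) w b := by
      exact z2_sum _ _ this
    rw [hcb]
  · rintro ⟨v, hv, rfl⟩
    have hNv : ∀ x, N *ᵥ x = sympBilin m (ZMod 2) x v • v := fun x => by
      have := hNx x
      rw [tr_mulVec] at this
      exact (add_left_cancel this).symm
    obtain ⟨x, hx⟩ := exists_pair hv
    refine finrank_eq_one_iff'.2 ⟨⟨v, x, by
      rw [Matrix.mulVecLin_apply, hNv, bilin_symm, hx, one_smul]⟩, fun e => hv (congrArg Subtype.val e),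
      fun ⟨w, y, hy⟩ => ⟨sympBilin m (ZMod 2) y v, Subtype.ext ?_⟩⟩
    have e := hy
    rw [Matrix.mulVecLin_apply, hNv] at e
    exact e

theorem tr_move {v w : V m} (hv : v ≠ 0) (hw : w ≠ 0) :
    ∃ g : Matrix.symplecticGroup (Fin m) (ZMod 2),
      (g : Matrix (Fin m ⊕ Fin m) (Fin m ⊕ Fin m) (ZMod 2)) *ᵥ v = w := by
  have step : ∀ a b : V m, sympBilin m (ZMod 2) a b = 1 →
      (tr (a + b) : Matrix (Fin m ⊕ Fin m) (Fin m ⊕ Fin m) (ZMod 2)) *ᵥ a = b := by
    intro a b h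
    rw [tr_mulVec, map_add, sympBilin_self, h, zero_add, one_smul, ← add_assoc, add_self_V,
      zero_add]
  rcases z2 (sympBilin m (ZMod 2) v w) with h | h
  · obtain ⟨x, hx⟩ := exists_pair hv
    obtain ⟨y, hy⟩ := exists_pair hw
    obtain ⟨z, h1, h2⟩ : ∃ z, sympBilin m (ZMod 2) v z = 1 ∧ sympBilin m (ZMod 2) w z = 1 := by
      rcases z2 (sympBilin m (ZMod 2) w x) with e | e
      · rcases z2 (sympBilin m (ZMod 2) v y) with e' | e'
        · exact ⟨x + y, by rw [map_add, hx, e', add_zero], by rw [map_add, hy, e, zero_add]⟩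
        · exact ⟨y, e', hy⟩
      · exact ⟨x, hx, e⟩
    refine ⟨tr (z + w) * tr (v + z), ?_⟩
    rw [sp_mul_mulVec, step v z h1, step z w (by rw [bilin_symm]; exact h2)]
  · exact ⟨_, step v w h⟩

theorem three_transposition_class (hn : 1 ≤ m) :
    Cfsg.IsThreeTranspositionClass {g : Matrix.symplecticGroup (Fin m) (ZMod 2) |
      ((g : Matrix (Fin m ⊕ Fin m) (Fin m ⊕ Fin m) (ZMod 2)) - 1).rank = 1} := by
  haveI : Fact (Nat.Prime 2) := ⟨Nat.prime_two⟩
  set D := {g : Matrix.symplecticGroup (Fin m) (ZMod 2) |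
      ((g : Matrix (Fin m ⊕ Fin m) (Fin m ⊕ Fin m) (ZMod 2)) - 1).rank = 1} with hD
  have mD : ∀ g, g ∈ D ↔ ∃ v : V m, v ≠ 0 ∧ g = tr v := fun g => rank_one_iff g
  have hord : ∀ d ∈ D, orderOf d = 2 := by
    intro d hd
    obtain ⟨v, hv, rfl⟩ := (mD d).1 hd
    exact orderOf_eq_prime (by rw [pow_two]; exact tr_sq v) (tr_ne_one hv)
  have hinv : ∀ v : V m, (tr v)⁻¹ = tr v := fun v => inv_eq_of_mul_eq_one_right (tr_sq v)
  refine ⟨⟨hord, fun d hd e he => ?_⟩, ?_, ?_⟩
  · obtain ⟨v, hv, rfl⟩ := (mD d).1 hd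
    obtain ⟨w, hw, rfl⟩ := (mD e).1 he
    have hvw := conj_tr (tr v) w
    rw [tr_mulVec, hinv] at hvw
    have hwv := conj_tr (tr w) v
    rw [tr_mulVec, hinv] at hwv
    rcases z2 (sympBilin m (ZMod 2) w v) with h | h
    · left
      rw [h, zero_smul, add_zero] at hvw
      rw [pow_two, ← mul_assoc, hvw, tr_sq]
    · right
      rw [h, one_smul] at hvw
      rw [bilin_symm, h, one_smul, add_comm] at hwv
      have e3 : tr v * tr w * tr v = tr w * tr v * tr w := hvw.trans hwv.symm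
      calc (tr v * tr w) ^ 3 = tr v * tr w * tr v * (tr w * tr v * tr w) := by
            rw [pow_three]; group
        _ = tr w * tr v * (tr w * tr w) * tr v * tr w := by rw [e3]; group
        _ = tr w * (tr v * tr v) * tr w := by rw [tr_sq, mul_one]; group
        _ = 1 := by rw [tr_sq, mul_one, tr_sq]
  · let v0 : V m := Pi.single (Sum.inl ⟨0, hn⟩) 1
    have hv0 : v0 ≠ 0 := by
      intro e
      have := congrFun e (Sum.inl ⟨0, hn⟩)
      simp [v0] at this
    refine ⟨tr v0, (mD _).2 ⟨v0, hv0, rfl⟩, ?_⟩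
    ext g
    constructor
    · intro hg
      obtain ⟨w, hw, rfl⟩ := (mD g).1 hg
      obtain ⟨k, hk⟩ := tr_move hv0 hw
      exact isConj_iff.2 ⟨k, by rw [conj_tr, hk]⟩
    · intro hg
      obtain ⟨k, rfl⟩ := isConj_iff.1 hg
      rw [conj_tr]
      refine (mD _).2 ⟨_, fun e => hv0 ?_, rfl⟩
      have h' := congrArg (fun x => ((k⁻¹ : Matrix.symplecticGroup (Fin m) (ZMod 2)) :
        Matrix (Fin m ⊕ Fin m) (Fin m ⊕ Fin m) (ZMod 2)) *ᵥ x) e
      simp only [← sp_mul_mulVec, inv_mul_cancel, Matrix.mulVec_zero] at h'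
      simpa using h'
  · rw [eq_top_iff, ← closure_sympTransvection (F := ZMod 2) m, Subgroup.closure_le]
    rintro A ⟨w, c, hA⟩
    rcases z2 c with rfl | rfl
    · rw [show A = 1 from Subtype.ext (by rw [hA]; simp [Cfsg.sympTransvection])]
      exact Subgroup.one_mem _
    · by_cases hw : w = 0
      · rw [show A = 1 from Subtype.ext (by rw [hA, hw]; simp [Cfsg.sympTransvection])]
        exact Subgroup.one_mem _
      · exact Subgroup.subset_closure ((mD A).2 ⟨w, hw, Subtype.ext hA⟩)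

end CfsgLib.Trans3.SpTrans
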