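import Cfsg.Agent.Lib.Trans3.ConwayQuad
import Cfsg.Agent.Lib.Trans3.Basic

/-!
The stabiliser of the decomposition into two four-dimensional spaces and its two `A5`.
-/

set_option autoImplicit false

namespace CfsgLib.Trans3.Conway

open ExtraTwo

/-- The two summands. -/
def inj : Bool → W → Vv
  | false, w => (w, 0)
  | true, w => (0, w)

def pr : Bool → Vv → W
  | false, v => v.1
  | true, v => v.2

theorem pr_inj (s : Bool) (w : W) : pr s (inj s w) = w := by cases s <;> rfl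

theorem pr_inj' (s : Bool) (w : W) : pr (!s) (inj s w) = 0 := by cases s <;> rfl

theorem pr_add (s : Bool) (v w : Vv) : pr s (v + w) = pr s v + pr s w := by cases s <;> rfl

theorem inj_add (s : Bool) (v w : W) : inj s (v + w) = inj s v + inj s w := by
  cases s <;> exact Prod.ext (by simp [inj]) (by simp [inj])

theorem pr_zero (s : Bool) : pr s 0 = 0 := by cases s <;> rfl

theorem inj_zero (s : Bool) : inj s 0 = 0 := by cases s <;> rfl

theorem eq_inj_add (s : Bool) (v : Vv) : v = inj s (pr s v) + inj (!s) (pr (!s) v) := by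
  cases s <;> exact Prod.ext (by simp [inj, pr]) (by simp [inj, pr])

theorem eq_inj_of_pr {s : Bool} {v : Vv} (h : pr (!s) v = 0) : v = inj s (pr s v) := by
  conv_lhs => rw [eq_inj_add s v, h, inj_zero, add_zero]

theorem qv_inj (s : Bool) (w : W) : qv (inj s w) = qW w := by
  cases s <;> simp [qv, inj, show qW 0 = 0 by decide +kernel]

theorem bV_inj (s : Bool) (u : W) (v : Vv) : bV (inj s u) v = alt u (pr s v) := by
  cases s <;> simp [bV, inj, pr, alt]

theorem inj_injective (s : Bool) : Function.Injective (inj s) :=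
  Function.LeftInverse.injective (pr_inj s)

/-- Preservation of both summands. -/
def St : Subgroup O8 where
  carrier := {g | ∀ (s : Bool) (v : Vv), pr s (ap g v) = 0 ↔ pr s v = 0}
  one_mem' s v := by rw [ap_one]
  mul_mem' {a b} ha hb s v := by rw [ap_mul, ha, hb]
  inv_mem' {a} ha s v := by rw [← ha, ap_ap_inv]

theorem St.ap_inj {g : O8} (hg : g ∈ St) (s : Bool) (w : W) :
    ap g (inj s w) = inj s (pr s (ap g (inj s w))) :=
  eq_inj_of_pr ((hg (!s) _).2 (pr_inj' s w))

/-- The five singular points of a summand. -/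
def Sg : Type := {w : W // w ≠ 0 ∧ qW w = 0}

instance : Fintype Sg := inferInstanceAs (Fintype {w : W // w ≠ 0 ∧ qW w = 0})
instance : DecidableEq Sg := inferInstanceAs (DecidableEq {w : W // w ≠ 0 ∧ qW w = 0})

theorem card_Sg : Fintype.card Sg = 5 := by decide +kernel

theorem St.sg_mem {g : O8} (hg : g ∈ St) (s : Bool) (w : Sg) :
    pr s (ap g (inj s w.1)) ≠ 0 ∧ qW (pr s (ap g (inj s w.1))) = 0 := by
  refine ⟨fun h => w.2.1 ?_, ?_⟩
  · have h' := (hg s _).1 h
    rwa [pr_inj] at h'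
  · rw [← qv_inj s, ← St.ap_inj hg, ap_q, qv_inj]
    exact w.2.2

theorem St.pr_mul {g h : O8} (hg : g ∈ St) (hh : h ∈ St) (s : Bool) (w : W) :
    pr s (ap (g * h) (inj s w)) = pr s (ap g (inj s (pr s (ap h (inj s w))))) := by
  rw [ap_mul, ← St.ap_inj hh]

/-- The action on the five singular points of a summand. -/
noncomputable def pS (s : Bool) : St →* Equiv.Perm Sg :=
  MonoidHom.mk'
    (fun g =>
      { toFun := fun w => ⟨_, St.sg_mem g.2 s w⟩
        invFun := fun w => ⟨_, St.sg_mem (St.inv_mem g.2) s w⟩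
        left_inv := fun w => Subtype.ext (by
          show pr s (ap _ (inj s (pr s (ap _ (inj s w.1))))) = w.1
          rw [← St.pr_mul (St.inv_mem g.2) g.2, inv_mul_cancel, ap_one, pr_inj])
        right_inv := fun w => Subtype.ext (by
          show pr s (ap _ (inj s (pr s (ap _ (inj s w.1))))) = w.1
          rw [← St.pr_mul g.2 (St.inv_mem g.2), mul_inv_cancel, ap_one, pr_inj]) })
    fun g h => Equiv.ext fun w => Subtype.ext (St.pr_mul g.2 h.2 s w.1)

theorem pS_apply (s : Bool) (g : St) (w : Sg) : (pS s g w).1 = pr s (ap g.1 (inj s w.1)) := rfl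

theorem sg_span : ∀ w : W, w = 0 ∨ (w ≠ 0 ∧ qW w = 0) ∨
    ∃ a b : W, (a ≠ 0 ∧ qW a = 0) ∧ (b ≠ 0 ∧ qW b = 0) ∧ w = a + b := by decide +kernel

/-- Fixing a summand pointwise. -/
def Fix (s : Bool) (g : O8) : Prop := ∀ w : W, ap g (inj s w) = inj s w

theorem fix_of_pS {s : Bool} {g : St} (h : pS s g = 1) : Fix s g.1 := by
  have h1 : ∀ a : W, a ≠ 0 ∧ qW a = 0 → ap g.1 (inj s a) = inj s a := fun a ha => by
    rw [St.ap_inj g.2, ← pS_apply s g ⟨a, ha⟩, h]
    rfl
  intro w
  rcases sg_span w with rfl | hw | ⟨a, b, ha, hb, rfl⟩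
  · rw [inj_zero, ap_zero]
  · exact h1 w hw
  · rw [inj_add, ap_add, h1 a ha, h1 b hb]

theorem pS_eq_one_of_fix {s : Bool} {g : St} (h : Fix s g.1) : pS s g = 1 :=
  Equiv.ext fun w => Subtype.ext (by rw [pS_apply, h, pr_inj]; rfl)

theorem eq_one_of_fix {s : Bool} {g : O8} (h : Fix s g) (h' : Fix (!s) g) : g = 1 :=
  eq_one_of_ap fun v => by rw [eq_inj_add s v, ap_add, h, h']

theorem fix_inv {s : Bool} {g : O8} (h : Fix s g) : Fix s g⁻¹ := fun w => by
  conv_lhs => rw [← h w, ap_inv_ap]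

theorem Fix.pr_eq {s : Bool} {g : O8} (h : Fix s g) (v : Vv) : pr s (ap g v) = pr s v := by
  have key : ∀ u, alt u (pr s (ap g v) + pr s v) = 0 := fun u => by
    have e : bV (inj s u) (ap g v) = bV (inj s u) v := by
      conv_lhs => rw [← h u, ap_b]
    rw [bV_inj, bV_inj] at e
    rw [alt_comm', alt_add, alt_comm', alt_comm' (pr s v), e]
    exact z2_two _
  have h0 := alt_nondeg' (x := pr s (ap g v) + pr s v) fun u => by rw [alt_comm']; exact key u
  rw [add_eq_zero_iff_eq_neg] at h0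
  rw [h0]
  funext i
  have := congrArg (fun w : W => w i) (show pr s v + pr s v = 0 from funext fun i => Prod.ext (z2_two _) (z2_two _))
  exact (eq_neg_of_add_eq_zero_left this).symm

theorem fix_mem_St {s : Bool} {g : O8} (h : Fix s g) : g ∈ St := by
  have fwd : ∀ f : O8, Fix s f → ∀ v, pr (!s) v = 0 → pr (!s) (ap f v) = 0 := fun f hf v hv => by
    rw [eq_inj_of_pr hv, hf, pr_inj']
  intro t v
  rcases Bool.eq_or_eq_not t s with rfl | rfl
  · rw [h.pr_eq]
  · refine ⟨fun hv => ?_, fwd g h v⟩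
    have h' := fwd g⁻¹ (fix_inv h) _ hv
    rwa [ap_inv_ap] at h'

theorem pS_pair_injective {g g' : St} (h : ∀ s, pS s g = pS s g') : g = g' := by
  have h1 : ∀ s, pS s (g⁻¹ * g') = 1 := fun s => by rw [map_mul, map_inv, h, inv_mul_cancel]
  have : g⁻¹ * g' = 1 :=
    Subtype.ext (eq_one_of_fix (s := false) (fix_of_pS (h1 false)) (fix_of_pS (h1 true)))
  exact (inv_mul_eq_one.1 this)

set_option synthInstance.maxHeartbeats 400000 in
set_option synthInstance.maxSize 2000 in
theorem swap_facts : ∀ a b : W, (a ≠ 0 ∧ qW a = 0) → (b ≠ 0 ∧ qW b = 0) → a ≠ b →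
    qW (a + b) = 1 ∧ ∀ c : W, (c ≠ 0 ∧ qW c = 0) →
      (if alt (a + b) c = 1 then c + (a + b) else c) = if c = a then b else if c = b then a else c := by
  decide +kernel

/-- Every permutation of the points of one summand is induced, fixing the other summand. -/
theorem exists_lift (s : Bool) (σ : Equiv.Perm Sg) : ∃ g : St, pS s g = σ ∧ Fix (!s) g.1 ∧
    (g.1 ∈ Om ↔ Equiv.Perm.sign σ = 1) := by
  classical
  refine Equiv.Perm.swap_induction_on σ ⟨1, map_one _, fun w => ap_one _, by simp [one_mem]⟩ ?_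
  rintro f a b hab ⟨g, hg, hgf, hgo⟩
  obtain ⟨hq, hc⟩ := swap_facts a.1 b.1 a.2 b.2 (fun h => hab (Subtype.ext h))
  set u : Vv := inj s (a.1 + b.1) with hu
  have hqu : qv u = 1 := by rw [hu, qv_inj, hq]
  have hfix : Fix (!s) (rf u hqu) := fun w => by
    rw [ap_rf, hu, bV_inj, show pr s (inj (!s) w) = 0 by cases s <;> rfl]
    simp [alt]
  refine ⟨⟨rf u hqu, fix_mem_St hfix⟩ * g, ?_, fun w => ?_, ?_⟩
  · rw [map_mul, hg]
    refine congrArg (· * f) ?_
    refine Equiv.ext fun c => Subtype.ext ?_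
    rw [pS_apply, ap_rf, hu, bV_inj, pr_inj]
    have h1 := hc c.1 c.2
    have h2 : (Equiv.swap a b c).1 = if c.1 = a.1 then b.1 else if c.1 = b.1 then a.1 else c.1 := by
      rw [Equiv.swap_apply_def]
      by_cases e1 : c = a
      · subst e1; simp
      · rw [if_neg e1, if_neg fun h => e1 (Subtype.ext h)]
        by_cases e2 : c = b
        · subst e2; simp
        · rw [if_neg e2, if_neg fun h => e2 (Subtype.ext h)]
    rw [h2, ← h1]
    split_ifs
    · rw [pr_add, pr_inj, pr_inj]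
    · rw [pr_inj]
  · show ap (_ * g.1) _ = _
    rw [ap_mul, hgf, hfix]
  · show _ * g.1 ∈ Om ↔ _
    rw [Subgroup.mul_mem_iff_of_index_two om_index, map_mul, Equiv.Perm.sign_swap hab]
    have := rf_not_mem u hqu
    rcases Int.units_eq_one_or (Equiv.Perm.sign f) with e | e <;> simp [e] at hgo ⊢ <;> tauto

theorem mem_Om_iff (g : St) :
    g.1 ∈ Om ↔ Equiv.Perm.sign (pS false g) * Equiv.Perm.sign (pS true g) = 1 := by
  obtain ⟨g0, h0, f0, o0⟩ := exists_lift false (pS false g)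
  obtain ⟨g1, h1, f1, o1⟩ := exists_lift true (pS true g)
  have e : g = g0 * g1 := pS_pair_injective fun s => by
    rw [map_mul]
    cases s
    · rw [h0, pS_eq_one_of_fix (s := false) (g := g1) f1, mul_one]
    · rw [h1, pS_eq_one_of_fix (s := true) (g := g0) f0, one_mul]
  have : g.1 = g0.1 * g1.1 := congrArg Subtype.val e
  rw [this, Subgroup.mul_mem_iff_of_index_two om_index, o0, o1]
  rcases Int.units_eq_one_or (Equiv.Perm.sign (pS false g)) with a | a <;>
    rcases Int.units_eq_one_or (Equiv.Perm.sign (pS true g)) with b | b <;> simp [a, b]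

/-- The elements of `Ω` acting trivially on the summand opposite to `s`. -/
noncomputable def K (s : Bool) : Subgroup O8 :=
  Om ⊓ {  carrier := {g | Fix (!s) g}
          one_mem' := fun w => ap_one _
          mul_mem' := fun {a b} ha hb w => by rw [ap_mul, hb, ha]
          inv_mem' := fun ha => fix_inv ha }

theorem mem_K {s : Bool} {g : O8} : g ∈ K s ↔ g ∈ Om ∧ Fix (!s) g := Iff.rfl

theorem K_le_St (s : Bool) : K s ≤ St := fun _ h => fix_mem_St h.2

theorem sign_K {s : Bool} {g : O8} (h : g ∈ K s) :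
    Equiv.Perm.sign (pS s ⟨g, K_le_St s h⟩) = 1 := by
  have h1 := (mem_Om_iff ⟨g, K_le_St s h⟩).1 h.1
  have h2 := pS_eq_one_of_fix (g := ⟨g, K_le_St s h⟩) h.2
  cases s <;> simp_all

/-- Each of the two subgroups is `A5`. -/
theorem K_equiv (s : Bool) : Nonempty (↥(K s) ≃* alternatingGroup (Fin 5)) := by
  classical
  let e5 : Sg ≃ Fin 5 := Fintype.equivFinOfCardEq card_Sg
  let f : ↥(K s) →* alternatingGroup (Fin 5) :=
    ((e5.permCongrHom.toMonoidHom.comp (pS s)).comp (Subgroup.inclusion (K_le_St s))).codRestrict _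
      fun g => by
        show e5.permCongr (pS s ⟨g.1, K_le_St s g.2⟩) ∈ alternatingGroup (Fin 5)
        rw [Equiv.Perm.mem_alternatingGroup, Equiv.Perm.sign_permCongr, sign_K g.2]
  refine ⟨MulEquiv.ofBijective f ⟨fun a b h => ?_, fun p => ?_⟩⟩
  · have e : pS s ⟨a.1, K_le_St s a.2⟩ = pS s ⟨b.1, K_le_St s b.2⟩ :=
      e5.permCongr.injective (congrArg Subtype.val h)
    have e' : pS (!s) ⟨a.1, K_le_St s a.2⟩ = pS (!s) ⟨b.1, K_le_St s b.2⟩ := by
      rw [pS_eq_one_of_fix (g := ⟨a.1, K_le_St s a.2⟩) a.2.2,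
        pS_eq_one_of_fix (g := ⟨b.1, K_le_St s b.2⟩) b.2.2]
    have := pS_pair_injective (g := ⟨a.1, K_le_St s a.2⟩) (g' := ⟨b.1, K_le_St s b.2⟩) fun t => by
      rcases Bool.eq_or_eq_not t s with rfl | rfl
      exacts [e, e']
    exact Subtype.ext (congrArg (fun x : St => x.1) this :)
  · obtain ⟨g, hg, hgf, hgo⟩ := exists_lift s (e5.symm.permCongr p.1)
    have hm : g.1 ∈ K s := ⟨hgo.2 (by rw [Equiv.Perm.sign_permCongr]; exact p.2), hgf⟩
    refine ⟨⟨g.1, hm⟩, Subtype.ext ?_⟩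
    show e5.permCongr (pS s g) = p.1
    rw [hg, ← Equiv.permCongr_symm, Equiv.apply_symm_apply]

theorem K_comm {s : Bool} {g k : O8} (hg : g ∈ K s) (hk : k ∈ K (!s)) : g * k = k * g := by
  have h := congrArg Subtype.val (pS_pair_injective (g := (⟨g, K_le_St s hg⟩ * ⟨k, K_le_St _ hk⟩ : St))
    (g' := ⟨k, K_le_St _ hk⟩ * ⟨g, K_le_St s hg⟩) fun t => by
      have a := pS_eq_one_of_fix (g := ⟨g, K_le_St s hg⟩) hg.2
      have b := pS_eq_one_of_fix (g := ⟨k, K_le_St (!s) hk⟩) hk.2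
      simp only [Bool.not_not] at b
      rcases Bool.eq_or_eq_not t s with rfl | rfl
      · rw [map_mul, map_mul, b, mul_one, one_mul]
      · rw [map_mul, map_mul, a, mul_one, one_mul])
  exact h

set_option synthInstance.maxHeartbeats 400000 in
set_option synthInstance.maxSize 2000 in
theorem pair_unique : ∀ a b c d : W, (a ≠ 0 ∧ qW a = 0) → (b ≠ 0 ∧ qW b = 0) →
    (c ≠ 0 ∧ qW c = 0) → (d ≠ 0 ∧ qW d = 0) → a ≠ b → a + b = c + d → c = a ∨ c = b := by
  decide +kernel

theorem five_no_fix {σ : Equiv.Perm Sg} (h5 : σ ^ 5 = 1) (h1 : σ ≠ 1) (a : Sg) : σ a ≠ a := by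
  classical
  intro ha
  haveI : Fact (Nat.Prime 5) := ⟨by norm_num⟩
  have hm := Equiv.Perm.card_compl_support_modEq (p := 5) (n := 1) (σ := σ) (by simpa using h5)
  rw [card_Sg, Finset.card_compl, card_Sg] at hm
  have hle : σ.support.card ≤ 4 := by
    have : σ.support ⊆ Finset.univ.erase a := fun x hx =>
      Finset.mem_erase.2 ⟨fun e => Equiv.Perm.mem_support.1 hx (e ▸ ha), Finset.mem_univ _⟩
    have := Finset.card_le_card this
    rwa [Finset.card_erase_of_mem (Finset.mem_univ _), Finset.card_univ, card_Sg] at this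
  refine h1 (Equiv.Perm.support_eq_empty_iff.1 (Finset.card_eq_zero.1 ?_))
  unfold Nat.ModEq at hm
  omega

theorem five_cases {σ τ : Equiv.Perm Sg} (h5 : σ ^ 5 = 1) (h1 : σ ≠ 1) (hc : σ * τ = τ * σ) :
    ∃ i : ℕ, τ = σ ^ i := by
  classical
  obtain ⟨a⟩ : Nonempty Sg := Fintype.card_pos_iff.1 (by rw [card_Sg]; norm_num)
  have hinj : Function.Injective fun i : Fin 5 => (σ ^ (i : ℕ)) a := by
    haveI : Fact (Nat.Prime 5) := ⟨by norm_num⟩
    have key : ∀ i j : Fin 5, i < j → (σ ^ (i : ℕ)) a ≠ (σ ^ (j : ℕ)) a := by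
      intro i j hij h
      have e : (σ ^ ((j : ℕ) - i)) a = a := by
        apply (σ ^ (i : ℕ)).injective
        rw [← Equiv.Perm.mul_apply, ← pow_add, Nat.add_sub_cancel' hij.le, h]
      refine five_no_fix (σ := σ ^ ((j : ℕ) - i)) (by rw [← pow_mul, mul_comm, pow_mul, h5, one_pow]) ?_ a e
      intro h'
      have h5' := orderOf_eq_prime h5 h1
      have := orderOf_dvd_of_pow_eq_one h'
      rw [h5'] at this
      have h2 : (i : ℕ) < j := hij
      have h3 := Nat.le_of_dvd (by omega) this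
      omega
    intro i j h
    rcases lt_trichotomy i j with e | e | e
    exacts [absurd h (key i j e), e, absurd h.symm (key j i e)]
  have hsurj : Function.Surjective fun i : Fin 5 => (σ ^ (i : ℕ)) a :=
    ((Fintype.bijective_iff_injective_and_card _).2 ⟨hinj, by rw [card_Sg, Fintype.card_fin]⟩).2
  obtain ⟨i, hi⟩ := hsurj (τ a)
  refine ⟨i, Equiv.ext fun w => ?_⟩
  obtain ⟨j, rfl⟩ := hsurj w
  have hcj : τ * σ ^ (j : ℕ) = σ ^ (j : ℕ) * τ := ((show Commute σ τ from hc).pow_left _).symm.eq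
  calc τ ((σ ^ (j : ℕ)) a) = (σ ^ (j : ℕ)) (τ a) := congrArg (fun π : Equiv.Perm Sg => π a) hcj
    _ = (σ ^ (j : ℕ) * σ ^ (i : ℕ)) a := by rw [Equiv.Perm.mul_apply, ← hi]
    _ = (σ ^ (i : ℕ)) ((σ ^ (j : ℕ)) a) := by rw [pow_mul_comm]; rfl

/-- The fixed space of an element of order five of `K s`. -/
theorem fixed_of_five {s : Bool} {k : O8} (hk : k ∈ K s) (h5 : k ^ 5 = 1) (h1 : k ≠ 1) {v : Vv}
    (hv : ap k v = v) : pr s v = 0 := by
  classical
  set σ := pS s ⟨k, K_le_St s hk⟩ with hσ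
  have hσ5 : σ ^ 5 = 1 := by
    rw [hσ, ← map_pow, show (⟨k, K_le_St s hk⟩ : St) ^ 5 = 1 from Subtype.ext h5, map_one]
  have hσ1 : σ ≠ 1 := fun h => h1 (eq_one_of_fix (fix_of_pS (g := ⟨k, K_le_St s hk⟩) h) hk.2)
  have hw : ap k (inj s (pr s v)) = inj s (pr s v) := by
    have e := hv
    rw [eq_inj_add s v, ap_add, hk.2] at e
    exact add_right_cancel e
  by_contra hz
  rcases sg_span (pr s v) with h | h | ⟨a, b, ha, hb, h⟩
  · exact hz h
  · exact absurd (Subtype.ext (show pr s (ap k (inj s (pr s v))) = pr s v by rw [hw, pr_inj]) : σ ⟨_, h⟩ = ⟨_, h⟩)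
      (five_no_fix hσ5 hσ1 _)
  · have hab : a ≠ b := by
      rintro rfl
      exact hz (h.trans (funext fun i => Prod.ext (z2_two _) (z2_two _)))
    have e : a + b = (σ ⟨a, ha⟩).1 + (σ ⟨b, hb⟩).1 := by
      show a + b = pr s (ap k (inj s a)) + pr s (ap k (inj s b))
      rw [← pr_add, ← ap_add, ← inj_add, ← h, hw, pr_inj]
    rcases pair_unique a b _ _ ha hb (σ ⟨a, ha⟩).2 (σ ⟨b, hb⟩).2 hab e with h' | h'
    · exact five_no_fix hσ5 hσ1 _ (Subtype.ext h')
    · rcases pair_unique a b _ _ ha hb (σ ⟨b, hb⟩).2 (σ ⟨a, ha⟩).2 hab (by rw [e, add_comm]) with h'' | h''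
      · have hsq : (σ ^ 2) ⟨a, ha⟩ = ⟨a, ha⟩ := by
          show σ (σ ⟨a, ha⟩) = _
          rw [show σ ⟨a, ha⟩ = ⟨b, hb⟩ from Subtype.ext h']
          exact Subtype.ext h''
        refine five_no_fix (σ := σ ^ 2) (by rw [← pow_mul, mul_comm, pow_mul, hσ5, one_pow]) ?_ _ hsq
        intro h2
        apply hσ1
        calc σ = σ ^ 5 * σ * 1 := by rw [hσ5, one_mul, mul_one]
          _ = (σ ^ 2) ^ 3 * 1 := by group
          _ = 1 := by rw [h2, one_pow, one_mul]
      · exact five_no_fix hσ5 hσ1 _ (Subtype.ext h'')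

/-- What commutes with an element of order five of `K true`. -/
theorem comm_five {k g : O8} (hk : k ∈ K true) (h5 : k ^ 5 = 1) (h1 : k ≠ 1)
    (hc : g * k = k * g) : g ∈ St ∧ ∃ i : ℕ, Fix true (g * (k ^ i)⁻¹) := by
  have hmap : ∀ f : O8, f * k = k * f → ∀ v, v.2 = 0 → (ap f v).2 = 0 := fun f hf v hv => by
    refine fixed_of_five hk h5 h1 (v := ap f v) ?_
    rw [← ap_mul, ← hf, ap_mul]
    refine congrArg (ap f) ?_
    have := hk.2 v.1
    rwa [show inj (!true) v.1 = v from Prod.ext rfl hv.symm] at this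
  have hci : g⁻¹ * k = k * g⁻¹ := (Commute.inv_left (show Commute g k from hc)).eq
  have hiff : ∀ v, (ap g v).2 = 0 ↔ v.2 = 0 := fun v => ⟨fun h => by
    have := hmap _ hci _ h
    rwa [ap_inv_ap] at this, hmap g hc v⟩
  have horth : ∀ f : O8, (∀ v, v.2 = 0 → (ap f⁻¹ v).2 = 0) → ∀ v : Vv, v.1 = 0 → (ap f v).1 = 0 :=
    fun f hf v hv => alt_nondeg' fun y => by
      rw [alt_comm']
      have hy : pr true (ap f⁻¹ (inj false y)) = 0 := hf _ rfl
      show alt y (pr false (ap f v)) = 0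
      rw [← bV_inj false, bV_comm, ap_b_left, bV_comm, eq_inj_of_pr (s := false) hy, bV_inj]
      show alt _ v.1 = 0
      rw [hv]
      simp [alt]
  have hmem : g ∈ St := by
    intro s v
    cases s
    · refine ⟨fun h => ?_, horth g (hmap _ hci) v⟩
      have := horth g⁻¹ (by rw [inv_inv]; exact hmap g hc) _ h
      rwa [ap_inv_ap] at this
    · exact hiff v
  have hσ1 : pS true ⟨k, K_le_St true hk⟩ ≠ 1 := fun h =>
    h1 (eq_one_of_fix (fix_of_pS (g := ⟨k, K_le_St true hk⟩) h) hk.2)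
  obtain ⟨i, hi⟩ := five_cases (σ := pS true ⟨k, K_le_St true hk⟩) (τ := pS true ⟨g, hmem⟩)
    (by rw [← map_pow, show (⟨k, K_le_St true hk⟩ : St) ^ 5 = 1 from Subtype.ext h5, map_one]) hσ1
    (by rw [← map_mul, ← map_mul]; exact congrArg _ (Subtype.ext hc.symm))
  refine ⟨hmem, i, fix_of_pS (g := ⟨g, hmem⟩ * (⟨k, K_le_St true hk⟩ ^ i)⁻¹) ?_⟩
  rw [map_mul, map_inv, map_pow, hi, mul_inv_cancel]

end CfsgLib.Trans3.Conway
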