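import Cfsg.Agent.Lib.Trans3.LargePair

/-!
The structure of `R` and `X` for two orthogonal singular elements.
-/

set_option autoImplicit false
set_option linter.style.haveILetI false

namespace CfsgLib.Trans3.LargeSymm

open Subgroup
open scoped commutatorElement

variable {G : Type*} [Group G] [Finite G]

namespace Pair

variable {Q : Subgroup G} {z g x : G} (P : Pair Q z g x)
include P

omit P in
theorem cent2 {a b y : G} : y ∈ centralizer (closure ({a, b} : Set G) : Set G) ↔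
    y * a = a * y ∧ y * b = b * y := by
  rw [centralizer_closure, mem_centralizer_iff]
  refine ⟨fun h => ⟨(h a (Set.mem_insert _ _)).symm, (h b (Set.mem_insert_of_mem _ rfl)).symm⟩, ?_⟩
  rintro ⟨ha, hb⟩ c (rfl | rfl)
  exacts [ha.symm, hb.symm]

theorem le_cz {y : G} (hy : y ∈ Q) : y ∈ centralizer ({z} : Set G) :=
  mem_centralizer_singleton_iff.2 (P.zc hy)

theorem conj_le_cx {y : G} (hy : y ∈ Q.map (MulAut.conj g).toMonoidHom) : y * x = x * y := by
  obtain ⟨g', -, P', -⟩ := P.swap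
  exact P'.zc hy

theorem norm' {c y : G} (hc : c * x = x * c) (hy : y ∈ Q.map (MulAut.conj g).toMonoidHom) :
    c * y * c⁻¹ ∈ Q.map (MulAut.conj g).toMonoidHom := by
  obtain ⟨g', -, P', -⟩ := P.swap
  exact P'.norm c (mem_centralizer_singleton_iff.2 hc) y hy

/-- `R` is normal under elements centralizing `z` and `x`. -/
theorem norm_R {c y : G} (hcz : c * z = z * c) (hcx : c * x = x * c)
    (hy : y ∈ (Q.map (MulAut.conj g).toMonoidHom ⊓ centralizer ({z} : Set G)) ⊔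
      (Q ⊓ centralizer ({x} : Set G))) :
    c * y * c⁻¹ ∈ (Q.map (MulAut.conj g).toMonoidHom ⊓ centralizer ({z} : Set G)) ⊔
      (Q ⊓ centralizer ({x} : Set G)) := by
  have h : ((Q.map (MulAut.conj g).toMonoidHom ⊓ centralizer ({z} : Set G)) ⊔
      (Q ⊓ centralizer ({x} : Set G))).map (MulAut.conj c).toMonoidHom ≤
      (Q.map (MulAut.conj g).toMonoidHom ⊓ centralizer ({z} : Set G)) ⊔
      (Q ⊓ centralizer ({x} : Set G)) := by
    have key : ∀ w : G, c * w = w * c → ∀ u, u * w = w * u → c * u * c⁻¹ * w = w * (c * u * c⁻¹) := by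
      intro w hw u hu
      have hwi : c⁻¹ * w = w * c⁻¹ := (Commute.inv_left hw).eq
      calc c * u * c⁻¹ * w = c * u * (w * c⁻¹) := by rw [← hwi]; group
        _ = c * (w * u) * c⁻¹ := by rw [← hu]; group
        _ = (w * c) * u * c⁻¹ := by rw [← hw]; group
        _ = w * (c * u * c⁻¹) := by group
    rw [Subgroup.map_sup]
    refine sup_le_sup ?_ ?_
    · rintro _ ⟨u, ⟨hu, huz⟩, rfl⟩
      exact ⟨P.norm' hcx hu, mem_centralizer_singleton_iff.2
        (key z hcz u (mem_centralizer_singleton_iff.1 huz))⟩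
    · rintro _ ⟨u, ⟨hu, hux⟩, rfl⟩
      exact ⟨P.norm c (mem_centralizer_singleton_iff.2 hcz) u hu, mem_centralizer_singleton_iff.2
        (key x hcx u (mem_centralizer_singleton_iff.1 hux))⟩
  exact h ⟨y, hy, rfl⟩

theorem R_le_cent : (Q.map (MulAut.conj g).toMonoidHom ⊓ centralizer ({z} : Set G)) ⊔
    (Q ⊓ centralizer ({x} : Set G)) ≤ centralizer (closure ({z, x} : Set G) : Set G) :=
  sup_le (fun _ hy => cent2.2 ⟨mem_centralizer_singleton_iff.1 hy.2, P.conj_le_cx hy.1⟩)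
    (fun _ hy => cent2.2 ⟨P.zc hy.1, mem_centralizer_singleton_iff.1 hy.2⟩)

/-- Elements of `Q` outside `C(x)` still normalize `R`. -/
theorem norm_R_Q {q y : G} (hq : q ∈ Q)
    (hy : y ∈ (Q.map (MulAut.conj g).toMonoidHom ⊓ centralizer ({z} : Set G)) ⊔
      (Q ⊓ centralizer ({x} : Set G))) :
    q * y * q⁻¹ ∈ (Q.map (MulAut.conj g).toMonoidHom ⊓ centralizer ({z} : Set G)) ⊔
      (Q ⊓ centralizer ({x} : Set G)) := by
  set R := (Q.map (MulAut.conj g).toMonoidHom ⊓ centralizer ({z} : Set G)) ⊔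
      (Q ⊓ centralizer ({x} : Set G))
  have h : R.map (MulAut.conj q).toMonoidHom ≤ R := by
    rw [Subgroup.map_sup]
    refine sup_le ?_ ?_
    · rintro _ ⟨u, hu, rfl⟩
      show q * u * q⁻¹ ∈ R
      obtain ⟨huz, hux⟩ := cent2.1 (P.R_le_cent (mem_sup_left hu))
      have hd : q * u * q⁻¹ * u⁻¹ ∈ Q ⊓ centralizer ({x} : Set G) := by
        refine mem_inf.2 ⟨?_, ?_⟩
        · rw [show q * u * q⁻¹ * u⁻¹ = q * (u * q⁻¹ * u⁻¹) by group]
          exact mul_mem hq (P.norm u (mem_centralizer_singleton_iff.2 huz) q⁻¹ (inv_mem hq))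
        · rw [mem_centralizer_singleton_iff]
          have hux' : u⁻¹ * x = x * u⁻¹ := (Commute.inv_left hux).eq
          have hq' : q⁻¹ * x * q = x ∨ q⁻¹ * x * q = z * x := by
            have := P.cases (inv_mem hq) P.mem
            rwa [inv_inv] at this
          rcases hq' with h | h
          · calc q * u * q⁻¹ * u⁻¹ * x = q * u * q⁻¹ * (x * u⁻¹) := by rw [← hux']; group
              _ = q * u * (q⁻¹ * x * q) * q⁻¹ * u⁻¹ := by group
              _ = q * (u * x) * q⁻¹ * u⁻¹ := by rw [h]; group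
              _ = q * (q⁻¹ * x * q) * u * q⁻¹ * u⁻¹ := by rw [hux, h]; group
              _ = x * (q * u * q⁻¹ * u⁻¹) := by group
          · calc q * u * q⁻¹ * u⁻¹ * x = q * u * q⁻¹ * (x * u⁻¹) := by rw [← hux']; group
              _ = q * u * (q⁻¹ * x * q) * q⁻¹ * u⁻¹ := by group
              _ = q * ((u * z) * x) * q⁻¹ * u⁻¹ := by rw [h]; group
              _ = q * ((z * u) * x) * q⁻¹ * u⁻¹ := by rw [huz]
              _ = q * (z * (u * x)) * q⁻¹ * u⁻¹ := by group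
              _ = q * (q⁻¹ * x * q) * u * q⁻¹ * u⁻¹ := by rw [hux, h]; group
              _ = x * (q * u * q⁻¹ * u⁻¹) := by group
      rw [show q * u * q⁻¹ = (q * u * q⁻¹ * u⁻¹) * u by group]
      exact mul_mem (mem_sup_right hd) (mem_sup_left hu)
    · rintro _ ⟨u, hu, rfl⟩
      show q * u * q⁻¹ ∈ R
      have hux := mem_centralizer_singleton_iff.1 hu.2
      refine mem_sup_right (mem_inf.2 ⟨mul_mem (mul_mem hq (mem_inf.1 hu).1) (inv_mem hq),
        mem_centralizer_singleton_iff.2 ?_⟩)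
      rcases P.cases hq hu.1 with h | h <;> rw [h]
      · exact hux
      · rw [mul_assoc, hux, ← mul_assoc, ← P.xz, mul_assoc]
  exact h ⟨y, hy, rfl⟩

theorem comm_E {a b : G} (ha : a ∈ Q ⊓ centralizer ({x} : Set G))
    (hb : b ∈ Q.map (MulAut.conj g).toMonoidHom ⊓ centralizer ({z} : Set G)) :
    a * b * a⁻¹ * b⁻¹ ∈ Q ⊓ Q.map (MulAut.conj g).toMonoidHom := by
  obtain ⟨ha1, ha2⟩ := mem_inf.1 ha
  obtain ⟨hb1, hb2⟩ := mem_inf.1 hb
  refine mem_inf.2 ⟨?_, mul_mem (P.norm' (mem_centralizer_singleton_iff.1 ha2) hb1) (inv_mem hb1)⟩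
  rw [show a * b * a⁻¹ * b⁻¹ = a * (b * a⁻¹ * b⁻¹) by group]
  exact mul_mem ha1 (P.norm b hb2 _ (inv_mem ha1))

/-- The structure of `R` (first statement). -/
theorem R_structure (V X R E : Subgroup G) (hV : V = closure ({z, x} : Set G))
    (hX : X = Q ⊔ Q.map (MulAut.conj g).toMonoidHom)
    (hR : R = (Q.map (MulAut.conj g).toMonoidHom ⊓ centralizer ({z} : Set G)) ⊔
      (Q ⊓ centralizer ({x} : Set G)))
    (hE : E = Q ⊓ Q.map (MulAut.conj g).toMonoidHom) :
    (center ↥R).map R.subtype = V ∧ E ≤ (Subgroup.upperCentralSeries ↥R 2).map R.subtype ∧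
    Subgroup.upperCentralSeries ↥R 3 = ⊤ ∧ Cfsg.IsElementaryAbelian 2 E ∧
    (∀ a ∈ R, ∀ b ∈ R, a * b * a⁻¹ * b⁻¹ ∈ E ∧ a ^ 2 ∈ E) ∧
    (Q.map (MulAut.conj g).toMonoidHom ⊓ centralizer ({z} : Set G)) ⊓
      (Q ⊓ centralizer ({x} : Set G)) = E ∧ ⁅X, E⁆ ≤ V := by
  subst hV hX hR hE
  obtain ⟨g', -, P', -⟩ := P.swap
  set Q' := Q.map (MulAut.conj g).toMonoidHom with hQ'
  set Pz := Q ⊓ centralizer ({x} : Set G) with hPz
  set Px := Q' ⊓ centralizer ({z} : Set G) with hPx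
  have hEz : Q ⊓ Q' ≤ Pz := fun e he =>
    ⟨he.1, mem_centralizer_singleton_iff.2 (P'.zc he.2)⟩
  have hEx : Q ⊓ Q' ≤ Px := fun e he => ⟨he.2, P.le_cz he.1⟩
  have hint : Px ⊓ Pz = Q ⊓ Q' :=
    le_antisymm (fun e he => ⟨he.2.1, he.1.1⟩) (le_inf hEx hEz)
  have hzV : z ∈ closure ({z, x} : Set G) := subset_closure (Set.mem_insert _ _)
  have hxV : x ∈ closure ({z, x} : Set G) := subset_closure (Set.mem_insert_of_mem _ rfl)
  have hzR : z ∈ Px ⊔ Pz := mem_sup_right ⟨P.z_mem, mem_centralizer_singleton_iff.2 P.xz.symm⟩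
  have hxR : x ∈ Px ⊔ Pz := mem_sup_right ⟨P.mem, mem_centralizer_singleton_iff.2 rfl⟩
  have hVc : closure ({z, x} : Set G) ≤ (center ↥(Px ⊔ Pz)).map (Px ⊔ Pz).subtype := by
    rw [closure_le]
    rintro v hv
    have hvR : v ∈ Px ⊔ Pz := by
      rcases hv with rfl | rfl
      exacts [hzR, hxR]
    refine ⟨⟨v, hvR⟩, mem_center_iff.2 fun r => Subtype.ext ?_, rfl⟩
    have h := cent2.1 (P.R_le_cent r.2)
    rcases hv with rfl | rfl
    exacts [h.1, h.2]
  have hcentre : (center ↥(Px ⊔ Pz)).map (Px ⊔ Pz).subtype = closure ({z, x} : Set G) := by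
    refine le_antisymm ?_ hVc
    rintro _ ⟨r, hr, rfl⟩
    have hc : ∀ s ∈ Px ⊔ Pz, s * (r : G) = r * s :=
      fun s hs => congrArg Subtype.val (mem_center_iff.1 hr ⟨s, hs⟩)
    have h := cent2.1 (P.R_le_cent r.2)
    rcases P.centralizes_fix h.1 h.2 (fun p hp hpx => hc p (mem_sup_right
      ⟨hp, mem_centralizer_singleton_iff.2 hpx⟩)) with e | e | e | e <;>
      show (r : G) ∈ _ <;> rw [e]
    exacts [one_mem _, hzV, hxV, mul_mem hzV hxV]
  have hXE : ⁅Q ⊔ Q', Q ⊓ Q'⁆ ≤ closure ({z, x} : Set G) := by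
    let S : Subgroup G :=
      { carrier := {s | s ∈ normalizer (closure ({z, x} : Set G) : Set G) ∧
          ∀ e ∈ Q ⊓ Q', s * e * s⁻¹ * e⁻¹ ∈ closure ({z, x} : Set G)}
        one_mem' := ⟨one_mem _, fun e _ => by simp⟩
        mul_mem' := fun {a b} ha hb => ⟨mul_mem ha.1 hb.1, fun e he => by
          rw [show a * b * e * (a * b)⁻¹ * e⁻¹ =
            (a * (b * e * b⁻¹ * e⁻¹) * a⁻¹) * (a * e * a⁻¹ * e⁻¹) by group]
          exact mul_mem ((mem_normalizer_iff.1 ha.1 _).1 (hb.2 e he)) (ha.2 e he)⟩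
        inv_mem' := fun {a} ha => ⟨inv_mem ha.1, fun e he => by
          rw [show a⁻¹ * e * a⁻¹⁻¹ * e⁻¹ = a⁻¹ * (a * e * a⁻¹ * e⁻¹)⁻¹ * a⁻¹⁻¹ by group]
          exact (mem_normalizer_iff.1 (inv_mem ha.1) _).1 (inv_mem (ha.2 e he))⟩ }
    have hnz : ∀ q ∈ Q, q * z * q⁻¹ ∈ closure ({z, x} : Set G) ∧
        q * x * q⁻¹ ∈ closure ({z, x} : Set G) := fun q hq => by
      refine ⟨by rw [P.zc hq, mul_inv_cancel_right]; exact hzV, ?_⟩
      rcases P.cases hq P.mem with h | h <;> rw [h]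
      exacts [hxV, mul_mem hzV hxV]
    have hnx : ∀ q ∈ Q', q * z * q⁻¹ ∈ closure ({z, x} : Set G) ∧
        q * x * q⁻¹ ∈ closure ({z, x} : Set G) := fun q hq => by
      refine ⟨?_, by rw [P'.zc hq, mul_inv_cancel_right]; exact hxV⟩
      rcases P'.cases hq P'.mem with h | h <;> rw [h]
      exacts [hzV, mul_mem hxV hzV]
    have hN : ∀ q : G, (q * z * q⁻¹ ∈ closure ({z, x} : Set G) ∧
        q * x * q⁻¹ ∈ closure ({z, x} : Set G)) →
        (q⁻¹ * z * q⁻¹⁻¹ ∈ closure ({z, x} : Set G) ∧ q⁻¹ * x * q⁻¹⁻¹ ∈ closure ({z, x} : Set G)) →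
        q ∈ normalizer (closure ({z, x} : Set G) : Set G) := by
      intro q h1 h2
      have hle : ∀ q : G, (q * z * q⁻¹ ∈ closure ({z, x} : Set G) ∧
        q * x * q⁻¹ ∈ closure ({z, x} : Set G)) → closure ({z, x} : Set G) ≤
          (closure ({z, x} : Set G)).comap (MulAut.conj q).toMonoidHom := fun q h => by
        rw [closure_le]
        rintro v (rfl | rfl)
        exacts [h.1, h.2]
      rw [mem_normalizer_iff]
      refine fun v => ⟨fun hv => hle q h1 hv, fun hv => ?_⟩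
      have hv' : q⁻¹ * (q * v * q⁻¹) * q⁻¹⁻¹ ∈ closure ({z, x} : Set G) := hle q⁻¹ h2 hv
      rwa [show q⁻¹ * (q * v * q⁻¹) * q⁻¹⁻¹ = v by group] at hv'
    have hle : Q ⊔ Q' ≤ S := by
      refine sup_le (fun q hq => ⟨hN q (hnz q hq) (hnz _ (inv_mem hq)), fun e he => ?_⟩)
        (fun q hq => ⟨hN q (hnx q hq) (hnx _ (inv_mem hq)), fun e he => ?_⟩)
      · exact (zpowers_le.2 hzV) (P.comm_mem hq he.1)
      · exact (zpowers_le.2 hxV) (P'.comm_mem hq he.2)
    rw [commutator_le]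
    intro s hs e he
    exact (hle hs).2 e he
  have hEab : Cfsg.IsElementaryAbelian 2 (Q ⊓ Q') := by
    refine ⟨⟨⟨fun a b => Subtype.ext ?_⟩⟩, fun a ha => ?_⟩
    · show (a : G) * b = b * a
      have h := zpowers_inf P.invol P.x_invol (Ne.symm P.ne) (P.comm_mem a.2.1 b.2.1)
        (P'.comm_mem a.2.2 b.2.2)
      exact mul_inv_eq_iff_eq_mul.1 (mul_inv_eq_one.1 h)
    · rw [pow_two]
      exact zpowers_inf P.invol P.x_invol (Ne.symm P.ne) (P.sq_mem ha.1) (P'.sq_mem ha.2)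
  -- `E` is normalized by `R`
  have hEn : ∀ r ∈ Px ⊔ Pz, ∀ e ∈ Q ⊓ Q', r * e * r⁻¹ ∈ Q ⊓ Q' := fun r hr e he => by
    have h := cent2.1 (P.R_le_cent hr)
    exact ⟨P.norm r (mem_centralizer_singleton_iff.2 h.1) e he.1, P.norm' h.2 he.2⟩
  have hcomm : ∀ a ∈ Px ⊔ Pz, ∀ b ∈ Px ⊔ Pz, a * b * a⁻¹ * b⁻¹ ∈ Q ⊓ Q' := by
    have mk : ∀ T : Set G, (∀ t ∈ T, t ∈ Px ⊔ Pz) → ∀ A : Subgroup G, A ≤ Px ⊔ Pz →
        (∀ t ∈ T, ∀ a ∈ A, t * a * t⁻¹ * a⁻¹ ∈ Q ⊓ Q') →
        ∀ t ∈ closure T, ∀ a ∈ A, t * a * t⁻¹ * a⁻¹ ∈ Q ⊓ Q' := by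
      intro T hT A _ h t ht
      induction ht using closure_induction with
      | mem t ht => exact h t ht
      | one => intro a _; simp
      | mul s t hs _ ihs iht =>
        intro a ha
        rw [show s * t * a * (s * t)⁻¹ * a⁻¹ =
          (s * (t * a * t⁻¹ * a⁻¹) * s⁻¹) * (s * a * s⁻¹ * a⁻¹) by group]
        exact mul_mem (hEn s ((closure_le _).2 hT hs) _ (iht a ha)) (ihs a ha)
      | inv s hs ihs =>
        intro a ha
        rw [show s⁻¹ * a * s⁻¹⁻¹ * a⁻¹ = s⁻¹ * (s * a * s⁻¹ * a⁻¹)⁻¹ * s⁻¹⁻¹ by group]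
        exact hEn _ (inv_mem ((closure_le _).2 hT hs)) _ (inv_mem (ihs a ha))
    have h1 : ∀ t ∈ (Px : Set G) ∪ Pz, ∀ a ∈ Px, t * a * t⁻¹ * a⁻¹ ∈ Q ⊓ Q' := by
      rintro t (ht | ht) a ha
      · have ht1 : t ∈ Q' := ht.1
        have ha1 : a ∈ Q' := ha.1
        refine mem_inf.2 ⟨?_, mul_mem (mul_mem (mul_mem ht1 ha1) (inv_mem ht1)) (inv_mem ha1)⟩
        rcases mem_zpowers_invol P.x_invol (P'.comm_mem ht1 ha1) with h | h <;> rw [h]
        exacts [one_mem _, P.mem]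
      · exact P.comm_E ht ha
    have h2 : ∀ t ∈ (Px : Set G) ∪ Pz, ∀ a ∈ Pz, t * a * t⁻¹ * a⁻¹ ∈ Q ⊓ Q' := by
      rintro t (ht | ht) a ha
      · rw [show t * a * t⁻¹ * a⁻¹ = (a * t * a⁻¹ * t⁻¹)⁻¹ by group]
        exact inv_mem (P.comm_E ha ht)
      · have ht1 : t ∈ Q := ht.1
        have ha1 : a ∈ Q := ha.1
        refine mem_inf.2 ⟨mul_mem (mul_mem (mul_mem ht1 ha1) (inv_mem ht1)) (inv_mem ha1), ?_⟩
        rcases mem_zpowers_invol P.invol (P.comm_mem ht1 ha1) with h | h <;> rw [h]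
        exacts [one_mem _, P'.mem]
    have hT : ∀ t ∈ (Px : Set G) ∪ Pz, t ∈ Px ⊔ Pz := by
      rintro t (ht | ht)
      exacts [mem_sup_left ht, mem_sup_right ht]
    intro a ha b hb
    rw [sup_eq_closure] at ha hb
    rw [show a * b * a⁻¹ * b⁻¹ = (b * a * b⁻¹ * a⁻¹)⁻¹ by group]
    refine inv_mem (mk _ hT (Px ⊔ Pz) le_rfl ?_ b hb a (by rwa [sup_eq_closure]))
    intro t ht c hc
    rw [sup_eq_closure] at hc
    rw [show t * c * t⁻¹ * c⁻¹ = (c * t * c⁻¹ * t⁻¹)⁻¹ by group]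
    refine inv_mem ?_
    rcases ht with ht | ht
    exacts [mk _ hT Px le_sup_left h1 c hc t ht, mk _ hT Pz le_sup_right h2 c hc t ht]
  have hsq : ∀ a ∈ Px ⊔ Pz, a * a ∈ Q ⊓ Q' := by
    intro a ha
    rw [sup_eq_closure] at ha
    have hcl : ∀ a, a ∈ closure ((Px : Set G) ∪ Pz) → a ∈ Px ⊔ Pz := fun a h => by
      rwa [sup_eq_closure]
    induction ha using closure_induction with
    | mem t ht =>
      rcases ht with ht | ht
      · refine ⟨?_, mul_mem ht.1 ht.1⟩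
        rcases mem_zpowers_invol P.x_invol (P'.sq_mem ht.1) with h | h <;> rw [h]
        exacts [one_mem _, P.mem]
      · refine ⟨mul_mem ht.1 ht.1, ?_⟩
        rcases mem_zpowers_invol P.invol (P.sq_mem ht.1) with h | h <;> rw [h]
        exacts [one_mem _, P'.mem]
    | one => simp [one_mem]
    | mul s t hs ht ihs iht =>
      rw [show s * t * (s * t) = (s * (t * s * t⁻¹ * s⁻¹) * s⁻¹) * (s * s) * (t * t) by group]
      exact mul_mem (mul_mem (hEn s (hcl s hs) _ (hcomm t (hcl t ht) s (hcl s hs))) ihs) iht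
    | inv s _ ihs =>
      rw [← _root_.mul_inv_rev]; exact inv_mem ihs
  have hZ2 : ∀ r : ↥(Px ⊔ Pz), (r : G) ∈ Q ⊓ Q' → r ∈ Subgroup.upperCentralSeries ↥(Px ⊔ Pz) 2 := by
    intro r hr
    rw [Subgroup.mem_upperCentralSeries_succ_iff]
    intro s
    rw [Subgroup.upperCentralSeries_one]
    obtain ⟨c, hc, e⟩ := hVc (hXE (commutator_mem_commutator
      ((sup_le ((inf_le_left : Px ≤ Q').trans le_sup_right) ((inf_le_left : Pz ≤ Q).trans le_sup_left)) s.2) hr))
    have : r * s * r⁻¹ * s⁻¹ = c⁻¹ := Subtype.ext (by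
      show (r : G) * s * (r : G)⁻¹ * (s : G)⁻¹ = (c : G)⁻¹
      rw [show (c : G) = (s : G) * r * (s : G)⁻¹ * (r : G)⁻¹ from e]
      group)
    rw [commutatorElement_def, this]; exact inv_mem hc
  refine ⟨hcentre, fun e he => ⟨⟨e, mem_sup_left (hEx he)⟩, hZ2 _ he, rfl⟩, ?_, hEab,
    fun a ha b hb => ⟨hcomm a ha b hb, by rw [pow_two]; exact hsq a ha⟩, hint, hXE⟩
  refine eq_top_iff.2 fun r _ => ?_
  rw [Subgroup.mem_upperCentralSeries_succ_iff]
  exact fun s => hZ2 _ (hcomm r r.2 s s.2)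

set_option maxHeartbeats 1600000 in
/-- The structure of `X` (second statement). -/
theorem X_structure (V X R : Subgroup G) (hV : V = closure ({z, x} : Set G))
    (hX : X = Q ⊔ Q.map (MulAut.conj g).toMonoidHom)
    (hR : R = (Q.map (MulAut.conj g).toMonoidHom ⊓ centralizer ({z} : Set G)) ⊔
      (Q ⊓ centralizer ({x} : Set G))) :
    R = X ⊓ centralizer (V : Set G) ∧ R = (Cfsg.pCore 2 ↥X).map X.subtype ∧
    (∃ h : (R.subgroupOf X).Normal, Nonempty (↥X ⧸ R.subgroupOf X ≃* Equiv.Perm (Fin 3))) ∧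
    normalizer (V : Set G) = X ⊔ (centralizer ({z} : Set G) ⊓ centralizer (V : Set G)) ∧
    (∀ y ∈ normalizer (V : Set G), ∀ a ∈ X, y * a * y⁻¹ ∈ X) ∧
    R ≤ centralizer ({z} : Set G) ⊓ centralizer (V : Set G) ∧
    (∀ a ∈ X, ∀ c ∈ centralizer ({z} : Set G) ⊓ centralizer (V : Set G),
      a * c * a⁻¹ * c⁻¹ ∈ R) ∧
    X ⊓ (centralizer ({z} : Set G) ⊓ centralizer (V : Set G)) = R := by
  classical
  haveI : Fact (Nat.Prime 2) := ⟨Nat.prime_two⟩
  subst hV hX
  set V := closure ({z, x} : Set G) with hVdef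
  obtain ⟨g', hg'x, P', hback⟩ := P.swap
  set Q' := Q.map (MulAut.conj g).toMonoidHom with hQ'
  obtain ⟨q0, hq0, hq0x⟩ := P.exists_move
  obtain ⟨q1, hq1, hq1z⟩ := P'.exists_move
  have hq0z : q0 * z * q0⁻¹ = z := by rw [P.zc hq0, mul_inv_cancel_right]
  have hq1x : q1 * x * q1⁻¹ = x := by rw [P'.zc hq1, mul_inv_cancel_right]
  have hzV : z ∈ V := subset_closure (Set.mem_insert _ _)
  have hxV : x ∈ V := subset_closure (Set.mem_insert_of_mem _ rfl)
  have hz1 : z ≠ 1 := invol_ne_one P.invol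
  have hx1 : x ≠ 1 := invol_ne_one P.x_invol
  have hVmem : ∀ v ∈ V, v = 1 ∨ v = z ∨ v = x ∨ v = z * x := by
    intro v hv
    have e1 : z * (z * x) = x := by rw [← mul_assoc, P.zz, one_mul]
    have e2 : x * (z * x) = z := by rw [← mul_assoc, P.xz, mul_assoc, P.xx, mul_one]
    have e3 : z * x * z = x := by rw [mul_assoc, P.xz, e1]
    have e4 : z * x * x = z := by rw [mul_assoc, P.xx, mul_one]
    have e5 : z * x * (z * x) = 1 := by rw [← mul_assoc, e3, P.xx]
    have e6 : (z * x)⁻¹ = z * x := inv_eq_of_mul_eq_one_right e5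
    induction hv using closure_induction with
    | mem t ht => rcases ht with rfl | rfl <;> simp
    | one => simp
    | mul a b _ _ iha ihb =>
      rcases iha with rfl | rfl | rfl | rfl <;> rcases ihb with rfl | rfl | rfl | rfl <;>
        simp only [one_mul, mul_one, P.zz, P.xx, e1, e2, e3, e4, e5, P.xz, true_or, or_true]
    | inv a _ iha =>
      rcases iha with rfl | rfl | rfl | rfl <;>
        simp [inv_eq_of_mul_eq_one_right P.zz, inv_eq_of_mul_eq_one_right P.xx, e6]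
  have hRle : R ≤ Q ⊔ Q' := by
    rw [hR]
    exact sup_le (inf_le_left.trans le_sup_right) (inf_le_left.trans le_sup_left)
  have hRc : R ≤ centralizer (V : Set G) := hR ▸ P.R_le_cent
  have hRn : ∀ a ∈ Q ⊔ Q', ∀ r ∈ R, a * r * a⁻¹ ∈ R := by
    have hQn : ∀ q ∈ Q, ∀ r ∈ R, q * r * q⁻¹ ∈ R := fun q hq r hr => by
      rw [hR] at hr ⊢; exact P.norm_R_Q hq hr
    have hQ'n : ∀ q ∈ Q', ∀ r ∈ R, q * r * q⁻¹ ∈ R := fun q hq r hr => by
      have hRR : R = (Q'.map (MulAut.conj g').toMonoidHom ⊓ centralizer ({x} : Set G)) ⊔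
          (Q' ⊓ centralizer ({z} : Set G)) := by
        rw [hR, hback, sup_comm]
      rw [hRR] at hr ⊢; exact P'.norm_R_Q hq hr
    intro a ha
    rw [sup_eq_closure] at ha
    induction ha using closure_induction with
    | mem t ht => rcases ht with ht | ht; exacts [hQn t ht, hQ'n t ht]
    | one => intro r hr; simpa using hr
    | mul s t _ _ ihs iht =>
      intro r hr
      rw [show s * t * r * (s * t)⁻¹ = s * (t * r * t⁻¹) * s⁻¹ by group]
      exact ihs _ (iht r hr)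
    | inv s _ ihs =>
      intro r hr
      have : (R.map (MulAut.conj s).toMonoidHom) = R :=
        eq_of_le_of_card_ge (by rintro _ ⟨u, hu, rfl⟩; exact ihs u hu)
          (Nat.card_congr (R.equivMapOfInjective _ (MulAut.conj s).injective).toEquiv).le
      obtain ⟨u, hu, e⟩ := this.symm ▸ hr
      rw [← e]
      show s⁻¹ * (s * u * s⁻¹) * s⁻¹⁻¹ ∈ R
      rwa [show s⁻¹ * (s * u * s⁻¹) * s⁻¹⁻¹ = u by group]
  haveI hRnorm : (R.subgroupOf (Q ⊔ Q')).Normal :=
    ⟨fun r hr a => mem_subgroupOf.2 (hRn a a.2 r (mem_subgroupOf.1 hr))⟩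
  -- the action on the three involutions of `V`
  let T := {v : G // v ∈ V ∧ v ≠ 1}
  have hnorm : ∀ q : G, q * z * q⁻¹ ∈ V → q * x * q⁻¹ ∈ V → q ∈ normalizer (V : Set G) := by
    intro q h1 h2
    have hle : V ≤ V.comap (MulAut.conj q).toMonoidHom := by
      rw [hVdef, closure_le]
      rintro v (rfl | rfl)
      exacts [h1, h2]
    have hmap : V.map (MulAut.conj q).toMonoidHom = V :=
      eq_of_le_of_card_ge (map_le_iff_le_comap.2 hle)
        (Nat.card_congr (V.equivMapOfInjective _ (MulAut.conj q).injective).toEquiv).le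
    rw [mem_normalizer_iff]
    refine fun y => ⟨fun hy => hle hy, fun hy => ?_⟩
    obtain ⟨w, hw, e⟩ := hmap.symm ▸ hy
    exact (MulAut.conj q).injective e ▸ hw
  have hXN : Q ⊔ Q' ≤ normalizer (V : Set G) := by
    refine sup_le (fun q hq => hnorm q (by rw [P.zc hq, mul_inv_cancel_right]; exact hzV) ?_)
      (fun q hq => hnorm q ?_ (by rw [P'.zc hq, mul_inv_cancel_right]; exact hxV))
    · rcases P.cases hq P.mem with h | h <;> rw [h]
      exacts [hxV, mul_mem hzV hxV]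
    · rcases P'.cases hq P'.mem with h | h <;> rw [h]
      exacts [hzV, mul_mem hxV hzV]
  let f : normalizer (V : Set G) →* Equiv.Perm T :=
    { toFun := fun q => Equiv.Perm.subtypePerm (MulAut.conj (q : G)).toEquiv (fun v => by
        show (q : G) * v * (q : G)⁻¹ ∈ V ∧ _ ↔ v ∈ V ∧ v ≠ 1
        rw [← mem_normalizer_iff.1 q.2 v]
        exact and_congr_right fun _ => not_congr conj_eq_one_iff)
      map_one' := Equiv.ext fun v => Subtype.ext (by simp)
      map_mul' := fun a b => Equiv.ext fun v => Subtype.ext (by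
        show ((a : G) * b) * v * ((a : G) * b)⁻¹ = (a : G) * ((b : G) * v * (b : G)⁻¹) * (a : G)⁻¹
        group) }
  have hfv : ∀ (q : normalizer (V : Set G)) (v : T),
      ((f q v : T) : G) = (q : G) * v * (q : G)⁻¹ := fun q v => rfl
  have hfker : ∀ q : normalizer (V : Set G), f q = 1 ↔ (q : G) ∈ centralizer (V : Set G) := by
    intro q
    constructor
    · intro hq v hv
      by_cases hv1 : v = 1
      · simp [hv1]
      have h := congrArg (fun p : Equiv.Perm T => ((p ⟨v, hv, hv1⟩ : T) : G)) hq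
      have h' : (q : G) * v * (q : G)⁻¹ = v := h
      exact (mul_inv_eq_iff_eq_mul.1 h').symm
    · intro hq
      refine Equiv.ext fun v => Subtype.ext ?_
      rw [hfv, ← hq v v.2.1, mul_inv_cancel_right]
      rfl
  let fX : ↥(Q ⊔ Q') →* Equiv.Perm T := f.comp (inclusion hXN)
  have hT : Nat.card T ≤ 3 := by
    have hsub : {v : G | v ∈ V ∧ v ≠ 1} ⊆ {z, x, z * x} := by
      rintro v ⟨hv, hv1⟩
      rcases hVmem v hv with h | h | h | h <;> simp_all
    refine le_trans (le_of_eq (Nat.card_coe_set_eq _)) ((Set.ncard_le_ncard hsub).trans ?_)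
    exact (Set.ncard_insert_le _ _).trans (by
      have := Set.ncard_insert_le x ({z * x} : Set G); simp at this; omega)
  have hT3 : Nat.card T = 3 := by
    refine le_antisymm hT ?_
    haveI := Fintype.ofFinite T
    have hzx1 : z * x ≠ 1 := fun h => P.ne (by
      calc x = z * (z * x) := by rw [← mul_assoc, P.zz, one_mul]
        _ = z := by rw [h, mul_one])
    have hne1 : (⟨z, hzV, hz1⟩ : T) ≠ ⟨x, hxV, hx1⟩ := fun h => P.ne (congrArg Subtype.val h).symm
    have hne2 : (⟨z, hzV, hz1⟩ : T) ≠ ⟨z * x, mul_mem hzV hxV, hzx1⟩ := fun h =>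
      hx1 (mul_eq_left.1 (congrArg Subtype.val h).symm)
    have hne3 : (⟨x, hxV, hx1⟩ : T) ≠ ⟨z * x, mul_mem hzV hxV, hzx1⟩ := fun h =>
      hz1 (mul_eq_right.1 (congrArg Subtype.val h).symm)
    have hs : ({⟨z, hzV, hz1⟩, ⟨x, hxV, hx1⟩, ⟨z * x, mul_mem hzV hxV, hzx1⟩} : Finset T).card = 3 := by
      simp [hne1, hne2, hne3]
    have := Finset.card_le_univ ({⟨z, hzV, hz1⟩, ⟨x, hxV, hx1⟩, ⟨z * x, mul_mem hzV hxV, hzx1⟩} : Finset T)
    rw [hs, ← Nat.card_eq_fintype_card] at this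
    exact this
  have hperm : Nat.card (Equiv.Perm T) = 6 := by rw [Nat.card_perm, hT3]; rfl
  -- the quotient by `R`
  set A : ↥(Q ⊔ Q') ⧸ R.subgroupOf (Q ⊔ Q') :=
    QuotientGroup.mk (⟨q0, mem_sup_left hq0⟩ : ↥(Q ⊔ Q')) with hAdef
  set B : ↥(Q ⊔ Q') ⧸ R.subgroupOf (Q ⊔ Q') :=
    QuotientGroup.mk (⟨q1, mem_sup_right hq1⟩ : ↥(Q ⊔ Q')) with hBdef
  have hmk : ∀ a : ↥(Q ⊔ Q'), (a : G) ∈ R →
      (QuotientGroup.mk a : ↥(Q ⊔ Q') ⧸ R.subgroupOf (Q ⊔ Q')) = 1 :=
    fun a ha => (QuotientGroup.eq_one_iff a).2 (mem_subgroupOf.2 ha)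
  have hPzR : ∀ q ∈ Q, q * x = x * q → q ∈ R := fun q hq h =>
    hR ▸ mem_sup_right ⟨hq, mem_centralizer_singleton_iff.2 h⟩
  have hPxR : ∀ q ∈ Q', q * z = z * q → q ∈ R := fun q hq h =>
    hR ▸ mem_sup_left ⟨hq, mem_centralizer_singleton_iff.2 h⟩
  have hsqx : ∀ q ∈ Q, q * q * x = x * (q * q) := fun q hq => by
    rcases mem_zpowers_invol P.invol (P.sq_mem hq) with h | h <;> rw [h]
    · rw [one_mul, mul_one]
    · exact P.xz.symm
  have hsqz : ∀ q ∈ Q', q * q * z = z * (q * q) := fun q hq => by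
    rcases mem_zpowers_invol P.x_invol (P'.sq_mem hq) with h | h <;> rw [h]
    · rw [one_mul, mul_one]
    · exact P.xz
  have hA2 : A * A = 1 := hmk _ (hPzR _ (mul_mem hq0 hq0) (hsqx q0 hq0))
  have hB2 : B * B = 1 := hmk _ (hPxR _ (mul_mem hq1 hq1) (hsqz q1 hq1))
  have hbraid : A * B * A = B * A * B := by
    -- both `q0 q1 q0⁻¹` and `q1 q0 q1⁻¹` are in the conjugate with centre `z x`
    set u := q0 * q1 * q0⁻¹
    set v := q1 * q0 * q1⁻¹
    have hu : u ∈ Q.map (MulAut.conj (q0 * g)).toMonoidHom := by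
      obtain ⟨a, ha, e⟩ := hq1
      exact ⟨a, ha, by show q0 * g * a * (q0 * g)⁻¹ = u; rw [show u = q0 * q1 * q0⁻¹ from rfl, ← e];
                       show q0 * g * a * (q0 * g)⁻¹ = q0 * (g * a * g⁻¹) * q0⁻¹; group⟩
    have hv : v ∈ Q.map (MulAut.conj q1).toMonoidHom := ⟨q0, hq0, rfl⟩
    have hconj : Q.map (MulAut.conj (q0 * g)).toMonoidHom = Q.map (MulAut.conj q1).toMonoidHom :=
      P.conj_eq (by
        rw [hq1z]
        calc q0 * g * z * (q0 * g)⁻¹ = q0 * (g * z * g⁻¹) * q0⁻¹ := by group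
          _ = x * z := by rw [← P.hx, hq0x, P.xz])
    rw [hconj] at hu
    obtain ⟨a, ha, ea⟩ := mul_mem hu hv
    have ea' : q1 * a * q1⁻¹ = u * v := ea
    have haR : a ∈ R := by
      refine hPzR a ha ?_
      have hu0 : u * x * u⁻¹ = z := by
        calc u * x * u⁻¹ = q0 * (q1 * (q0⁻¹ * x * q0) * q1⁻¹) * q0⁻¹ := rfl.trans (by simp only [u]; group)
          _ = q0 * ((q1 * z * q1⁻¹) * (q1 * x * q1⁻¹)) * q0⁻¹ := by
              have h0 : q0⁻¹ * x * q0 = z * x := by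
                calc q0⁻¹ * x * q0 = q0⁻¹ * (z * (z * x)) * q0 := by rw [← mul_assoc z, P.zz, one_mul]
                  _ = (q0⁻¹ * (z * q0)) * (q0⁻¹ * (q0 * x * q0⁻¹) * q0) := by rw [hq0x]; group
                  _ = z * x := by rw [← P.zc hq0]; group
              rw [h0]; group
          _ = q0 * z * q0⁻¹ := by
              rw [hq1z, hq1x, show x * z * x = z by rw [P.xz, mul_assoc, P.xx, mul_one]]
          _ = z := hq0z
      have hv0 : v * z * v⁻¹ = x := by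
        have hi : q1⁻¹ * z * q1 = x * z := by
          calc q1⁻¹ * z * q1 = q1⁻¹ * (x * (x * z)) * q1 := by rw [← mul_assoc x, P.xx, one_mul]
            _ = (q1⁻¹ * (x * q1)) * (q1⁻¹ * (q1 * z * q1⁻¹) * q1) := by rw [hq1z]; group
            _ = x * z := by rw [← P'.zc hq1]; group
        calc v * z * v⁻¹ = q1 * (q0 * (q1⁻¹ * z * q1) * q0⁻¹) * q1⁻¹ := by simp only [v]; group
          _ = q1 * ((q0 * x * q0⁻¹) * (q0 * z * q0⁻¹)) * q1⁻¹ := by rw [hi]; group
          _ = q1 * x * q1⁻¹ := by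
              rw [hq0x, hq0z, show z * x * z = x by rw [mul_assoc, P.xz, ← mul_assoc, P.zz, one_mul]]
          _ = x := hq1x
      -- `u v` fixes `z`
      have huv : u * v * z * (u * v)⁻¹ = z := by
        calc u * v * z * (u * v)⁻¹ = u * (v * z * v⁻¹) * u⁻¹ := by group
          _ = z := by rw [hv0, hu0]
      have hi : q1⁻¹ * z * q1 = x * z := by
        calc q1⁻¹ * z * q1 = q1⁻¹ * (x * (x * z)) * q1 := by rw [← mul_assoc x, P.xx, one_mul]
          _ = (q1⁻¹ * (x * q1)) * (q1⁻¹ * (q1 * z * q1⁻¹) * q1) := by rw [hq1z]; group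
          _ = x * z := by rw [← P'.zc hq1]; group
      have h1 : a * (x * z) * a⁻¹ = x * z := by
        calc a * (x * z) * a⁻¹ = q1⁻¹ * ((q1 * a * q1⁻¹) * z * (q1 * a * q1⁻¹)⁻¹) * q1 := by
              rw [← hi]; group
          _ = x * z := by rw [ea', huv, hi]
      have h2 : a * x * a⁻¹ = x := by
        refine mul_right_cancel (b := z) ?_
        calc a * x * a⁻¹ * z = a * x * (a⁻¹ * z) := by group
          _ = a * x * (z * a⁻¹) := by rw [P.zc (inv_mem ha)]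
          _ = a * (x * z) * a⁻¹ := by group
          _ = x * z := h1
      exact mul_inv_eq_iff_eq_mul.1 h2
    have huvR : u * v ∈ R := ea' ▸ hRn q1 (mem_sup_right hq1) a haR
    have h := hmk ⟨u * v, hRle huvR⟩ huvR
    have e : (⟨u * v, hRle huvR⟩ : ↥(Q ⊔ Q')) =
        ⟨q0, mem_sup_left hq0⟩ * ⟨q1, mem_sup_right hq1⟩ * (⟨q0, mem_sup_left hq0⟩ : ↥(Q ⊔ Q'))⁻¹ *
          (⟨q1, mem_sup_right hq1⟩ * ⟨q0, mem_sup_left hq0⟩ *
            (⟨q1, mem_sup_right hq1⟩ : ↥(Q ⊔ Q'))⁻¹) := Subtype.ext rfl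
    rw [e] at h
    have h' : A * B * A⁻¹ * (B * A * B⁻¹) = 1 := h
    rw [inv_eq_of_mul_eq_one_right hA2, inv_eq_of_mul_eq_one_right hB2] at h'
    rw [eq_inv_of_mul_eq_one_left h', _root_.mul_inv_rev, _root_.mul_inv_rev,
      inv_eq_of_mul_eq_one_right hA2, inv_eq_of_mul_eq_one_right hB2, ← mul_assoc]
  let S : Finset (↥(Q ⊔ Q') ⧸ R.subgroupOf (Q ⊔ Q')) := {1, A, B, A * B, B * A, A * B * A}
  have hSA : ∀ s ∈ S, A * s ∈ S := by
    intro s hs
    simp only [S, Finset.mem_insert, Finset.mem_singleton] at hs ⊢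
    rcases hs with rfl | rfl | rfl | rfl | rfl | rfl
    · simp
    · simp [hA2]
    · simp
    · right; right; left; rw [← mul_assoc, hA2, one_mul]
    · right; right; right; right; right; rw [← mul_assoc]
    · right; right; right; right; left; rw [mul_assoc A B A, ← mul_assoc, hA2, one_mul]
  have hSB : ∀ s ∈ S, B * s ∈ S := by
    intro s hs
    simp only [S, Finset.mem_insert, Finset.mem_singleton] at hs ⊢
    rcases hs with rfl | rfl | rfl | rfl | rfl | rfl
    · simp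
    · simp
    · simp [hB2]
    · right; right; right; right; right; rw [hbraid, ← mul_assoc]
    · right; left; rw [← mul_assoc, hB2, one_mul]
    · right; right; right; left; rw [hbraid, mul_assoc B A B, ← mul_assoc, hB2, one_mul]
  have hgenQ : ∀ q : ↥(Q ⊔ Q'), (q : G) ∈ Q →
      (QuotientGroup.mk q : ↥(Q ⊔ Q') ⧸ R.subgroupOf (Q ⊔ Q')) = 1 ∨ QuotientGroup.mk q = A := by
    intro q hq
    rcases P.split hq0x hq with h | h
    · exact Or.inl (hmk q (hPzR _ hq h))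
    · right
      rw [hAdef, eq_comm, QuotientGroup.eq, mem_subgroupOf]
      exact hPzR _ (mul_mem (inv_mem hq0) hq) h
  have hgenQ' : ∀ q : ↥(Q ⊔ Q'), (q : G) ∈ Q' →
      (QuotientGroup.mk q : ↥(Q ⊔ Q') ⧸ R.subgroupOf (Q ⊔ Q')) = 1 ∨ QuotientGroup.mk q = B := by
    intro q hq
    rcases P'.split hq1z hq with h | h
    · exact Or.inl (hmk q (hPxR _ hq h))
    · right
      rw [hBdef, eq_comm, QuotientGroup.eq, mem_subgroupOf]
      exact hPxR _ (mul_mem (inv_mem hq1) hq) h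
  have hall : ∀ a ∈ Q ⊔ Q', ∀ ha : a ∈ Q ⊔ Q', ∀ s ∈ S,
      (QuotientGroup.mk (⟨a, ha⟩ : ↥(Q ⊔ Q'))) * s ∈ S := by
    intro a ha
    rw [sup_eq_closure] at ha
    have hcl : ∀ a, a ∈ closure ((Q : Set G) ∪ Q') → a ∈ Q ⊔ Q' := fun a h => by
      rwa [sup_eq_closure]
    induction ha using closure_induction with
    | mem t ht =>
      intro ha s hs
      rcases ht with ht | ht
      · rcases hgenQ ⟨t, ha⟩ ht with h | h <;> rw [h]
        exacts [by rwa [one_mul], hSA s hs]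
      · rcases hgenQ' ⟨t, ha⟩ ht with h | h <;> rw [h]
        exacts [by rwa [one_mul], hSB s hs]
    | one =>
      intro ha s hs
      rw [show (⟨1, ha⟩ : ↥(Q ⊔ Q')) = 1 from rfl, QuotientGroup.mk_one, one_mul]; exact hs
    | mul b c hb hc ihb ihc =>
      intro ha s hs
      rw [show (⟨b * c, ha⟩ : ↥(Q ⊔ Q')) = ⟨b, hcl b hb⟩ * ⟨c, hcl c hc⟩ from rfl,
        QuotientGroup.mk_mul, mul_assoc]
      exact ihb _ _ (ihc _ s hs)
    | inv b hb ihb =>
      intro ha s hs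
      set m := (QuotientGroup.mk (⟨b, hcl b hb⟩ : ↥(Q ⊔ Q')))
      have hmS : S.image (m * ·) = S := Finset.eq_of_subset_of_card_le
        (fun y hy => by
          obtain ⟨s, hs, rfl⟩ := Finset.mem_image.1 hy
          exact ihb _ s hs)
        (Finset.card_image_of_injective _ (mul_right_injective m)).ge
      obtain ⟨s', hs', rfl⟩ := Finset.mem_image.1 (hmS.symm ▸ hs)
      rw [show (⟨b⁻¹, ha⟩ : ↥(Q ⊔ Q')) = (⟨b, hcl b hb⟩ : ↥(Q ⊔ Q'))⁻¹ from rfl,
        QuotientGroup.mk_inv, inv_mul_cancel_left]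
      exact hs'
  have hle6 : Nat.card (↥(Q ⊔ Q') ⧸ R.subgroupOf (Q ⊔ Q')) ≤ 6 := by
    haveI := Fintype.ofFinite (↥(Q ⊔ Q') ⧸ R.subgroupOf (Q ⊔ Q'))
    have hu : (Finset.univ : Finset (↥(Q ⊔ Q') ⧸ R.subgroupOf (Q ⊔ Q'))) ⊆ S := by
      intro y _
      obtain ⟨a, rfl⟩ := QuotientGroup.mk_surjective y
      have := hall a a.2 a.2 1 (by simp [S])
      rwa [mul_one] at this
    rw [Nat.card_eq_fintype_card, ← Finset.card_univ]
    refine (Finset.card_le_card hu).trans ?_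
    exact Finset.card_le_six
  have hRker : R.subgroupOf (Q ⊔ Q') ≤ fX.ker := fun a ha =>
    MonoidHom.mem_ker.2 ((hfker _).2 (hRc (mem_subgroupOf.1 ha)))
  have hrange : 6 ≤ Nat.card fX.range := by
    have h3 : 3 ≤ Nat.card fX.range ∧ 2 ∣ Nat.card fX.range := by
      set p0 : fX.range := ⟨fX ⟨q0, mem_sup_left hq0⟩, ⟨_, rfl⟩⟩
      set p1 : fX.range := ⟨fX ⟨q1, mem_sup_right hq1⟩, ⟨_, rfl⟩⟩
      have hp0z : (((p0 : Equiv.Perm T) ⟨z, hzV, hz1⟩ : T) : G) = z := hq0z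
      have hp1z : (((p1 : Equiv.Perm T) ⟨z, hzV, hz1⟩ : T) : G) = x * z := hq1z
      have hp0x : (((p0 : Equiv.Perm T) ⟨x, hxV, hx1⟩ : T) : G) = z * x := hq0x
      have hzne : z ≠ x * z := fun h => hx1 (mul_eq_right.1 h.symm)
      have hne : p0 ≠ p1 := fun h => hzne (by rw [← hp1z, ← h, hp0z])
      have h01 : p0 ≠ 1 := fun h => hz1 (by
        have : z * x = x := by rw [← hp0x, h]; rfl
        exact mul_eq_right.1 this)
      have h11 : p1 ≠ 1 := fun h => hzne (by rw [← hp1z, h]; rfl)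
      constructor
      · haveI := Fintype.ofFinite fX.range
        have hs : ({1, p0, p1} : Finset fX.range).card = 3 := by simp [hne, h01.symm, h11.symm]
        have := Finset.card_le_univ ({1, p0, p1} : Finset fX.range)
        rw [hs, ← Nat.card_eq_fintype_card] at this
        exact this
      · have hp : p0 * p0 = 1 := Subtype.ext (by
          show fX ⟨q0, _⟩ * fX ⟨q0, _⟩ = 1
          rw [← map_mul]
          exact MonoidHom.mem_ker.1 (hRker (mem_subgroupOf.2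
            (hPzR _ (mul_mem hq0 hq0) (hsqx q0 hq0)))))
        rw [← orderOf_eq_prime (p := 2) (by rw [pow_two]; exact hp) h01]
        exact orderOf_dvd_natCard p0
    have hd : Nat.card fX.range ∣ 6 := hperm ▸ card_subgroup_dvd_card fX.range
    obtain ⟨h3, h2⟩ := h3
    have := Nat.le_of_dvd (by norm_num) hd
    interval_cases h : Nat.card fX.range <;> simp_all
  have hkerR : fX.ker = R.subgroupOf (Q ⊔ Q') := by
    refine le_antisymm ?_ hRker
    have hi : (R.subgroupOf (Q ⊔ Q')).index ≤ fX.ker.index := by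
      rw [index_eq_card, index_ker]
      exact hle6.trans hrange
    have hdvd := index_dvd_of_le hRker
    have hpos : 0 < (R.subgroupOf (Q ⊔ Q')).index := Nat.pos_of_ne_zero index_ne_zero_of_finite
    have heq : fX.ker.index = (R.subgroupOf (Q ⊔ Q')).index :=
      le_antisymm (Nat.le_of_dvd hpos hdvd) hi
    have h1 := relIndex_mul_index hRker
    rw [heq] at h1
    exact relIndex_eq_one.1 (Nat.eq_of_mul_eq_mul_right hpos (by rw [h1, one_mul]))
  have hRX : R = (Q ⊔ Q') ⊓ centralizer (V : Set G) := by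
    refine le_antisymm (le_inf hRle hRc) fun a ha => ?_
    have : (⟨a, ha.1⟩ : ↥(Q ⊔ Q')) ∈ fX.ker := MonoidHom.mem_ker.2 ((hfker _).2 ha.2)
    rw [hkerR, mem_subgroupOf] at this
    exact this
  have hsurj : Function.Surjective fX := by
    rw [← MonoidHom.range_eq_top]
    exact eq_top_of_le_card _ (hperm ▸ hrange)
  obtain ⟨eT⟩ : Nonempty (T ≃ Fin 3) := by
    haveI := Fintype.ofFinite T
    rw [Nat.card_eq_fintype_card] at hT3
    exact ⟨Fintype.equivFinOfCardEq hT3⟩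
  have hiso : Nonempty (↥(Q ⊔ Q') ⧸ R.subgroupOf (Q ⊔ Q') ≃* Equiv.Perm (Fin 3)) :=
    ⟨((QuotientGroup.quotientMulEquivOfEq hkerR.symm).trans
      (QuotientGroup.quotientKerEquivOfSurjective fX hsurj)).trans eT.permCongrHom⟩
  have hRp : IsPGroup 2 R := by
    rw [hR]
    refine IsPGroup.to_sup_of_normal_right' ((P'.es.1.1).to_le inf_le_left)
      (P.es.1.1.to_le inf_le_left) ?_
    intro u hu
    rw [mem_normalizer_iff]
    obtain ⟨huz, hux⟩ := cent2.1 (P.R_le_cent (mem_sup_left hu))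
    have key : ∀ c : G, c * z = z * c → c * x = x * c → ∀ y ∈ Q ⊓ centralizer ({x} : Set G),
        c * y * c⁻¹ ∈ Q ⊓ centralizer ({x} : Set G) := fun c hcz hcx y hy => by
      have hc : c ∈ centralizer ({x} : Set G) := mem_centralizer_singleton_iff.2 hcx
      exact mem_inf.2 ⟨P.norm c (mem_centralizer_singleton_iff.2 hcz) y (mem_inf.1 hy).1,
        mul_mem (mul_mem hc (mem_inf.1 hy).2) (inv_mem hc)⟩
    refine fun y => ⟨key u huz hux y, fun hy => ?_⟩
    have h := key u⁻¹ (Commute.inv_left huz).eq (Commute.inv_left hux).eq _ hy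
    rwa [show u⁻¹ * (u * y * u⁻¹) * u⁻¹⁻¹ = y by group] at h
  have hcore : R = (Cfsg.pCore 2 ↥(Q ⊔ Q')).map (Q ⊔ Q').subtype := by
    refine le_antisymm (fun r hr => ⟨⟨r, hRle hr⟩, Amalgam.le_pCore hRnorm
      (hRp.of_equiv (subgroupOfEquivOfLe hRle).symm) (mem_subgroupOf.2 hr), rfl⟩) ?_
    rintro _ ⟨a, ha, rfl⟩
    have hbot : (Cfsg.pCore 2 ↥(Q ⊔ Q')).map (eT.permCongrHom.toMonoidHom.comp fX) = ⊥ := by
      set N := (Cfsg.pCore 2 ↥(Q ⊔ Q')).map (eT.permCongrHom.toMonoidHom.comp fX)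
      have hsurj' : Function.Surjective (eT.permCongrHom.toMonoidHom.comp fX) :=
        eT.permCongrHom.surjective.comp hsurj
      haveI hn : N.Normal := Amalgam.normal_pCore.map _ hsurj'
      obtain ⟨k, hk⟩ := (IsPGroup.iff_card).1
        ((Amalgam.isPGroup_pCore (p := 2) (G := ↥(Q ⊔ Q'))).map (eT.permCongrHom.toMonoidHom.comp fX))
      have hd : Nat.card N ∣ 6 := by
        have := card_subgroup_dvd_card N
        rwa [Nat.card_perm, Nat.card_fin] at this
      have hk1 : k ≤ 1 := by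
        by_contra hk'
        have : 4 ∣ 6 := dvd_trans ⟨2 ^ (k - 2), by
          rw [show (4 : ℕ) = 2 ^ 2 by norm_num, ← pow_add]; congr 1; omega⟩ (hk ▸ hd)
        omega
      rw [eq_bot_iff_forall]
      intro p hp
      by_contra hp1
      have hN2 : Nat.card N ≤ 2 := hk ▸ (Nat.pow_le_pow_right (by norm_num) hk1).trans le_rfl
      have hcentral : ∀ q, p * q = q * p := by
        intro q
        haveI := Fintype.ofFinite N
        have hmem : q * p * q⁻¹ ∈ N := hn.conj_mem p hp q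
        by_contra hne
        have h3 : ({(1 : N), ⟨p, hp⟩, ⟨q * p * q⁻¹, hmem⟩} : Finset N).card = 3 := by
          have a1 : (1 : N) ≠ ⟨p, hp⟩ := fun h => hp1 (congrArg Subtype.val h).symm
          have a2 : (1 : N) ≠ ⟨q * p * q⁻¹, hmem⟩ := fun h =>
            hp1 (conj_eq_one_iff.1 (congrArg Subtype.val h).symm)
          have a3 : (⟨p, hp⟩ : N) ≠ ⟨q * p * q⁻¹, hmem⟩ := fun h => hne
            (eq_mul_inv_iff_mul_eq.1 (congrArg Subtype.val h))
          simp [a1, a2, a3]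
        have := Finset.card_le_univ ({(1 : N), ⟨p, hp⟩, ⟨q * p * q⁻¹, hmem⟩} : Finset N)
        rw [h3, ← Nat.card_eq_fintype_card] at this
        omega
      exact hp1 ((by decide : ∀ p : Equiv.Perm (Fin 3), (∀ q, p * q = q * p) → p = 1) p hcentral)
    have h1 : eT.permCongrHom (fX a) = 1 := by
      have : (eT.permCongrHom.toMonoidHom.comp fX) a ∈ (⊥ : Subgroup _) := hbot ▸ ⟨a, ha, rfl⟩
      exact mem_bot.1 this
    have h2 : fX a = 1 := eT.permCongrHom.injective (h1.trans (map_one _).symm)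
    exact mem_subgroupOf.1 (hkerR ▸ MonoidHom.mem_ker.2 h2)
  have hRC : R ≤ centralizer ({z} : Set G) ⊓ centralizer (V : Set G) :=
    le_inf (fun r hr => mem_centralizer_singleton_iff.2 (hRc hr z hzV).symm) hRc
  have hnormal : ∀ y ∈ normalizer (V : Set G), ∀ a ∈ Q ⊔ Q', y * a * y⁻¹ ∈ Q ⊔ Q' := by
    intro y hy
    have hcl : ∀ b : G, b * z * b⁻¹ ∈ V → Q.map (MulAut.conj b).toMonoidHom ≤ Q ⊔ Q' := by
      intro b hb
      rcases hVmem _ hb with h | h | h | h
      · exact absurd (conj_eq_one_iff.1 h) hz1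
      · rw [P.conj_eq (a := b) (b := 1) (by rw [h]; group)]
        rintro _ ⟨q, hq, rfl⟩
        show 1 * q * 1⁻¹ ∈ Q ⊔ Q'
        rw [inv_one, mul_one, one_mul]; exact mem_sup_left hq
      · rw [P.conj_eq (a := b) (b := g) (h.trans P.hx)]
        exact le_sup_right
      · rw [P.conj_eq (a := b) (b := q0 * g) (by
          rw [h, ← hq0x, P.hx]; group)]
        rintro _ ⟨q, hq, rfl⟩
        show q0 * g * q * (q0 * g)⁻¹ ∈ Q ⊔ Q'
        rw [show q0 * g * q * (q0 * g)⁻¹ = q0 * (g * q * g⁻¹) * q0⁻¹ by group]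
        exact mul_mem (mul_mem (mem_sup_left hq0) (mem_sup_right ⟨q, hq, rfl⟩))
          (inv_mem (mem_sup_left hq0))
    have h : (Q ⊔ Q').map (MulAut.conj y).toMonoidHom ≤ Q ⊔ Q' := by
      rw [Subgroup.map_sup]
      refine sup_le (hcl y ((mem_normalizer_iff.1 hy z).1 hzV)) ?_
      rw [hQ', map_map]
      have : ((MulAut.conj y).toMonoidHom).comp (MulAut.conj g).toMonoidHom =
          (MulAut.conj (y * g)).toMonoidHom := by ext v; simp
      rw [this]
      refine hcl (y * g) ?_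
      rw [show y * g * z * (y * g)⁻¹ = y * (g * z * g⁻¹) * y⁻¹ by group, ← P.hx]
      exact (mem_normalizer_iff.1 hy x).1 hxV
    exact fun a ha => h ⟨a, ha, rfl⟩
  refine ⟨hRX, hcore, ⟨hRnorm, hiso⟩, ?_, hnormal, hRC, ?_, ?_⟩
  · refine le_antisymm (fun n hn => ?_) (sup_le hXN (fun c hc => ?_))
    · obtain ⟨a, ha⟩ := hsurj (f ⟨n, hn⟩)
      have hc : (a : G)⁻¹ * n ∈ centralizer (V : Set G) := by
        have : f ((inclusion hXN a)⁻¹ * ⟨n, hn⟩) = 1 := by
          rw [map_mul, map_inv]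
          show (fX a)⁻¹ * f ⟨n, hn⟩ = 1
          rw [ha, inv_mul_cancel]
        exact (hfker _).1 this
      rw [show n = (a : G) * ((a : G)⁻¹ * n) by group]
      exact mul_mem (mem_sup_left a.2) (mem_sup_right
        ⟨mem_centralizer_singleton_iff.2 (hc z hzV).symm, hc⟩)
    · exact hnorm c (by rw [← hc.2 z hzV, mul_inv_cancel_right]; exact hzV)
        (by rw [← hc.2 x hxV, mul_inv_cancel_right]; exact hxV)
  · intro a ha c hc
    have hcN : c ∈ normalizer (V : Set G) :=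
      hnorm c (by rw [← hc.2 z hzV, mul_inv_cancel_right]; exact hzV)
        (by rw [← hc.2 x hxV, mul_inv_cancel_right]; exact hxV)
    rw [hRX]
    refine ⟨?_, ?_⟩
    · rw [show a * c * a⁻¹ * c⁻¹ = a * (c * a⁻¹ * c⁻¹) by group]
      exact mul_mem ha (hnormal c hcN _ (inv_mem ha))
    · have haN := hXN ha
      refine (hfker ⟨_, mul_mem (mul_mem (mul_mem haN hcN) (inv_mem haN)) (inv_mem hcN)⟩).1 ?_
      show f (⟨a, haN⟩ * ⟨c, hcN⟩ * ⟨a, haN⟩⁻¹ * ⟨c, hcN⟩⁻¹) = 1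
      rw [map_mul, map_mul, map_mul, map_inv, map_inv, (hfker ⟨c, hcN⟩).2 hc.2]
      simp
  · refine le_antisymm (fun a ha => hRX.ge ⟨ha.1, ha.2.2⟩) (le_inf hRle hRC)

end Pair

end CfsgLib.Trans3.LargeSymm
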