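import Cfsg.Agent.Lib.Trans3.ConwayCfg
import Cfsg.Agent.Lib.Trans3.ConwaySplit
import Cfsg.Agent.Lib.Trans3.LargePairMain

/-!
The action of the involution centralizer in the Conway-type configuration.
-/

set_option autoImplicit false

namespace CfsgLib.Trans3.Conway

open ExtraTwo Subgroup

theorem W_shuffle {p q r s : W} (h : p + r = q + s) : p + q = r + s := by
  have key : ∀ a b c d : ZMod 2, a + c = b + d → a + b = c + d := by decide
  funext i
  exact Prod.ext (key _ _ _ _ (congrArg (fun v : W => (v i).1) h))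
    (key _ _ _ _ (congrArg (fun v : W => (v i).2) h))

theorem exists_dualW (l : W → ZMod 2) (hl : ∀ v w, l (v + w) = l v + l w) :
    ∃ w0, ∀ w, alt w0 w = l w := by
  classical
  have h0 : l 0 = 0 := by
    have h := hl 0 0
    rw [add_zero] at h
    linear_combination -h
  obtain ⟨w0, a, b, c, d⟩ := dual_vec (l ![(1, 0), (0, 0)]) (l ![(0, 1), (0, 0)])
    (l ![(0, 0), (1, 0)]) (l ![(0, 0), (0, 1)])
  refine ⟨w0, fun w => ?_⟩
  have ha : ∀ x y, alt w0 (x + y) = alt w0 x + alt w0 y := fun x y => by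
    rw [alt_comm', alt_add, alt_comm' x, alt_comm' y]
  have hz : alt w0 0 = 0 := by simp [alt]
  rw [basis_span w, ha, ha, ha, hl, hl, hl]
  congr 1
  · congr 1
    · congr 1
      · split_ifs
        exacts [a, hz.trans h0.symm]
      · split_ifs
        exacts [b, hz.trans h0.symm]
    · split_ifs
      exacts [c, hz.trans h0.symm]
  · split_ifs
    exacts [d, hz.trans h0.symm]

theorem exists_dual (l : Vv → ZMod 2) (hl : ∀ v w, l (v + w) = l v + l w) :
    ∃ v0, ∀ v, bV v0 v = l v := by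
  obtain ⟨a, ha⟩ := exists_dualW (fun w => l (inj false w)) (fun v w => by
    show l (inj false (v + w)) = _
    rw [inj_add, hl])
  obtain ⟨c, hc⟩ := exists_dualW (fun w => l (inj true w)) (fun v w => by
    show l (inj true (v + w)) = _
    rw [inj_add, hl])
  refine ⟨(a, c), fun v => ?_⟩
  have : l v = l (inj false v.1) + l (inj true v.2) := by
    conv_lhs => rw [eq_inj_add false v, hl]
    rfl
  rw [this, ← ha, ← hc]
  rfl

variable {G : Type*} [Group G] [Finite G]

/-- A fixed point for a permutation of prime power order on a set of order prime to it. -/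
theorem exists_fixed {α : Type*} [Finite α] {p k : ℕ} [hp : Fact p.Prime] (f : Equiv.Perm α)
    (h : f ^ p ^ k = 1) (hc : ¬ p ∣ Nat.card α) : ∃ x, f x = x := by
  classical
  cases nonempty_fintype α
  have hm := Equiv.Perm.card_compl_support_modEq (σ := f) h
  by_contra hh
  push_neg at hh
  have : f.supportᶜ = ∅ := by ext x; simpa using hh x
  rw [this, Finset.card_empty] at hm
  exact hc (by rw [Nat.card_eq_fintype_card]; exact (Nat.modEq_zero_iff_dvd.1 hm.symm))

/-- Conjugation on an invariant set, as a permutation. -/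
noncomputable def conjOn (c : G) (A : Set G) (hA : ∀ y, c * y * c⁻¹ ∈ A ↔ y ∈ A) : Equiv.Perm A :=
  Equiv.Perm.subtypePerm (MulAut.conj c).toEquiv hA

theorem exists_comm_in {p k : ℕ} [Fact p.Prime] (c : G) (hc : c ^ p ^ k = 1) (A : Set G)
    (hA : ∀ y, y ∈ A → c * y * c⁻¹ ∈ A) (hcard : ¬ p ∣ Nat.card A) :
    ∃ y ∈ A, c * y = y * c := by
  classical
  have hA' : ∀ y, c * y * c⁻¹ ∈ A ↔ y ∈ A := by
    intro y
    refine ⟨fun h => ?_, hA y⟩
    have pw : ∀ n : ℕ, ∀ y ∈ A, c ^ n * y * (c ^ n)⁻¹ ∈ A := by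
      intro n
      induction n with
      | zero => intro y hy; simpa using hy
      | succ n ih =>
        intro y hy
        have := hA _ (ih y hy)
        rwa [show c * (c ^ n * y * (c ^ n)⁻¹) * c⁻¹ = c ^ (n + 1) * y * (c ^ (n + 1))⁻¹ by
          rw [pow_succ']; group] at this
    obtain ⟨m, hm⟩ : ∃ m, p ^ k = m + 1 :=
      ⟨p ^ k - 1, (Nat.sub_add_cancel (Nat.one_le_pow k p (Fact.out : p.Prime).pos)).symm⟩
    have := pw m _ h
    rw [show c ^ m * (c * y * c⁻¹) * (c ^ m)⁻¹ = c ^ (m + 1) * y * (c ^ (m + 1))⁻¹ by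
      rw [pow_succ]; group, ← hm, hc] at this
    simpa using this
  have hpow : ∀ n : ℕ, ∀ y : A, ((conjOn c A hA' ^ n) y).1 = c ^ n * y.1 * (c ^ n)⁻¹ := by
    intro n
    induction n with
    | zero => intro y; simp
    | succ n ih =>
      intro y
      rw [pow_succ, Equiv.Perm.mul_apply, ih]
      show c ^ n * (c * y.1 * c⁻¹) * (c ^ n)⁻¹ = _
      rw [pow_succ]; group
  obtain ⟨y, hy⟩ := exists_fixed (p := p) (k := k) (conjOn c A hA')
    (Equiv.ext fun y => Subtype.ext (by rw [hpow, hc]; simp)) hcard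
  exact ⟨y.1, y.2, mul_inv_eq_iff_eq_mul.1 (congrArg Subtype.val hy :)⟩

/-- Centralizing `Q ∩ C(b)`. -/
def Cfg.CR {z b : G} {Q : Subgroup G} {u : G → Vv} (_S : Cfg z b Q u) (c : G) : Prop :=
  ∀ r ∈ Q, (u r).2 = 0 → c * r = r * c

namespace Cfg

variable {z b : G} {Q : Subgroup G} {u : G → Vv} (S : Cfg z b Q u)
include S

theorem zz : z * z = 1 := by rw [← pow_two, ← S.hz, pow_orderOf_eq_one]

theorem z_ne : z ≠ 1 := fun h => by
  have h2 := S.hz
  rw [h, orderOf_one] at h2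
  norm_num at h2

theorem zc {a : G} (ha : a ∈ Q) : a * z = z * a := mem_centralizer_singleton_iff.1 (S.hQH ha)

theorem hb5 : b ^ 5 = 1 := by rw [← S.hb, pow_orderOf_eq_one]

theorem b_mem : b ∈ centralizer ({z} : Set G) := mem_centralizer_singleton_iff.2 S.hbz

theorem u_one : u 1 = 0 := (S.ker 1 Q.one_mem).2 (Or.inl rfl)

theorem u_z : u z = 0 := (S.ker z S.hzQ).2 (Or.inr rfl)

theorem u_inv {a : G} (ha : a ∈ Q) : u a⁻¹ = u a := by
  have h := S.add a ha _ (inv_mem ha)
  rw [mul_inv_cancel, S.u_one] at h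
  exact (v_eq_of_add h.symm).symm

theorem cases_of_u {a c : G} (ha : a ∈ Q) (hc : c ∈ Q) (h : u a = u c) : a = c ∨ a = c * z := by
  have hm : c⁻¹ * a ∈ Q := mul_mem (inv_mem hc) ha
  have h0 : u (c⁻¹ * a) = 0 := by rw [S.add _ (inv_mem hc) _ ha, S.u_inv hc, h, v_add_self]
  rcases (S.ker _ hm).1 h0 with e | e
  · exact Or.inl (inv_mul_eq_one.1 e).symm
  · exact Or.inr (inv_mul_eq_iff_eq_mul.1 e)

theorem comm_iff' {a c : G} (ha : a ∈ Q) (hc : c ∈ Q) : a * c = c * a ↔ bV (u a) (u c) = 0 := by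
  have h := S.com a ha c hc
  refine ⟨fun e => ?_, fun e => by rw [h, e, if_pos rfl]⟩
  by_contra hne
  rw [if_neg hne, e] at h
  exact S.z_ne (mul_eq_right.1 h.symm)

theorem sq_one_iff {a : G} (ha : a ∈ Q) : a * a = 1 ↔ qv (u a) = 0 := by
  have h := S.sq a ha
  refine ⟨fun e => ?_, fun e => by rw [h, if_pos e]⟩
  by_contra hne
  rw [if_neg hne, e] at h
  exact S.z_ne h.symm

theorem conj_mem {c : G} (hc : c ∈ centralizer ({z} : Set G)) {a : G} (ha : a ∈ Q) :
    c * a * c⁻¹ ∈ Q := S.hnorm c hc a ha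

theorem conj_z {c : G} (hc : c ∈ centralizer ({z} : Set G)) : c * z * c⁻¹ = z :=
  mul_inv_eq_iff_eq_mul.2 (mem_centralizer_singleton_iff.1 hc)

theorem conj_congr {c : G} (hc : c ∈ centralizer ({z} : Set G)) {a a' : G} (ha : a ∈ Q) (ha' : a' ∈ Q)
    (h : u a = u a') : u (c * a * c⁻¹) = u (c * a' * c⁻¹) := by
  rcases S.cases_of_u ha ha' h with e | e <;> rw [e]
  rw [show c * (a' * z) * c⁻¹ = (c * a' * c⁻¹) * (c * z * c⁻¹) by group, S.conj_z hc,
    S.add _ (S.conj_mem hc ha') _ S.hzQ, S.u_z, add_zero]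

/-- A lift of a vector. -/
noncomputable def lift (v : Vv) : G := (S.surj v).choose

theorem lift_mem (v : Vv) : S.lift v ∈ Q := (S.surj v).choose_spec.1

theorem u_lift (v : Vv) : u (S.lift v) = v := (S.surj v).choose_spec.2

theorem u_conj_inv {c : G} (hc : c ∈ centralizer ({z} : Set G)) (v : Vv) :
    u (c * S.lift (u (c⁻¹ * S.lift v * c)) * c⁻¹) = v := by
  have hm : c⁻¹ * S.lift v * c ∈ Q := by
    simpa using S.conj_mem (inv_mem hc) (S.lift_mem v)
  rw [S.conj_congr hc (S.lift_mem _) hm (S.u_lift _),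
    show c * (c⁻¹ * S.lift v * c) * c⁻¹ = S.lift v by group, S.u_lift]

/-- The induced map of a centralizing element. -/
noncomputable def actE (c : ↥(centralizer ({z} : Set G))) : Vv ≃+ Vv where
  toFun v := u (c.1 * S.lift v * c.1⁻¹)
  invFun v := u (c.1⁻¹ * S.lift v * c.1)
  left_inv v := by
    have := S.u_conj_inv (inv_mem c.2) v
    simpa using this
  right_inv v := S.u_conj_inv c.2 v
  map_add' v w := by
    show u (c.1 * S.lift (v + w) * c.1⁻¹) = _
    rw [S.conj_congr c.2 (S.lift_mem _) (mul_mem (S.lift_mem v) (S.lift_mem w))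
      (by rw [S.add _ (S.lift_mem v) _ (S.lift_mem w), S.u_lift, S.u_lift, S.u_lift]),
      ← S.add _ (S.conj_mem c.2 (S.lift_mem v)) _ (S.conj_mem c.2 (S.lift_mem w))]
    congr 1
    group

theorem actE_apply (c : ↥(centralizer ({z} : Set G))) (v : Vv) :
    S.actE c v = u (c.1 * S.lift v * c.1⁻¹) := rfl

theorem actE_q (c : ↥(centralizer ({z} : Set G))) (v : Vv) : qv (S.actE c v) = qv v := by
  have h : S.lift v * S.lift v = 1 ↔
      c.1 * S.lift v * c.1⁻¹ * (c.1 * S.lift v * c.1⁻¹) = 1 := by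
    rw [show c.1 * S.lift v * c.1⁻¹ * (c.1 * S.lift v * c.1⁻¹) = c.1 * (S.lift v * S.lift v) * c.1⁻¹ by
      group]
    exact conj_eq_one_iff.symm
  rw [S.sq_one_iff (S.lift_mem v), S.sq_one_iff (S.conj_mem c.2 (S.lift_mem v)), S.u_lift] at h
  rw [actE_apply]
  rcases z2_cases (qv v) with e | e <;>
    rcases z2_cases (qv (u (c.1 * S.lift v * c.1⁻¹))) with e' | e' <;> rw [e'] <;> simp_all

/-- The action of the centralizer on `Q/⟨z⟩`. -/
noncomputable def rho : ↥(centralizer ({z} : Set G)) →* O8 :=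
  MonoidHom.mk' (fun c => mkO (S.actE c) (S.actE_q c)) fun c d => ap_ext fun v => by
    rw [ap_mul, ap_mkO, ap_mkO, ap_mkO, actE_apply, actE_apply, actE_apply,
      S.conj_congr c.2 (S.lift_mem _) (S.conj_mem d.2 (S.lift_mem v)) (S.u_lift _)]
    congr 1
    show c.1 * d.1 * S.lift v * (c.1 * d.1)⁻¹ = _
    group

theorem ap_rho {c : ↥(centralizer ({z} : Set G))} {a : G} (ha : a ∈ Q) :
    ap (S.rho c) (u a) = u (c.1 * a * c.1⁻¹) := by
  show ap (mkO (S.actE c) (S.actE_q c)) (u a) = _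
  rw [ap_mkO, actE_apply]
  exact S.conj_congr c.2 (S.lift_mem _) ha (S.u_lift _)

/-- An element with trivial action differs from an element of `Q` by a central factor, so it is in `Q`. -/
theorem rho_eq_one_iff {c : ↥(centralizer ({z} : Set G))} : S.rho c = 1 ↔ c.1 ∈ Q := by
  classical
  constructor
  · intro h
    have hq : ∀ a ∈ Q, c.1 * a * c.1⁻¹ = a ∨ c.1 * a * c.1⁻¹ = a * z := fun a ha =>
      S.cases_of_u (S.conj_mem c.2 ha) ha (by rw [← S.ap_rho ha, h, ap_one])
    let l : Vv → ZMod 2 := fun v => if c.1 * S.lift v * c.1⁻¹ = S.lift v then 0 else 1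
    have hl : ∀ a ∈ Q, c.1 * a * c.1⁻¹ = if l (u a) = 0 then a else a * z := by
      intro a ha
      rcases S.cases_of_u ha (S.lift_mem (u a)) (S.u_lift _).symm with e | e
      · by_cases hh : c.1 * S.lift (u a) * c.1⁻¹ = S.lift (u a)
        · simp only [l, if_pos hh, if_true]
          rw [← e] at hh; exact hh
        · simp only [l, if_neg hh, one_ne_zero, if_false]
          rw [← e] at hh
          exact (hq a ha).resolve_left hh
      · have e' : c.1 * a * c.1⁻¹ = (c.1 * S.lift (u a) * c.1⁻¹) * z := by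
          conv_lhs => rw [e]
          rw [show c.1 * (S.lift (u a) * z) * c.1⁻¹ =
            (c.1 * S.lift (u a) * c.1⁻¹) * (c.1 * z * c.1⁻¹) by group, S.conj_z c.2]
        by_cases hh : c.1 * S.lift (u a) * c.1⁻¹ = S.lift (u a)
        · simp only [l, if_pos hh, if_true]
          rw [e', hh, ← e]
        · simp only [l, if_neg hh, one_ne_zero, if_false]
          rw [e', (hq _ (S.lift_mem _)).resolve_left hh, ← e]
    have hadd : ∀ v w, l (v + w) = l v + l w := by
      intro v w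
      have h1 := hl _ (mul_mem (S.lift_mem v) (S.lift_mem w))
      rw [S.add _ (S.lift_mem v) _ (S.lift_mem w), S.u_lift, S.u_lift,
        show c.1 * (S.lift v * S.lift w) * c.1⁻¹ =
          (c.1 * S.lift v * c.1⁻¹) * (c.1 * S.lift w * c.1⁻¹) by group,
        hl _ (S.lift_mem v), hl _ (S.lift_mem w), S.u_lift, S.u_lift] at h1
      have hne : ∀ y : G, y * z ≠ y := fun y e => S.z_ne (mul_eq_left.1 e)
      have hzw : z * S.lift w = S.lift w * z := (S.zc (S.lift_mem w)).symm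
      rcases z2_cases (l v) with e1 | e1 <;> rcases z2_cases (l w) with e2 | e2 <;>
        rcases z2_cases (l (v + w)) with e3 | e3 <;>
        simp only [e1, e2, e3, one_ne_zero, if_true, if_false, if_pos, add_zero, zero_add, z2_two] at h1 ⊢
      · exact absurd h1.symm (hne _)
      · rw [← mul_assoc] at h1; exact absurd h1 (hne _)
      · rw [mul_assoc (S.lift v), hzw, ← mul_assoc] at h1; exact absurd h1 (hne _)
      · rw [mul_assoc (S.lift v), ← mul_assoc z, hzw, mul_assoc (S.lift w), S.zz, mul_one] at h1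
        exact absurd h1.symm (hne _)
    obtain ⟨v0, hv0⟩ := exists_dual l hadd
    have hq0 := S.lift_mem v0
    set q := S.lift v0 with hq0d
    have hcent : q⁻¹ * c.1 ∈ centralizer (Q : Set G) := by
      rw [mem_centralizer_iff]
      intro a ha
      have h1 := hl a ha
      rw [← hv0] at h1
      have h2 := S.com q hq0 a ha
      rw [hq0d, S.u_lift, ← hq0d] at h2
      have key : q * a = c.1 * a * c.1⁻¹ * q := by
        rw [h1, h2]
        rcases z2_cases (bV v0 (u a)) with e | e <;> rw [e] <;>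
          simp only [one_ne_zero, if_true, if_false, if_pos]
        rw [← mul_assoc, S.zc ha]
      calc a * (q⁻¹ * c.1) = q⁻¹ * (q * a) * q⁻¹ * c.1 := by group
        _ = q⁻¹ * c.1 * a := by rw [key]; group
    have := S.self hcent
    exact (Subgroup.mul_mem_cancel_left Q (inv_mem hq0)).1 this
  · intro hc
    refine eq_one_of_ap fun v => ?_
    rw [← S.u_lift v, S.ap_rho (S.lift_mem v), S.add _ (mul_mem hc (S.lift_mem v)) _ (inv_mem hc),
      S.add _ hc _ (S.lift_mem v), S.u_inv hc, add_comm (u c.1), add_assoc, v_add_self, add_zero]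

theorem rho_range : S.rho.range = Om := by
  obtain ⟨π, hπ, hπk⟩ := S.quot
  have hk : S.rho.ker = Q.subgroupOf (centralizer ({z} : Set G)) := by
    ext c; rw [MonoidHom.mem_ker, S.rho_eq_one_iff, mem_subgroupOf]
  have hcard : Nat.card S.rho.range = Nat.card Om := by
    rw [← Nat.card_congr (QuotientGroup.quotientKerEquivRange S.rho).toEquiv,
      Nat.card_congr (QuotientGroup.quotientMulEquivOfEq (hk.trans hπk.symm)).toEquiv]
    exact Nat.card_congr (QuotientGroup.quotientKerEquivOfSurjective π hπ).toEquiv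
  have hidx : S.rho.range.index = 2 := by
    have h1 := S.rho.range.card_mul_index
    have h2 := (Om : Subgroup O8).card_mul_index
    rw [om_index] at h2
    rw [hcard] at h1
    exact mul_left_cancel₀ Nat.card_pos.ne' (h1.trans h2.symm)
  refine (Subgroup.eq_of_le_of_card_ge ?_ hcard.le).symm
  show commutator O8 ≤ _
  rw [commutator_def, Subgroup.commutator_le]
  intro g _ h _
  rw [commutatorElement_def, Subgroup.mul_mem_iff_of_index_two hidx,
    Subgroup.mul_mem_iff_of_index_two hidx, Subgroup.mul_mem_iff_of_index_two hidx, inv_mem_iff,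
    inv_mem_iff]
  tauto

theorem rho_mem_Om (c : ↥(centralizer ({z} : Set G))) : S.rho c ∈ Om := S.rho_range ▸ ⟨c, rfl⟩

/-- The element of order five. -/
noncomputable def bb : O8 := S.rho ⟨b, S.b_mem⟩

theorem bb_mem : S.bb ∈ K true := by
  refine ⟨S.rho_mem_Om _, fun w => ?_⟩
  have hu := S.u_lift (inj (!true) w)
  have hm := S.lift_mem (inj (!true) w)
  have hcom := (S.fixb _ hm).2 (by rw [hu]; rfl)
  conv_lhs => rw [← hu]
  rw [bb, S.ap_rho hm]
  conv_rhs => rw [← hu]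
  congr 1
  show b * _ * b⁻¹ = _
  rw [← hcom]; group

theorem b_not_mem : b ∉ Q := fun h => by
  have h1 : orderOf b ∣ Nat.card Q := by
    rw [← Subgroup.orderOf_mk b h]; exact orderOf_dvd_natCard _
  rw [S.hb, S.hQc] at h1
  norm_num at h1

theorem bb5 : S.bb ^ 5 = 1 := by
  rw [bb, ← map_pow, ← map_one S.rho]
  exact congrArg _ (Subtype.ext S.hb5)

theorem bb1 : S.bb ≠ 1 := fun h => S.b_not_mem (S.rho_eq_one_iff.1 h)

/-- What centralizes `z` and `b` and acts trivially on the moved summand. -/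
def Szb (y : G) : Prop :=
  ∃ h : y ∈ centralizer ({z} : Set G), y * b = b * y ∧ S.rho ⟨y, h⟩ ∈ K false

theorem rho_comm_bb {y : G} (hy : y ∈ centralizer ({z} : Set G)) (hyb : y * b = b * y) :
    S.rho ⟨y, hy⟩ * S.bb = S.bb * S.rho ⟨y, hy⟩ := by
  rw [bb, ← map_mul, ← map_mul]
  exact congrArg _ (Subtype.ext hyb)

theorem exists_pow_b {y : G} (hy : y ∈ centralizer ({z} : Set G)) (hyb : y * b = b * y) :
    ∃ i : ℕ, S.Szb (y * (b ^ i)⁻¹) := by
  obtain ⟨-, i, hi⟩ := comm_five S.bb_mem S.bb5 S.bb1 (S.rho_comm_bb hy hyb)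
  have hm : y * (b ^ i)⁻¹ ∈ centralizer ({z} : Set G) := mul_mem hy (inv_mem (pow_mem S.b_mem i))
  refine ⟨i, hm, ?_, S.rho_mem_Om _, ?_⟩
  · exact (Commute.mul_left (show Commute y b from hyb) ((Commute.refl b).pow_left i).inv_left).eq
  · have e : S.rho ⟨y * (b ^ i)⁻¹, hm⟩ = S.rho ⟨y, hy⟩ * (S.bb ^ i)⁻¹ := by
      rw [bb, ← map_pow, ← map_inv, ← map_mul]
      rfl
    rw [e]
    exact hi

theorem szb_of_two {y : G} (hy : y ∈ centralizer ({z} : Set G)) (hyb : y * b = b * y) {n : ℕ}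
    (hn : y ^ 2 ^ n = 1) : S.Szb y := by
  obtain ⟨i, h, hc, hK⟩ := S.exists_pow_b hy hyb
  refine ⟨hy, hyb, S.rho_mem_Om _, ?_⟩
  -- the component in the moved summand has order dividing five and a power of two
  obtain ⟨hgSt, -⟩ := comm_five S.bb_mem S.bb5 S.bb1 (S.rho_comm_bb hy hyb)
  set σ := pS true ⟨S.rho ⟨y, hy⟩, hgSt⟩ with hσ
  have e : (⟨S.rho ⟨y, hy⟩, hgSt⟩ : St) = ⟨_, K_le_St false hK⟩ * ⟨S.bb, K_le_St true S.bb_mem⟩ ^ i :=
    Subtype.ext (by
      show S.rho ⟨y, hy⟩ = S.rho _ * S.bb ^ i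
      rw [bb, ← map_pow, ← map_mul]
      exact congrArg _ (Subtype.ext (show y = y * (b ^ i)⁻¹ * b ^ i by group)))
  have h5 : σ ^ 5 = 1 := by
    rw [hσ, e, map_mul, pS_eq_one_of_fix (s := true) (g := ⟨_, K_le_St false hK⟩) hK.2, one_mul, map_pow,
      ← pow_mul, mul_comm, pow_mul, ← map_pow,
      show (⟨S.bb, K_le_St true S.bb_mem⟩ : St) ^ 5 = 1 from Subtype.ext S.bb5, map_one, one_pow]
  have h2 : σ ^ 2 ^ n = 1 := by
    rw [hσ, ← map_pow, show (⟨S.rho ⟨y, hy⟩, hgSt⟩ : St) ^ 2 ^ n = 1 from Subtype.ext (by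
      show S.rho ⟨y, hy⟩ ^ 2 ^ n = 1
      rw [← map_pow, show (⟨y, hy⟩ : ↥(centralizer ({z} : Set G))) ^ 2 ^ n = 1 from Subtype.ext hn,
        map_one]), map_one]
  have h1 : σ = 1 := by
    have hd := Nat.dvd_gcd (orderOf_dvd_of_pow_eq_one h5) (orderOf_dvd_of_pow_eq_one h2)
    rw [Nat.Coprime.gcd_eq_one (Nat.Coprime.pow_right _ (by norm_num)), Nat.dvd_one] at hd
    exact orderOf_eq_one_iff.1 hd
  exact fix_of_pS (g := ⟨S.rho ⟨y, hy⟩, hgSt⟩) h1

theorem szb_one : S.Szb 1 := S.szb_of_two (one_mem _) (by simp) (n := 0) (by simp)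

theorem szb_mul {x y : G} (hx : S.Szb x) (hy : S.Szb y) : S.Szb (x * y) := by
  obtain ⟨h1, c1, k1⟩ := hx
  obtain ⟨h2, c2, k2⟩ := hy
  refine ⟨mul_mem h1 h2, (Commute.mul_left (show Commute x b from c1) c2).eq, ?_⟩
  have := mul_mem k1 k2
  rwa [← map_mul] at this

theorem szb_inv {x : G} (hx : S.Szb x) : S.Szb x⁻¹ := by
  obtain ⟨h1, c1, k1⟩ := hx
  refine ⟨inv_mem h1, (show Commute x b from c1).inv_left.eq, ?_⟩
  have := inv_mem k1
  rwa [← map_inv] at this

/-- The subgroup of `Szb` elements. -/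
def Sgp : Subgroup G where
  carrier := {y | S.Szb y}
  one_mem' := S.szb_one
  mul_mem' := S.szb_mul
  inv_mem' := S.szb_inv

theorem exists_szb {k : O8} (hk : k ∈ K false) :
    ∃ (y : G) (h : y ∈ centralizer ({z} : Set G)), S.Szb y ∧ S.rho ⟨y, h⟩ = k := by
  haveI : Fact (Nat.Prime 5) := ⟨by norm_num⟩
  have hOm : k ∈ S.rho.range := S.rho_range.symm ▸ hk.1
  obtain ⟨⟨c, hc⟩, rfl⟩ := hOm
  let A : Set G := {y | ∃ h : y ∈ centralizer ({z} : Set G), S.rho ⟨y, h⟩ = S.rho ⟨c, hc⟩}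
  have hAc : Nat.card A = 512 := by
    rw [← S.hQc]
    refine Nat.card_congr
      { toFun := fun y => ⟨c⁻¹ * y.1, ?_⟩
        invFun := fun q => ⟨c * q.1, mul_mem hc (S.hQH q.2), ?_⟩
        left_inv := fun y => Subtype.ext (mul_inv_cancel_left c y.1)
        right_inv := fun q => Subtype.ext (inv_mul_cancel_left c q.1) }
    · obtain ⟨hy, he⟩ := y.2
      refine S.rho_eq_one_iff (c := ⟨c, hc⟩⁻¹ * ⟨y.1, hy⟩) |>.1 ?_
      rw [map_mul, map_inv, he, inv_mul_cancel]
    · have : S.rho (⟨c, hc⟩ * ⟨q.1, S.hQH q.2⟩) = S.rho ⟨c, hc⟩ := by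
        rw [map_mul, (S.rho_eq_one_iff (c := ⟨q.1, S.hQH q.2⟩)).2 q.2, mul_one]
      exact this
  obtain ⟨y, ⟨hy, hye⟩, hyb⟩ := exists_comm_in (p := 5) (k := 1) b (by rw [pow_one]; exact S.hb5) A
    (fun y hy => by
      obtain ⟨hy, he⟩ := hy
      refine ⟨mul_mem (mul_mem S.b_mem hy) (inv_mem S.b_mem), ?_⟩
      have h1 : S.rho (⟨b, S.b_mem⟩ * ⟨y, hy⟩ * ⟨b, S.b_mem⟩⁻¹) = S.rho ⟨c, hc⟩ := by
        rw [map_mul, map_mul, map_inv, he]
        show S.bb * _ * S.bb⁻¹ = _
        rw [← K_comm hk (show S.bb ∈ K (!false) from S.bb_mem)]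
        group
      exact h1) (by rw [hAc]; norm_num)
  exact ⟨y, hy, ⟨hy, hyb.symm, by rw [hye]; exact hk⟩, hye⟩

/-- The summand moved by `b`. -/
theorem fix_P {y a : G} (hy : S.Szb y) (ha : a ∈ Q) (h1 : (u a).1 = 0) : y * a = a * y := by
  obtain ⟨hyz, hyb, hK⟩ := hy
  have key : ∀ d ∈ Q, (u d).1 = 0 → y * d * y⁻¹ = d ∨ y * d * y⁻¹ = d * z := by
    intro d hd hd1
    refine S.cases_of_u (S.conj_mem hyz hd) hd ?_
    rw [← S.ap_rho (c := ⟨y, hyz⟩) hd]
    have e : u d = inj true (u d).2 := eq_inj_of_pr (s := true) hd1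
    conv_lhs => rw [e]
    rw [show inj true (u d).2 = inj (!false) (u d).2 from rfl, hK.2]
    exact e.symm
  -- `a` is a commutator with `b` up to `z`
  have hsur : Function.Surjective fun w : W => pr true (ap S.bb (inj true w)) + w := by
    refine Finite.injective_iff_surjective.1 fun w w' h => ?_
    have hb := K_le_St true S.bb_mem
    have h0 : ap S.bb (inj true (w + w')) = inj true (w + w') := by
      rw [St.ap_inj hb, inj_add, ap_add, pr_add, ← inj_add]
      exact congrArg (inj true) (W_shuffle h)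
    have := fixed_of_five S.bb_mem S.bb5 S.bb1 h0
    rw [pr_inj] at this
    rw [add_eq_zero_iff_eq_neg] at this
    rw [this]
    funext i
    exact Prod.ext (ZModModule.neg_eq_self _) (ZModModule.neg_eq_self _)
  obtain ⟨w, hw⟩ := hsur (u a).2
  have hdQ := S.lift_mem (inj true w)
  have hd1 : (u (S.lift (inj true w))).1 = 0 := by rw [S.u_lift]; rfl
  set d := S.lift (inj true w) with hd
  have hbd : b * d * b⁻¹ ∈ Q := S.conj_mem S.b_mem hdQ
  have e : u (b * d * b⁻¹ * d) = u a := by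
    rw [S.add _ hbd _ hdQ, ← S.ap_rho (c := ⟨b, S.b_mem⟩) hdQ, hd, S.u_lift]
    show ap S.bb (inj true w) + inj true w = u a
    rw [St.ap_inj (K_le_St true S.bb_mem), ← inj_add]
    exact ((eq_inj_of_pr (s := true) h1).trans (congrArg (inj true) hw.symm)).symm
  have hyz' : y * z * y⁻¹ = z := S.conj_z hyz
  have hfix : y * (b * d * b⁻¹ * d) * y⁻¹ = b * d * b⁻¹ * d := by
    rw [show y * (b * d * b⁻¹ * d) * y⁻¹ = (y * (b * d * b⁻¹) * y⁻¹) * (y * d * y⁻¹) by group,
      show y * (b * d * b⁻¹) * y⁻¹ = b * (y * d * y⁻¹) * b⁻¹ by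
        rw [show y * (b * d * b⁻¹) * y⁻¹ = (y * b) * d * (y * b)⁻¹ by group, hyb]; group]
    rcases key d hdQ hd1 with k | k <;> rw [k]
    rw [show b * (d * z) * b⁻¹ = b * d * b⁻¹ * (b * z * b⁻¹) by group, S.conj_z S.b_mem]
    calc b * d * b⁻¹ * z * (d * z) = b * d * b⁻¹ * (z * d) * z := by group
      _ = b * d * b⁻¹ * d := by rw [← S.zc hdQ]; rw [mul_assoc, mul_assoc d, S.zz, mul_one]
  refine mul_inv_eq_iff_eq_mul.1 ?_
  rcases S.cases_of_u ha (mul_mem hbd hdQ) e.symm with ea | ea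
  · rw [ea]; exact hfix
  · rw [ea, show y * (b * d * b⁻¹ * d * z) * y⁻¹ = (y * (b * d * b⁻¹ * d) * y⁻¹) * (y * z * y⁻¹) by
      group, hfix, hyz']

theorem cr_fix {c : G} (h : c ∈ centralizer ({z} : Set G)) (hc : S.CR c) : Fix false (S.rho ⟨c, h⟩) := by
  intro w
  conv_lhs => rw [← S.u_lift (inj false w)]
  rw [S.ap_rho (S.lift_mem _), mul_inv_eq_iff_eq_mul.2 (hc _ (S.lift_mem _) (by rw [S.u_lift]; rfl)),
    S.u_lift]

theorem cr_mem_K {c : G} (h : c ∈ centralizer ({z} : Set G)) (hc : S.CR c) :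
    S.rho ⟨c, h⟩ ∈ K true := ⟨S.rho_mem_Om _, S.cr_fix h hc⟩

theorem cr_u {a : G} (ha : a ∈ Q) (hc : S.CR a) : (u a).1 = 0 := by
  refine alt_nondeg' fun w => ?_
  have h := (S.comm_iff' ha (S.lift_mem (inj false w))).1 (hc _ (S.lift_mem _) (by rw [S.u_lift]; rfl))
  rw [S.u_lift, bV_comm, bV_inj] at h
  rw [alt_comm']
  exact h

theorem cr_of_u {a : G} (ha : a ∈ Q) (h1 : (u a).1 = 0) : S.CR a := fun r hr hr2 =>
  (S.comm_iff' ha hr).2 (by simp [bV, h1, hr2, alt])

theorem exists_cr {k : O8} (hk : k ∈ K true) :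
    ∃ (c : G) (h : c ∈ centralizer ({z} : Set G)), S.CR c ∧ S.rho ⟨c, h⟩ = k := by
  classical
  have hOm : k ∈ S.rho.range := S.rho_range.symm ▸ hk.1
  obtain ⟨⟨c, hc⟩, rfl⟩ := hOm
  have hr : ∀ r ∈ Q, (u r).2 = 0 → c * r * c⁻¹ = r ∨ c * r * c⁻¹ = r * z := fun r hr hr2 => by
    refine S.cases_of_u (S.conj_mem hc hr) hr ?_
    rw [← S.ap_rho (c := ⟨c, hc⟩) hr, show u r = inj (!true) (u r).1 from eq_inj_of_pr (s := false) hr2]
    exact hk.2 _
  let l : W → ZMod 2 := fun w =>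
    if c * S.lift (inj false w) * c⁻¹ = S.lift (inj false w) then 0 else 1
  have hl : ∀ r ∈ Q, (u r).2 = 0 → c * r * c⁻¹ = if l (u r).1 = 0 then r else r * z := by
    intro r hrQ hr2
    have hu : u r = u (S.lift (inj false (u r).1)) := by
      rw [S.u_lift]; exact eq_inj_of_pr (s := false) hr2
    have hl2 : (u (S.lift (inj false (u r).1))).2 = 0 := by rw [← hu]; exact hr2
    rcases S.cases_of_u hrQ (S.lift_mem _) hu with e | e
    · by_cases hh : c * S.lift (inj false (u r).1) * c⁻¹ = S.lift (inj false (u r).1)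
      · simp only [l, if_pos hh, if_true]
        rw [← e] at hh; exact hh
      · simp only [l, if_neg hh, one_ne_zero, if_false]
        rw [← e] at hh
        exact (hr r hrQ hr2).resolve_left hh
    · have e' : c * r * c⁻¹ = (c * S.lift (inj false (u r).1) * c⁻¹) * z := by
        conv_lhs => rw [e]
        rw [show c * (S.lift (inj false (u r).1) * z) * c⁻¹ =
          (c * S.lift (inj false (u r).1) * c⁻¹) * (c * z * c⁻¹) by group, S.conj_z hc]
      by_cases hh : c * S.lift (inj false (u r).1) * c⁻¹ = S.lift (inj false (u r).1)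
      · simp only [l, if_pos hh, if_true]
        rw [e', hh, ← e]
      · simp only [l, if_neg hh, one_ne_zero, if_false]
        rw [e', (hr _ (S.lift_mem _) hl2).resolve_left hh, ← e]
  have hadd : ∀ v w, l (v + w) = l v + l w := by
    intro v w
    have m1 := S.lift_mem (inj false v)
    have m2 := S.lift_mem (inj false w)
    have h1 := hl _ (mul_mem m1 m2)
      (by rw [S.add _ m1 _ m2, S.u_lift, S.u_lift, ← inj_add]; rfl)
    rw [S.add _ m1 _ m2, S.u_lift, S.u_lift, ← inj_add,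
      show c * (S.lift (inj false v) * S.lift (inj false w)) * c⁻¹ =
        (c * S.lift (inj false v) * c⁻¹) * (c * S.lift (inj false w) * c⁻¹) by group,
      hl _ m1 (by rw [S.u_lift]; rfl), hl _ m2 (by rw [S.u_lift]; rfl), S.u_lift, S.u_lift] at h1
    simp only [show ∀ x : W, (inj false x).1 = x from fun _ => rfl] at h1
    have hne : ∀ y : G, y * z ≠ y := fun y e => S.z_ne (mul_eq_left.1 e)
    have hzw : z * S.lift (inj false w) = S.lift (inj false w) * z := (S.zc m2).symm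
    rcases z2_cases (l v) with e1 | e1 <;> rcases z2_cases (l w) with e2 | e2 <;>
      rcases z2_cases (l (v + w)) with e3 | e3 <;>
      simp only [e1, e2, e3, one_ne_zero, if_true, if_false, if_pos, add_zero, zero_add, z2_two] at h1 ⊢
    · exact absurd h1.symm (hne _)
    · rw [← mul_assoc] at h1; exact absurd h1 (hne _)
    · rw [mul_assoc (S.lift (inj false v)), hzw, ← mul_assoc] at h1; exact absurd h1 (hne _)
    · rw [mul_assoc (S.lift (inj false v)), ← mul_assoc z, hzw,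
        mul_assoc (S.lift (inj false w)), S.zz, mul_one] at h1
      exact absurd h1.symm (hne _)
  obtain ⟨w0, hw0⟩ := exists_dualW l hadd
  have hq0 := S.lift_mem (inj false w0)
  set q := S.lift (inj false w0) with hq
  have hqc : q⁻¹ ∈ centralizer ({z} : Set G) := inv_mem (S.hQH hq0)
  refine ⟨q⁻¹ * c, mul_mem hqc hc, ?_, ?_⟩
  · intro r hrQ hr2
    have h1 := hl r hrQ hr2
    rw [← hw0] at h1
    have h2 := S.com q hq0 r hrQ
    rw [hq, S.u_lift, bV_inj, ← hq] at h2
    change (q * r = if alt w0 (u r).1 = 0 then r * q else z * (r * q)) at h2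
    have key : q * r = c * r * c⁻¹ * q := by
      rw [h1, h2]
      rcases z2_cases (alt w0 (u r).1) with e | e <;> rw [e] <;>
        simp only [one_ne_zero, if_true, if_false, if_pos]
      rw [← mul_assoc, S.zc hrQ]
    calc q⁻¹ * c * r = q⁻¹ * (c * r * c⁻¹ * q) * q⁻¹ * c := by group
      _ = r * (q⁻¹ * c) := by rw [← key]; group
  · rw [show (⟨q⁻¹ * c, mul_mem hqc hc⟩ : ↥(centralizer ({z} : Set G))) = ⟨q⁻¹, hqc⟩ * ⟨c, hc⟩ from rfl,
      map_mul, S.rho_eq_one_iff.2 (inv_mem hq0), one_mul]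

theorem isConj_invol {a : G} (ha : a ∈ Q) (h2 : a * a = 1) (h1 : a ≠ 1) (hz' : a ≠ z) : IsConj z a := by
  obtain ⟨g, hgQ, hgne⟩ := S.fus
  set x := g * z * g⁻¹ with hx
  have hxx : x * x = 1 := by
    rw [hx, show g * z * g⁻¹ * (g * z * g⁻¹) = g * (z * z) * g⁻¹ by group, S.zz]; group
  have hx1 : x ≠ 1 := fun e => S.z_ne (conj_eq_one_iff.1 e)
  have hne : ∀ {y : G}, y ∈ Q → y ≠ 1 → y ≠ z → u y ≠ 0 := fun hy e1 e2 e0 => by
    rcases (S.ker _ hy).1 e0 with e | e
    exacts [e1 e, e2 e]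
  obtain ⟨k, hk, hkx⟩ := om_transitive ((S.sq_one_iff hgQ).1 hxx) ((S.sq_one_iff ha).1 h2)
    (hne hgQ hx1 hgne) (hne ha h1 hz')
  have hk' : k ∈ S.rho.range := S.rho_range.symm ▸ hk
  obtain ⟨c, rfl⟩ := hk'
  rw [S.ap_rho hgQ] at hkx
  have hzx : IsConj z x := isConj_iff.2 ⟨g, rfl⟩
  have hcx : IsConj x (c.1 * x * c.1⁻¹) := isConj_iff.2 ⟨c.1, rfl⟩
  refine hzx.trans (hcx.trans ?_)
  rcases S.cases_of_u (S.conj_mem c.2 hgQ) ha hkx with e | e <;> rw [e]
  -- `a z` is conjugate to `a` in `Q`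
  obtain ⟨v, hv⟩ : ∃ v, bV (u a) v = 1 := by
    by_contra hh
    push_neg at hh
    exact hne ha h1 hz' (bV_nondeg fun v => (z2_cases _).resolve_right (hh v))
  have h := S.com a ha _ (S.lift_mem v)
  rw [S.u_lift, hv, if_neg one_ne_zero] at h
  refine isConj_iff.2 ⟨(S.lift v)⁻¹, ?_⟩
  calc (S.lift v)⁻¹ * (a * z) * (S.lift v)⁻¹⁻¹ = (S.lift v)⁻¹ * (a * (z * S.lift v)) := by group
    _ = (S.lift v)⁻¹ * (a * S.lift v) * z := by rw [← S.zc (S.lift_mem v)]; group
    _ = (S.lift v)⁻¹ * z * S.lift v * a * z := by rw [h]; group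
    _ = z * a * z := by rw [S.zc (inv_mem (S.lift_mem v))]; group
    _ = a := by rw [← S.zc ha, mul_assoc, S.zz, mul_one]

end Cfg

end CfsgLib.Trans3.Conway
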