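import Cfsg.Agent.Lib.Trans3.LargeSymm
import Cfsg.Agent.Lib.Coprime.Action
import Cfsg.Agent.Lib.Coprime.SymplecticType

/-!
Coprime action on a large extraspecial 2-subgroup.
-/

set_option autoImplicit false
set_option linter.style.haveILetI false

namespace CfsgLib.Trans3.LargeSymm

open Subgroup
open scoped commutatorElement

variable {G : Type*} [Group G] [Finite G]

theorem extraspecial_sub {Q : Subgroup G} (hE : Cfsg.IsExtraspecial 2 Q) {z : G}
    (hz : orderOf z = 2) (hZ : (center Q).map Q.subtype = zpowers z) {H : Subgroup G} (hHQ : H ≤ Q)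
    (hzH : z ∈ H) (hcen : ∀ h ∈ H, (∀ k ∈ H, k * h = h * k) → h ∈ zpowers z)
    (hne : H ≠ zpowers z) : Cfsg.IsExtraspecial 2 H := by
  haveI : Fact (Nat.Prime 2) := ⟨Nat.prime_two⟩
  have hzQ : z ∈ Q := hHQ hzH
  have hzc : ∀ q ∈ Q, q * z = z * q := by
    intro q hq
    obtain ⟨c, hc, e⟩ := hZ.symm ▸ mem_zpowers z
    have := congrArg Subtype.val (mem_center_iff.1 hc ⟨q, hq⟩)
    rw [← e]; exact this
  have hmem : ∀ h : H, h ∈ (zpowers z).subgroupOf H ↔ (h : G) ∈ zpowers z := fun h => mem_subgroupOf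
  refine Coprime.isExtraspecial_of_central (fun h => ?_) ((zpowers z).subgroupOf H) ?_ ?_ ?_ ?_ ?_
  · obtain ⟨k, hk⟩ := hE.1.1 ⟨h, hHQ h.2⟩
    exact ⟨k, Subtype.ext (by
      have h' := congrArg Subtype.val hk
      rw [SubgroupClass.coe_pow] at h' ⊢
      exact h')⟩
  · rw [Nat.card_congr (subgroupOfEquivOfLe (zpowers_le.2 hzH)).toEquiv, Nat.card_zpowers, hz]
  · ext h
    rw [mem_center_iff, hmem]
    refine ⟨fun hh => hcen h h.2 fun k hk => congrArg Subtype.val (hh ⟨k, hk⟩), fun hh k => ?_⟩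
    apply Subtype.ext
    show (k : G) * h = h * k
    rcases mem_zpowers_invol hz hh with e | e <;> rw [e]
    · simp
    · exact hzc k (hHQ k.2)
  · intro a b
    rw [hmem]
    exact hZ ▸ ⟨⁅(⟨a, hHQ a.2⟩ : Q), ⟨b, hHQ b.2⟩⁆,
      Transfer.special_commutatorElement_mem_center hE.1 _ _, rfl⟩
  · intro a
    rw [hmem]
    refine hZ ▸ ⟨(⟨a, hHQ a.2⟩ : Q) ^ 2, ?_, rfl⟩
    have := Transfer.pow_mem_frattini hE.1.1 (⟨a, hHQ a.2⟩ : Q)
    rwa [hE.1.2.1] at this
  · intro htop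
    refine hne (le_antisymm (fun h hh => ?_) (zpowers_le.2 hzH))
    exact (hmem ⟨h, hh⟩).1 (htop ▸ mem_top _)

/-- A subgroup of odd order normalizing a large extraspecial subgroup. -/
theorem coprime_split (Q : Subgroup G) (hQ : Cfsg.IsLargeExtraspecial Q) (A : Subgroup G)
    (hA : A ≤ normalizer (Q : Set G)) (hAodd : Odd (Nat.card ↥A)) (hA1 : A ≠ ⊥) :
    (Q ⊓ centralizer (A : Set G)) ⊔ ⁅Q, A⁆ = Q ∧
    (∀ x ∈ Q ⊓ centralizer (A : Set G), ∀ y ∈ ⁅Q, A⁆, x * y = y * x) ∧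
    Cfsg.IsExtraspecial 2 ↥⁅Q, A⁆ ∧
    (Q ⊓ centralizer (A : Set G) = ((center ↥Q).map Q.subtype) ∨
      Cfsg.IsExtraspecial 2 ↥(Q ⊓ centralizer (A : Set G))) := by
  haveI : Fact (Nat.Prime 2) := ⟨Nat.prime_two⟩
  obtain ⟨hE, hC, -, -⟩ := hQ
  obtain ⟨z, hz, hzQ, hzc, hZ⟩ := exists_centre_gen hE
  rw [hZ] at hC ⊢
  have hcop : (Nat.card A).Coprime (Nat.card Q) := by
    obtain ⟨n, hn⟩ := (IsPGroup.iff_card).1 hE.1.1
    rw [hn]
    exact ((Nat.coprime_two_left.2 hAodd).pow_left n).symm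
  have hs : Group.IsSolvable A ∨ Group.IsSolvable Q := by
    haveI := hE.1.1.isNilpotent
    exact Or.inr inferInstance
  have hDQ : ⁅Q, A⁆ ≤ Q := le_normalizer_iff_commutator_le_left.mp hA
  have hsup : (Q ⊓ centralizer (A : Set G)) ⊔ ⁅Q, A⁆ = Q := by
    rw [sup_comm]; exact Coprime.commutator_sup_centralizer hA hcop hs
  have hzA : z ∈ centralizer (A : Set G) := by
    intro a ha
    have hzm : a * z * a⁻¹ ∈ zpowers z := by
      have haz : a * z * a⁻¹ ∈ Q := (mem_normalizer_iff.1 (hA ha) z).1 hzQ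
      refine hZ ▸ ⟨⟨_, haz⟩, mem_center_iff.2 fun q => Subtype.ext ?_, rfl⟩
      show (q : G) * (a * z * a⁻¹) = a * z * a⁻¹ * q
      have hq : a⁻¹ * (q : G) * a⁻¹⁻¹ ∈ Q := (mem_normalizer_iff.1 (hA (inv_mem ha)) q).1 q.2
      rw [inv_inv] at hq
      calc (q : G) * (a * z * a⁻¹) = a * (a⁻¹ * q * a * z) * a⁻¹ := by group
        _ = a * (z * (a⁻¹ * q * a)) * a⁻¹ := by rw [hzc _ hq]
        _ = a * z * a⁻¹ * q := by group
    rcases mem_zpowers_invol hz hzm with h | h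
    · exact absurd (conj_eq_one_iff.1 h) (invol_ne_one hz)
    · exact mul_inv_eq_iff_eq_mul.1 h
  have hcommQ : ∀ a ∈ Q, ∀ b ∈ Q, ⁅a, b⁆ ∈ zpowers z := fun a ha b hb =>
    hZ ▸ ⟨⁅(⟨a, ha⟩ : Q), ⟨b, hb⟩⁆, Transfer.special_commutatorElement_mem_center hE.1 _ _, rfl⟩
  have hthree : ⁅⁅Q, A⁆, Q ⊓ centralizer (A : Set G)⁆ = ⊥ := by
    refine commutator_commutator_eq_bot_of_rotate ?_ ?_
    · have h : ⁅A, Q ⊓ centralizer (A : Set G)⁆ = ⊥ := by
        rw [commutator_eq_bot_iff_le_centralizer]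
        exact fun a ha c hc => (mem_centralizer_iff.1 hc.2 a ha).symm
      rw [h, commutator_bot_left]
    · have h : ⁅Q ⊓ centralizer (A : Set G), Q⁆ ≤ zpowers z :=
        commutator_le.2 fun a ha b hb => hcommQ a ha.1 b hb
      rw [eq_bot_iff]
      refine (commutator_mono h le_rfl).trans ?_
      rw [le_bot_iff, commutator_eq_bot_iff_le_centralizer, zpowers_le]
      exact hzA
  have hcd : ∀ x ∈ Q ⊓ centralizer (A : Set G), ∀ y ∈ ⁅Q, A⁆, x * y = y * x := fun x hx y hy =>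
    mem_centralizer_iff.1 ((commutator_eq_bot_iff_le_centralizer.1 hthree) hy) x hx
  have hcentral : ∀ y ∈ Q, (∀ x ∈ Q ⊓ centralizer (A : Set G), x * y = y * x) →
      (∀ x ∈ ⁅Q, A⁆, x * y = y * x) → y ∈ zpowers z := by
    intro y hy h1 h2
    refine hZ ▸ ⟨⟨y, hy⟩, mem_center_iff.2 fun q => Subtype.ext ?_, rfl⟩
    have hle : Q ≤ centralizer ({y} : Set G) := hsup ▸ sup_le
      (fun x hx => mem_centralizer_singleton_iff.2 (h1 x hx))
      (fun x hx => mem_centralizer_singleton_iff.2 (h2 x hx))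
    exact mem_centralizer_singleton_iff.1 (hle q.2)
  have hDz : ¬ ⁅Q, A⁆ ≤ zpowers z := by
    intro h
    have h0 : ⁅Q, A⁆ = ⊥ := Coprime.commutator_eq_bot_of_commutator_commutator hA hcop hs (by
      rw [eq_bot_iff]
      refine (commutator_mono h le_rfl).trans ?_
      rw [le_bot_iff, commutator_eq_bot_iff_le_centralizer, zpowers_le]
      exact hzA)
    apply hA1
    rw [eq_bot_iff_forall]
    intro a ha
    have hac : a ∈ centralizer (Q : Set G) := fun q hq =>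
      (mem_centralizer_iff.1 (commutator_eq_bot_iff_le_centralizer.1 h0 hq) a ha).symm
    rw [hC] at hac
    rcases mem_zpowers_invol hz hac with h | h
    · exact h
    · exact eq_one_of_two_odd hAodd ha (n := 1) (by rw [h, pow_one, ← hz, pow_orderOf_eq_one])
  have hzD : z ∈ ⁅Q, A⁆ := by
    by_contra hzn
    refine hDz fun y hy => hcentral y (hDQ hy) (fun x hx => hcd x hx y hy) fun x hx => ?_
    rcases mem_zpowers_invol hz (hcommQ x (hDQ hx) y (hDQ hy)) with h | h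
    · exact commutatorElement_eq_one_iff_mul_comm.1 h
    · refine absurd ?_ hzn
      rw [← h, commutatorElement_def]
      exact mul_mem (mul_mem (mul_mem hx hy) (inv_mem hx)) (inv_mem hy)
  refine ⟨hsup, hcd, extraspecial_sub hE hz hZ hDQ hzD
    (fun y hy h => hcentral y (hDQ hy) (fun x hx => hcd x hx y hy) h)
    (fun h => hDz h.le), ?_⟩
  by_cases h : Q ⊓ centralizer (A : Set G) = zpowers z
  · exact Or.inl h
  · exact Or.inr (extraspecial_sub hE hz hZ inf_le_left ⟨hzQ, hzA⟩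
      (fun y hy h' => hcentral y hy.1 h' (fun x hx => (hcd y hy x hx).symm)) h)

end CfsgLib.Trans3.LargeSymm
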