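import Cfsg.Agent.Lib.Trans3.RankOne

/-!
# A Baer type theorem for unipotent linear groups

A conjugation invariant family of subgroups of `GL(M)`, any two of which generate a unipotent
subgroup, generates a unipotent subgroup.
-/

set_option autoImplicit false

namespace CfsgLib.Trans3.Unipotent

open Subgroup
open CfsgLib.Trans3.RankOne (mem_conjBy conj_mem_conjBy conjBy_conjBy conjBy_eq_self_iff)

variable {k : Type*} [Field k] {M : Type*} [AddCommGroup M] [Module k M]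

local notation "GLk" => LinearMap.GeneralLinearGroup k M

/-- The endomorphisms `g - 1`, `g ∈ S`. -/
def dEnd (S : Set GLk) : Set (M →ₗ[k] M) := {f | ∃ g ∈ S, (g : M →ₗ[k] M) - 1 = f}

/-- One step of the commutator flag of a set of endomorphisms. -/
def step (T : Set (M →ₗ[k] M)) (F : Submodule k M) : Submodule k M := ⨆ f ∈ T, F.map f

/-- The commutator flag of a set of endomorphisms. -/
def flag (T : Set (M →ₗ[k] M)) : ℕ → Submodule k M
  | 0 => ⊤
  | n + 1 => step T (flag T n)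

theorem map_le_step {T : Set (M →ₗ[k] M)} {f : M →ₗ[k] M} (hf : f ∈ T) (F : Submodule k M) :
    F.map f ≤ step T F :=
  le_iSup₂ (f := fun g (_ : g ∈ T) => F.map g) f hf

theorem step_mono {T T' : Set (M →ₗ[k] M)} (hT : T ⊆ T') {F F' : Submodule k M} (hF : F ≤ F') :
    step T F ≤ step T' F' :=
  iSup₂_le fun _ hf => (Submodule.map_mono hF).trans (map_le_step (hT hf) F')

theorem flag_mono {T T' : Set (M →ₗ[k] M)} (hT : T ⊆ T') : ∀ n, flag T n ≤ flag T' n
  | 0 => le_rfl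
  | n + 1 => step_mono hT (flag_mono hT n)

theorem flag_antitone (T : Set (M →ₗ[k] M)) : Antitone (flag T) := by
  refine antitone_nat_of_succ_le fun n => ?_
  induction n with
  | zero => exact le_top
  | succ n ih => exact step_mono Set.Subset.rfl ih

theorem apply_mem_flag_succ {T : Set (M →ₗ[k] M)} {f : M →ₗ[k] M} (hf : f ∈ T) {n : ℕ} {m : M}
    (hm : m ∈ flag T n) : f m ∈ flag T (n + 1) :=
  map_le_step hf (flag T n) (Submodule.mem_map_of_mem hm)

/-- `T` is nilpotent: some term of its flag vanishes. -/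
def IsNilSet (T : Set (M →ₗ[k] M)) : Prop := ∃ n, flag T n = ⊥

theorem IsNilSet.mono {T T' : Set (M →ₗ[k] M)} (h : IsNilSet T') (hT : T ⊆ T') : IsNilSet T := by
  obtain ⟨n, hn⟩ := h
  exact ⟨n, le_bot_iff.1 ((flag_mono hT n).trans hn.le)⟩

theorem flag_span (T : Set (M →ₗ[k] M)) :
    ∀ n, flag (Submodule.span k T : Set (M →ₗ[k] M)) n = flag T n
  | 0 => rfl
  | n + 1 => by
    refine le_antisymm (iSup₂_le fun f hf => ?_) ?_
    · rw [Submodule.map_le_iff_le_comap, flag_span T n]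
      intro m hm
      rw [Submodule.mem_comap]
      induction hf using Submodule.span_induction with
      | mem g hg => exact apply_mem_flag_succ hg hm
      | zero => exact Submodule.zero_mem _
      | add g g' _ _ hg hg' => rw [LinearMap.add_apply]; exact add_mem hg hg'
      | smul c g _ hg => rw [LinearMap.smul_apply]; exact Submodule.smul_mem _ c hg
    · exact step_mono Submodule.subset_span (flag_span T n).ge

theorem flag_eq_bot_iff (T : Set (M →ₗ[k] M)) (n : ℕ) :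
    flag T n = ⊥ ↔ ∀ l : List (M →ₗ[k] M), (∀ f ∈ l, f ∈ T) → l.length = n → l.prod = 0 := by
  have key : ∀ n, flag T n = ⨆ l ∈ {l : List (M →ₗ[k] M) | (∀ f ∈ l, f ∈ T) ∧ l.length = n},
      LinearMap.range l.prod := by
    intro n
    induction n with
    | zero =>
        refine le_antisymm ?_ le_top
        refine le_iSup₂_of_le [] ⟨by simp, rfl⟩ ?_
        intro m _
        exact ⟨m, rfl⟩
    | succ n ih =>
        refine le_antisymm (iSup₂_le fun f hf => ?_) (iSup₂_le fun l hl => ?_)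
        · rw [Submodule.map_le_iff_le_comap, ih]
          refine iSup₂_le fun l hl => ?_
          rw [← Submodule.map_le_iff_le_comap]
          refine le_iSup₂_of_le (f :: l) ⟨by simpa [hf] using hl.1, by simp [hl.2]⟩ ?_
          rintro _ ⟨_, ⟨m, rfl⟩, rfl⟩
          exact ⟨m, by simp⟩
        · obtain ⟨hl, hlen⟩ := hl
          match l, hlen with
          | f :: l, hlen =>
            rintro _ ⟨m, rfl⟩
            rw [List.prod_cons]
            refine apply_mem_flag_succ (hl f (by simp)) ?_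
            rw [ih]
            exact Submodule.mem_iSup_of_mem l (Submodule.mem_iSup_of_mem
              ⟨fun g hg => hl g (by simp [hg]), by simpa using hlen⟩ (LinearMap.mem_range_self _ m))
  rw [key]
  simp [iSup_eq_bot, and_imp, LinearMap.range_eq_bot]

theorem isUnipotentOn_iff {H : Subgroup GLk} :
    Cfsg.IsUnipotentOn H ↔ IsNilSet (dEnd (H : Set GLk)) := by
  constructor
  · rintro ⟨n, hn⟩
    refine ⟨n, (flag_eq_bot_iff _ n).2 fun l hl hlen => ?_⟩
    choose g hg hgf using hl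
    have h := hn (l.attach.map fun f => g f.1 f.2)
      (by rintro x hx; obtain ⟨f, -, rfl⟩ := List.mem_map.1 hx; exact hg _ _) (by simp [hlen])
    simp only [List.map_map, bind_pure_comp, List.map_eq_map, Function.comp_def, hgf,
      List.attach_map_subtype_val] at h
    exact h
  · rintro ⟨n, hn⟩
    exact ⟨n, fun l hl hlen => (flag_eq_bot_iff _ n).1 hn _
      (by simpa using fun g hg => ⟨g, hl g hg, rfl⟩) (by simpa using hlen)⟩

theorem sub_one_apply (g : GLk) (m : M) :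
    ((g : M →ₗ[k] M) - 1) m = (g : M →ₗ[k] M) m - m := rfl

theorem mem_dEnd {S : Set GLk} {g : GLk} (hg : g ∈ S) : (g : M →ₗ[k] M) - 1 ∈ dEnd S :=
  ⟨g, hg, rfl⟩

theorem sub_mem_flag_succ {S : Set GLk} {g : GLk} (hg : g ∈ S) {n : ℕ} {m : M}
    (hm : m ∈ flag (dEnd S) n) : (g : M →ₗ[k] M) m - m ∈ flag (dEnd S) (n + 1) :=
  sub_one_apply g m ▸ apply_mem_flag_succ (mem_dEnd hg) hm

/-- The elements moving each term of the flag `F` at least `j` steps down. -/
def deg (F : ℕ → Submodule k M) (j : ℕ) : Set GLk :=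
  {g | ∀ i, ∀ m ∈ F i, (g : M →ₗ[k] M) m - m ∈ F (i + j)}

theorem deg_mono {F : ℕ → Submodule k M} (hF : Antitone F) {i j : ℕ} (hij : i ≤ j) {g : GLk}
    (hg : g ∈ deg F j) : g ∈ deg F i := fun a m hm => hF (by omega) (hg a m hm)

theorem apply_mem_of_deg {F : ℕ → Submodule k M} (hF : Antitone F) {g : GLk}
    (hg : g ∈ deg F 1) {i : ℕ} {m : M} (hm : m ∈ F i) : (g : M →ₗ[k] M) m ∈ F i := by
  simpa using add_mem (hF (Nat.le_succ i) (hg i m hm)) hm

variable [FiniteDimensional k M]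

theorem inv_apply_mem_of_deg {F : ℕ → Submodule k M} (hF : Antitone F) {g : GLk}
    (hg : g ∈ deg F 1) {i : ℕ} {m : M} (hm : m ∈ F i) :
    ((g⁻¹ : GLk) : M →ₗ[k] M) m ∈ F i := by
  have hinj : Function.Injective (g : M →ₗ[k] M) := by
    intro a b h
    have := congrArg ((g⁻¹ : GLk) : M →ₗ[k] M) h
    rwa [← Module.End.mul_apply, ← Module.End.mul_apply, ← Units.val_mul, inv_mul_cancel,
      Units.val_one] at this
  have hinj' : Function.Injective ((g : M →ₗ[k] M).restrict (p := F i) (q := F i)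
      fun x hx => apply_mem_of_deg hF hg hx) := fun a b h =>
    Subtype.ext (hinj (congrArg Subtype.val h))
  obtain ⟨⟨x, hx⟩, hxm⟩ := LinearMap.injective_iff_surjective.1 hinj' ⟨m, hm⟩
  have h2 : (g : M →ₗ[k] M) x = m := congrArg Subtype.val hxm
  rw [← h2, ← Module.End.mul_apply, ← Units.val_mul, inv_mul_cancel, Units.val_one]
  exact hx

/-- The stabilizer of a flag. -/
def degSubgroup {F : ℕ → Submodule k M} (hF : Antitone F) : Subgroup GLk where
  carrier := deg F 1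
  one_mem' i m _ := by simp
  mul_mem' {g h} hg hh i m hm := by
    rw [Units.val_mul, Module.End.mul_apply, ← sub_add_sub_cancel _ ((h : M →ₗ[k] M) m) m]
    exact add_mem (hg i _ (apply_mem_of_deg hF hh hm)) (hh i m hm)
  inv_mem' {g} hg i m hm := by
    have h1 := hg i _ (inv_apply_mem_of_deg hF hg hm)
    rw [← Module.End.mul_apply, ← Units.val_mul, mul_inv_cancel, Units.val_one,
      Module.End.one_apply] at h1
    simpa using neg_mem h1

theorem isNilSet_closure {S : Set GLk} (h : IsNilSet (dEnd S)) :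
    IsNilSet (dEnd (Subgroup.closure S : Set GLk)) := by
  obtain ⟨n, hn⟩ := h
  have hle : Subgroup.closure S ≤ degSubgroup (flag_antitone (dEnd S)) :=
    (Subgroup.closure_le _).2 fun g hg i m hm =>
      sub_mem_flag_succ hg hm
  refine ⟨n, ?_⟩
  rw [eq_bot_iff, ← hn]
  have hall : ∀ i, flag (dEnd (Subgroup.closure S : Set GLk)) i ≤ flag (dEnd S) i := by
    intro i
    induction i with
    | zero => exact le_rfl
    | succ i ih =>
        refine iSup₂_le ?_
        rintro _ ⟨g, hg, rfl⟩ _ ⟨m, hm, rfl⟩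
        exact hle hg i m (ih hm)
  exact hall n

/-- The flag of `S` is invariant under a group normalizing `S`. -/
theorem apply_mem_flag_of_normalize {S : Set GLk} {A : Subgroup GLk}
    (hn : ∀ a ∈ A, ∀ g ∈ S, a * g * a⁻¹ ∈ S) :
    ∀ i, ∀ a ∈ A, ∀ m ∈ flag (dEnd S) i, (a : M →ₗ[k] M) m ∈ flag (dEnd S) i := by
  intro i
  induction i with
  | zero => exact fun _ _ _ _ => Submodule.mem_top
  | succ i ih =>
      intro a ha m hm
      suffices h : step (dEnd S) (flag (dEnd S) i) ≤ (flag (dEnd S) (i + 1)).comap (a : M →ₗ[k] M) from h hm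
      refine iSup₂_le ?_
      rintro _ ⟨g, hg, rfl⟩ _ ⟨m, hm, rfl⟩
      have h1 := sub_mem_flag_succ (hn a ha g hg) (ih a ha m hm)
      rw [← Module.End.mul_apply, ← Units.val_mul, inv_mul_cancel_right, Units.val_mul,
        Module.End.mul_apply] at h1
      rw [Submodule.mem_comap, sub_one_apply, map_sub]
      exact h1

theorem iterate_step_top (U : Set (M →ₗ[k] M)) : ∀ j, (step U)^[j] ⊤ = flag U j
  | 0 => rfl
  | j + 1 => by rw [Function.iterate_succ_apply', iterate_step_top U j, flag]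

theorem iterate_step_le {S : Set GLk} {A : Subgroup GLk}
    (hn : ∀ a ∈ A, ∀ g ∈ S, a * g * a⁻¹ ∈ S) (i : ℕ) :
    ∀ (j : ℕ) (X : Submodule k M), X ≤ flag (dEnd S) i →
      (step (dEnd (S ∪ (A : Set GLk))))^[j] X ≤ flag (dEnd S) i ∧
      (step (dEnd (S ∪ (A : Set GLk))))^[j] X ≤
        flag (dEnd S) (i + 1) ⊔ (step (dEnd (A : Set GLk)))^[j] X := by
  intro j
  induction j with
  | zero =>
      intro X hX
      rw [Function.iterate_zero_apply, Function.iterate_zero_apply]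
      exact ⟨hX, le_sup_right⟩
  | succ j ih =>
      intro X hX
      obtain ⟨h1, h2⟩ := ih X hX
      rw [Function.iterate_succ_apply', Function.iterate_succ_apply']
      generalize (step (dEnd (S ∪ (A : Set GLk))))^[j] X = Y at h1 h2 ⊢
      generalize (step (dEnd (A : Set GLk)))^[j] X = Z at h2 ⊢
      constructor
      · refine iSup₂_le ?_
        rintro _ ⟨g, hg, rfl⟩ _ ⟨m, hm, rfl⟩
        rw [sub_one_apply]
        rcases hg with hg | hg
        · exact flag_antitone _ (Nat.le_succ i) (sub_mem_flag_succ hg (h1 hm))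
        · exact sub_mem (apply_mem_flag_of_normalize hn i g hg m (h1 hm)) (h1 hm)
      · refine iSup₂_le ?_
        rintro _ ⟨g, hg, rfl⟩ _ ⟨m, hm, rfl⟩
        rcases hg with hg | hg
        · rw [sub_one_apply]
          exact Submodule.mem_sup_left (sub_mem_flag_succ hg (h1 hm))
        · obtain ⟨u, hu, v, hv, rfl⟩ := Submodule.mem_sup.1 (h2 hm)
          rw [map_add, sub_one_apply g u]
          exact add_mem
            (Submodule.mem_sup_left (sub_mem (apply_mem_flag_of_normalize hn (i + 1) g hg u hu) hu))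
            (Submodule.mem_sup_right
              (map_le_step (mem_dEnd hg) Z (Submodule.mem_map_of_mem hv)))

theorem isNilSet_union_of_normalize {S : Set GLk} {A : Subgroup GLk}
    (hS : IsNilSet (dEnd S)) (hA : IsNilSet (dEnd (A : Set GLk)))
    (hn : ∀ a ∈ A, ∀ g ∈ S, a * g * a⁻¹ ∈ S) : IsNilSet (dEnd (S ∪ (A : Set GLk))) := by
  obtain ⟨n, hn'⟩ := hS
  obtain ⟨p, hp⟩ := hA
  have key : ∀ i, flag (dEnd (S ∪ (A : Set GLk))) (p * i) ≤ flag (dEnd S) i := by
    intro i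
    induction i with
    | zero => rw [Nat.mul_zero, flag, flag]
    | succ i ih =>
        rw [← iterate_step_top, Nat.mul_succ, Nat.add_comm, Function.iterate_add_apply,
          iterate_step_top]
        refine ((iterate_step_le hn i p _ ih).2).trans (sup_le le_rfl ?_)
        have h1 : Monotone (step (dEnd (A : Set GLk)))^[p] :=
          Monotone.iterate (fun _ _ h => step_mono Set.Subset.rfl h) p
        refine (h1 le_top).trans ?_
        rw [iterate_step_top, hp]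
        exact bot_le
  exact ⟨p * n, le_bot_iff.1 ((key n).trans hn'.le)⟩

/-- The endomorphisms attached to a set of subgroups. -/
def dFam (V : Set (Subgroup GLk)) : Set (M →ₗ[k] M) := dEnd {g | ∃ A ∈ V, g ∈ A}

/-- `V` is a maximal nilpotent subfamily of `W`. -/
def IsMaxFam (W V : Set (Subgroup GLk)) : Prop :=
  V ⊆ W ∧ IsNilSet (dFam V) ∧ ∀ A ∈ W, IsNilSet (dFam (insert A V)) → A ∈ V

theorem dFam_mono {V V' : Set (Subgroup GLk)} (h : V ⊆ V') : dFam V ⊆ dFam V' := by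
  rintro f ⟨g, ⟨A, hA, hg⟩, rfl⟩
  exact ⟨g, ⟨A, h hA, hg⟩, rfl⟩

theorem isNilSet_span {T T' : Set (M →ₗ[k] M)} (h : IsNilSet T)
    (hT : T' ⊆ (Submodule.span k T : Set (M →ₗ[k] M))) : IsNilSet T' := by
  obtain ⟨n, hn⟩ := h
  exact IsNilSet.mono ⟨n, by rw [flag_span]; exact hn⟩ hT

theorem exists_isMaxFam {W V : Set (Subgroup GLk)} (hV : V ⊆ W) (hn : IsNilSet (dFam V)) :
    ∃ V', V ⊆ V' ∧ IsMaxFam W V' := by
  let P : ℕ → Prop := fun d => ∃ V', V ⊆ V' ∧ V' ⊆ W ∧ IsNilSet (dFam V') ∧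
    Module.finrank k (Submodule.span k (dFam V')) = d
  have hb : ∀ d, P d → d ≤ Module.finrank k (M →ₗ[k] M) := by
    rintro d ⟨V', -, -, -, rfl⟩; exact Submodule.finrank_le _
  classical
  obtain ⟨V', hVV', hV'W, hV'n, hd⟩ := Nat.findGreatest_spec (P := P) (hb _ ⟨V, subset_rfl, hV, hn, rfl⟩)
    ⟨V, subset_rfl, hV, hn, rfl⟩
  let V'' := {A | A ∈ W ∧ dEnd (A : Set GLk) ⊆ (Submodule.span k (dFam V') : Set (M →ₗ[k] M))}
  have hsub : V' ⊆ V'' := fun A hA => ⟨hV'W hA, fun f ⟨g, hg, hf⟩ =>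
    Submodule.subset_span ⟨g, ⟨A, hA, hg⟩, hf⟩⟩
  refine ⟨V'', hVV'.trans hsub, fun A hA => hA.1, isNilSet_span hV'n ?_, fun A hA hn' => ?_⟩
  · rintro f ⟨g, ⟨A, hA, hg⟩, rfl⟩
    exact hA.2 ⟨g, hg, rfl⟩
  · refine ⟨hA, ?_⟩
    by_contra hnot
    obtain ⟨f, hf, hfn⟩ := Set.not_subset.1 hnot
    have hlt : Submodule.span k (dFam V') < Submodule.span k (dFam (insert A V')) := by
      refine lt_of_le_not_ge (Submodule.span_mono (dFam_mono (Set.subset_insert _ _))) fun hle => ?_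
      obtain ⟨g, hg, hgf⟩ := hf
      exact hfn (hle (Submodule.subset_span ⟨g, ⟨A, Set.mem_insert _ _, hg⟩, hgf⟩))
    have hP : P (Module.finrank k (Submodule.span k (dFam (insert A V')))) :=
      ⟨insert A V', hVV'.trans (Set.subset_insert _ _), Set.insert_subset hA hV'W,
        hn'.mono (dFam_mono (Set.insert_subset_insert hsub)), rfl⟩
    have := Nat.le_findGreatest (hb _ hP) hP
    have h2 := Submodule.finrank_lt_finrank_of_lt hlt
    omega

theorem closure_fam_isNilSet {V : Set (Subgroup GLk)} (h : IsNilSet (dFam V)) :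
    IsNilSet (dEnd (Subgroup.closure {g | ∃ A ∈ V, g ∈ A} : Set GLk)) := isNilSet_closure h

theorem IsMaxFam.mem_of_le {W V : Set (Subgroup GLk)} (h : IsMaxFam W V) {A : Subgroup GLk}
    (hA : A ∈ W) (hle : A ≤ Subgroup.closure {g | ∃ B ∈ V, g ∈ B}) : A ∈ V := by
  refine h.2.2 A hA ((closure_fam_isNilSet h.2.1).mono ?_)
  rintro f ⟨g, ⟨B, rfl | hB, hg⟩, rfl⟩
  · exact ⟨g, hle hg, rfl⟩
  · exact ⟨g, Subgroup.subset_closure ⟨B, hB, hg⟩, rfl⟩

theorem commutator_mem_deg {F : ℕ → Submodule k M} (hF : Antitone F) {g h : GLk} {j : ℕ}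
    (hj : 1 ≤ j) (hg : g ∈ deg F j) (hh : h ∈ deg F 1) :
    g * h * g⁻¹ * h⁻¹ ∈ deg F (j + 1) := by
  have key : ∀ i, ∀ m ∈ F i,
      (g : M →ₗ[k] M) ((h : M →ₗ[k] M) m) - (h : M →ₗ[k] M) ((g : M →ₗ[k] M) m) ∈ F (i + (j + 1)) := by
    intro i m hm
    have h1 := hg (i + 1) _ (hh i m hm)
    have h2 := hh (i + j) _ (hg i m hm)
    rw [map_sub] at h1 h2
    rw [show i + 1 + j = i + (j + 1) by omega] at h1
    rw [show i + j + 1 = i + (j + 1) by omega] at h2
    convert sub_mem h1 h2 using 1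
    abel
  intro i m hm
  have hm' : (((g⁻¹ * h⁻¹ : GLk)) : M →ₗ[k] M) m ∈ F i := by
    rw [Units.val_mul, Module.End.mul_apply]
    exact inv_apply_mem_of_deg hF (deg_mono hF hj hg) (inv_apply_mem_of_deg hF hh hm)
  have h3 := key i _ hm'
  simp only [← Module.End.mul_apply, ← Units.val_mul] at h3
  rw [show h * (g * (g⁻¹ * h⁻¹)) = 1 by group, show g * (h * (g⁻¹ * h⁻¹)) = g * h * g⁻¹ * h⁻¹ by group]
    at h3
  simpa using h3

/-- If `V₀ ⊂ V` then some member of `V` outside `V₀` normalizes `⟨V₀⟩`. -/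
theorem exists_normalizing {W V V₀ : Set (Subgroup GLk)}
    (hW : ∀ A ∈ W, ∀ B ∈ W, ∀ g ∈ B, Cfsg.conjBy A g ∈ W) (hV : IsMaxFam W V) (hsub : V₀ ⊆ V)
    (hclosed : ∀ A ∈ V, A ≤ Subgroup.closure {g | ∃ B ∈ V₀, g ∈ B} → A ∈ V₀) (hne : V₀ ≠ V) :
    ∃ A ∈ V, A ∉ V₀ ∧
      A ≤ Subgroup.normalizer ((Subgroup.closure {g | ∃ B ∈ V₀, g ∈ B} : Subgroup GLk) : Set GLk) := by
  let U := Subgroup.closure {g | ∃ B ∈ V, g ∈ B}
  let I := Subgroup.closure {g | ∃ B ∈ V₀, g ∈ B}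
  change ∃ A ∈ V, A ∉ V₀ ∧ A ≤ Subgroup.normalizer (I : Set GLk)
  by_cases hnorm : U ≤ Subgroup.normalizer (I : Set GLk)
  · obtain ⟨A, hA, hA0⟩ := Set.exists_of_ssubset (lt_of_le_of_ne hsub hne)
    exact ⟨A, hA, hA0, fun g hg => hnorm (Subgroup.subset_closure ⟨A, hA, hg⟩)⟩
  obtain ⟨n, hn⟩ := closure_fam_isNilSet hV.2.1
  let F := flag (dEnd (U : Set GLk))
  have hF : Antitone F := flag_antitone _
  have hU1 : ∀ g ∈ U, g ∈ deg F 1 := fun g hg i m hm => sub_mem_flag_succ hg hm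
  have hdeg : ∀ g : GLk, g ∈ deg F n → g = 1 := by
    intro g hg
    refine Units.ext (LinearMap.ext fun m => ?_)
    have h1 := hg 0 m Submodule.mem_top
    rw [zero_add] at h1
    change _ ∈ flag (dEnd (U : Set GLk)) n at h1
    rw [hn, Submodule.mem_bot, sub_eq_zero] at h1
    simpa using h1
  obtain ⟨g, hgU, hgn, j, hgj, hmax⟩ : ∃ g, g ∈ U ∧ g ∉ Subgroup.normalizer (I : Set GLk) ∧
      ∃ j, (1 ≤ j ∧ g ∈ deg F j) ∧
        ∀ h ∈ U, h ∈ deg F (j + 1) → h ∈ Subgroup.normalizer (I : Set GLk) := by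
    classical
    let P : ℕ → Prop := fun j => 1 ≤ j ∧ ∃ g ∈ U, g ∈ deg F j ∧ g ∉ Subgroup.normalizer (I : Set GLk)
    have hb : ∀ j, P j → j ≤ n := by
      rintro j ⟨-, g, -, hg, hgn⟩
      by_contra hlt
      exact hgn (hdeg g (deg_mono hF (le_of_not_ge hlt) hg) ▸ one_mem _)
    obtain ⟨g₀, hg₀, hg₀n⟩ := SetLike.not_le_iff_exists.1 hnorm
    have h1 : P 1 := ⟨le_rfl, g₀, hg₀, hU1 g₀ hg₀, hg₀n⟩
    obtain ⟨hj1, g, hg, hgj, hgn⟩ := Nat.findGreatest_spec (P := P) (hb 1 h1) h1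
    refine ⟨g, hg, hgn, _, ⟨hj1, hgj⟩, fun h hh hhd => ?_⟩
    by_contra hhn
    have hPj : P (Nat.findGreatest P n + 1) := ⟨by omega, h, hh, hhd, hhn⟩
    have := Nat.le_findGreatest (hb _ hPj) hPj
    omega
  have hIU : I ≤ U := Subgroup.closure_mono fun g ⟨B, hB, hg⟩ => ⟨B, hsub hB, hg⟩
  have hWU : ∀ A ∈ W, ∀ h ∈ U, Cfsg.conjBy A h ∈ W := by
    intro A hA h hh
    revert A
    induction hh using Subgroup.closure_induction'' with
    | mem x hx => obtain ⟨B, hB, hx⟩ := hx; exact fun A hA => hW A hA B (hV.1 hB) x hx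
    | inv_mem x hx =>
        obtain ⟨B, hB, hx⟩ := hx; exact fun A hA => hW A hA B (hV.1 hB) x⁻¹ (inv_mem hx)
    | one => intro A hA; rwa [CfsgLib.Trans3.RankOne.conjBy_one]
    | mul x y _ _ hx hy => intro A hA; rw [← conjBy_conjBy]; exact hx _ (hy A hA)
  have key : ∀ s ∈ U, s ∈ deg F j → (∀ A ∈ V₀, Cfsg.conjBy A s ≤ I) ∨
      ∃ A ∈ V, A ∉ V₀ ∧ A ≤ Subgroup.normalizer (I : Set GLk) := by
    intro s hs hsj
    by_contra! hcon
    obtain ⟨⟨A, hA, hAI⟩, hno⟩ := hcon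
    have hAU : A ≤ U := fun g hg => Subgroup.subset_closure ⟨A, hsub hA, hg⟩
    have hs' : Cfsg.conjBy A s ≤ U := CfsgLib.Trans3.RankOne.conjBy_le hAU hs
    have hmem := hV.mem_of_le (hWU A (hV.1 (hsub hA)) s hs) hs'
    have hn0 : Cfsg.conjBy A s ∉ V₀ := fun h => hAI fun g hg => Subgroup.subset_closure ⟨_, h, hg⟩
    refine hno _ hmem hn0 ?_
    rintro x ⟨a, ha, rfl⟩
    have h1 := hmax _ (mul_mem (mul_mem (mul_mem hs (hAU ha)) (inv_mem hs)) (inv_mem (hAU ha)))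
      (commutator_mem_deg hF hgj.1 hsj (hU1 a (hAU ha)))
    have h2 : a ∈ Subgroup.normalizer (I : Set GLk) :=
      Subgroup.le_normalizer (Subgroup.subset_closure ⟨A, hA, ha⟩)
    simpa [mul_assoc] using mul_mem h1 h2
  have hinvj : g⁻¹ ∈ deg F j := by
    intro i m hm
    have h1 := hgj.2 i _ (inv_apply_mem_of_deg hF (hU1 g hgU) hm)
    rw [← Module.End.mul_apply, ← Units.val_mul, mul_inv_cancel, Units.val_one,
      Module.End.one_apply] at h1
    simpa using neg_mem h1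
  rcases key g hgU hgj.2 with h1 | h1
  swap; · exact h1
  rcases key g⁻¹ (inv_mem hgU) hinvj with h2 | h2
  swap; · exact h2
  exfalso
  refine hgn (conjBy_eq_self_iff.1 ?_)
  have hle : ∀ s : GLk, (∀ A ∈ V₀, Cfsg.conjBy A s ≤ I) → Cfsg.conjBy I s ≤ I := by
    intro s hs
    rw [Cfsg.conjBy, Subgroup.map_le_iff_le_comap, Subgroup.closure_le]
    rintro x ⟨A, hA, hx⟩
    exact hs A hA ⟨x, hx, rfl⟩
  refine le_antisymm (hle g h1) fun x hx => ?_
  have h3 : g⁻¹ * x * g ∈ I := by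
    refine hle g⁻¹ h2 ?_
    have := conj_mem_conjBy (g := g⁻¹) hx
    rwa [inv_inv] at this
  exact mem_conjBy.2 h3

/-- A conjugation invariant family of subgroups, any two of which generate a unipotent group,
generates a unipotent group. -/
theorem isNilSet_dFam {W : Set (Subgroup GLk)}
    (hW : ∀ A ∈ W, ∀ B ∈ W, ∀ g ∈ B, Cfsg.conjBy A g ∈ W)
    (hpair : ∀ A ∈ W, ∀ B ∈ W, IsNilSet (dEnd ((A ⊔ B : Subgroup GLk) : Set GLk))) :
    IsNilSet (dFam W) := by
  obtain ⟨W₀, -, hW₀⟩ := exists_isMaxFam (W := W) (Set.empty_subset W)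
    ⟨1, by simp [flag, step, dFam, dEnd]⟩
  by_contra hcon
  have hsingle : ∀ A ∈ W, IsNilSet (dFam {A}) := fun A hA => (hpair A hA A hA).mono (by
    rintro f ⟨g, ⟨B, rfl, hg⟩, rfl⟩; exact ⟨g, Subgroup.mem_sup_left hg, rfl⟩)
  have hne : W₀ ≠ W := fun h => hcon (h ▸ hW₀.2.1)
  obtain ⟨A, hA, hA0⟩ := Set.exists_of_ssubset (lt_of_le_of_ne hW₀.1 hne)
  obtain ⟨W₁, hW₁, hW₁m⟩ := exists_isMaxFam (W := W) (Set.singleton_subset_iff.2 hA) (hsingle A hA)
  let P : ℕ → Prop := fun d => ∃ V₁ V₂, IsMaxFam W V₁ ∧ IsMaxFam W V₂ ∧ V₁ ≠ V₂ ∧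
    Module.finrank k (Submodule.span k (dFam (V₁ ∩ V₂))) = d
  have hb : ∀ d, P d → d ≤ Module.finrank k (M →ₗ[k] M) := by
    rintro d ⟨V₁, V₂, -, -, -, rfl⟩; exact Submodule.finrank_le _
  have h0 : P _ := ⟨W₀, W₁, hW₀, hW₁m, fun h => hA0 (h ▸ hW₁ rfl), rfl⟩
  classical
  obtain ⟨V₁, V₂, h₁, h₂, hne12, hd⟩ := Nat.findGreatest_spec (P := P) (hb _ h0) h0
  let I := Subgroup.closure {g | ∃ B ∈ V₁ ∩ V₂, g ∈ B}
  have hprop : ∀ {X Y : Set (Subgroup GLk)}, IsMaxFam W X → IsMaxFam W Y → X ≠ Y → X ∩ Y ≠ X := by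
    intro X Y hX hY hXY h
    refine hXY (Set.Subset.antisymm (fun B hB => (h.symm ▸ hB : B ∈ X ∩ Y).2) fun B hB => ?_)
    refine hX.2.2 B (hY.1 hB) (hY.2.1.mono (dFam_mono (Set.insert_subset hB fun C hC => ?_)))
    exact (h.symm ▸ hC : C ∈ X ∩ Y).2
  have hcl : ∀ B ∈ W, B ≤ I → B ∈ V₁ ∩ V₂ := fun B hB hle =>
    ⟨h₁.mem_of_le hB (hle.trans (Subgroup.closure_mono fun g ⟨C, hC, hg⟩ => ⟨C, hC.1, hg⟩)),
      h₂.mem_of_le hB (hle.trans (Subgroup.closure_mono fun g ⟨C, hC, hg⟩ => ⟨C, hC.2, hg⟩))⟩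
  obtain ⟨A₁, hA₁, hA₁n, hA₁N⟩ := exists_normalizing hW h₁ Set.inter_subset_left
    (fun B hB => hcl B (h₁.1 hB)) (hprop h₁ h₂ hne12)
  obtain ⟨A₂, hA₂, hA₂n, hA₂N⟩ := exists_normalizing hW h₂ Set.inter_subset_right
    (fun B hB => hcl B (h₂.1 hB))
    (by rw [Set.inter_comm]; exact hprop h₂ h₁ hne12.symm)
  have hnil : IsNilSet (dFam (insert A₁ (insert A₂ (V₁ ∩ V₂)))) := by
    refine (isNilSet_union_of_normalize
      (closure_fam_isNilSet (h₁.2.1.mono
        (dFam_mono (Set.inter_subset_left : V₁ ∩ V₂ ⊆ V₁))))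
      (hpair A₁ (h₁.1 hA₁) A₂ (h₂.1 hA₂)) fun a ha g hg => ?_).mono ?_
    · exact (Subgroup.mem_normalizer_iff.1 (sup_le hA₁N hA₂N ha) g).1 hg
    · rintro f ⟨g, ⟨B, hB, hg⟩, rfl⟩
      rcases hB with rfl | rfl | hB
      · exact ⟨g, Or.inr (Subgroup.mem_sup_left hg), rfl⟩
      · exact ⟨g, Or.inr (Subgroup.mem_sup_right hg), rfl⟩
      · exact ⟨g, Or.inl (Subgroup.subset_closure ⟨B, hB, hg⟩), rfl⟩
  obtain ⟨V₃, hV₃, h₃⟩ := exists_isMaxFam (W := W)
    (Set.insert_subset (h₁.1 hA₁) (Set.insert_subset (h₂.1 hA₂) fun B hB => h₁.1 hB.1)) hnil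
  have hbig : ∀ {X : Set (Subgroup GLk)}, IsMaxFam W X → V₁ ∩ V₂ ⊆ X → ∀ B ∈ X, B ∈ V₃ →
      B ∉ V₁ ∩ V₂ → X = V₃ := by
    intro X hX hsub B hBX hB3 hB
    by_contra hX3
    have hlt : Submodule.span k (dFam (V₁ ∩ V₂)) < Submodule.span k (dFam (X ∩ V₃)) := by
      refine lt_of_le_not_ge (Submodule.span_mono (dFam_mono fun C hC =>
        ⟨hsub hC, hV₃ (Set.mem_insert_of_mem _ (Set.mem_insert_of_mem _ hC))⟩)) fun hle => hB ?_
      have hmem : ∀ {Y : Set (Subgroup GLk)}, IsMaxFam W Y → V₁ ∩ V₂ ⊆ Y → B ∈ Y := by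
        intro Y hY hsubY
        refine hY.2.2 B (hX.1 hBX) (isNilSet_span hY.2.1 ?_)
        rintro f ⟨g, ⟨C, hC, hg⟩, rfl⟩
        rcases hC with rfl | hC
        · exact Submodule.span_mono (dFam_mono hsubY)
            (hle (Submodule.subset_span ⟨g, ⟨C, ⟨hBX, hB3⟩, hg⟩, rfl⟩))
        · exact Submodule.subset_span ⟨g, ⟨C, hC, hg⟩, rfl⟩
      exact ⟨hmem h₁ Set.inter_subset_left, hmem h₂ Set.inter_subset_right⟩
    have hP : P _ := ⟨X, V₃, hX, h₃, hX3, rfl⟩
    have := Nat.le_findGreatest (hb _ hP) hP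
    have h2 := Submodule.finrank_lt_finrank_of_lt hlt
    omega
  exact hne12 ((hbig h₁ Set.inter_subset_left A₁ hA₁ (hV₃ (Set.mem_insert _ _)) hA₁n).trans
    (hbig h₂ Set.inter_subset_right A₂ hA₂
      (hV₃ (Set.mem_insert_of_mem _ (Set.mem_insert _ _))) hA₂n).symm)

end CfsgLib.Trans3.Unipotent
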