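import Cfsg.Prelude.Def_RootSubgroups

/-!
# Rank one groups: the action on the conjugates of a unipotent subgroup
-/

set_option autoImplicit false

namespace CfsgLib.Trans3.RankOne

open Subgroup Cfsg
open scoped commutatorElement

variable {G : Type*} [Group G]

theorem mem_conjBy {A : Subgroup G} {g x : G} : x ∈ conjBy A g ↔ g⁻¹ * x * g ∈ A := by
  constructor
  · rintro ⟨a, ha, rfl⟩
    simpa [mul_assoc] using ha
  · intro h
    exact ⟨g⁻¹ * x * g, h, by simp [mul_assoc]⟩

theorem conj_mem_conjBy {A : Subgroup G} {g x : G} (hx : x ∈ A) :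
    g * x * g⁻¹ ∈ conjBy A g := by
  rw [mem_conjBy]; simpa [mul_assoc] using hx

@[simp] theorem conjBy_one (A : Subgroup G) : conjBy A 1 = A := by
  ext x; simp [mem_conjBy]

theorem conjBy_conjBy (A : Subgroup G) (g h : G) :
    conjBy (conjBy A g) h = conjBy A (h * g) := by
  ext x; simp [mem_conjBy, mul_assoc]

theorem conjBy_eq_self_iff {A : Subgroup G} {g : G} :
    conjBy A g = A ↔ g ∈ Subgroup.normalizer (A : Set G) := by
  rw [Subgroup.mem_normalizer_iff'']
  constructor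
  · intro h x
    rw [← mem_conjBy, h]
  · intro h
    ext x
    rw [mem_conjBy, ← h x]

theorem conjBy_eq_iff {A B : Subgroup G} {g : G} :
    conjBy A g = B ↔ A = conjBy B g⁻¹ := by
  constructor
  · rintro rfl; rw [conjBy_conjBy, inv_mul_cancel, conjBy_one]
  · rintro rfl; rw [conjBy_conjBy, mul_inv_cancel, conjBy_one]

theorem conjBy_inj {A B : Subgroup G} {g : G} (h : conjBy A g = conjBy B g) : A = B :=
  Subgroup.map_injective (MulAut.conj g).injective h

theorem conjBy_of_mem {A : Subgroup G} {g : G} (hg : g ∈ A) : conjBy A g = A :=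
  conjBy_eq_self_iff.2 (Subgroup.le_normalizer hg)

theorem conjBy_le {A B : Subgroup G} {g : G} (hA : A ≤ B) (hg : g ∈ B) : conjBy A g ≤ B := by
  intro x hx
  rw [mem_conjBy] at hx
  have h := B.mul_mem (B.mul_mem hg (hA hx)) (B.inv_mem hg)
  simpa [mul_assoc] using h

variable {A B : Subgroup G}

theorem eq_one_of_mem_normalizer (h : IsRankOnePair A B) {a : G} (ha : a ∈ A)
    (hn : a ∈ Subgroup.normalizer (B : Set G)) : a = 1 := by
  by_contra hne
  obtain ⟨b, hb, -, he⟩ := h.cond_left a ha hne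
  rw [conjBy_eq_self_iff.2 (inv_mem hn), conjBy_eq_iff] at he
  rw [inv_inv, conjBy_of_mem hb] at he
  exact h.ne he

theorem inf_normalizer_eq_bot (h : IsRankOnePair A B) :
    A ⊓ Subgroup.normalizer (B : Set G) = ⊥ :=
  (Subgroup.eq_bot_iff_forall _).2 fun _ hx => eq_one_of_mem_normalizer h hx.1 hx.2

theorem inf_eq_bot (h : IsRankOnePair A B) : A ⊓ B = ⊥ :=
  (Subgroup.eq_bot_iff_forall _).2 fun _ hx =>
    eq_one_of_mem_normalizer h hx.1 (Subgroup.le_normalizer hx.2)

theorem ne_bot (h : IsRankOnePair A B) : A ≠ ⊥ := by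
  intro hA
  have hB : B ≠ ⊥ := fun hB => h.ne (hA.trans hB.symm)
  obtain ⟨b, hb, hb1⟩ := B.bot_or_exists_ne_one.resolve_left hB
  obtain ⟨a, ha, ha1, -⟩ := h.cond_right b hb hb1
  rw [hA, Subgroup.mem_bot] at ha
  exact ha1 ha

theorem exists_mem_ne_one (h : IsRankOnePair A B) : ∃ a ∈ A, a ≠ (1 : G) :=
  A.bot_or_exists_ne_one.resolve_left (ne_bot h)

theorem eq_of_conjBy_eq (h : IsRankOnePair A B) {a a' : G} (ha : a ∈ A) (ha' : a' ∈ A)
    (he : conjBy B a = conjBy B a') : a = a' := by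
  rw [conjBy_eq_iff, conjBy_conjBy] at he
  have := eq_one_of_mem_normalizer h (A.mul_mem (A.inv_mem ha) ha') (conjBy_eq_self_iff.1 he.symm)
  exact inv_mul_eq_one.1 this

theorem exists_eq_conjBy (h : IsRankOnePair A B) {C : Subgroup G}
    (hC : C ∈ unipotentSubgroups A B) (hCA : C ≠ A) : ∃ a ∈ A, C = conjBy B a := by
  let P : Subgroup G → Prop := fun D => D = A ∨ ∃ a ∈ A, D = conjBy B a
  have hP : ∀ D, P D ↔ (D = B ∨ ∃ b ∈ B, D = conjBy A b) := by
    intro D
    constructor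
    · rintro (rfl | ⟨a, ha, rfl⟩)
      · exact Or.inr ⟨1, B.one_mem, (conjBy_one _).symm⟩
      · rcases eq_or_ne a 1 with rfl | ha1
        · exact Or.inl (conjBy_one _)
        · obtain ⟨b, hb, -, he⟩ := h.cond_left a⁻¹ (A.inv_mem ha) (inv_ne_one.2 ha1)
          exact Or.inr ⟨b⁻¹, B.inv_mem hb, by rw [he, inv_inv]⟩
    · rintro (rfl | ⟨b, hb, rfl⟩)
      · exact Or.inr ⟨1, A.one_mem, (conjBy_one _).symm⟩
      · rcases eq_or_ne b 1 with rfl | hb1
        · exact Or.inl (conjBy_one _)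
        · obtain ⟨a, ha, -, he⟩ := h.cond_right b⁻¹ (B.inv_mem hb) (inv_ne_one.2 hb1)
          exact Or.inr ⟨a⁻¹, A.inv_mem ha, by rw [he, inv_inv]⟩
  have hA : ∀ g ∈ A, ∀ D, P D → P (conjBy D g) := by
    rintro g hg D (rfl | ⟨a, ha, rfl⟩)
    · exact Or.inl (conjBy_of_mem hg)
    · exact Or.inr ⟨g * a, A.mul_mem hg ha, conjBy_conjBy _ _ _⟩
  have hB : ∀ g ∈ B, ∀ D, P D → P (conjBy D g) := by
    intro g hg D hD
    rw [hP] at hD ⊢
    obtain rfl | ⟨b, hb, rfl⟩ := hD
    · exact Or.inl (conjBy_of_mem hg)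
    · exact Or.inr ⟨g * b, B.mul_mem hg hb, conjBy_conjBy _ _ _⟩
  obtain ⟨x, hx, rfl⟩ := hC
  suffices ∀ D, P D → P (conjBy D x) from (this A (Or.inl rfl)).resolve_left hCA
  rw [Subgroup.sup_eq_closure] at hx
  clear hCA
  induction hx using Subgroup.closure_induction'' with
  | mem y hy => rcases hy with hy | hy; exacts [hA y hy, hB y hy]
  | inv_mem y hy =>
      rcases hy with hy | hy
      exacts [hA _ (A.inv_mem hy), hB _ (B.inv_mem hy)]
  | one => intro D hD; rwa [conjBy_one]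
  | mul y z _ _ hy hz => intro D hD; rw [← conjBy_conjBy]; exact hy _ (hz D hD)

theorem left_mem (A B : Subgroup G) : A ∈ unipotentSubgroups A B :=
  ⟨1, one_mem _, (conjBy_one A).symm⟩

theorem conjBy_mem {C : Subgroup G} (hC : C ∈ unipotentSubgroups A B) {x : G}
    (hx : x ∈ A ⊔ B) : conjBy C x ∈ unipotentSubgroups A B := by
  obtain ⟨y, hy, rfl⟩ := hC
  exact ⟨x * y, mul_mem hx hy, conjBy_conjBy _ _ _⟩

theorem right_mem (h : IsRankOnePair A B) : B ∈ unipotentSubgroups A B := by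
  obtain ⟨a, ha, ha1⟩ := exists_mem_ne_one h
  obtain ⟨b, hb, -, he⟩ := h.cond_left a ha ha1
  refine ⟨a * b⁻¹, mul_mem (mem_sup_left ha) (inv_mem (mem_sup_right hb)), ?_⟩
  rw [← conjBy_conjBy, he, conjBy_conjBy, mul_inv_cancel, conjBy_one]

theorem le_of_mem {C : Subgroup G} (hC : C ∈ unipotentSubgroups A B) : C ≤ A ⊔ B := by
  obtain ⟨x, hx, rfl⟩ := hC
  exact conjBy_le le_sup_left hx

/-- Any ordered pair of different conjugates is the image of `(A, B)`. -/
theorem exists_conj_pair (h : IsRankOnePair A B) {C D : Subgroup G}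
    (hC : C ∈ unipotentSubgroups A B) (hD : D ∈ unipotentSubgroups A B) (hne : C ≠ D) :
    ∃ x ∈ A ⊔ B, conjBy A x = C ∧ conjBy B x = D := by
  obtain ⟨x, hx, rfl⟩ := hC
  have hD' : conjBy D x⁻¹ ∈ unipotentSubgroups A B := conjBy_mem hD (inv_mem hx)
  have hne' : conjBy D x⁻¹ ≠ A := fun he => hne (conjBy_eq_iff.1 he ▸ by rw [inv_inv])
  obtain ⟨a, ha, he⟩ := exists_eq_conjBy h hD' hne'
  refine ⟨x * a, mul_mem hx (mem_sup_left ha), ?_, ?_⟩
  · rw [← conjBy_conjBy, conjBy_of_mem ha]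
  · rw [← conjBy_conjBy, ← he, conjBy_conjBy, mul_inv_cancel, conjBy_one]

theorem inf_eq_bot_of_mem (h : IsRankOnePair A B) {C D : Subgroup G}
    (hC : C ∈ unipotentSubgroups A B) (hD : D ∈ unipotentSubgroups A B) (hne : C ≠ D) :
    C ⊓ D = ⊥ := by
  obtain ⟨x, -, rfl, rfl⟩ := exists_conj_pair h hC hD hne
  rw [← Subgroup.map_inf_eq _ _ _ (MulAut.conj x).injective, inf_eq_bot h, Subgroup.map_bot]

theorem sup_eq_of_mem (h : IsRankOnePair A B) {C D : Subgroup G}
    (hC : C ∈ unipotentSubgroups A B) (hD : D ∈ unipotentSubgroups A B) (hne : C ≠ D) :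
    C ⊔ D = A ⊔ B := by
  obtain ⟨x, hx, rfl, rfl⟩ := exists_conj_pair h hC hD hne
  rw [← Subgroup.map_sup]
  exact conjBy_of_mem hx

theorem mem_center_of_normalizer (h : IsRankOnePair A B) {a : G} (ha : a ∈ A)
    (hc : ∀ b ∈ B, a * b = b * a) : a = 1 :=
  eq_one_of_mem_normalizer h ha <| Subgroup.mem_normalizer_iff.2 fun x => by
    constructor
    · intro hx
      rw [hc x hx]; simpa [mul_assoc] using hx
    · intro hx
      have h1 := hc _ hx
      have : a * x * a⁻¹ = x := by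
        calc a * x * a⁻¹ = a⁻¹ * (a * (a * x * a⁻¹)) := by group
          _ = a⁻¹ * ((a * x * a⁻¹) * a) := by rw [h1]
          _ = x := by group
      rwa [this] at hx

section Group

variable {X : Type*} [Group X] {A B : Subgroup X}

/-- A normal subgroup either covers `X` together with `A`, or is central. -/
theorem normal_dichotomy (h : IsRankOneGroup X A B) (N : Subgroup X) [hN : N.Normal] :
    N ⊔ A = ⊤ ∨ N ≤ Subgroup.center X := by
  obtain ⟨htop, h⟩ := h
  by_cases hfix : ∀ n ∈ N, conjBy A n = A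
  · right
    have hfB : ∀ n ∈ N, conjBy B n = B := by
      intro n hn
      obtain ⟨x, -, hx⟩ := right_mem h
      have h2 : x⁻¹ * n * x ∈ N := by simpa using hN.conj_mem n hn x⁻¹
      rw [hx, conjBy_conjBy, show n * x = x * (x⁻¹ * n * x) by group, ← conjBy_conjBy,
        hfix _ h2]
    have key : ∀ (C D : Subgroup X), IsRankOnePair C D → (∀ n ∈ N, conjBy C n = C) →
        (∀ n ∈ N, conjBy D n = D) → ∀ n ∈ N, ∀ c ∈ C, c * n = n * c := by
      intro C D hCD hC hD n hn c hc
      have h1 : c * n * c⁻¹ * n⁻¹ ∈ C := by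
        have h3 : n * c⁻¹ * n⁻¹ ∈ C := hC n hn ▸ conj_mem_conjBy (C.inv_mem hc)
        simpa [mul_assoc] using C.mul_mem hc h3
      have h2 : c * n * c⁻¹ * n⁻¹ ∈ N := N.mul_mem (hN.conj_mem n hn c) (N.inv_mem hn)
      have h3 := eq_one_of_mem_normalizer hCD h1 (conjBy_eq_self_iff.1 (hD _ h2))
      rwa [mul_inv_eq_one, mul_inv_eq_iff_eq_mul] at h3
    intro n hn
    rw [← Subgroup.centralizer_univ, ← Subgroup.coe_top, ← htop, sup_eq_closure,
      centralizer_closure, Subgroup.mem_centralizer_iff]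
    rintro c (hc | hc)
    · exact key A B h hfix hfB n hn c hc
    · exact key B A (RankOnePair_symm h) hfB hfix n hn c hc
  · left
    push Not at hfix
    obtain ⟨n, hn, hne⟩ := hfix
    have hmem : ∀ g : X, g ∈ A ⊔ B := fun g => htop.symm ▸ Subgroup.mem_top g
    obtain ⟨a, ha, hea⟩ := exists_eq_conjBy h ⟨n, hmem n, rfl⟩ hne
    have hB : B ≤ N ⊔ A := by
      rw [eq_comm, conjBy_eq_iff, conjBy_conjBy] at hea
      rw [hea]
      exact conjBy_le le_sup_right
        (mul_mem (inv_mem (mem_sup_right ha)) (mem_sup_left hn))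
    rw [eq_top_iff, ← htop]
    exact sup_le le_sup_right hB

theorem not_comm (h : IsRankOnePair A B) : ∃ a ∈ A, ∃ b ∈ B, a * b ≠ b * a := by
  obtain ⟨a, ha, ha1⟩ := exists_mem_ne_one h
  by_contra! hc
  exact ha1 (mem_center_of_normalizer h ha (hc a ha))

theorem upperCentralSeries_two (h : IsRankOneGroup X A B) :
    Subgroup.upperCentralSeries X 2 = Subgroup.center X := by
  refine le_antisymm ?_ (Subgroup.upperCentralSeries_one (G := X) ▸ Subgroup.upperCentralSeries_mono X one_le_two)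
  rcases normal_dichotomy h (Subgroup.upperCentralSeries X 2) with h2 | h2
  swap; · exact h2
  exfalso
  obtain ⟨htop, h⟩ := h
  obtain ⟨x, -, hx⟩ := right_mem h
  have hdec : x ∈ ((Subgroup.upperCentralSeries X 2 ⊔ A : Subgroup X) : Set X) := by
    rw [h2]; trivial
  rw [Subgroup.normal_mul] at hdec
  obtain ⟨n, hn, a, ha, rfl⟩ := hdec
  rw [← conjBy_conjBy, conjBy_of_mem ha] at hx
  obtain ⟨c, hc, hc1⟩ := exists_mem_ne_one h
  refine hc1 (eq_one_of_mem_normalizer h hc (conjBy_eq_self_iff.1 ?_))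
  have hz : ⁅n, c⁆ ∈ Subgroup.center X := by
    rw [← Subgroup.upperCentralSeries_one]; exact Subgroup.mem_upperCentralSeries_succ_iff.1 hn c
  rw [hx, conjBy_conjBy, show c * n = ⁅n, c⁆⁻¹ * (n * c) by
    rw [commutatorElement_def]; group, ← conjBy_conjBy, ← conjBy_conjBy, conjBy_of_mem hc,
    conjBy_eq_self_iff.2 (Subgroup.center_le_normalizer _ (inv_mem hz))]

theorem not_isNilpotent (h : IsRankOneGroup X A B) : ¬ Group.IsNilpotent X := by
  rintro ⟨n, hn⟩
  have hall : ∀ m, Subgroup.upperCentralSeries X m ≤ Subgroup.center X := by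
    intro m
    induction m with
    | zero => simp
    | succ m ih =>
        intro x hx
        rw [← upperCentralSeries_two h]
        refine Subgroup.mem_upperCentralSeries_succ_iff.2 fun y => ?_
        rw [Subgroup.upperCentralSeries_one]
        exact ih (Subgroup.mem_upperCentralSeries_succ_iff.1 hx y)
  obtain ⟨a, ha, b, hb, hab⟩ := not_comm h.2
  exact hab (Subgroup.mem_center_iff.1 (hall n (hn ▸ Subgroup.mem_top b)) a)

end Group

end CfsgLib.Trans3.RankOne
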