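import Cfsg.Agent.Lib.Trans3.SL2Rel
import Mathlib.Tactic.LinearCombination

/-!
# The homomorphism defined by rank one relations over a finite field
-/

set_option autoImplicit false

namespace CfsgLib.Trans3.SL2Rel

open Matrix

variable {F : Type*} [Field F] {G : Type*} [Group G]

local notation "SL₂" => Matrix.SpecialLinearGroup (Fin 2) F

/-- Upper unitriangular matrix. -/
def upp (x : F) : Matrix.SpecialLinearGroup (Fin 2) F :=
  ⟨!![1, x; 0, 1], by simp [Matrix.det_fin_two]⟩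

/-- Lower unitriangular matrix. -/
def low (x : F) : Matrix.SpecialLinearGroup (Fin 2) F :=
  ⟨!![1, 0; x, 1], by simp [Matrix.det_fin_two]⟩

theorem upp_val (x : F) : (upp x).1 = !![1, x; 0, 1] := rfl

theorem low_val (x : F) : (low x).1 = !![1, 0; x, 1] := rfl

/-- The torus element of `G`. -/
def tor (u v : F → G) (t : F) : G := wel u v t * (wel u v 1)⁻¹

/-- The function on matrices given by the Bruhat normal form. -/
noncomputable def lift (u v : F → G) (g : Matrix.SpecialLinearGroup (Fin 2) F) : G :=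
  letI := Classical.propDecidable
  if g.1 1 0 = 0 then tor u v (g.1 0 0) * u (g.1 0 1 / g.1 0 0)
  else u (g.1 0 0 / g.1 1 0) * wel u v (-(g.1 1 0)⁻¹) * u (g.1 1 1 / g.1 1 0)

theorem lift_of_zero (u v : F → G) {g : SL₂} (h : g.1 1 0 = 0) :
    lift u v g = tor u v (g.1 0 0) * u (g.1 0 1 / g.1 0 0) := by
  simp [lift, h]

theorem lift_of_ne (u v : F → G) {g : SL₂} (h : g.1 1 0 ≠ 0) :
    lift u v g = u (g.1 0 0 / g.1 1 0) * wel u v (-(g.1 1 0)⁻¹) * u (g.1 1 1 / g.1 1 0) := by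
  simp [lift, h]

theorem det_eq (g : SL₂) : g.1 0 0 * g.1 1 1 - g.1 0 1 * g.1 1 0 = 1 := by
  rw [← Matrix.det_fin_two]; exact g.2

theorem ne_zero_of_zero {g : SL₂} (h : g.1 1 0 = 0) : g.1 0 0 ≠ 0 ∧ g.1 1 1 = (g.1 0 0)⁻¹ := by
  have := det_eq g
  rw [h, mul_zero, sub_zero] at this
  exact ⟨left_ne_zero_of_mul_eq_one this, eq_inv_of_mul_eq_one_right this⟩

variable {u v : F → G} (R : Rel u v)
include R

theorem tor_one : tor u v 1 = 1 := mul_inv_cancel _

theorem tor_conj_u {t : F} (ht : t ≠ 0) (x : F) :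
    tor u v t * u x * (tor u v t)⁻¹ = u (t ^ 2 * x) := by
  have h1 : (wel u v 1)⁻¹ * u x * ((wel u v 1)⁻¹)⁻¹ = v (-x) := by
    rw [wel_inv R, R.conj_u _ (neg_ne_zero.2 one_ne_zero)]
    simp
  calc tor u v t * u x * (tor u v t)⁻¹
      = wel u v t * ((wel u v 1)⁻¹ * u x * ((wel u v 1)⁻¹)⁻¹) * (wel u v t)⁻¹ := by
        simp only [tor]; group
    _ = u (t ^ 2 * x) := by rw [h1, R.conj_v t ht]; simp

theorem lift_mul_upp (g : SL₂) (y : F) : lift u v (g * upp y) = lift u v g * u y := by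
  have e00 : (g * upp y).1 0 0 = g.1 0 0 := by simp [Matrix.SpecialLinearGroup.coe_mul, upp_val, Matrix.mul_apply]
  have e10 : (g * upp y).1 1 0 = g.1 1 0 := by simp [Matrix.SpecialLinearGroup.coe_mul, upp_val, Matrix.mul_apply]
  have e01 : (g * upp y).1 0 1 = g.1 0 0 * y + g.1 0 1 := by simp [Matrix.SpecialLinearGroup.coe_mul, upp_val, Matrix.mul_apply]
  have e11 : (g * upp y).1 1 1 = g.1 1 0 * y + g.1 1 1 := by simp [Matrix.SpecialLinearGroup.coe_mul, upp_val, Matrix.mul_apply]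
  by_cases h : g.1 1 0 = 0
  · rw [lift_of_zero u v h, lift_of_zero u v (e10.trans h), e00, e01, mul_assoc _ (u _) (u y), ← R.u_add]
    congr 2
    field_simp [(ne_zero_of_zero h).1]
    ring
  · rw [lift_of_ne u v h, lift_of_ne u v (by rwa [e10]), e00, e10, e11, mul_assoc _ (u _) (u y), ← R.u_add]
    congr 2
    field_simp
    ring

variable [Fintype F]

theorem tor_mul' {s t : F} (hs : s ≠ 0) (ht : t ≠ 0) :
    tor u v (s * t) = tor u v s * tor u v t := tor_mul R hs ht

theorem wel_wel_one {s : F} (hs : s ≠ 0) :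
    wel u v (-s) * wel u v 1 = tor u v s := by
  rw [← wel_inv R, tor, inv_mul_eq_iff_eq_mul, ← mul_assoc, sq_eq R hs]
  group

theorem triple_one {a q : F} (ha : a ≠ 0) (hq : q ≠ 0) :
    wel u v a * wel u v q * wel u v 1 = wel u v (-(a / q)) := by
  have h : ∀ x : F, wel u v x = tor u v x * wel u v 1 := fun x => by simp [tor]
  have h1 : wel u v a * wel u v q = tor u v (-(a / q)) := by
    rw [show -(a / q) = (-a) * q⁻¹ by ring, tor_mul' R (neg_ne_zero.2 ha) (inv_ne_zero hq),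
      ← wel_wel_one R (neg_ne_zero.2 ha), neg_neg]
    have h2 : tor u v q⁻¹ * tor u v q = 1 := by
      rw [← tor_mul' R (inv_ne_zero hq) hq, inv_mul_cancel₀ hq, tor_one R]
    have h3 : wel u v 1 * tor u v q⁻¹ = wel u v q := by
      have h5 : (tor u v q)⁻¹ = tor u v q⁻¹ := inv_eq_of_mul_eq_one_left h2
      rw [← h5]
      calc wel u v 1 * (tor u v q)⁻¹
          = (wel u v 1 * wel u v 1) * (wel u v q * wel u v q)⁻¹ * wel u v q := by
            simp only [tor]; group
        _ = wel u v q := by rw [sq_eq R hq, mul_inv_cancel, one_mul]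
    rw [mul_assoc, h3]
  rw [h1, ← h]

theorem lift_mul_weyl (g : SL₂) :
    lift u v (g * (upp 1 * low (-1) * upp 1)) = lift u v g * wel u v 1 := by
  set w := upp (1 : F) * low (-1) * upp 1 with hw
  have e00 : (g * w).1 0 0 = -g.1 0 1 := by simp [Matrix.SpecialLinearGroup.coe_mul, hw, upp_val, low_val, Matrix.mul_apply]
  have e01 : (g * w).1 0 1 = g.1 0 0 := by simp [Matrix.SpecialLinearGroup.coe_mul, hw, upp_val, low_val, Matrix.mul_apply]
  have e10 : (g * w).1 1 0 = -g.1 1 1 := by simp [Matrix.SpecialLinearGroup.coe_mul, hw, upp_val, low_val, Matrix.mul_apply]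
  have e11 : (g * w).1 1 1 = g.1 1 0 := by simp [Matrix.SpecialLinearGroup.coe_mul, hw, upp_val, low_val, Matrix.mul_apply]
  have hdet := det_eq g
  by_cases hc : g.1 1 0 = 0
  · obtain ⟨ha, hd⟩ := ne_zero_of_zero hc
    have hd0 : g.1 1 1 ≠ 0 := hd ▸ inv_ne_zero ha
    rw [lift_of_zero u v hc, lift_of_ne u v (by rw [e10]; exact neg_ne_zero.2 hd0), e00, e10, e11,
      hc, zero_div, u_zero R, mul_one, hd, neg_div_neg_eq, inv_neg, inv_inv, neg_neg, div_inv_eq_mul]
    have h1 := tor_conj_u R ha (g.1 0 1 / g.1 0 0)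
    rw [show g.1 0 0 ^ 2 * (g.1 0 1 / g.1 0 0) = g.1 0 1 * g.1 0 0 by field_simp] at h1
    rw [← h1]
    simp only [tor]; group
  · by_cases hd : g.1 1 1 = 0
    · have hb : g.1 0 1 = -(g.1 1 0)⁻¹ := by
        rw [hd, mul_zero, zero_sub] at hdet
        field_simp
        linear_combination -hdet
      rw [lift_of_ne u v hc, lift_of_zero u v (by rw [e10, hd, neg_zero]), e00, e01, hd, zero_div,
        u_zero R, mul_one, hb, neg_neg, mul_assoc, wel_wel_one R (inv_ne_zero hc)]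
      have h1 := tor_conj_u R (inv_ne_zero hc) (g.1 0 0 / (g.1 1 0)⁻¹)
      rw [show (g.1 1 0)⁻¹ ^ 2 * (g.1 0 0 / (g.1 1 0)⁻¹) = g.1 0 0 / g.1 1 0 by field_simp] at h1
      rw [← h1]; group
    · rw [lift_of_ne u v hc, lift_of_ne u v (by rw [e10]; exact neg_ne_zero.2 hd), e00, e10, e11,
        neg_div_neg_eq, inv_neg, neg_neg]
      obtain ⟨q, hq⟩ : ∃ q, g.1 1 1 / g.1 1 0 = q := ⟨_, rfl⟩
      have hq0 : q ≠ 0 := hq ▸ div_ne_zero hd hc
      have ha : -(g.1 1 0)⁻¹ ≠ 0 := neg_ne_zero.2 (inv_ne_zero hc)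
      have h1 : u q = v q⁻¹ * wel u v q * v q⁻¹ := by
        rw [wel, R.braid q hq0, v_neg R]; group
      have h2 : wel u v (-(g.1 1 0)⁻¹) * v q⁻¹ =
          u (-((-(g.1 1 0)⁻¹) ^ 2 * q⁻¹)) * wel u v (-(g.1 1 0)⁻¹) := by
        rw [← R.conj_v _ ha]; group
      have h3 : v q⁻¹ * wel u v 1 = wel u v 1 * u (-q⁻¹) := by
        have h := R.conj_u 1 one_ne_zero (-q⁻¹)
        rw [one_pow, div_one, neg_neg] at h
        rw [← h]; group
      have h4 : g.1 0 1 / g.1 1 1 = g.1 0 0 / g.1 1 0 + -((-(g.1 1 0)⁻¹) ^ 2 * q⁻¹) := by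
        rw [← hq]; field_simp; linear_combination -hdet
      have h5 : -(g.1 1 0 / g.1 1 1) = -q⁻¹ := by rw [← hq, inv_div]
      have h6 : (g.1 1 1)⁻¹ = -(-(g.1 1 0)⁻¹ / q) := by rw [← hq]; field_simp
      rw [hq, h4, div_neg, h5, h6, ← triple_one R ha hq0, R.u_add, h1]
      calc u (g.1 0 0 / g.1 1 0) * u (-((-(g.1 1 0)⁻¹) ^ 2 * q⁻¹)) *
              (wel u v (-(g.1 1 0)⁻¹) * wel u v q * wel u v 1) * u (-q⁻¹)
          = u (g.1 0 0 / g.1 1 0) *
              (u (-((-(g.1 1 0)⁻¹) ^ 2 * q⁻¹)) * wel u v (-(g.1 1 0)⁻¹)) * wel u v q *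
              (wel u v 1 * u (-q⁻¹)) := by group
        _ = _ := by rw [← h2, ← h3]; group

omit R [Fintype F] in
theorem upp_weyl_gen (g : SL₂) :
    g ∈ Subgroup.closure (Set.range upp ∪ {upp 1 * low (-1) * upp (1 : F)}) := by
  set w := upp (1 : F) * low (-1) * upp 1 with hw
  set C := Subgroup.closure (Set.range upp ∪ {w}) with hC
  have hu : ∀ x, upp x ∈ C := fun x => Subgroup.subset_closure (Or.inl ⟨x, rfl⟩)
  have hwm : w ∈ C := Subgroup.subset_closure (Or.inr rfl)
  have hl : ∀ x, low x ∈ C := by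
    intro x
    have : low x = w * upp (-x) * w⁻¹ := by
      rw [eq_mul_inv_iff_mul_eq]
      ext i j
      fin_cases i <;> fin_cases j <;> simp [Matrix.SpecialLinearGroup.coe_mul, hw, upp_val, low_val, Matrix.mul_apply]
    rw [this]
    exact mul_mem (mul_mem hwm (hu _)) (inv_mem hwm)
  have hbig : ∀ g : SL₂, g.1 1 0 ≠ 0 → g ∈ C := by
    intro g hc
    have hdet := det_eq g
    have : g = upp ((g.1 0 0 - 1) / g.1 1 0) * low (g.1 1 0) * upp ((g.1 1 1 - 1) / g.1 1 0) := by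
      ext i j
      fin_cases i <;> fin_cases j <;> simp [Matrix.SpecialLinearGroup.coe_mul, upp_val, low_val, Matrix.mul_apply] <;> field_simp
      all_goals first | ring1 | linear_combination hdet | linear_combination -hdet
    rw [this]
    exact mul_mem (mul_mem (hu _) (hl _)) (hu _)
  by_cases hc : g.1 1 0 = 0
  · have h1 : (g * low 1).1 1 0 ≠ 0 := by
      obtain ⟨ha, hd⟩ := ne_zero_of_zero hc
      simp [Matrix.SpecialLinearGroup.coe_mul, low_val, Matrix.mul_apply, hc, hd, ha]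
    have := mul_mem (hbig _ h1) (inv_mem (hl 1))
    rwa [mul_inv_cancel_right] at this
  · exact hbig g hc

theorem lift_mul (g h : SL₂) : lift u v (g * h) = lift u v g * lift u v h := by
  have h1 : lift u v (1 : SL₂) = 1 := by
    rw [lift_of_zero u v (by simp)]
    simp [tor_one R, u_zero R]
  suffices ∀ h : SL₂, ∃ y, ∀ g, lift u v (g * h) = lift u v g * y by
    obtain ⟨y, hy⟩ := this h
    rw [hy g]
    have := hy 1
    rw [one_mul, h1, one_mul] at this
    rw [this]
  intro h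
  induction upp_weyl_gen h using Subgroup.closure_induction'' with
  | mem x hx =>
      rcases hx with ⟨y, rfl⟩ | hx
      · exact ⟨_, fun g => lift_mul_upp R g y⟩
      · rw [Set.mem_singleton_iff.1 hx]; exact ⟨_, lift_mul_weyl R⟩
  | inv_mem x hx =>
      obtain ⟨y, hy⟩ : ∃ y, ∀ g, lift u v (g * x) = lift u v g * y := by
        rcases hx with ⟨y, rfl⟩ | hx
        · exact ⟨_, fun g => lift_mul_upp R g y⟩
        · rw [Set.mem_singleton_iff.1 hx]; exact ⟨_, lift_mul_weyl R⟩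
      exact ⟨y⁻¹, fun g => by rw [eq_mul_inv_iff_mul_eq, ← hy, inv_mul_cancel_right]⟩
  | one => exact ⟨1, fun g => by simp⟩
  | mul x y _ _ hx hy =>
      obtain ⟨a, ha⟩ := hx
      obtain ⟨b, hb⟩ := hy
      exact ⟨a * b, fun g => by rw [← mul_assoc, hb, ha, mul_assoc]⟩

/-- The homomorphism. -/
noncomputable def hom : SL₂ →* G := MonoidHom.mk' (lift u v) (lift_mul R)

theorem hom_upp (x : F) : hom R (upp x) = u x := by
  show lift u v (upp x) = u x
  rw [lift_of_zero u v (by simp [Matrix.SpecialLinearGroup.coe_mul, upp_val])]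
  simp [Matrix.SpecialLinearGroup.coe_mul, upp_val, tor_one R]

theorem hom_low (x : F) : hom R (low x) = v x := by
  show lift u v (low x) = v x
  by_cases hx : x = 0
  · subst hx
    rw [lift_of_zero u v (by simp [Matrix.SpecialLinearGroup.coe_mul, low_val])]
    simp [Matrix.SpecialLinearGroup.coe_mul, low_val, tor_one R, u_zero R, v_zero R]
  · rw [lift_of_ne u v (by simpa [Matrix.SpecialLinearGroup.coe_mul, low_val] using hx)]
    simp only [Matrix.SpecialLinearGroup.coe_mul, low_val, wel, Matrix.of_apply, Matrix.cons_val', Matrix.cons_val_zero, Matrix.cons_val_one, Matrix.cons_val_fin_one, inv_neg, inv_inv, neg_neg, one_div]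
    rw [u_neg R]; group

theorem hom_range : (hom R).range = Subgroup.closure (Set.range u ∪ Set.range v) := by
  refine le_antisymm ?_ ((Subgroup.closure_le _).2 ?_)
  · rintro _ ⟨g, rfl⟩
    induction upp_weyl_gen g using Subgroup.closure_induction with
    | mem x hx =>
        rcases hx with ⟨y, rfl⟩ | hx
        · rw [hom_upp R]; exact Subgroup.subset_closure (Or.inl ⟨y, rfl⟩)
        · rw [Set.mem_singleton_iff.1 hx, map_mul, map_mul, hom_upp R, hom_low R]
          exact mul_mem (mul_mem (Subgroup.subset_closure (Or.inl ⟨1, rfl⟩))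
            (Subgroup.subset_closure (Or.inr ⟨-1, rfl⟩))) (Subgroup.subset_closure (Or.inl ⟨1, rfl⟩))
    | one => simp
    | mul a b _ _ ha hb => rw [map_mul]; exact mul_mem ha hb
    | inv a _ ha => rw [map_inv]; exact inv_mem ha
  · rintro x (⟨y, rfl⟩ | ⟨y, rfl⟩)
    exacts [⟨upp y, hom_upp R y⟩, ⟨low y, hom_low R y⟩]

/-- The kernel is central as soon as `u` is injective and its image meets neither that of `v`
nor its normalizer outside `1`. -/
theorem hom_ker_le_center (A B : Subgroup G) (hu : ∀ x, u x ∈ A) (hv : ∀ x, v x ∈ B)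
    (hinj : Function.Injective u)
    (hAB : ∀ a ∈ A, a ∈ Subgroup.normalizer (B : Set G) → a = 1)
    (hA : ∀ a ∈ A, ∀ a' ∈ A, a * a' = a' * a)
    (hnorm : ∀ t : F, t ≠ 0 → tor u v t ∈ Subgroup.normalizer (B : Set G)) :
    (hom R).ker ≤ Subgroup.center SL₂ := by
  intro g hg
  replace hg : lift u v g = 1 := hg
  by_cases hc : g.1 1 0 = 0
  · obtain ⟨ha, hd⟩ := ne_zero_of_zero hc
    rw [lift_of_zero u v hc, mul_eq_one_iff_eq_inv, ← u_neg R] at hg
    have h0 := hAB _ (hu _) (hg ▸ hnorm _ ha)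
    rw [← u_zero R] at h0
    have hb : g.1 0 1 = 0 := by simpa [ha] using hinj h0
    rw [hb, zero_div, neg_zero, u_zero R] at hg
    have h1 := tor_conj_u R ha 1
    rw [hg, one_mul, inv_one, mul_one, mul_one] at h1
    have h2 : g.1 0 0 ^ 2 = 1 := (hinj h1).symm
    have hd' : g.1 1 1 = g.1 0 0 := by rw [hd]; field_simp; linear_combination -h2
    refine Subgroup.mem_center_iff.2 fun h => ?_
    ext i j
    fin_cases i <;> fin_cases j <;> simp [Matrix.mul_apply, hb, hc, hd', mul_comm]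
  · exfalso
    rw [lift_of_ne u v hc, mul_eq_one_iff_eq_inv] at hg
    obtain ⟨w, hw⟩ : ∃ w, wel u v (-(g.1 1 0)⁻¹) = w := ⟨_, rfl⟩
    have hwA : w ∈ A := by
      have : w = (u (g.1 0 0 / g.1 1 0))⁻¹ * (u (g.1 1 1 / g.1 1 0))⁻¹ := by
        rw [← hg, hw]; group
      rw [this]; exact mul_mem (inv_mem (hu _)) (inv_mem (hu _))
    have ht : -(g.1 1 0)⁻¹ ≠ 0 := neg_ne_zero.2 (inv_ne_zero hc)
    have h1 := R.conj_u _ ht (-((-(g.1 1 0)⁻¹) ^ 2 * 1))
    rw [hw, hA w hwA _ (hu _), mul_inv_cancel_right,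
      show -(-((-(g.1 1 0)⁻¹) ^ 2 * 1) / (-(g.1 1 0)⁻¹) ^ 2) = (1 : F) by field_simp] at h1
    have h2 := hAB _ (hu _) (h1 ▸ Subgroup.le_normalizer (hv 1))
    rw [← u_zero R] at h2
    exact absurd (hinj h2) (by simpa using hc)

end CfsgLib.Trans3.SL2Rel
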