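import Cfsg.Agent.Lib.Trans3.RootSub
import Cfsg.Agent.Lib.Trans3.SL2Hom

/-!
# Images of `SL₂(k)` are rank one pairs
-/

set_option autoImplicit false

namespace CfsgLib.Trans3.PairOver

open Cfsg CfsgLib.Trans3.SL2Rel CfsgLib.Trans3.RankOne

variable {k : Type*} [Field k] {G : Type*} [Group G]

theorem upp_add (x y : k) : upp x * upp y = upp (x + y) := by
  ext i j
  fin_cases i <;> fin_cases j <;>
    simp [Matrix.SpecialLinearGroup.coe_mul, upp_val, Matrix.mul_apply, add_comm]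

theorem low_add (x y : k) : low x * low y = low (x + y) := by
  ext i j
  fin_cases i <;> fin_cases j <;>
    simp [Matrix.SpecialLinearGroup.coe_mul, low_val, Matrix.mul_apply, add_comm]

theorem upp_zero : upp (0 : k) = 1 := by
  ext i j; fin_cases i <;> fin_cases j <;> simp [upp_val]

theorem low_zero : low (0 : k) = 1 := by
  ext i j; fin_cases i <;> fin_cases j <;> simp [low_val]

theorem upp_inv (x : k) : (upp x)⁻¹ = upp (-x) :=
  inv_eq_of_mul_eq_one_right (by rw [upp_add, add_neg_cancel, upp_zero])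

theorem low_inv (x : k) : (low x)⁻¹ = low (-x) :=
  inv_eq_of_mul_eq_one_right (by rw [low_add, add_neg_cancel, low_zero])

theorem mem_upper {g : Matrix.SpecialLinearGroup (Fin 2) k} :
    g ∈ upperUnipotentSL2 k ↔ ∃ x, g = upp x := by
  constructor
  · intro h
    induction h using Subgroup.closure_induction with
    | mem g hg =>
        refine ⟨g.1 0 1, ?_⟩
        ext i j
        fin_cases i <;> fin_cases j <;> simp [upp_val, hg.1, hg.2.1, hg.2.2]
    | one => exact ⟨0, upp_zero.symm⟩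
    | mul _ _ _ _ ha hb =>
        obtain ⟨x, rfl⟩ := ha; obtain ⟨y, rfl⟩ := hb; exact ⟨_, upp_add x y⟩
    | inv _ _ ha => obtain ⟨x, rfl⟩ := ha; exact ⟨_, upp_inv x⟩
  · rintro ⟨x, rfl⟩
    exact Subgroup.subset_closure (by simp [upp_val])

theorem mem_lower {g : Matrix.SpecialLinearGroup (Fin 2) k} :
    g ∈ lowerUnipotentSL2 k ↔ ∃ x, g = low x := by
  constructor
  · intro h
    induction h using Subgroup.closure_induction with
    | mem g hg =>
        refine ⟨g.1 1 0, ?_⟩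
        ext i j
        fin_cases i <;> fin_cases j <;> simp [low_val, hg.1, hg.2.1, hg.2.2]
    | one => exact ⟨0, low_zero.symm⟩
    | mul _ _ _ _ ha hb =>
        obtain ⟨x, rfl⟩ := ha; obtain ⟨y, rfl⟩ := hb; exact ⟨_, low_add x y⟩
    | inv _ _ ha => obtain ⟨x, rfl⟩ := ha; exact ⟨_, low_inv x⟩
  · rintro ⟨x, rfl⟩
    exact Subgroup.subset_closure (by simp [low_val])

theorem sup_eq_top : upperUnipotentSL2 k ⊔ lowerUnipotentSL2 k = ⊤ := by
  refine eq_top_iff.2 fun g _ => ?_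
  have hu : ∀ x : k, upp x ∈ upperUnipotentSL2 k ⊔ lowerUnipotentSL2 k := fun x =>
    Subgroup.mem_sup_left (mem_upper.2 ⟨x, rfl⟩)
  have hl : ∀ x : k, low x ∈ upperUnipotentSL2 k ⊔ lowerUnipotentSL2 k := fun x =>
    Subgroup.mem_sup_right (mem_lower.2 ⟨x, rfl⟩)
  refine (Subgroup.closure_le _).2 ?_ (upp_weyl_gen g)
  rintro x (⟨y, rfl⟩ | rfl)
  exacts [hu y, mul_mem (mul_mem (hu 1) (hl (-1))) (hu 1)]

theorem conj_upper {x : k} (hx : x ≠ 0) :
    conjBy (upperUnipotentSL2 k) (low x⁻¹)⁻¹ = conjBy (lowerUnipotentSL2 k) (upp x)⁻¹ := by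
  have key : ∀ s : k, low (-x⁻¹) * upp s * low x⁻¹ = upp (-x) * low (-(s / x ^ 2)) * upp x := by
    intro s
    ext i j
    fin_cases i <;> fin_cases j <;>
      simp [Matrix.SpecialLinearGroup.coe_mul, upp_val, low_val, Matrix.mul_apply] <;>
      field_simp <;> ring
  ext g
  rw [mem_conjBy, mem_conjBy, inv_inv, inv_inv, mem_upper, mem_lower]
  constructor
  · rintro ⟨s, hs⟩
    refine ⟨-(s / x ^ 2), ?_⟩
    have h1 : g = low (-x⁻¹) * upp s * low x⁻¹ := by rw [← low_inv, ← hs]; group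
    rw [h1, key, ← upp_inv]; group
  · rintro ⟨r, hr⟩
    refine ⟨-(r * x ^ 2), ?_⟩
    have h1 : g = upp (-x) * low r * upp x := by rw [← upp_inv, ← hr]; group
    have h2 := key (-(r * x ^ 2))
    rw [neg_div, neg_neg, mul_div_cancel_right₀ r (pow_ne_zero 2 hx)] at h2
    rw [h1, ← h2, ← low_inv]; group

theorem map_conjBy {H : Type*} [Group H] (f : H →* G) (A : Subgroup H) (g : H) :
    (conjBy A g).map f = conjBy (A.map f) (f g) := by
  show (A.map _).map f = (A.map f).map _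
  rw [Subgroup.map_map, Subgroup.map_map]
  congr 1
  ext x
  simp

theorem isRankOnePair_map (φ : Matrix.SpecialLinearGroup (Fin 2) k →* G)
    (hker : φ.ker ≤ Subgroup.center (Matrix.SpecialLinearGroup (Fin 2) k)) :
    IsRankOnePair ((upperUnipotentSL2 k).map φ) ((lowerUnipotentSL2 k).map φ) := by
  have hu : ∀ x : k, φ (upp x) = 1 → x = 0 := by
    intro x hx
    have h := congrArg Subtype.val (Subgroup.mem_center_iff.1 (hker hx) (low 1))
    simpa [Matrix.SpecialLinearGroup.coe_mul, upp_val, low_val, Matrix.mul_apply] using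
      congrFun (congrFun h 0) 0
  have hl : ∀ x : k, φ (low x) = 1 → x = 0 := by
    intro x hx
    have h := congrArg Subtype.val (Subgroup.mem_center_iff.1 (hker hx) (upp 1))
    simpa [Matrix.SpecialLinearGroup.coe_mul, upp_val, low_val, Matrix.mul_apply] using
      congrFun (congrFun h 0) 0
  haveI hcomm : ∀ U : Subgroup (Matrix.SpecialLinearGroup (Fin 2) k),
      (∀ a ∈ U, ∀ b ∈ U, a * b = b * a) → Group.IsNilpotent ↥(U.map φ) := by
    intro U hU
    haveI : IsMulCommutative ↥(U.map φ) := ⟨⟨fun a b => Subtype.ext (by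
      obtain ⟨a', ha, ha'⟩ := a.2
      obtain ⟨b', hb, hb'⟩ := b.2
      rw [Subgroup.coe_mul, Subgroup.coe_mul, ← ha', ← hb', ← map_mul, hU a' ha b' hb, map_mul])⟩⟩
    letI : CommGroup ↥(U.map φ) := { (inferInstance : Group ↥(U.map φ)) with mul_comm := IsMulCommutative.is_comm.comm }
    exact CommGroup.isNilpotent
  refine ⟨?_, hcomm _ ?_, hcomm _ ?_, ?_, ?_⟩
  · intro he
    have h1 : φ (upp 1) ∈ (lowerUnipotentSL2 k).map φ :=
      he ▸ Subgroup.mem_map_of_mem φ (mem_upper.2 ⟨1, rfl⟩)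
    obtain ⟨g, hg, hg'⟩ := h1
    obtain ⟨y, rfl⟩ := mem_lower.1 hg
    have h2 : (low y)⁻¹ * upp 1 ∈ φ.ker := by
      rw [MonoidHom.mem_ker, map_mul, map_inv, hg', inv_mul_cancel]
    rw [low_inv] at h2
    obtain ⟨r, -, hr⟩ := Matrix.SpecialLinearGroup.mem_center_iff.1 (hker h2)
    simpa [Matrix.SpecialLinearGroup.coe_mul, low_val, upp_val, Matrix.mul_apply] using
      congrFun (congrFun hr 0) 1
  · intro a ha b hb
    obtain ⟨x, rfl⟩ := mem_upper.1 ha; obtain ⟨y, rfl⟩ := mem_upper.1 hb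
    rw [upp_add, upp_add, add_comm]
  · intro a ha b hb
    obtain ⟨x, rfl⟩ := mem_lower.1 ha; obtain ⟨y, rfl⟩ := mem_lower.1 hb
    rw [low_add, low_add, add_comm]
  · rintro _ ⟨a, ha, rfl⟩ ha1
    obtain ⟨x, rfl⟩ := mem_upper.1 ha
    have hx : x ≠ 0 := fun h => ha1 (by rw [h, upp_zero, map_one])
    refine ⟨φ (low x⁻¹), Subgroup.mem_map_of_mem φ (mem_lower.2 ⟨_, rfl⟩),
      fun h => inv_ne_zero hx (hl _ h), ?_⟩
    rw [← map_inv, ← map_inv, ← map_conjBy, ← map_conjBy, conj_upper hx]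
  · rintro _ ⟨b, hb, rfl⟩ hb1
    obtain ⟨y, rfl⟩ := mem_lower.1 hb
    have hy : y ≠ 0 := fun h => hb1 (by rw [h, low_zero, map_one])
    refine ⟨φ (upp y⁻¹), Subgroup.mem_map_of_mem φ (mem_upper.2 ⟨_, rfl⟩),
      fun h => inv_ne_zero hy (hu _ h), ?_⟩
    have h := conj_upper (inv_ne_zero hy)
    rw [inv_inv] at h
    rw [← map_inv, ← map_inv, ← map_conjBy, ← map_conjBy, h]

theorem isRankOnePair_of_pairOver {A B : Subgroup G} (h : IsPSL2PairOver k A B) :
    IsRankOnePair A B := by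
  obtain ⟨φ, -, hk, rfl, rfl⟩ := h
  exact isRankOnePair_map φ hk

theorem not_commutatorCase {S : Set (Subgroup G)} {A B : Subgroup G} (h : IsRankOnePair A B)
    (hA : IsMulCommutative A) (hB : IsMulCommutative B) : ¬ RootCommutatorCase S A B := by
  rintro ⟨-, hz, -, -⟩
  have cA : ∀ a ∈ A, ∀ a' ∈ A, a * a' = a' * a := fun a ha a' ha' =>
    congrArg Subtype.val (hA.is_comm.comm (⟨a, ha⟩ : A) ⟨a', ha'⟩)
  have cB : ∀ a ∈ B, ∀ a' ∈ B, a * a' = a' * a := fun a ha a' ha' =>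
    congrArg Subtype.val (hB.is_comm.comm (⟨a, ha⟩ : B) ⟨a', ha'⟩)
  obtain ⟨a, ha, ha1⟩ := exists_mem_ne_one h
  obtain ⟨b, hb, -, he⟩ := h.cond_left a ha ha1
  have hmem : b⁻¹ * a * b ∈ conjBy B a⁻¹ := by
    rw [← he, mem_conjBy, inv_inv]; simpa [mul_assoc] using ha
  rw [mem_conjBy, inv_inv] at hmem
  obtain ⟨b', hb'⟩ : ∃ b', a * (b⁻¹ * a * b) * a⁻¹ = b' := ⟨_, rfl⟩
  rw [hb'] at hmem
  -- `a` differs from `b'` by an element centralizing `B`
  obtain ⟨z, hz'⟩ : ∃ z, z = b⁻¹ * a * b * a⁻¹ := ⟨_, rfl⟩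
  have hzm : z ∈ ⁅A, B⁆ := by
    rw [Subgroup.commutator_comm, hz']
    simpa [commutatorElement_def] using Subgroup.commutator_mem_commutator (inv_mem hb) ha
  have hzc : ∀ x ∈ A ⊔ B, z * x = x * z := hz z hzm
  have hab : b' = z * a := by
    have e1 : b⁻¹ * a * b = z * a := by rw [hz']; group
    rw [← hb', e1]
    calc a * (z * a) * a⁻¹ = a * z := by group
      _ = z * a := (hzc a (Subgroup.mem_sup_left ha)).symm
  refine ha1 (mem_center_of_normalizer h ha fun x hx => ?_)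
  have h1 := cB b' hmem x hx
  rw [hab] at h1
  have h2 := hzc x (Subgroup.mem_sup_right hx)
  apply mul_left_cancel (a := z)
  rw [← mul_assoc, h1, ← mul_assoc, ← mul_assoc, h2]

theorem commutatorCase_symm {S : Set (Subgroup G)} {A B : Subgroup G}
    (h : RootCommutatorCase S A B) : RootCommutatorCase S B A := by
  obtain ⟨h1, h2, h3, h4⟩ := h
  have key : ∀ (T : Set G) (f g : G → G), (∀ x, g x = (f x)⁻¹) →
      Subgroup.closure (g '' T) = Subgroup.closure (f '' T) := by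
    intro T f g hfg
    refine le_antisymm ((Subgroup.closure_le _).2 ?_) ((Subgroup.closure_le _).2 ?_)
    · rintro _ ⟨x, hx, rfl⟩; rw [hfg]; exact inv_mem (Subgroup.subset_closure ⟨x, hx, rfl⟩)
    · rintro _ ⟨x, hx, rfl⟩
      rw [show f x = (g x)⁻¹ by rw [hfg, inv_inv]]
      exact inv_mem (Subgroup.subset_closure ⟨x, hx, rfl⟩)
  refine ⟨Subgroup.commutator_comm A B ▸ h1, ?_, ?_, ?_⟩
  · rw [Subgroup.commutator_comm, sup_comm]; exact h2
  · intro b hb hb1
    rw [Subgroup.commutator_comm, ← h4 b hb hb1]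
    exact key _ _ _ fun x => by group
  · intro a ha ha1
    rw [Subgroup.commutator_comm, ← h3 a ha ha1]
    exact key _ _ _ fun x => by group

end CfsgLib.Trans3.PairOver
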