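import Cfsg.Agent.Lib.Trans3.Group
import Cfsg.Agent.Lib.Trans3.Sym

/-! Commuting graph of a primitive class of 3-transpositions; moves inside centralisers. -/

set_option autoImplicit false

namespace CfsgLib.Trans3

variable {G : Type*} [Group G] {D : Set G}

theorem commute_conj_of_fix {g z m : G} (h : Commute z m) : Commute (g * z * g⁻¹) (g * m * g⁻¹) :=
  h.map (MulAut.conj g).toMonoidHom

theorem commute_of_conj_eq {g d : G} (h : g * d * g⁻¹ = d) : Commute g d :=
  (mul_inv_eq_iff_eq_mul.1 h)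

theorem conj_eq_of_commute {g d : G} (h : Commute g d) : g * d * g⁻¹ = d := by
  rw [h.eq, mul_assoc, mul_inv_cancel, mul_one]

theorem commute_conj_iff' (g a b : G) :
    Commute (g * a * g⁻¹) (g * b * g⁻¹) ↔ Commute a b :=
  ⟨fun h => Commute.of_map (f := (MulAut.conj g).toMonoidHom) (MulAut.conj g).injective h,
    commute_conj_of_fix⟩

theorem self_conj_eq (hD : Cfsg.IsThreeTranspositionSet D) {a : G} (ha : a ∈ D) (b : G) :
    a * b * a⁻¹ = a * b * a := by rw [inv_eq hD ha]

/-- Members of `D` commuting with a non-commuting pair also commute with the third point. -/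
theorem commute_of_commute_mid (hD : Cfsg.IsThreeTranspositionSet D) {y c m : G} (hc : c ∈ D)
    (hm : m ∈ D) (hcm : ¬ Commute c m) (h₁ : Commute y c) (h₂ : Commute y (m * c * m)) :
    Commute y m := by
  rw [← braid hD hc hm hcm] at h₂
  have := (h₁.mul_right h₂).mul_right h₁
  rwa [show c * (c * m * c) * c = (c * c) * m * (c * c) by group, sq_one hD hc, one_mul,
    mul_one] at this

section Primitive

variable (hD : Cfsg.IsThreeTranspositionGroup D) (hP : Cfsg.IsPrimitiveUnderConj D)
include hD hP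

/-- An equivariant equivalence on `D` with a non-trivial class has one class. -/
theorem eq_of_equivariant (R : G → G → Prop) (hrefl : ∀ a ∈ D, R a a)
    (hsymm : ∀ a b, R a b → R b a) (htrans : ∀ a b c, R a b → R b c → R a c)
    (hconj : ∀ g a b, R a b → R (g * a * g⁻¹) (g * b * g⁻¹))
    {d e : G} (hd : d ∈ D) (he : e ∈ D) (hne : d ≠ e) (hde : R d e) {x : G} (hx : x ∈ D) :
    R d x := by
  obtain ⟨-, -, hblock⟩ := hP
  let B : Set G := {z | z ∈ D ∧ R d z}
  have hB : B.Subsingleton ∨ B = D := by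
    refine hblock B (fun z hz => hz.1) fun g => ?_
    by_cases hdisj : Disjoint ((fun x => g * x * g⁻¹) '' B) B
    · exact Or.inr hdisj
    · left
      obtain ⟨w, ⟨v, hv, rfl⟩, hw⟩ := Set.not_disjoint_iff.1 hdisj
      have h1 : R d (g * d * g⁻¹) :=
        htrans _ _ _ hw.2 (hsymm _ _ (hconj g _ _ hv.2))
      ext z
      constructor
      · rintro ⟨u, hu, rfl⟩
        exact ⟨(hD.2.1 g u hu.1), htrans _ _ _ h1 (hconj g _ _ hu.2)⟩
      · intro hz
        refine ⟨g⁻¹ * z * g, ⟨by simpa using hD.2.1 g⁻¹ z hz.1, ?_⟩, by group⟩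
        have := hconj g⁻¹ _ _ (htrans _ _ _ (hsymm _ _ h1) hz.2)
        simpa [mul_assoc] using this
  rcases hB with hB | hB
  · exact absurd (hB ⟨hd, hrefl d hd⟩ ⟨he, hde⟩) hne
  · exact (hB.symm ▸ hx : x ∈ B).2

theorem primitive_conj {a b : G} (ha : a ∈ D) (hb : b ∈ D) : ∃ g : G, g * a * g⁻¹ = b :=
  hP.1 a ha b hb

theorem eq_singleton_of_central {y : G} (hy : y ∈ D) (h : ∀ z ∈ D, Commute y z) : False := by
  have hall : ∀ g : G, Commute y g := fun g => by
    have hg : g ∈ Subgroup.closure D := hD.2.2 ▸ Subgroup.mem_top g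
    induction hg using Subgroup.closure_induction with
    | mem x hx => exact h x hx
    | one => exact Commute.one_right _
    | mul a b _ _ h1 h2 => exact h1.mul_right h2
    | inv a _ h1 => exact h1.inv_right
  have hone : ∀ x ∈ D, x = y := fun x hx => by
    obtain ⟨g, rfl⟩ := hP.1 y hy x hx
    exact conj_eq_of_commute (hall g).symm
  obtain ⟨a, ha, b, hb, hab⟩ := hP.2.1
  exact hab ((hone a ha).trans (hone b hb).symm)

theorem exists_noncomm_of_primitive {d : G} (hd : d ∈ D) : ∃ e ∈ D, ¬ Commute d e :=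
  by_contra fun h => eq_singleton_of_central hD hP hd fun z hz =>
    not_not.1 fun hn => h ⟨z, hz, hn⟩

variable (hw : ∃ a ∈ D, ∃ b ∈ D, a ≠ b ∧ Commute a b)
include hw

theorem exists_comm {d : G} (hd : d ∈ D) : ∃ e ∈ D, e ≠ d ∧ Commute d e := by
  obtain ⟨a, ha, b, hb, hab, hc⟩ := hw
  obtain ⟨g, rfl⟩ := hP.1 a ha d hd
  exact ⟨g * b * g⁻¹, conj_mem hD hb, fun h => hab (by simpa using h.symm),
    commute_conj_of_fix hc⟩

/-- The commuting graph is connected, in closure form. -/
theorem closed_eq_univ {Z : Set G} {d : G} (hd : d ∈ D) (hdZ : d ∈ Z)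
    (hclosed : ∀ z ∈ Z, ∀ w ∈ D, z ∈ D → Commute z w → w ∈ Z) {x : G} (hx : x ∈ D) : x ∈ Z := by
  let R : G → G → Prop := Relation.ReflTransGen fun a b => a ∈ D ∧ b ∈ D ∧ Commute a b
  obtain ⟨e, he, hed, hde⟩ := exists_comm hD hP hw hd
  have h : R d x := by
    refine eq_of_equivariant hD hP R (fun a _ => Relation.ReflTransGen.refl) ?_
      (fun a b c => Relation.ReflTransGen.trans) ?_ hd he hed.symm
      (Relation.ReflTransGen.single ⟨hd, he, hde⟩) hx
    · intro a b hab
      induction hab with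
      | refl => exact Relation.ReflTransGen.refl
      | tail _ h2 ih => exact (Relation.ReflTransGen.single ⟨h2.2.1, h2.1, h2.2.2.symm⟩).trans ih
    · intro g a b hab
      exact hab.lift (fun z => g * z * g⁻¹) fun u v huv =>
        ⟨conj_mem hD huv.1, conj_mem hD huv.2.1, commute_conj_of_fix huv.2.2⟩
  induction h with
  | refl => exact hdZ
  | tail _ h2 ih => exact hclosed _ (ih h2.1) _ h2.2.1 h2.1 h2.2.2

theorem connected : (Cfsg.commutingGraph D).Connected := by
  obtain ⟨a, ha, -⟩ := id hw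
  have key : ∀ x : D, (Cfsg.commutingGraph D).Reachable ⟨a, ha⟩ x := by
    intro x
    obtain ⟨-, hx⟩ := closed_eq_univ hD hP hw (Z := {z | z ∈ D ∧
      ∀ h : z ∈ D, (Cfsg.commutingGraph D).Reachable ⟨a, ha⟩ ⟨z, h⟩}) ha
      ⟨ha, fun _ => SimpleGraph.Reachable.refl _⟩ (fun z hz w hwD hzD hzw => ⟨hwD, fun h => by
        by_cases hne : z = w
        · subst hne; exact hz.2 h
        · refine (hz.2 hzD).trans (SimpleGraph.Adj.reachable ?_)
          exact ⟨fun h' => hne (congrArg Subtype.val h'), Or.inl hzw⟩⟩) x.2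
    exact hx x.2
  haveI : Nonempty D := ⟨⟨a, ha⟩⟩
  exact ⟨fun u v => (key u).symm.trans (key v)⟩

end Primitive

section Moves

variable (hD : Cfsg.IsThreeTranspositionGroup D) {d : G} (hd : d ∈ D)
include hD hd

/-- `c` and `e` are conjugate under the subgroup `K`. -/
def Orb (K : Subgroup G) (c e : G) : Prop := ∃ g ∈ K, g * c * g⁻¹ = e

omit hD hd in
theorem Orb.symm {K : Subgroup G} {c e : G} (h : Orb K c e) : Orb K e c := by
  obtain ⟨g, hg, rfl⟩ := h
  exact ⟨g⁻¹, inv_mem hg, by group⟩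

omit hD hd in
theorem Orb.trans {K : Subgroup G} {c e f : G} (h : Orb K c e) (h' : Orb K e f) : Orb K c f := by
  obtain ⟨g, hg, rfl⟩ := h
  obtain ⟨k, hk, rfl⟩ := h'
  exact ⟨k * g, mul_mem hk hg, by group⟩

omit hD hd in
theorem Orb.rfl' {K : Subgroup G} (c : G) : Orb K c c := ⟨1, one_mem K, by simp⟩

variable {K : Subgroup G} (hK : ∀ y ∈ D, Commute d y → y ∈ K)
include hK

theorem orb_of_commute {c m : G} (hc : c ∈ D) (hm : m ∈ D) (hdc : ¬ Commute d c)
    (hdm : ¬ Commute d m) (hcm : Commute c m) : Orb K c m := by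
  obtain ⟨φ, f1, f2, f3⟩ := exists_hom_perm_four (sq_one hD.1 hc) (sq_one hD.1 hd)
    (sq_one hD.1 hm) hcm.eq (braid hD.1 hc hd fun h => hdc h.symm) (braid hD.1 hd hm hdm)
  let q := c * (m * d * m) * c
  have hq : q ∈ D := self_conj_mem hD hc (self_conj_mem hD hm hd)
  have hq' : Commute d q := by
    show d * (c * (m * d * m) * c) = c * (m * d * m) * c * d
    rw [← f1, ← f2, ← f3]; simp only [← map_mul]; exact congrArg φ (by decide +kernel)
  refine ⟨q * d, mul_mem (hK q hq hq') (hK d hd (Commute.refl d)), ?_⟩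
  show c * (m * d * m) * c * d * c * (c * (m * d * m) * c * d)⁻¹ = m
  rw [← f1, ← f2, ← f3]; simp only [← map_inv, ← map_mul]; exact congrArg φ (by decide +kernel)

omit hd in
theorem orb_of_mid {c e : G} (hc : c ∈ D) (he : e ∈ D) (hce : ¬ Commute c e)
    (h : Commute d (c * e * c)) : Orb K c e := by
  have hmid := self_conj_mem hD hc he
  refine ⟨c * e * c, hK _ hmid h, ?_⟩
  rw [self_conj_eq hD.1 hmid c]
  calc c * e * c * c * (c * e * c) = c * (e * c * e) * c := by
        rw [show c * e * c * c * (c * e * c) = c * e * (c * c) * (c * e * c) by group,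
          sq_one hD.1 hc]
        group
    _ = c * (c * e * c) * c := by rw [braid hD.1 he hc fun h' => hce h'.symm]
    _ = e := by
        rw [show c * (c * e * c) * c = (c * c) * e * (c * c) by group, sq_one hD.1 hc, one_mul,
          mul_one]

theorem orb_third {c e y : G} (hc : c ∈ D) (he : e ∈ D) (hy : y ∈ D) (hdy : Commute d y)
    (hyc : Commute y c) (hye : ¬ Commute y e) (hde : ¬ Commute d e) (hce : ¬ Commute c e)
    (hmid : ¬ Commute d (c * e * c)) : Orb K e (c * e * c) := by
  obtain ⟨φ, f1, f2, f3⟩ := exists_hom_perm_four (sq_one hD.1 hy) (sq_one hD.1 he)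
    (sq_one hD.1 hc) hyc.eq (braid hD.1 hy he hye) (braid hD.1 he hc fun h => hce h.symm)
  have h1 : Orb K e (y * e * y) := ⟨y, hK y hy hdy, self_conj_eq hD.1 hy e⟩
  refine h1.trans (orb_of_commute hD hd hK (self_conj_mem hD hy he) (self_conj_mem hD hc he)
    (fun h => hde ?_) hmid ?_)
  · have := (hdy.symm.mul_left h.symm).mul_left hdy.symm
    rw [show y * (y * e * y) * y = (y * y) * e * (y * y) by group, sq_one hD.1 hy, one_mul,
      mul_one] at this
    exact this.symm
  · show y * e * y * (c * e * c) = c * e * c * (y * e * y)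
    rw [← f1, ← f2, ← f3]; simp only [← map_mul]; exact congrArg φ (by decide +kernel)

/-- For members in different orbits the common commuting partners are comparable. -/
theorem comparable {c e : G} (hc : c ∈ D) (he : e ∈ D) (hdc : ¬ Commute d c)
    (hde : ¬ Commute d e) (hne : ¬ Orb K c e) :
    {y | y ∈ D ∧ Commute d y ∧ Commute c y} ⊆ {y | y ∈ D ∧ Commute d y ∧ Commute e y} ∨
      {y | y ∈ D ∧ Commute d y ∧ Commute e y} ⊆ {y | y ∈ D ∧ Commute d y ∧ Commute c y} := by
  by_contra h
  obtain ⟨h1, h2⟩ := not_or.1 h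
  obtain ⟨y, ⟨hy, hdy, hcy⟩, hy'⟩ := Set.not_subset.1 h1
  obtain ⟨x, ⟨hx, hdx, hex⟩, hx'⟩ := Set.not_subset.1 h2
  have hce : ¬ Commute c e := fun h' => hne (orb_of_commute hD hd hK hc he hdc hde h')
  have hmid : ¬ Commute d (c * e * c) := fun h' => hne (orb_of_mid hD hK hc he hce h')
  have hye : ¬ Commute y e := fun h' => hy' ⟨hy, hdy, h'.symm⟩
  have hxc : ¬ Commute x c := fun h' => hx' ⟨hx, hdx, h'.symm⟩
  have hb : e * c * e = c * e * c := braid hD.1 he hc fun h' => hce h'.symm
  have h3 := orb_third hD hd hK hc he hy hdy hcy.symm hye hde hce hmid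
  have h4 := orb_third hD hd hK he hc hx hdx hex.symm hxc hdc (fun h' => hce h'.symm)
    (by rwa [hb])
  rw [hb] at h4
  exact hne (h4.trans h3.symm)

end Moves

end CfsgLib.Trans3
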