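import Cfsg.Agent.Lib.Trans3.ConwayComp
import Cfsg.Agent.Lib.InvChar.HallJankoRecognition
import Cfsg.Agent.Lib.InvChar.HallJankoSetup
import Cfsg.Agent.Lib.KnownA.SchurTransport
import Cfsg.Agent.Lib.KnownA.JankoTwoSchur.Cover
import Cfsg.Agent.Lib.Janko2.Simple
import Cfsg.Agent.Lib.Comp.Components

/-!
`C(b) = ⟨b⟩ × J2` and the centralizer of the layer is `A5`.
-/

set_option autoImplicit false

namespace CfsgLib.Trans3.Conway

open ExtraTwo Subgroup
open scoped commutatorElement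

variable {G : Type*} [Group G] [Finite G]

namespace Cfg

variable {z b : G} {Q : Subgroup G} {u : G → Vv} (S : Cfg z b Q u)

/-- The centralizer of `b`. -/
abbrev CB (b : G) : Subgroup G := centralizer ({b} : Set G)

/-- The generator inside it. -/
def bC (b : G) : ↥(CB b) := ⟨b, mem_centralizer_singleton_iff.2 rfl⟩

omit [Finite G] in
theorem bC_normal (b : G) : (zpowers (bC b)).Normal :=
  ⟨fun a ha g => by
    obtain ⟨k, rfl⟩ := mem_zpowers_iff.1 ha
    have hc : Commute g (bC b) := Subtype.ext (mem_centralizer_singleton_iff.1 g.2)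
    rw [(hc.zpow_right k).eq, mul_inv_cancel_right]
    exact zpow_mem (mem_zpowers _) k⟩

omit [Finite G] in
theorem bC_central (b : G) : zpowers (bC b) ≤ center ↥(CB b) := by
  rw [zpowers_le, Subgroup.mem_center_iff]
  exact fun g => Subtype.ext (mem_centralizer_singleton_iff.1 g.2)

include S

theorem sep {x y : G} {n k : ℕ} (h : x = y * b ^ n) (hy : y * b = b * y) (hx : x ^ k = 1)
    (hyk : y ^ k = 1) (hk : Nat.Coprime 5 k) : x = y := by
  rw [h, ((show Commute y b from hy).pow_right n).mul_pow, hyk, one_mul, ← pow_mul] at hx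
  have h5 := orderOf_dvd_of_pow_eq_one hx
  rw [S.hb] at h5
  obtain ⟨q, rfl⟩ := (Nat.Coprime.dvd_of_dvd_mul_right hk h5)
  rw [h, pow_mul, S.hb5, one_pow, mul_one]

theorem eq_of_fix_five {k k' : O8} (hk : k ∈ K false) (hk' : k' ∈ K false)
    (h : pS false ⟨k, K_le_St false hk⟩ = pS false ⟨k', K_le_St false hk'⟩) : k = k' :=
  congrArg Subtype.val (pS_pair_injective (g := ⟨k, K_le_St false hk⟩) (g' := ⟨k', K_le_St false hk'⟩)
    fun s => by
      cases s
      · exact h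
      · rw [pS_eq_one_of_fix (s := true) (g := ⟨k, K_le_St false hk⟩) hk.2,
          pS_eq_one_of_fix (s := true) (g := ⟨k', K_le_St false hk'⟩) hk'.2])

variable {gs w : G} (F : S.Frame gs w)
include F

theorem exists_data (hR : Cfsg.IsExtraspecial 2 ↥(Q ⊓ centralizer ({b} : Set G)))
    (hRc : Nat.card ↥(Q ⊓ centralizer ({b} : Set G)) = 32) [hn : (zpowers (bC b)).Normal]
    (H : Subgroup (↥(CB b) ⧸ zpowers (bC b)))
    (hS : ∀ (s : G) (hs : s ∈ CB b), S.Szb s → QuotientGroup.mk' _ (⟨s, hs⟩ : ↥(CB b)) ∈ H)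
    (hw : QuotientGroup.mk' _ (⟨w, mem_centralizer_singleton_iff.2 F.wb⟩ : ↥(CB b)) ∈ H) :
    ∃ (z' : ↥H) (Q' : Subgroup ↥H), CfsgLib.InvChar.HJType.Data z' Q' := by
  classical
  let π : ↥(CB b) →* ↥(CB b) ⧸ zpowers (bC b) := QuotientGroup.mk' _
  have cb : ∀ y : ↥(CB b), y.1 * b = b * y.1 := fun y => mem_centralizer_singleton_iff.1 y.2
  have hπ : ∀ x y : ↥(CB b), π x = π y → ∃ n : ℕ, x.1 = y.1 * b ^ n := by
    intro x y h
    have h1 : y⁻¹ * x ∈ zpowers (bC b) := QuotientGroup.eq.1 h.symm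
    rw [← mem_powers_iff_mem_zpowers] at h1
    obtain ⟨n, hn⟩ := h1
    refine ⟨n, ?_⟩
    have h2 : b ^ n = y.1⁻¹ * x.1 := congrArg Subtype.val hn
    rw [h2, mul_inv_cancel_left]
  have hπb : ∀ n : ℕ, π (bC b ^ n) = 1 := fun n =>
    (QuotientGroup.eq_one_iff _).2 (pow_mem (mem_zpowers _) n)
  have zz2 : z ^ 2 = 1 := by rw [pow_two]; exact S.zz
  set zb : ↥(CB b) := ⟨z, mem_centralizer_singleton_iff.2 S.hbz.symm⟩ with hzb
  -- decomposition of `C(b, z)`
  let Cz : Subgroup ↥(CB b) := (centralizer ({z} : Set G)).subgroupOf (CB b)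
  have dec : ∀ y : Cz, ∃ i : ℕ, S.Szb (y.1.1 * (b ^ i)⁻¹) := fun y => S.exists_pow_b y.2 (cb y.1)
  choose di hdi using dec
  have hsK : ∀ {s : G}, S.Szb s → ∃ h : s ∈ centralizer ({z} : Set G), S.rho ⟨s, h⟩ ∈ K false :=
    fun {s} hs => by obtain ⟨h, -, hk⟩ := hs; exact ⟨h, hk⟩
  let v : Cz → O8 := fun y => S.rho ⟨y.1.1 * (b ^ di y)⁻¹, (hsK (hdi y)).1⟩
  have hv : ∀ y, v y ∈ K false := fun y => (hsK (hdi y)).2
  have hSt : ∀ y : Cz, S.rho ⟨y.1.1, y.2⟩ ∈ St := fun y =>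
    (comm_five S.bb_mem S.bb5 S.bb1 (S.rho_comm_bb y.2 (cb y.1))).1
  have hbSt := K_le_St true S.bb_mem
  have hpb : pS false ⟨S.bb, hbSt⟩ = 1 :=
    pS_eq_one_of_fix (s := false) (g := ⟨S.bb, hbSt⟩) S.bb_mem.2
  have hvp : ∀ y : Cz, pS false ⟨v y, K_le_St false (hv y)⟩ = pS false ⟨_, hSt y⟩ := by
    intro y
    have e : (⟨_, hSt y⟩ : St) = ⟨v y, K_le_St false (hv y)⟩ * ⟨S.bb, hbSt⟩ ^ di y := Subtype.ext (by
      show S.rho _ = S.rho _ * S.bb ^ di y
      rw [bb, ← map_pow, ← map_mul]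
      exact congrArg _ (Subtype.ext (show y.1.1 = y.1.1 * (b ^ di y)⁻¹ * b ^ di y by group)))
    rw [e, map_mul, map_pow, hpb, one_pow, mul_one]
  let φ0 : ↥Cz →* ↥(K false) := MonoidHom.mk' (fun y => ⟨v y, hv y⟩) fun x y => Subtype.ext (by
    refine S.eq_of_fix_five (hv _) (mul_mem (hv x) (hv y)) ?_
    show pS false ⟨v (x * y), K_le_St false (hv _)⟩ =
      pS false ⟨v x * v y, K_le_St false (mul_mem (hv x) (hv y))⟩
    rw [show (⟨v x * v y, K_le_St false (mul_mem (hv x) (hv y))⟩ : St) =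
        ⟨v x, K_le_St false (hv x)⟩ * ⟨v y, K_le_St false (hv y)⟩ from rfl, map_mul, hvp, hvp, hvp,
      ← map_mul]
    refine congrArg _ (Subtype.ext ?_)
    show S.rho _ = S.rho _ * S.rho _
    rw [← map_mul]
    rfl)
  obtain ⟨e5⟩ := K_equiv false
  -- elements of `Q ∩ C(b)` and the element `z`
  have hQCB : ∀ {q : G}, q ∈ Q → q * b = b * q → ∃ h : q ∈ CB b, S.Szb q := fun {q} hq hqb =>
    ⟨mem_centralizer_singleton_iff.2 hqb, ⟨S.hQH hq, hqb, by
      rw [(S.rho_eq_one_iff (c := ⟨q, S.hQH hq⟩)).2 hq]; exact one_mem _⟩⟩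
  have hzH : π zb ∈ H := hS z zb.2 (hQCB S.hzQ S.hbz.symm).2
  let zH : ↥H := ⟨π zb, hzH⟩
  let RL : Subgroup (↥(CB b) ⧸ zpowers (bC b)) := (Q.subgroupOf (CB b)).map π
  have hRH : RL ≤ H := by
    rintro _ ⟨q, hq, rfl⟩
    exact hS q.1 q.2 (hQCB hq (cb q)).2
  -- centralizing `z` in the quotient
  have hcz : ∀ y : ↥(CB b), π y * π zb = π zb * π y → y ∈ Cz := by
    intro y h
    rw [← map_mul, ← map_mul] at h
    obtain ⟨n, hn⟩ := hπ _ _ h
    change y.1 * z = z * y.1 * b ^ n at hn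
    have h2 : y.1 * z * y.1⁻¹ = z * b ^ n := by
      rw [hn, mul_assoc (z * y.1), ((show Commute b y.1 from (cb y).symm).pow_left n).inv_right.eq]
      group
    have h3 : (y.1 * z * y.1⁻¹) ^ 2 = 1 := by rw [conj_pow, zz2]; group
    have h4 := S.sep h2 S.hbz.symm h3 zz2 (by norm_num)
    exact mem_centralizer_singleton_iff.2 (mul_inv_eq_iff_eq_mul.1 h4)
  have hCzH : ∀ y : Cz, π y.1 ∈ H := fun y => by
    have hsb : y.1.1 * (b ^ di y)⁻¹ ∈ CB b := by
      obtain ⟨-, h, -⟩ := hdi y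
      exact mem_centralizer_singleton_iff.2 h
    have e : y.1 = ⟨_, hsb⟩ * bC b ^ di y :=
      Subtype.ext (show y.1.1 = y.1.1 * (b ^ di y)⁻¹ * b ^ di y by group)
    rw [e, map_mul, hπb, mul_one]
    exact hS _ hsb (hdi y)
  let ξ : ↥Cz →* ↥(centralizer ({zH} : Set ↥H)) := MonoidHom.mk'
    (fun y => ⟨⟨π y.1, hCzH y⟩, mem_centralizer_singleton_iff.2 (Subtype.ext (by
      show π y.1 * π zb = π zb * π y.1
      rw [← map_mul, ← map_mul]
      exact congrArg π (Subtype.ext (mem_centralizer_singleton_iff.1 (mem_subgroupOf.1 y.2)))))⟩)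
    fun x y => Subtype.ext (Subtype.ext (map_mul π x.1 y.1))
  have hξ : Function.Surjective ξ := by
    rintro ⟨⟨c, hc⟩, hcz'⟩
    obtain ⟨y, rfl⟩ := QuotientGroup.mk'_surjective _ c
    exact ⟨⟨y, hcz y (congrArg Subtype.val (mem_centralizer_singleton_iff.1 hcz'))⟩, rfl⟩
  let φ : ↥Cz →* ↥(alternatingGroup (Fin 5)) := e5.toMonoidHom.comp φ0
  -- the kernel
  have hφ : ∀ y : Cz, φ y = 1 ↔ π y.1 ∈ RL := by
    intro y
    rw [show φ y = 1 ↔ v y = 1 from ⟨fun h => by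
      have h' : φ0 y = 1 := e5.injective (h.trans (map_one e5).symm)
      exact congrArg Subtype.val h', fun h => by
      have h' : φ0 y = 1 := Subtype.ext h
      show e5 (φ0 y) = 1
      rw [h', map_one]⟩]
    show S.rho _ = 1 ↔ _
    rw [S.rho_eq_one_iff]
    have e : y.1.1 = y.1.1 * (b ^ di y)⁻¹ * b ^ di y := by group
    constructor
    · intro h
      obtain ⟨-, hsb, -⟩ := hdi y
      refine ⟨⟨_, mem_centralizer_singleton_iff.2 hsb⟩, h, ?_⟩
      have e' := congrArg π (show y.1 = ⟨_, mem_centralizer_singleton_iff.2 hsb⟩ * bC b ^ di y from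
        Subtype.ext e)
      rw [map_mul, hπb, mul_one] at e'
      exact e'.symm
    · rintro ⟨q, hq, hqe⟩
      obtain ⟨n, hn⟩ := hπ _ _ hqe.symm
      refine (S.rho_eq_one_iff (c := ⟨_, (hsK (hdi y)).1⟩)).1 (S.eq_of_fix_five (hv y) (one_mem _) ?_)
      rw [hvp, show (⟨1, K_le_St false (one_mem _)⟩ : St) = 1 from rfl, map_one]
      have hq1 : S.rho ⟨q.1, S.hQH hq⟩ = 1 := (S.rho_eq_one_iff (c := ⟨q.1, S.hQH hq⟩)).2 hq
      have e2 : (⟨_, hSt y⟩ : St) = ⟨S.bb, hbSt⟩ ^ n := Subtype.ext (by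
        show S.rho _ = S.bb ^ n
        rw [← one_mul (S.bb ^ n), ← hq1, bb, ← map_pow, ← map_mul]
        exact congrArg _ (Subtype.ext hn))
      rw [e2, map_pow, hpb, one_pow]
  have hker : ξ.ker ≤ φ.ker := fun y hy => by
    rw [MonoidHom.mem_ker] at hy ⊢
    refine (hφ y).2 ?_
    rw [show π y.1 = 1 from congrArg Subtype.val (congrArg Subtype.val hy)]
    exact one_mem _
  let θ := ξ.liftOfSurjective hξ ⟨φ, hker⟩
  have hθ : ∀ y, θ (ξ y) = φ y := MonoidHom.liftOfRightInverse_comp_apply ξ _ _ ⟨φ, hker⟩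
  obtain ⟨t, ht, htz, htb, htQ⟩ := S.exists_tau F
  have htn := S.tau_not_conj ht htz htb htQ
  have ht2 : t ^ 2 = 1 := by rw [← ht, pow_orderOf_eq_one]
  set tb : ↥(CB b) := ⟨t, mem_centralizer_singleton_iff.2 htb⟩ with htbd
  have htH : π tb ∈ H := hS t tb.2 (S.szb_of_two (mem_centralizer_singleton_iff.2 htz) htb (n := 1)
    (by rw [pow_one]; exact ht2))
  have hord : ∀ (a : ↥(CB b)), a.1 ^ 2 = 1 → a.1 ≠ 1 → orderOf (π a) = 2 := fun a ha ha1 => by
    refine orderOf_eq_prime (by rw [← map_pow, show a ^ 2 = 1 from Subtype.ext ha, map_one]) fun h => ?_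
    obtain ⟨n, hn⟩ := hπ a 1 (h.trans (map_one π).symm)
    exact ha1 (S.sep hn (by simp) ha (one_pow 2) (by norm_num))
  -- `R` maps isomorphically
  let ψ : ↥(Q ⊓ centralizer ({b} : Set G)) →* ↥(RL.subgroupOf H) :=
    MonoidHom.mk' (fun r => ⟨⟨π ⟨r.1, r.2.2⟩, hRH ⟨_, r.2.1, rfl⟩⟩, ⟨_, r.2.1, rfl⟩⟩)
      fun x y => Subtype.ext (Subtype.ext (map_mul π ⟨x.1, x.2.2⟩ ⟨y.1, y.2.2⟩))
  have hr4 : ∀ r ∈ Q, r ^ 4 = 1 := fun r hr => by
    have h := S.sq r hr
    rw [show (4 : ℕ) = 2 * 2 from rfl, pow_mul, pow_two r, h]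
    split_ifs
    · rw [one_pow]
    · exact zz2
  have hψi : Function.Injective ψ := fun x y h => by
    obtain ⟨n, hn⟩ := hπ _ _ (congrArg Subtype.val (congrArg Subtype.val h))
    exact Subtype.ext (S.sep hn (mem_centralizer_singleton_iff.1 y.2.2) (hr4 _ x.2.1) (hr4 _ y.2.1)
      (by norm_num))
  have hψs : Function.Surjective ψ := by
    rintro ⟨⟨c, hc⟩, hm⟩
    obtain ⟨q, hq, hqe⟩ := mem_map.1 (mem_subgroupOf.1 hm)
    exact ⟨⟨q.1, hq, q.2⟩, Subtype.ext (Subtype.ext hqe)⟩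
  let ψe := MulEquiv.ofBijective ψ ⟨hψi, hψs⟩
  refine ⟨zH, RL.subgroupOf H,
    { hz := by rw [← Subgroup.orderOf_coe]; exact hord zb zz2 S.z_ne
      hQH := ?_, hnorm := ?_
      hzQ := ⟨zb, S.hzQ, rfl⟩
      hes := CfsgLib.InvChar.HJType.extraspecial_of_equiv ψe hR
      hQc := (Nat.card_congr ψe.toEquiv).symm.trans hRc
      hC := ?_, hquot := ⟨θ, ?_, ?_⟩, hfus := ?_, hcl := ?_ }⟩
  · rintro ⟨_, hc⟩ ⟨q, hq, rfl⟩
    refine mem_centralizer_singleton_iff.2 (Subtype.ext ?_)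
    show π q * π zb = π zb * π q
    rw [← map_mul, ← map_mul]
    exact congrArg π (Subtype.ext (S.zc hq))
  · rintro ⟨c, hc⟩ hcc ⟨_, hr⟩ ⟨q, hq, rfl⟩
    obtain ⟨y, rfl⟩ := QuotientGroup.mk'_surjective _ c
    have hyz := hcz y (congrArg Subtype.val (mem_centralizer_singleton_iff.1 hcc))
    refine ⟨y * q * y⁻¹, S.conj_mem (mem_subgroupOf.1 hyz) hq, ?_⟩
    show π (y * q * y⁻¹) = π y * π q * (π y)⁻¹
    rw [map_mul, map_mul, map_inv]
  · rintro ⟨c, hc⟩ hcc
    obtain ⟨y, rfl⟩ := QuotientGroup.mk'_surjective _ c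
    rw [mem_centralizer_iff] at hcc
    have hyz := hcz y (congrArg Subtype.val (hcc zH ⟨zb, S.hzQ, rfl⟩)).symm
    set yc : Cz := ⟨y, hyz⟩
    show π y ∈ RL
    refine (hφ yc).1 ?_
    show e5 (φ0 yc) = 1
    rw [show φ0 yc = 1 from Subtype.ext ?_, map_one]
    obtain ⟨hsz, hsb, -⟩ := hdi yc
    have hK := hv yc
    set s := y.1 * (b ^ di yc)⁻¹ with hs
    show S.rho ⟨s, hsz⟩ = 1
    refine eq_one_of_fix (s := false) (fun wv => ?_) hK.2
    have hm := S.lift_mem (inj false wv)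
    have hrb := (S.fixb _ hm).2 (by rw [S.u_lift]; rfl)
    set r : ↥(CB b) := ⟨S.lift (inj false wv), mem_centralizer_singleton_iff.2 hrb⟩
    have h := congrArg Subtype.val (hcc ⟨π r, hRH ⟨r, hm, rfl⟩⟩ ⟨r, hm, rfl⟩)
    change π r * π y = π y * π r at h
    rw [← map_mul, ← map_mul] at h
    obtain ⟨n, hn⟩ := hπ _ _ h.symm
    change y.1 * r.1 = r.1 * y.1 * b ^ n at hn
    have hbr : Commute (b ^ di yc) r.1 := (show Commute b r.1 from hrb.symm).pow_left _
    have h2 : s * r.1 * s⁻¹ = r.1 * b ^ n := by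
      calc s * r.1 * s⁻¹ = y.1 * ((b ^ di yc)⁻¹ * r.1 * b ^ di yc) * y.1⁻¹ := by rw [hs]; group
        _ = y.1 * r.1 * y.1⁻¹ := by rw [hbr.inv_left.eq]; group
        _ = r.1 * (y.1 * b ^ n) * y.1⁻¹ := by rw [hn]; group
        _ = r.1 * b ^ n := by
          rw [((show Commute y.1 b from cb y).pow_right n).eq]; group
    have h4 : (s * r.1 * s⁻¹) ^ 4 = 1 := by rw [conj_pow, hr4 _ hm]; group
    have h3 := S.sep h2 hrb h4 (hr4 _ hm) (by norm_num)
    conv_lhs => rw [← S.u_lift (inj false wv)]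
    rw [S.ap_rho hm, h3, S.u_lift]
  · intro k
    obtain ⟨k0, hk0⟩ : ∃ k0 : ↥(K false), e5 k0 = k := ⟨e5.symm k, e5.apply_symm_apply k⟩
    obtain ⟨y, hy, hys, hyk⟩ := S.exists_szb k0.2
    obtain ⟨-, hyb, hyK⟩ := hys
    refine ⟨ξ ⟨⟨y, mem_centralizer_singleton_iff.2 hyb⟩, hy⟩, ?_⟩
    rw [hθ, ← hk0]
    refine congrArg e5 (Subtype.ext (S.eq_of_fix_five (hv _) k0.2 ?_))
    exact (hvp _).trans (congrArg _ (Subtype.ext hyk))
  · ext c
    obtain ⟨y, rfl⟩ := hξ c
    rw [MonoidHom.mem_ker, hθ, hφ]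
    rfl
  · have e : π (⟨w, mem_centralizer_singleton_iff.2 F.wb⟩ * zb *
        ⟨w, mem_centralizer_singleton_iff.2 F.wb⟩⁻¹) =
          π ⟨S.xx, mem_centralizer_singleton_iff.2 S.xx_b⟩ := congrArg π (Subtype.ext F.wz)
    rw [map_mul, map_mul, map_inv] at e
    refine ⟨⟨_, hw⟩, ?_, ?_⟩
    · show _ ∈ RL
      exact ⟨_, S.xx_mem, e.symm⟩
    · intro h
      have h' := e.symm.trans (congrArg Subtype.val h)
      obtain ⟨n, hn⟩ := hπ _ _ h'
      exact S.xx_ne.2 (S.sep hn S.hbz.symm (by rw [pow_two]; exact S.xx_sq) zz2 (by norm_num))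
  · have ht1 : t ≠ 1 := fun h => by
      rw [h, orderOf_one] at ht
      norm_num at ht
    refine ⟨zH, ⟨π tb, htH⟩, by rw [← Subgroup.orderOf_coe]; exact hord zb zz2 S.z_ne,
      by rw [← Subgroup.orderOf_coe]; exact hord tb ht2 ht1, fun hc => ?_⟩
    obtain ⟨⟨c, hcH⟩, hce⟩ := isConj_iff.1 hc
    obtain ⟨y, rfl⟩ := QuotientGroup.mk'_surjective _ c
    have h := congrArg Subtype.val hce
    change π y * π zb * (π y)⁻¹ = π tb at h
    rw [← map_inv, ← map_mul, ← map_mul] at h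
    obtain ⟨n, hn⟩ := hπ _ _ h
    change y.1 * z * y.1⁻¹ = t * b ^ n at hn
    have h3 : (y.1 * z * y.1⁻¹) ^ 2 = 1 := by rw [conj_pow, zz2]; group
    exact htn (isConj_iff.2 ⟨y.1, S.sep hn htb h3 ht2 (by norm_num)⟩)

/-- The main theorem of the configuration. -/
theorem layer_and_centralizer (hR : Cfsg.IsExtraspecial 2 ↥(Q ⊓ centralizer ({b} : Set G)))
    (hRc : Nat.card ↥(Q ⊓ centralizer ({b} : Set G)) = 32) :
    Cfsg.Spor.IsoJ2 ↥(Cfsg.layer ↥(CB b)) ∧
      Nonempty (↥(centralizer (((Cfsg.layer ↥(CB b)).map (CB b).subtype : Subgroup G) : Set G)) ≃*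
        alternatingGroup (Fin 5)) := by
  classical
  haveI hn := bC_normal b
  let π : ↥(CB b) →* ↥(CB b) ⧸ zpowers (bC b) := QuotientGroup.mk' _
  set wC : ↥(CB b) := ⟨w, mem_centralizer_singleton_iff.2 F.wb⟩ with hwC
  obtain ⟨z1, Q1, D1⟩ := S.exists_data F hR hRc ⊤ (fun _ _ _ => mem_top _) (mem_top _)
  obtain ⟨eL⟩ := D1.iso_J2
  let eJ : (↥(CB b) ⧸ zpowers (bC b)) ≃* Cfsg.Spor.J2 := topEquiv.symm.trans eL
  let gen : Set ↥(CB b) := {y | S.Szb y.1} ∪ {wC}
  let H2 : Subgroup ↥(CB b) := closure gen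
  obtain ⟨z2, Q2, D2⟩ := S.exists_data F hR hRc (H2.map π)
    (fun s hs h => ⟨⟨s, hs⟩, subset_closure (Or.inl h), rfl⟩) ⟨wC, subset_closure (Or.inr rfl), rfl⟩
  obtain ⟨eH⟩ := D2.iso_J2
  have hH : H2.map π = ⊤ := Subgroup.eq_top_of_le_card _ (le_of_eq
    ((Nat.card_congr eJ.toEquiv).trans (Nat.card_congr eH.toEquiv).symm))
  haveI hJ := Janko2.isSimple_J2
  haveI : Nontrivial (↥(CB b) ⧸ zpowers (bC b)) := eJ.toEquiv.nontrivial
  have hLs : IsSimpleGroup (↥(CB b) ⧸ zpowers (bC b)) :=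
    IsSimpleGroup.isSimpleGroup_of_surjective eJ.symm.toMonoidHom eJ.symm.surjective
  have hLn : ∃ p q : ↥(CB b) ⧸ zpowers (bC b), p * q ≠ q * p := by
    obtain ⟨p, q, hpq⟩ := Janko2.exists_not_commute_J2
    exact ⟨eJ.symm p, eJ.symm q, fun h => hpq (by simpa using congrArg eJ h)⟩
  have hLp : commutator (↥(CB b) ⧸ zpowers (bC b)) = ⊤ := by
    refine ((inferInstance : (commutator (↥(CB b) ⧸ zpowers (bC b))).Normal).eq_bot_or_eq_top).resolve_left
      fun h => ?_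
    obtain ⟨p, q, hpq⟩ := hLn
    refine hpq (commutatorElement_eq_one_iff_commute.1 ?_)
    rw [← Subgroup.mem_bot, ← h, _root_.commutator_def]
    exact Subgroup.commutator_mem_commutator (mem_top _) (mem_top _)
  set E : Subgroup ↥(CB b) := commutator ↥(CB b) with hE
  have hEm : E.map π = ⊤ := by
    rw [hE, _root_.commutator_def, Subgroup.map_commutator,
      Subgroup.map_top_of_surjective π (QuotientGroup.mk'_surjective _), ← _root_.commutator_def, hLp]
  have hfact : ∀ y : ↥(CB b), ∃ e ∈ E, ∃ c ∈ zpowers (bC b), y = e * c := by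
    intro y
    obtain ⟨e, he, h⟩ := (hEm.symm ▸ mem_top (π y) : π y ∈ E.map π)
    exact ⟨e, he, e⁻¹ * y, QuotientGroup.eq.1 h, (mul_inv_cancel_left e y).symm⟩
  have hcen := bC_central b
  have hperf : ⁅E, E⁆ = E := by
    refine le_antisymm ((Subgroup.commutator_mono le_top le_top).trans_eq (_root_.commutator_def _).symm) ?_
    conv_lhs => rw [hE, _root_.commutator_def]
    rw [Subgroup.commutator_le]
    intro x _ y _
    obtain ⟨e1, he1, c1, hc1, rfl⟩ := hfact x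
    obtain ⟨e2, he2, c2, hc2, rfl⟩ := hfact y
    have k1 : Commute c1 e2 := (Subgroup.mem_center_iff.1 (hcen hc1) e2).symm
    have k2 : Commute c1 c2 := (Subgroup.mem_center_iff.1 (hcen hc1) c2).symm
    have k3 : ∀ g, Commute c2 g := fun g => (Subgroup.mem_center_iff.1 (hcen hc2) g).symm
    have : ⁅e1 * c1, e2 * c2⁆ = ⁅e1, e2⁆ := by
      rw [commutatorElement_def, commutatorElement_def]
      calc e1 * c1 * (e2 * c2) * (e1 * c1)⁻¹ * (e2 * c2)⁻¹
          = e1 * (c1 * e2) * c2 * c1⁻¹ * e1⁻¹ * c2⁻¹ * e2⁻¹ := by group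
        _ = e1 * e2 * (c1 * c2) * c1⁻¹ * e1⁻¹ * c2⁻¹ * e2⁻¹ := by rw [k1.eq]; group
        _ = e1 * e2 * (c2 * e1⁻¹) * c2⁻¹ * e2⁻¹ := by rw [k2.eq]; group
        _ = e1 * e2 * e1⁻¹ * e2⁻¹ := by rw [(k3 e1⁻¹).eq]; group
    rw [this]
    exact Subgroup.commutator_mem_commutator he1 he2
  -- no `b` in `E`
  let σ : ↥E →* (↥(CB b) ⧸ zpowers (bC b)) := π.comp E.subtype
  have hσs : Function.Surjective σ := fun c => by
    obtain ⟨e, he, h⟩ := (hEm.symm ▸ mem_top c : c ∈ E.map π)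
    exact ⟨⟨e, he⟩, h⟩
  have hσker : ∀ e : σ.ker, e.1.1 ∈ zpowers (bC b) := fun e => (QuotientGroup.eq_one_iff _).1 e.2
  have hperf' : commutator ↥E = ⊤ := by
    refine Subgroup.map_injective E.subtype_injective ?_
    rw [Subgroup.map_subtype_commutator, ← MonoidHom.range_eq_map, Subgroup.range_subtype]
    exact hperf
  have hstem : Cfsg.IsStemExtension σ :=
    ⟨hσs, fun e he => Subgroup.mem_center_iff.2 fun g =>
      Subtype.ext (Subgroup.mem_center_iff.1 (hcen (hσker ⟨e, he⟩)) g.1),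
      by rw [hperf']; exact le_top⟩
  haveI : Finite Cfsg.Spor.J2 := Finite.of_equiv _ eJ.toEquiv
  obtain ⟨p, hp⟩ := (CfsgLib.Schur.hasSchurMultiplier_of_mulEquiv eJ.symm
    CfsgLib.KnownA.JankoTwoSchur.multiplier).2 ↥E σ hstem
  have hk2 : Nat.card σ.ker ∣ 2 := by
    have h := Subgroup.card_dvd_of_surjective p hp
    simpa using h
  have hk5 : Nat.card σ.ker ∣ 5 := by
    have hb : Nat.card (zpowers (bC b)) = 5 := by
      rw [Nat.card_zpowers, ← Subgroup.orderOf_coe, ← S.hb]; rfl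
    rw [← hb]
    let ι : ↥σ.ker →* ↥(zpowers (bC b)) :=
      MonoidHom.mk' (fun e => ⟨e.1.1, hσker e⟩) fun _ _ => rfl
    exact Subgroup.card_dvd_of_injective ι fun a c h => Subtype.ext (Subtype.ext
      (congrArg Subtype.val h :))
  have hk1 : Nat.card σ.ker = 1 := Nat.dvd_one.1 (by simpa using Nat.dvd_gcd hk2 hk5)
  have hσi : Function.Injective σ := (MonoidHom.ker_eq_bot_iff σ).1 (Subgroup.card_eq_one.1 hk1)
  let eE : ↥E ≃* Cfsg.Spor.J2 := (MulEquiv.ofBijective σ ⟨hσi, hσs⟩).trans eJ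
  -- the layer
  have hlayer : Cfsg.layer ↥(CB b) = E := by
    refine le_antisymm (sSup_le fun M hM => ?_) ?_
    · obtain ⟨-, hq⟩ := hM
      have h1 : ⁅M, M⁆ = M := Subgroup.isPerfect_iff.1 hq.1
      rw [← h1]
      exact (Subgroup.commutator_mono le_top le_top).trans_eq (_root_.commutator_def _).symm
    · refine le_sSup ⟨(inferInstance : E.Normal).isSubnormal, Subgroup.isPerfect_iff.2 hperf, ?_⟩
      haveI : Nontrivial ↥E := eE.toEquiv.nontrivial
      haveI hEs : IsSimpleGroup ↥E :=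
        IsSimpleGroup.isSimpleGroup_of_surjective eE.symm.toMonoidHom eE.symm.surjective
      have hc : center ↥E = ⊥ := ((inferInstance : (center ↥E).Normal).eq_bot_or_eq_top).resolve_right
        fun h => by
          obtain ⟨p, q, hpq⟩ := Janko2.exists_not_commute_J2
          refine hpq (eE.symm.injective ?_)
          rw [map_mul, map_mul]
          exact Subgroup.mem_center_iff.1 (h.symm ▸ mem_top (eE.symm q)) (eE.symm p)
      haveI : Nontrivial (↥E ⧸ center ↥E) :=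
        ((QuotientGroup.quotientMulEquivOfEq hc).trans QuotientGroup.quotientBot).toEquiv.nontrivial
      exact IsSimpleGroup.isSimpleGroup_of_surjective (QuotientGroup.mk' _)
        (QuotientGroup.mk'_surjective _)
  rw [hlayer]
  refine ⟨⟨eE⟩, ?_⟩
  -- elements of order prime to five lie in `E`
  have hinE : ∀ y : ↥(CB b), y.1 ^ 4 = 1 → y ∈ E := by
    intro y hy
    obtain ⟨e, he, c, hc, rfl⟩ := hfact y
    have hcom : Commute e c := Subgroup.mem_center_iff.1 (hcen hc) e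
    have h4 : (e * c) ^ 4 = 1 := Subtype.ext hy
    rw [hcom.mul_pow] at h4
    have hσ4 : σ ⟨e, he⟩ ^ 4 = 1 := by
      show π e ^ 4 = 1
      rw [← map_pow, show e ^ 4 = (c ^ 4)⁻¹ from eq_inv_of_mul_eq_one_left h4, map_inv]
      rw [show π (c ^ 4) = 1 from (QuotientGroup.eq_one_iff _).2 (pow_mem hc 4), inv_one]
    have he4 : e ^ 4 = 1 := by
      have h := hσi (a₁ := ⟨e, he⟩ ^ 4) (a₂ := 1) (by rw [map_pow, hσ4, map_one])
      exact congrArg Subtype.val h
    rw [he4, one_mul] at h4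
    have hc5 : c ^ 5 = 1 := by
      obtain ⟨k, rfl⟩ := mem_zpowers_iff.1 hc
      rw [← zpow_natCast, ← zpow_mul, mul_comm, zpow_mul, zpow_natCast,
        show bC b ^ 5 = 1 from Subtype.ext S.hb5, one_zpow]
    rw [show c = 1 by rwa [pow_succ, h4, one_mul] at hc5, mul_one]
    exact he
  set EG : Subgroup G := E.map (CB b).subtype with hEG
  set M : Subgroup G := centralizer (EG : Set G) with hM
  have hmem : ∀ m, m ∈ M ↔ ∀ e ∈ E, m * e.1 = e.1 * m := by
    intro m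
    rw [hM, mem_centralizer_iff]
    exact ⟨fun h e he => (h e.1 ⟨e, he, rfl⟩).symm,
      fun h y hy => by obtain ⟨e, he, rfl⟩ := hy; exact (h e he).symm⟩
  have hbM : ∀ n : ℕ, b ^ n ∈ M := fun n => (hmem _).2 fun e _ =>
    ((show Commute e.1 b from mem_centralizer_singleton_iff.1 e.2).pow_right n).symm.eq
  set zb : ↥(CB b) := ⟨z, mem_centralizer_singleton_iff.2 S.hbz.symm⟩ with hzb
  have zE : zb ∈ E := hinE zb (by
    show z ^ 4 = 1
    rw [show (4 : ℕ) = 2 * 2 from rfl, pow_mul, pow_two z, S.zz, one_pow])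
  have hMz : ∀ {m}, m ∈ M → m * z = z * m := fun {m} hm => (hmem m).1 hm zb zE
  have hMR : ∀ {m}, m ∈ M → S.CR m := fun {m} hm r hr hr2 => by
    have hrb := (S.fixb r hr).2 hr2
    refine (hmem m).1 hm ⟨r, mem_centralizer_singleton_iff.2 hrb⟩ (hinE _ ?_)
    show r ^ 4 = 1
    have h := S.sq r hr
    rw [show (4 : ℕ) = 2 * 2 from rfl, pow_mul, pow_two r, h]
    split_ifs
    · rw [one_pow]
    · rw [pow_two]; exact S.zz
  have hzM : z ∉ M := by
    intro hz'
    obtain ⟨e, he, c, hc, hwe⟩ := hfact wC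
    obtain ⟨k, rfl⟩ := mem_zpowers_iff.1 hc
    have h1 := (hmem z).1 hz' e he
    have hw' : w = e.1 * b ^ k := congrArg Subtype.val hwe
    refine S.not_comm_w F (Or.inl rfl) ?_
    rw [hw']
    exact (((show Commute z e.1 from h1).mul_right ((show Commute z b from S.hbz.symm).zpow_right k))).symm.eq
  have hMQ : ∀ {m}, m ∈ M → m ∈ Q → m = 1 := by
    intro m hm hmQ
    have h1 := S.cr_u hmQ (hMR hm)
    have hsq : ∀ p, p ∈ M → p ∈ Q → qv (u p) = 0 := fun p hp hpQ => by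
      rcases z2_cases (qv (u p)) with e | e
      · exact e
      · exfalso
        refine hzM ?_
        have h := S.sq p hpQ
        rw [e, if_neg one_ne_zero] at h
        exact h ▸ mul_mem hp hp
    have hbb := K_le_St true S.bb_mem
    have hbm : b * m * b⁻¹ ∈ M := by
      have h := mul_mem (mul_mem (hbM 1) hm) (inv_mem (hbM 1))
      rwa [pow_one] at h
    have hbQ : b * m * b⁻¹ ∈ Q := S.conj_mem S.b_mem hmQ
    have hub : u (b * m * b⁻¹) = ap S.bb (u m) := (S.ap_rho (c := ⟨b, S.b_mem⟩) hmQ).symm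
    have hu : u m = inj true (u m).2 := eq_inj_of_pr (s := true) h1
    have q1 := hsq m hm hmQ
    rw [hu, qv_inj] at q1
    have q2 := hsq _ hbm hbQ
    rw [hub, hu, St.ap_inj hbb, qv_inj] at q2
    have q3 := hsq _ (mul_mem hm hbm) (mul_mem hmQ hbQ)
    rw [S.add _ hmQ _ hbQ, hub, hu, St.ap_inj hbb, ← inj_add, qv_inj, qW_add, q1, q2, zero_add,
      zero_add] at q3
    by_cases h2 : (u m).2 = 0
    · rcases (S.ker m hmQ).1 (Prod.ext h1 h2) with e | e
      · exact e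
      · exact absurd (e ▸ hm) hzM
    · exfalso
      have h4 : pr true (ap S.bb (inj true (u m).2)) ≠ 0 := fun e => h2 (by
        have := (hbb true _).1 e
        rwa [pr_inj] at this)
      have h5 := sing_pair _ _ q1 q2 h2 h4 q3
      have h6 : ap S.bb (inj true (u m).2) = inj true (u m).2 := by rw [St.ap_inj hbb, ← h5]
      have h7 := fixed_of_five S.bb_mem S.bb5 S.bb1 h6
      rw [pr_inj] at h7
      exact h2 h7
  -- the `A5`
  obtain ⟨f, hf, hfd⟩ := S.D3_hom F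
  have hD3 : ∀ d ∈ S.D3 w, d ∈ M := by
    intro d hd
    have hdz := (S.mem_D3.1 hd).1
    have hdw := (S.mem_D3.1 hd).2.2.2.2
    -- `d` commutes with every element of `Szb`
    have hδ : ∀ d' ∈ S.D3 w, ∀ y : G, S.Szb y →
        ∀ p, p = y * d' * y⁻¹ * d'⁻¹ → p ∈ Q ∧ (u p).1 = 0 := by
      intro d' hd' y hy p hp
      obtain ⟨hyz, hyb, hyK⟩ := hy
      have hdC : d' ∈ centralizer ({z} : Set G) :=
        mem_centralizer_singleton_iff.2 (S.mem_D3.1 hd').1
      have hK : S.rho ⟨d', hdC⟩ ∈ K true := S.cr_mem_K hdC (S.D3_cr F hd')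
      have hpC : p ∈ centralizer ({z} : Set G) :=
        hp ▸ mul_mem (mul_mem (mul_mem hyz hdC) (inv_mem hyz)) (inv_mem hdC)
      have hpQ : p ∈ Q := by
        refine (S.rho_eq_one_iff (c := ⟨p, hpC⟩)).1 ?_
        rw [show (⟨p, hpC⟩ : ↥(centralizer ({z} : Set G))) =
          ⟨y, hyz⟩ * ⟨d', hdC⟩ * ⟨y, hyz⟩⁻¹ * ⟨d', hdC⟩⁻¹ from Subtype.ext hp, map_mul, map_mul,
          map_mul, map_inv, map_inv, K_comm hyK (show S.rho ⟨d', hdC⟩ ∈ K (!false) from hK)]
        group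
      refine ⟨hpQ, S.cr_u hpQ ?_⟩
      intro r hr hr2
      have hrb := (S.fixb r hr).2 hr2
      have h1 : y⁻¹ * r * y ∈ Q := by
        simpa using S.conj_mem (inv_mem hyz) hr
      have h1b : y⁻¹ * r * y * b = b * (y⁻¹ * r * y) :=
        (((show Commute y b from hyb).inv_left.mul_left (show Commute r b from hrb)).mul_left
          (show Commute y b from hyb)).eq
      have c1 : Commute d' (y⁻¹ * r * y) := S.D3_cr F hd' _ h1 ((S.fixb _ h1).1 h1b)
      have c2 : Commute d' r := S.D3_cr F hd' r hr hr2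
      have c3 : Commute (y * d' * y⁻¹) r := by
        show y * d' * y⁻¹ * r = r * (y * d' * y⁻¹)
        calc y * d' * y⁻¹ * r = y * (d' * (y⁻¹ * r * y)) * y⁻¹ := by group
          _ = r * (y * d' * y⁻¹) := by rw [c1.eq]; group
      rw [hp]
      exact (c3.mul_left c2.inv_left).eq
    let T : Subgroup G :=
      { carrier := {y | S.Szb y ∧ y * d = d * y}
        one_mem' := ⟨S.szb_one, by simp⟩
        mul_mem' := fun {x y} hx hy => ⟨S.szb_mul hx.1 hy.1,
          ((show Commute x d from hx.2).mul_left (show Commute y d from hy.2)).eq⟩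
        inv_mem' := fun {x} hx => ⟨S.szb_inv hx.1, (show Commute x d from hx.2).inv_left.eq⟩ }
    have hTQ : ∀ q ∈ Q, q * b = b * q → q ∈ T := fun q hq hqb =>
      ⟨⟨S.hQH hq, hqb, by rw [(S.rho_eq_one_iff (c := ⟨q, S.hQH hq⟩)).2 hq]; exact one_mem _⟩,
        (S.D3_cr F hd q hq ((S.fixb q hq).1 hqb)).symm⟩
    have hTn : ∀ s, S.Szb s → ∀ y ∈ T, s * y * s⁻¹ ∈ T := by
      intro s hs y hy
      refine ⟨S.szb_mul (S.szb_mul hs hy.1) (S.szb_inv hs), ?_⟩
      obtain ⟨hpQ, hp1⟩ := hδ d hd s⁻¹ (S.szb_inv hs) _ rfl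
      have c1 : Commute y (s⁻¹ * d * s⁻¹⁻¹ * d⁻¹) := S.fix_P hy.1 hpQ hp1
      have c2 : Commute y (s⁻¹ * d * s) := by
        have h := c1.mul_right (show Commute y d from hy.2)
        rwa [show s⁻¹ * d * s⁻¹⁻¹ * d⁻¹ * d = s⁻¹ * d * s by group] at h
      calc s * y * s⁻¹ * d = s * (y * (s⁻¹ * d * s)) * s⁻¹ := by group
        _ = d * (s * y * s⁻¹) := by rw [c2.eq]; group
    -- its image is normal in `K false`
    let Tz : Subgroup ↥(centralizer ({z} : Set G)) := T.subgroupOf _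
    let N : Subgroup ↥(K false) := (Tz.map S.rho).subgroupOf (K false)
    haveI hN : N.Normal := ⟨fun a ha k => by
      obtain ⟨s, hs, hsz, hsk⟩ := S.exists_szb k.2
      obtain ⟨y, hy, hya⟩ := mem_map.1 (mem_subgroupOf.1 ha)
      refine ⟨⟨s, hs⟩ * y * ⟨s, hs⟩⁻¹, hTn s hsz y.1 hy, ?_⟩
      rw [map_mul, map_mul, map_inv, hsk, hya]
      rfl⟩
    haveI := K_simple false
    have hNtop : N = ⊤ := by
      refine (hN.eq_bot_or_eq_top).resolve_left fun h => ?_
      -- an element of the second kind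
      have hc : S.Szb (w * S.a1 * w⁻¹) ∧ (w * S.a1 * w⁻¹) * d = d * (w * S.a1 * w⁻¹) := by
        have hd1 : Commute d S.a1 := S.D3_rx hd S.rx_a1
        have hwa : Commute (w * S.a1 * w⁻¹) b :=
          ((show Commute w b from F.wb).mul_left (show Commute _ b from S.rx_b S.rx_a1)).mul_left
            (show Commute w b from F.wb).inv_left
        have hwz : (w * S.a1 * w⁻¹) * z = z * (w * S.a1 * w⁻¹) := by
          have hwzx : w * (z * S.xx) * w⁻¹ = z := by
            rw [show w * (z * S.xx) * w⁻¹ = (w * z * w⁻¹) * (w * S.xx * w⁻¹) by group, F.wz, F.wx,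
              ← mul_assoc, S.zc S.xx_mem, mul_assoc, S.xx_sq, mul_one]
          have hc : Commute S.a1 (z * S.xx) :=
            (show Commute S.a1 z from S.zc S.a1_mem).mul_right (show Commute S.a1 S.xx from S.rx_x S.rx_a1)
          have := (SemiconjBy.conj_mk w S.a1)
          calc w * S.a1 * w⁻¹ * z = w * S.a1 * w⁻¹ * (w * (z * S.xx) * w⁻¹) := by rw [hwzx]
            _ = w * (S.a1 * (z * S.xx)) * w⁻¹ := by group
            _ = (w * (z * S.xx) * w⁻¹) * (w * S.a1 * w⁻¹) := by rw [hc.eq]; group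
            _ = z * (w * S.a1 * w⁻¹) := by rw [hwzx]
        refine ⟨S.szb_of_two (mem_centralizer_singleton_iff.2 hwz) hwa.eq (n := 2) ?_, ?_⟩
        · rw [conj_pow, show (2 : ℕ) ^ 2 = 2 * 2 from rfl, pow_mul, pow_two S.a1, S.sq _ S.a1_mem,
            S.u_a1, qv_inj, w_facts.2.2.1, if_neg one_ne_zero, pow_two, S.zz]
          group
        · have hdw' : Commute d w := hdw
          exact ((hdw'.mul_right hd1).mul_right hdw'.inv_right).symm.eq
      obtain ⟨hsz, hyb, hyK⟩ := hc.1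
      have hmem : (⟨S.rho ⟨_, hsz⟩, hyK⟩ : K false) ∈ N := ⟨⟨_, hsz⟩, hc, rfl⟩
      rw [h, Subgroup.mem_bot] at hmem
      have hQ' : w * S.a1 * w⁻¹ ∈ Q :=
        (S.rho_eq_one_iff (c := ⟨_, hsz⟩)).1 (congrArg Subtype.val hmem :)
      rcases S.E_cases F hQ' (S.conj_mem_map F S.a1_mem) with e | e | e | e
      all_goals
        have e' : S.a1 = w⁻¹ * (w * S.a1 * w⁻¹) * w := by group
        rw [e] at e'
      · have : u S.a1 = 0 := by rw [e', mul_one, inv_mul_cancel, S.u_one]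
        rw [S.u_a1] at this
        exact absurd this (by decide +kernel)
      · have hwz' : w⁻¹ * z * w = z * S.xx := by
          have h1 : w * (z * S.xx) * w⁻¹ = z := by
            rw [show w * (z * S.xx) * w⁻¹ = (w * z * w⁻¹) * (w * S.xx * w⁻¹) by group, F.wz, F.wx,
              ← mul_assoc, S.zc S.xx_mem, mul_assoc, S.xx_sq, mul_one]
          calc w⁻¹ * z * w = w⁻¹ * (w * (z * S.xx) * w⁻¹) * w := by rw [h1]
            _ = z * S.xx := by group
        have : u S.a1 = u S.xx := by rw [e', hwz', S.add _ S.hzQ _ S.xx_mem, S.u_z, zero_add]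
        rw [S.u_a1, S.u_xx] at this
        exact absurd this (by decide +kernel)
      · have hwx' : w⁻¹ * S.xx * w = z := by
          calc w⁻¹ * S.xx * w = w⁻¹ * (w * z * w⁻¹) * w := by rw [F.wz]
            _ = z := by group
        have : u S.a1 = 0 := by rw [e', hwx', S.u_z]
        rw [S.u_a1] at this
        exact absurd this (by decide +kernel)
      · have hwm' : w⁻¹ * (z * S.xx) * w = S.xx := by
          calc w⁻¹ * (z * S.xx) * w = w⁻¹ * (w * S.xx * w⁻¹) * w := by rw [F.wx]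
            _ = S.xx := by group
        have : u S.a1 = u S.xx := by rw [e', hwm']
        rw [S.u_a1, S.u_xx] at this
        exact absurd this (by decide +kernel)
    have hTall : ∀ y, S.Szb y → y * d = d * y := by
      intro y hy
      obtain ⟨hyz, hyb, hyK⟩ := hy
      have hm : (⟨S.rho ⟨y, hyz⟩, hyK⟩ : K false) ∈ N := hNtop.symm ▸ mem_top _
      obtain ⟨t, ht, hte⟩ := mem_map.1 (mem_subgroupOf.1 hm)
      change S.rho t = S.rho ⟨y, hyz⟩ at hte
      have htT : S.Szb t.1 ∧ t.1 * d = d * t.1 := ht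
      obtain ⟨⟨-, htb', -⟩, htd⟩ := htT
      have hq : t.1⁻¹ * y ∈ Q := by
        refine (S.rho_eq_one_iff (c := t⁻¹ * ⟨y, hyz⟩)).1 ?_
        rw [map_mul, map_inv, hte, inv_mul_cancel]
      have hqT := (hTQ _ hq ((show Commute t.1 b from htb').inv_left.mul_left
        (show Commute y b from hyb)).eq).2
      rw [show y = t.1 * (t.1⁻¹ * y) by group]
      exact ((show Commute t.1 d from htd).mul_left (show Commute _ d from hqT)).eq
    refine (hmem d).2 fun e he => ?_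
    obtain ⟨h2, hh2, heq⟩ := (hH.symm ▸ mem_top (π e) : π e ∈ H2.map π)
    -- `d` centralizes the generated subgroup
    have hdH : ∀ y ∈ H2, Commute d y.1 := by
      intro y hy
      induction hy using Subgroup.closure_induction with
      | mem y hy =>
        rcases hy with hy | hy
        · exact (show Commute y.1 d from hTall y.1 hy).symm
        · rw [Set.mem_singleton_iff.1 hy]; exact hdw
      | one => exact Commute.one_right _
      | mul p q _ _ hp hq => exact hp.mul_right hq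
      | inv p _ hp => exact hp.inv_right
    -- commutators only depend on the classes
    have hall : ∀ x y : ↥(CB b), ∃ x' ∈ H2, ∃ y' ∈ H2, ⁅x, y⁆ = ⁅x', y'⁆ := by
      intro x y
      obtain ⟨x', hx', ex⟩ := (hH.symm ▸ mem_top (π x) : π x ∈ H2.map π)
      obtain ⟨y', hy', ey⟩ := (hH.symm ▸ mem_top (π y) : π y ∈ H2.map π)
      have hcx := hcen (QuotientGroup.eq.1 ex)
      have hcy := hcen (QuotientGroup.eq.1 ey)
      set c1 := x'⁻¹ * x
      set c2 := y'⁻¹ * y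
      have k1 : Commute c1 y' := (Subgroup.mem_center_iff.1 hcx y').symm
      have k2 : Commute c1 c2 := (Subgroup.mem_center_iff.1 hcx c2).symm
      have k3 : Commute c2 x'⁻¹ := (Subgroup.mem_center_iff.1 hcy _).symm
      refine ⟨x', hx', y', hy', ?_⟩
      rw [show x = x' * c1 from (mul_inv_cancel_left x' x).symm,
        show y = y' * c2 from (mul_inv_cancel_left y' y).symm, commutatorElement_def,
        commutatorElement_def]
      calc x' * c1 * (y' * c2) * (x' * c1)⁻¹ * (y' * c2)⁻¹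
          = x' * (c1 * y') * c2 * c1⁻¹ * x'⁻¹ * c2⁻¹ * y'⁻¹ := by group
        _ = x' * y' * (c1 * c2) * c1⁻¹ * x'⁻¹ * c2⁻¹ * y'⁻¹ := by rw [k1.eq]; group
        _ = x' * y' * (c2 * x'⁻¹) * c2⁻¹ * y'⁻¹ := by rw [k2.eq]; group
        _ = x' * y' * x'⁻¹ * y'⁻¹ := by rw [k3.eq]; group
    have hle : E ≤ (centralizer ({d} : Set G)).subgroupOf (CB b) := by
      rw [hE, _root_.commutator_def, Subgroup.commutator_le]
      intro x _ y _
      obtain ⟨x', hx', y', hy', exy⟩ := hall x y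
      rw [exy, mem_subgroupOf]
      refine mem_centralizer_singleton_iff.2 ?_
      show ⁅x', y'⁆.1 * d = d * ⁅x', y'⁆.1
      exact (hdH _ (mul_mem (mul_mem (mul_mem hx' hy') (inv_mem hx')) (inv_mem hy'))).symm.eq
    exact (mem_centralizer_singleton_iff.1 (mem_subgroupOf.1 (hle he))).symm
  obtain ⟨e60⟩ := K_equiv true
  let g : ↥M →* ↥(K true) := MonoidHom.mk'
    (fun m => ⟨S.rho ⟨m.1, mem_centralizer_singleton_iff.2 (hMz m.2)⟩,
      S.cr_mem_K (mem_centralizer_singleton_iff.2 (hMz m.2)) (hMR m.2)⟩)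
    fun x y => Subtype.ext (by
      show S.rho _ = S.rho _ * S.rho _
      rw [← map_mul]; rfl)
  have hgi : Function.Injective g := by
    rw [injective_iff_map_eq_one]
    intro m hm
    exact Subtype.ext (hMQ m.2 (S.rho_eq_one_iff.1 (congrArg Subtype.val hm :)))
  have hgs : Function.Surjective g := fun k => by
    obtain ⟨d, hd⟩ := hf.2 k
    refine ⟨⟨d.1, hD3 d.1 d.2⟩, ?_⟩
    rw [← hd]
    obtain ⟨h, he⟩ := hfd d
    exact Subtype.ext (he ▸ rfl)
  exact ⟨(MulEquiv.ofBijective g ⟨hgi, hgs⟩).trans e60⟩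

end Cfg

end CfsgLib.Trans3.Conway
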