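import Mathlib

/-!
A group generated by three involutions satisfying the relations of the affine reflection group of
type `Ã₂` with translations of order three has at most 54 elements, so it is determined by its order.
-/

set_option autoImplicit false

namespace CfsgLib.Trans3.Fifty

variable {G : Type*} [Group G]

/-- The relations. -/
structure Rel (a b c : G) : Prop where
  ha : a * a = 1
  hb : b * b = 1
  hc : c * c = 1
  hab : (a * b) ^ 3 = 1
  hbc : (b * c) ^ 3 = 1
  hca : (c * a) ^ 3 = 1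
  habc : (a * (b * c * b)) ^ 3 = 1

theorem cancel {a : G} (ha : a * a = 1) (x : G) : a * (a * x) = x := by
  rw [← mul_assoc, ha, one_mul]

theorem inv_eq_self' {a : G} (ha : a * a = 1) : a⁻¹ = a := inv_eq_of_mul_eq_one_right ha

theorem braid {a b : G} (ha : a * a = 1) (hb : b * b = 1) (h : (a * b) ^ 3 = 1) :
    a * b * a = b * a * b := by
  have h' : (a * b * a) * (b * a * b) = 1 := by
    rw [← h, pow_succ, pow_two]; simp only [mul_assoc]
  rw [eq_inv_of_mul_eq_one_left h']
  simp [mul_inv_rev, inv_eq_self' ha, inv_eq_self' hb, mul_assoc]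

theorem braid' {a b : G} (ha : a * a = 1) (hb : b * b = 1) (h : (a * b) ^ 3 = 1) (x : G) :
    a * (b * (a * x)) = b * (a * (b * x)) := by
  have := congrArg (· * x) (braid ha hb h)
  simpa only [mul_assoc] using this

variable {a b c : G}

/-- First translation. -/
def tr (a b c : G) : G := a * b * c * b

/-- Second translation. -/
def tu (a b c : G) : G := b * a * b * c

theorem b_tr (_h : Rel a b c) : b * tr a b c = tu a b c * b := by
  simp only [tr, tu, mul_assoc]

theorem b_tu (h : Rel a b c) : b * tu a b c = tr a b c * b := by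
  simp only [tr, tu, mul_assoc, cancel h.hb, h.hb, mul_one]

theorem a_tr (h : Rel a b c) : a * tr a b c = (tr a b c)⁻¹ * a := by
  rw [eq_inv_mul_iff_mul_eq]
  have hbb : (b * c * b) * (b * c * b) = 1 := by
    simp only [mul_assoc, cancel h.hb, cancel h.hc, h.hb]
  have : tr a b c * a * tr a b c = a * ((b * c * b) * a * a * (b * c * b)) := by
    simp only [tr, mul_assoc]
  rw [← mul_assoc, this]
  simp only [mul_assoc, cancel h.ha]
  simp only [cancel h.hb, cancel h.hc, h.hb, mul_one]

theorem a_tu (h : Rel a b c) : a * tu a b c = tu a b c * (tr a b c)⁻¹ * a := by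
  have key : a * tu a b c * a * tr a b c = tu a b c := by
    calc a * tu a b c * a * tr a b c
        = a * (b * (a * (b * (c * (a * (a * (b * (c * b)))))))) := by simp only [tr, tu, mul_assoc]
      _ = a * (b * (a * (b * (c * (b * (c * b)))))) := by rw [cancel h.ha]
      _ = a * (b * (a * (b * (b * (c * (b * b)))))) := by rw [braid' h.hc h.hb (by
            have := congrArg (·⁻¹) h.hbc
            simpa [← inv_pow, inv_eq_self' h.hb, inv_eq_self' h.hc] using this)]
      _ = a * (b * (a * c)) := by rw [cancel h.hb, h.hb, mul_one]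
      _ = b * (a * (b * c)) := by rw [braid' h.ha h.hb h.hab]
      _ = tu a b c := by simp only [tu, mul_assoc]
  calc a * tu a b c = a * tu a b c * a * tr a b c * (tr a b c)⁻¹ * a := by
        rw [mul_inv_cancel_right, mul_assoc, h.ha, mul_one]
    _ = tu a b c * (tr a b c)⁻¹ * a := by rw [key]

theorem commute_tr_tu (h : Rel a b c) : Commute (tr a b c) (tu a b c) := by
  have hac : (a * c) ^ 3 = 1 := by
    have := congrArg (·⁻¹) h.hca
    simpa [← inv_pow, inv_eq_self' h.ha, inv_eq_self' h.hc] using this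
  have hcb : (c * b) ^ 3 = 1 := by
    have := congrArg (·⁻¹) h.hbc
    simpa [← inv_pow, inv_eq_self' h.hb, inv_eq_self' h.hc] using this
  have e1 : tu a b c * tr a b c = a * (b * (c * (a * (b * c)))) := by
    calc tu a b c * tr a b c = b * (a * (b * (c * (a * (b * (c * b)))))) := by
          simp only [tr, tu, mul_assoc]
      _ = a * (b * (a * (c * (a * (b * (c * b)))))) := by rw [← braid' h.ha h.hb h.hab]
      _ = a * (b * (c * (a * (c * (b * (c * b)))))) := by rw [braid' h.ha h.hc hac]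
      _ = a * (b * (c * (a * (b * (c * (b * b)))))) := by rw [braid' h.hc h.hb hcb]
      _ = _ := by rw [h.hb, mul_one]
  show tr a b c * tu a b c = tu a b c * tr a b c
  rw [e1]
  simp only [tr, tu, mul_assoc, cancel h.hb]

theorem tr_cube (h : Rel a b c) : tr a b c ^ 3 = 1 := by
  simpa only [tr, mul_assoc] using h.habc

theorem tu_cube (h : Rel a b c) : tu a b c ^ 3 = 1 := by
  have e : tu a b c = b * tr a b c * b⁻¹ := by
    rw [inv_eq_self' h.hb, b_tr h, mul_assoc, h.hb, mul_one]
  rw [e, conj_pow, tr_cube h, mul_one, mul_inv_cancel]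

/-- The six words in the two first generators. -/
def six (a b : G) : Fin 6 → G := ![1, a, b, a * b, b * a, a * b * a]

theorem left_six (ha : a * a = 1) (hb : b * b = 1) (h : (a * b) ^ 3 = 1) (k : Fin 6) :
    (∃ k', a * six a b k = six a b k') ∧ ∃ k', b * six a b k = six a b k' := by
  have hr := braid' ha hb h
  have hr1 := braid ha hb h
  fin_cases k
  · exact ⟨⟨1, by simp [six]⟩, ⟨2, by simp [six]⟩⟩
  · exact ⟨⟨0, by simp [six, ha]⟩, ⟨4, by simp [six]⟩⟩
  · exact ⟨⟨3, by simp [six]⟩, ⟨0, by simp [six, hb]⟩⟩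
  · exact ⟨⟨2, by simp [six, cancel ha]⟩, ⟨5, by simp [six, hr1, mul_assoc]⟩⟩
  · exact ⟨⟨5, by simp [six, mul_assoc]⟩, ⟨1, by simp [six, cancel hb]⟩⟩
  · refine ⟨⟨4, by simp [six, mul_assoc, cancel ha]⟩, ⟨3, ?_⟩⟩
    have hr1' : a * (b * a) = b * (a * b) := by simpa only [mul_assoc] using hr1
    simp [six, mul_assoc, hr1', cancel hb]

/-- The 54 normal forms. -/
def form (a b c : G) (x : Fin 3 × Fin 3 × Fin 6) : G :=
  tr a b c ^ (x.1 : ℕ) * tu a b c ^ (x.2.1 : ℕ) * six a b x.2.2

theorem form_mem_range (h : Rel a b c) (i j : ℕ) (k : Fin 6) :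
    tr a b c ^ i * tu a b c ^ j * six a b k ∈ Set.range (form a b c) := by
  refine ⟨(⟨i % 3, Nat.mod_lt _ (by norm_num)⟩, ⟨j % 3, Nat.mod_lt _ (by norm_num)⟩, k), ?_⟩
  simp only [form]
  rw [← pow_eq_pow_mod i (tr_cube h), ← pow_eq_pow_mod j (tu_cube h)]

theorem a_form (h : Rel a b c) (x : Fin 3 × Fin 3 × Fin 6) :
    a * form a b c x ∈ Set.range (form a b c) := by
  obtain ⟨k', hk⟩ := (left_six h.ha h.hb h.hab x.2.2).1
  have h1 : ∀ n : ℕ, a * tr a b c ^ n = (tr a b c)⁻¹ ^ n * a := fun n => by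
    have : SemiconjBy a (tr a b c) (tr a b c)⁻¹ := a_tr h
    exact this.pow_right n
  have h2 : ∀ n : ℕ, a * tu a b c ^ n = (tu a b c * (tr a b c)⁻¹) ^ n * a := fun n => by
    have : SemiconjBy a (tu a b c) (tu a b c * (tr a b c)⁻¹) := a_tu h
    exact this.pow_right n
  have hinv : (tr a b c)⁻¹ = tr a b c ^ 2 :=
    inv_eq_of_mul_eq_one_right (by rw [← pow_succ']; exact tr_cube h)
  have hc := commute_tr_tu h
  have e : a * form a b c x =
      tr a b c ^ (2 * (x.1 : ℕ) + 2 * (x.2.1 : ℕ)) * tu a b c ^ (x.2.1 : ℕ) * six a b k' := by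
    calc a * form a b c x
        = (tr a b c)⁻¹ ^ (x.1 : ℕ) * (a * tu a b c ^ (x.2.1 : ℕ)) * six a b x.2.2 := by
          rw [form, ← mul_assoc, ← mul_assoc, h1, mul_assoc ((tr a b c)⁻¹ ^ (x.1 : ℕ)) a]
      _ = (tr a b c)⁻¹ ^ (x.1 : ℕ) * (tu a b c * (tr a b c)⁻¹) ^ (x.2.1 : ℕ) *
            (a * six a b x.2.2) := by rw [h2]; simp only [mul_assoc]
      _ = _ := by
          rw [hk, (hc.symm.inv_right).mul_pow, ← mul_assoc, hinv, ← pow_mul, ← pow_mul, pow_add]
          congr 1
          rw [mul_assoc, ((hc.symm.pow_pow _ _)).eq, ← mul_assoc]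
  rw [e]
  exact form_mem_range h _ _ _

theorem b_form (h : Rel a b c) (x : Fin 3 × Fin 3 × Fin 6) :
    b * form a b c x ∈ Set.range (form a b c) := by
  obtain ⟨k', hk⟩ := (left_six h.ha h.hb h.hab x.2.2).2
  have h1 : SemiconjBy b (tr a b c ^ (x.1 : ℕ)) (tu a b c ^ (x.1 : ℕ)) :=
    SemiconjBy.pow_right (show SemiconjBy b _ _ from b_tr h) _
  have h2 : SemiconjBy b (tu a b c ^ (x.2.1 : ℕ)) (tr a b c ^ (x.2.1 : ℕ)) :=
    SemiconjBy.pow_right (show SemiconjBy b _ _ from b_tu h) _
  have e : b * form a b c x =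
      tr a b c ^ (x.2.1 : ℕ) * tu a b c ^ (x.1 : ℕ) * six a b k' := by
    rw [form, ← mul_assoc, (h1.mul_right h2).eq, mul_assoc, hk,
      (commute_tr_tu h).symm.pow_pow (x.1 : ℕ) (x.2.1 : ℕ) |>.eq]
  rw [e]
  exact form_mem_range h _ _ _

theorem c_eq (h : Rel a b c) : c = b * (a * (tr a b c * b)) := by
  simp only [tr, mul_assoc, cancel h.ha, cancel h.hb, h.hb, mul_one]

theorem tr_form (h : Rel a b c) (x : Fin 3 × Fin 3 × Fin 6) :
    tr a b c * form a b c x ∈ Set.range (form a b c) := by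
  have e : tr a b c * form a b c x =
      tr a b c ^ ((x.1 : ℕ) + 1) * tu a b c ^ (x.2.1 : ℕ) * six a b x.2.2 := by
    rw [form, pow_succ']; simp only [mul_assoc]
  rw [e]
  exact form_mem_range h _ _ _

theorem c_form (h : Rel a b c) (x : Fin 3 × Fin 3 × Fin 6) :
    c * form a b c x ∈ Set.range (form a b c) := by
  obtain ⟨y1, h1⟩ := b_form h x
  obtain ⟨y2, h2⟩ := tr_form h y1
  obtain ⟨y3, h3⟩ := a_form h y2
  obtain ⟨y4, h4⟩ := b_form h y3
  refine ⟨y4, ?_⟩
  have e := congrArg (· * form a b c x) (c_eq h)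
  simp only [mul_assoc] at e
  rw [h4, h3, h2, h1]
  exact e.symm

theorem closure_subset_range (h : Rel a b c) :
    (Subgroup.closure {a, b, c} : Set G) ⊆ Set.range (form a b c) := by
  intro g hg
  induction hg using Subgroup.closure_induction_left with
  | one => simpa [six] using form_mem_range h 0 0 0
  | mul_left x hx y hy ih =>
    obtain ⟨z, rfl⟩ := ih
    rcases hx with rfl | rfl | rfl
    exacts [a_form h z, b_form h z, c_form h z]
  | inv_mul_cancel x hx y hy ih =>
    obtain ⟨z, rfl⟩ := ih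
    rcases hx with rfl | rfl | rfl
    · rw [inv_eq_self' h.ha]; exact a_form h z
    · rw [inv_eq_self' h.hb]; exact b_form h z
    · rw [inv_eq_self' h.hc]; exact c_form h z

theorem finite_closure (h : Rel a b c) : (Subgroup.closure {a, b, c} : Set G).Finite :=
  (Set.finite_range _).subset (closure_subset_range h)

theorem card_closure_le (h : Rel a b c) : Nat.card (Subgroup.closure {a, b, c}) ≤ 54 := by
  refine (Nat.card_mono (Set.finite_range (form a b c)) (closure_subset_range h)).trans ?_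
  exact (Finite.card_range_le _).trans (by simp)

/-- Two such groups of order 54 are isomorphic. -/
theorem nonempty_mulEquiv {K : Type*} [Group K] {a' b' c' : K} (h : Rel a b c) (h' : Rel a' b' c')
    (hG : Nat.card G = 54) (hK : Nat.card K = 54) (hg : Subgroup.closure {a, b, c} = ⊤)
    (hg' : Subgroup.closure {a', b', c'} = ⊤) : Nonempty (G ≃* K) := by
  classical
  have hr : Rel (a, a') (b, b') (c, c') :=
    ⟨Prod.ext h.ha h'.ha, Prod.ext h.hb h'.hb, Prod.ext h.hc h'.hc, Prod.ext h.hab h'.hab,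
      Prod.ext h.hbc h'.hbc, Prod.ext h.hca h'.hca, Prod.ext h.habc h'.habc⟩
  set D := Subgroup.closure ({(a, a'), (b, b'), (c, c')} : Set (G × K))
  have hD := card_closure_le hr
  have : Finite D := (finite_closure hr).to_subtype
  let f : D →* G := (MonoidHom.fst G K).comp D.subtype
  let f' : D →* K := (MonoidHom.snd G K).comp D.subtype
  have hf : Function.Surjective f := by
    rw [← MonoidHom.range_eq_top, eq_top_iff, ← hg, Subgroup.closure_le]
    rintro x (rfl | rfl | rfl)
    · exact ⟨⟨(x, a'), Subgroup.subset_closure (by simp)⟩, rfl⟩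
    · exact ⟨⟨(x, b'), Subgroup.subset_closure (by simp)⟩, rfl⟩
    · exact ⟨⟨(x, c'), Subgroup.subset_closure (by simp)⟩, rfl⟩
  have hf' : Function.Surjective f' := by
    rw [← MonoidHom.range_eq_top, eq_top_iff, ← hg', Subgroup.closure_le]
    rintro x (rfl | rfl | rfl)
    · exact ⟨⟨(a, x), Subgroup.subset_closure (by simp)⟩, rfl⟩
    · exact ⟨⟨(b, x), Subgroup.subset_closure (by simp)⟩, rfl⟩
    · exact ⟨⟨(c, x), Subgroup.subset_closure (by simp)⟩, rfl⟩
  have c1 : Nat.card D = 54 :=
    le_antisymm hD (hG ▸ Nat.card_le_card_of_surjective f hf)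
  have b1 : Function.Bijective f :=
    (Nat.bijective_iff_surjective_and_card f).2 ⟨hf, by rw [c1, hG]⟩
  have b2 : Function.Bijective f' :=
    (Nat.bijective_iff_surjective_and_card f').2 ⟨hf', by rw [c1, hK]⟩
  exact ⟨(MulEquiv.ofBijective f b1).symm.trans (MulEquiv.ofBijective f' b2)⟩

end CfsgLib.Trans3.Fifty
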