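import Cfsg.Agent.Lib.Trans3.WidthOne
import Cfsg.Agent.Lib.Trans3.Width

/-! The two kinds of classes of members of `D` with equal commuting partners, and `O₂`, `O₃`. -/

set_option autoImplicit false

namespace CfsgLib.Trans3

variable {G : Type*} [Group G] {D : Set G}

/-- `a` and `b` commute with the same members of `D`. -/
def VRel (D : Set G) (a b : G) : Prop :=
  a ∈ D ∧ b ∈ D ∧ ∀ e ∈ D, Commute b e ↔ Commute a e

/-- `a` and `b` have the same commuting partners in `D` other than themselves. -/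
def WRel (D : Set G) (a b : G) : Prop :=
  a ∈ D ∧ b ∈ D ∧
    {y : G | y ∈ D ∧ y ≠ a ∧ Commute a y} = {y : G | y ∈ D ∧ y ≠ b ∧ Commute b y}

theorem commute_conj_iff (g a b : G) :
    Commute (g * a * g⁻¹) (g * b * g⁻¹) ↔ Commute a b :=
  ⟨fun h => Commute.of_map (f := (MulAut.conj g).toMonoidHom) (MulAut.conj g).injective h,
    fun h => h.map (MulAut.conj g).toMonoidHom⟩

theorem commute_conj_left (g a e : G) :
    Commute (g * a * g⁻¹) e ↔ Commute a (g⁻¹ * e * g) := by
  conv_lhs => rw [show e = g * (g⁻¹ * e * g) * g⁻¹ by group]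
  exact commute_conj_iff g _ _

theorem VRel.conj (hD : Cfsg.IsThreeTranspositionGroup D) {a b : G} (h : VRel D a b) (g : G) :
    VRel D (g * a * g⁻¹) (g * b * g⁻¹) := by
  refine ⟨conj_mem hD h.1, conj_mem hD h.2.1, fun e he => ?_⟩
  rw [commute_conj_left, commute_conj_left]
  exact h.2.2 _ (by simpa using hD.2.1 g⁻¹ e he)

theorem WRel.conj (hD : Cfsg.IsThreeTranspositionGroup D) {a b : G} (h : WRel D a b) (g : G) :
    WRel D (g * a * g⁻¹) (g * b * g⁻¹) := by
  refine ⟨conj_mem hD h.1, conj_mem hD h.2.1, ?_⟩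
  ext y
  have h1 := Set.ext_iff.1 h.2.2 (g⁻¹ * y * g)
  have hy : g⁻¹ * y * g ∈ D ↔ y ∈ D := by
    constructor
    · intro hy
      have := hD.2.1 g _ hy
      rwa [show g * (g⁻¹ * y * g) * g⁻¹ = y by group] at this
    · intro hy; simpa using hD.2.1 g⁻¹ y hy
  have hne : ∀ c : G, g⁻¹ * y * g ≠ c ↔ y ≠ g * c * g⁻¹ := fun c =>
    not_congr ⟨fun h => by rw [← h]; group, fun h => by rw [h]; group⟩
  simp only [Set.mem_ofPred_eq, hy, hne, ← commute_conj_left] at h1
  exact h1

theorem VRel.commute {a b : G} (h : VRel D a b) : Commute a b :=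
  ((h.2.2 a h.1).2 (Commute.refl a)).symm

theorem WRel.not_commute {a b : G} (h : WRel D a b) (hne : b ≠ a) : ¬ Commute a b := by
  intro hc
  have : b ∈ {y : G | y ∈ D ∧ y ≠ b ∧ Commute b y} := h.2.2 ▸ ⟨h.2.1, hne, hc⟩
  exact this.2.1 rfl

theorem WRel.commute_of_commute {a b e : G} (h : WRel D a b) (he : e ∈ D) (hne : e ≠ a)
    (hc : Commute a e) : e ≠ b ∧ Commute b e :=
  let h' : e ∈ {y : G | y ∈ D ∧ y ≠ b ∧ Commute b y} := h.2.2 ▸ ⟨he, hne, hc⟩
  ⟨h'.2.1, h'.2.2⟩

theorem WRel.self_conj (hD : Cfsg.IsThreeTranspositionGroup D) {a b : G} (h : WRel D a b) :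
    WRel D a (a * b * a) := by
  refine ⟨h.1, self_conj_mem hD h.1 h.2.1, ?_⟩
  by_cases hne : b = a
  · subst hne
    rw [sq_one hD.1 h.1, one_mul]
  have hnc := h.not_commute hne
  have hne' : a * b * a ≠ a := fun h' => hne (by
    have : a * b = 1 := mul_right_cancel (h'.trans (one_mul a).symm)
    rw [eq_inv_of_mul_eq_one_right this, inv_eq hD.1 h.1])
  have hnc' : ¬ Commute a (a * b * a) := fun hc => hnc (by
    have := (commute_conj_iff a a (a * b * a)).2 hc
    rwa [inv_eq hD.1 h.1, sq_one hD.1 h.1, one_mul,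
      show a * (a * b * a) * a = (a * a) * b * (a * a) by group, sq_one hD.1 h.1, one_mul,
      mul_one] at this)
  ext y
  constructor
  · rintro ⟨hy, hya, hc⟩
    obtain ⟨-, hc'⟩ := h.commute_of_commute hy hya hc
    refine ⟨hy, fun h' => hnc' (h' ▸ hc), ?_⟩
    exact (hc.mul_left hc').mul_left hc
  · rintro ⟨hy, hyz, hc⟩
    have hcb : Commute b (a * y * a) := by
      have := (commute_conj_iff a (a * b * a) y).2 hc
      rwa [inv_eq hD.1 h.1, show a * (a * b * a) * a = (a * a) * b * (a * a) by group,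
        sq_one hD.1 h.1, one_mul, mul_one] at this
    have hayb : a * y * a ≠ b := fun h' => hyz (by
      rw [← h', show a * (a * y * a) * a = (a * a) * y * (a * a) by group, sq_one hD.1 h.1,
        one_mul, mul_one])
    obtain ⟨hne2, hca⟩ := WRel.commute_of_commute ⟨h.2.1, h.1, h.2.2.symm⟩
      (self_conj_mem hD h.1 hy) hayb hcb
    refine ⟨hy, fun h' => hne2 (by rw [h', sq_one hD.1 h.1, one_mul]), ?_⟩
    have := (commute_conj_iff a a (a * y * a)).2 hca
    rwa [inv_eq hD.1 h.1, sq_one hD.1 h.1, one_mul,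
      show a * (a * y * a) * a = (a * a) * y * (a * a) by group, sq_one hD.1 h.1, one_mul,
      mul_one] at this

theorem conj_of_noncomm (hD : Cfsg.IsThreeTranspositionSet D) {a b : G} (ha : a ∈ D) (hb : b ∈ D)
    (h : ¬ Commute a b) : a * b * a * (a * b)⁻¹ = b := by
  rw [mul_inv_rev, inv_eq hD ha, inv_eq hD hb]
  calc a * b * a * (b * a) = (a * b * a) * b * a := by group
    _ = (b * a * b) * b * a := by rw [braid hD ha hb h]
    _ = b * a * (b * b) * a := by group
    _ = b := by rw [sq_one hD hb, mul_one, mul_assoc, sq_one hD ha, mul_one]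

theorem VRel.fix (hD : Cfsg.IsThreeTranspositionGroup D) {d v : G} (h : VRel D d v) {e : G}
    (he : e ∈ D) : VRel D (d * e * d) (v * e * v) := by
  have hr : ∀ x ∈ D, VRel D x x := fun x hx => ⟨hx, hx, fun _ _ => Iff.rfl⟩
  by_cases hc : Commute d e
  · have hc' : Commute v e := (h.2.2 e he).2 hc
    rw [hc.eq, mul_assoc, sq_one hD.1 h.1, mul_one, hc'.eq, mul_assoc, sq_one hD.1 h.2.1,
      mul_one]
    exact hr e he
  · have hc' : ¬ Commute v e := fun h' => hc ((h.2.2 e he).1 h')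
    rw [braid hD.1 h.1 he hc, braid hD.1 h.2.1 he hc']
    have := h.conj hD e
    rwa [inv_eq hD.1 he] at this

theorem WRel.fix (hD : Cfsg.IsThreeTranspositionGroup D) {d w : G} (h : WRel D d w) {e : G}
    (he : e ∈ D) : WRel D (d * e * d) (w * e * w) := by
  by_cases hd : e = d
  · subst hd
    rw [sq_one hD.1 he, one_mul]
    by_cases hwe : w = e
    · subst hwe; rw [sq_one hD.1 he, one_mul]; exact ⟨he, he, rfl⟩
    · rw [← braid hD.1 he h.2.1 (h.not_commute hwe)]
      exact h.self_conj hD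
  by_cases hw : e = w
  · subst hw
    rw [sq_one hD.1 he, one_mul]
    have h' := h.self_conj hD
    exact ⟨h'.2.1, he, h'.2.2.symm.trans h.2.2⟩
  by_cases hc : Commute d e
  · have hc' := (h.commute_of_commute he hd hc).2
    rw [hc.eq, mul_assoc, sq_one hD.1 h.1, mul_one, hc'.eq, mul_assoc, sq_one hD.1 h.2.1,
      mul_one]
    exact ⟨he, he, rfl⟩
  · have hc' : ¬ Commute w e := fun h' => hc
      (WRel.commute_of_commute ⟨h.2.1, h.1, h.2.2.symm⟩ he hw h').2
    rw [braid hD.1 h.1 he hc, braid hD.1 h.2.1 he hc']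
    have := h.conj hD e
    rwa [inv_eq hD.1 he] at this

theorem eq_one_of_sq_cube {x : G} (h2 : x ^ 2 = 1) (h3 : x ^ 3 = 1) : x = 1 := by
  rw [pow_succ, h2, one_mul] at h3; exact h3

variable [Finite G]

omit [Finite G] in
theorem cube_eq_one_of_mem_two_pCore {x : G} (hx : x ∈ Cfsg.pCore 2 G) (h3 : x ^ 3 = 1) :
    x = 1 := by
  haveI : Fact (Nat.Prime 2) := ⟨Nat.prime_two⟩
  obtain ⟨k, hk⟩ := CfsgLib.Amalgam.isPGroup_pCore ⟨x, hx⟩
  have hk' : x ^ 2 ^ k = 1 := by simpa using congrArg Subtype.val hk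
  have := Nat.eq_one_of_dvd_coprimes (Nat.Coprime.pow_left k (by norm_num : Nat.Coprime 2 3))
    (orderOf_dvd_of_pow_eq_one hk') (orderOf_dvd_of_pow_eq_one h3)
  exact orderOf_eq_one_iff.1 this

omit [Finite G] in
theorem sq_eq_one_of_mem_three_pCore {x : G} (hx : x ∈ Cfsg.pCore 3 G) (h2 : x ^ 2 = 1) :
    x = 1 := by
  haveI : Fact (Nat.Prime 3) := ⟨Nat.prime_three⟩
  obtain ⟨k, hk⟩ := CfsgLib.Amalgam.isPGroup_pCore ⟨x, hx⟩
  have hk' : x ^ 3 ^ k = 1 := by simpa using congrArg Subtype.val hk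
  have := Nat.eq_one_of_dvd_coprimes (Nat.Coprime.pow_left k (by norm_num : Nat.Coprime 3 2))
    (orderOf_dvd_of_pow_eq_one hk') (orderOf_dvd_of_pow_eq_one h2)
  exact orderOf_eq_one_iff.1 this

theorem vRel_iff (hD : Cfsg.IsThreeTranspositionGroup D) {d : G} (hd : d ∈ D) {v : G} :
    VRel D d v ↔ v ∈ D ∧ d * v ∈ Cfsg.pCore 2 G := by
  constructor
  · intro h
    haveI : Fact (Nat.Prime 2) := ⟨Nat.prime_two⟩
    refine ⟨h.2.1, class_products_mem_pCore hD (VRel D) (fun a b h => ⟨h.1, h.2.1⟩)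
      (fun a b h => ⟨h.2.1, h.1, fun e he => (h.2.2 e he).symm⟩)
      (fun a b c h h' => ⟨h.1, h'.2.1, fun e he => (h'.2.2 e he).trans (h.2.2 e he)⟩)
      (fun g a b h => h.conj hD g) (fun a b h e he => h.fix hD he) ?_ h⟩
    intro a _
    refine (isPGroup_two_closure_of_commute (E := {x | VRel D a x}) (fun x hx y hy => ?_)
      (fun x hx => sq_one hD.1 hx.2.1)).to_le ((Subgroup.closure_le _).2 ?_)
    · exact (hx.2.2 y hy.2.1).2 hy.commute
    · rintro _ ⟨x, hx, y, hy, rfl⟩
      exact mul_mem (Subgroup.subset_closure hx) (Subgroup.subset_closure hy)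
  · rintro ⟨hv, hdv⟩
    refine ⟨hd, hv, fun e he => ?_⟩
    have key : ∀ a b, a ∈ D → b ∈ D → a * b ∈ Cfsg.pCore 2 G → Commute a e → Commute b e := by
      intro a b ha hb hab hc
      haveI := CfsgLib.Amalgam.normal_pCore (G := G) (p := 2)
      by_contra hn
      have h3 := pow_three hD.1 hb he hn
      have hq : ((b * e : G) : G ⧸ Cfsg.pCore 2 G) = ((a * e : G) : G ⧸ Cfsg.pCore 2 G) := by
        rw [QuotientGroup.eq, mul_inv_rev, inv_eq hD.1 hb, inv_eq hD.1 he,
          show e * b * (a * e) = e * (b * a) * e by group]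
        have : b * a ∈ Cfsg.pCore 2 G := by
          have := inv_mem hab; rwa [mul_inv_rev, inv_eq hD.1 ha, inv_eq hD.1 hb] at this
        have := Subgroup.Normal.conj_mem inferInstance _ this e
        rwa [inv_eq hD.1 he] at this
      have h2 := (commute_iff_pow_two hD.1 ha he).1 hc
      have h23 : ((b * e : G) : G ⧸ Cfsg.pCore 2 G) = 1 := eq_one_of_sq_cube
        (by rw [hq, ← QuotientGroup.mk_pow, h2, QuotientGroup.mk_one])
        (by rw [← QuotientGroup.mk_pow, h3, QuotientGroup.mk_one])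
      have := cube_eq_one_of_mem_two_pCore ((QuotientGroup.eq_one_iff _).1 h23) h3
      exact hn ((commute_iff_pow_two hD.1 hb he).2 (by rw [this, one_pow]))
    refine ⟨key v d hv hd ?_, key d v hd hv hdv⟩
    have := inv_mem hdv; rwa [mul_inv_rev, inv_eq hD.1 hd, inv_eq hD.1 hv] at this

theorem wRel_iff (hD : Cfsg.IsThreeTranspositionGroup D) {d : G} (hd : d ∈ D) {w : G} :
    WRel D d w ↔ w ∈ D ∧ d * w ∈ Cfsg.pCore 3 G := by
  constructor
  · intro h
    haveI : Fact (Nat.Prime 3) := ⟨Nat.prime_three⟩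
    refine ⟨h.2.1, class_products_mem_pCore hD (WRel D) (fun a b h => ⟨h.1, h.2.1⟩)
      (fun a b h => ⟨h.2.1, h.1, h.2.2.symm⟩)
      (fun a b c h h' => ⟨h.1, h'.2.1, h.2.2.trans h'.2.2⟩)
      (fun g a b h => h.conj hD g) (fun a b h e he => h.fix hD he) ?_ h⟩
    intro a _
    refine isPGroup_products (fun x hx => sq_one hD.1 hx.2.1) (fun x hx y hy => ?_)
      (fun x hx y hy => ?_)
    · by_cases hxy : y = x
      · rw [hxy, sq_one hD.1 hx.2.1, one_pow]
      · exact pow_three hD.1 hx.2.1 hy.2.1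
          (WRel.not_commute ⟨hx.2.1, hy.2.1, hx.2.2.symm.trans hy.2.2⟩ hxy)
    · have h' := WRel.self_conj hD (a := x) (b := y) ⟨hx.2.1, hy.2.1, hx.2.2.symm.trans hy.2.2⟩
      exact ⟨hx.1, h'.2.1, hx.2.2.trans h'.2.2⟩
  · rintro ⟨hw, hdw⟩
    refine ⟨hd, hw, ?_⟩
    have key : ∀ a b, a ∈ D → b ∈ D → a * b ∈ Cfsg.pCore 3 G →
        {y : G | y ∈ D ∧ y ≠ a ∧ Commute a y} ⊆ {y : G | y ∈ D ∧ y ≠ b ∧ Commute b y} := by
      rintro a b ha hb hab y ⟨hy, hya, hc⟩
      haveI := CfsgLib.Amalgam.normal_pCore (G := G) (p := 3)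
      have hay : a * y ≠ 1 := fun h => hya
        (by rw [eq_inv_of_mul_eq_one_right h, inv_eq hD.1 ha])
      have h2 := (commute_iff_pow_two hD.1 ha hy).1 hc
      have hyb : y ≠ b := by
        rintro rfl
        exact hay (sq_eq_one_of_mem_three_pCore hab h2)
      refine ⟨hy, hyb, ?_⟩
      by_contra hn
      have h3 := pow_three hD.1 hb hy hn
      have hq : ((b * y : G) : G ⧸ Cfsg.pCore 3 G) = ((a * y : G) : G ⧸ Cfsg.pCore 3 G) := by
        rw [QuotientGroup.eq, mul_inv_rev, inv_eq hD.1 hb, inv_eq hD.1 hy,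
          show y * b * (a * y) = y * (b * a) * y by group]
        have : b * a ∈ Cfsg.pCore 3 G := by
          have := inv_mem hab; rwa [mul_inv_rev, inv_eq hD.1 ha, inv_eq hD.1 hb] at this
        have := Subgroup.Normal.conj_mem inferInstance _ this y
        rwa [inv_eq hD.1 hy] at this
      have h23 : ((a * y : G) : G ⧸ Cfsg.pCore 3 G) = 1 := eq_one_of_sq_cube
        (by rw [← QuotientGroup.mk_pow, h2, QuotientGroup.mk_one])
        (by rw [← hq, ← QuotientGroup.mk_pow, h3, QuotientGroup.mk_one])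
      exact hay (sq_eq_one_of_mem_three_pCore ((QuotientGroup.eq_one_iff _).1 h23) h2)
    refine Set.Subset.antisymm (key d w hd hw hdw) (key w d hw hd ?_)
    have := inv_mem hdw; rwa [mul_inv_rev, inv_eq hD.1 hd, inv_eq hD.1 hw] at this

theorem exists_noncomm (hD : Cfsg.IsThreeTranspositionClass D) (hD2 : ∃ a ∈ D, ∃ b ∈ D, a ≠ b)
    {d : G} (hd : d ∈ D) : ∃ e ∈ D, ¬ Commute d e := by
  by_contra h
  have hall : ∀ g : G, Commute d g := fun g => by
    have hg : g ∈ Subgroup.closure D := hD.2.2 ▸ Subgroup.mem_top g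
    induction hg using Subgroup.closure_induction with
    | mem x hx => exact not_not.1 fun hn => h ⟨x, hx, hn⟩
    | one => exact Commute.one_right _
    | mul a b _ _ h1 h2 => exact h1.mul_right h2
    | inv a _ h1 => exact h1.inv_right
  obtain ⟨a, ha, b, hb, hab⟩ := hD2
  have : ∀ x ∈ D, x = d := fun x hx => by
    obtain ⟨g, rfl⟩ := class_exists_conj hD hd hx
    rw [← (hall g).eq, mul_assoc, mul_inv_cancel, mul_one]
  exact hab ((this a ha).trans (this b hb).symm)

/-- The conjugator from `d` to a member of its `V`-class. -/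
theorem conj_eq_of_vRel (hD : Cfsg.IsThreeTranspositionGroup D) {d v e : G} (h : VRel D d v)
    (he : e ∈ D) (hn : ¬ Commute d e) : e * (d * v) * e * d * (e * (d * v) * e)⁻¹ = v := by
  have hd := h.1
  have hv := h.2.1
  have hnv : ¬ Commute v e := fun hc => hn ((h.2.2 e he).1 hc)
  have hdv : d * v = v * d := h.commute.eq
  have r1 : e * d * e = d * e * d := braid hD.1 he hd fun hc => hn hc.symm
  have r2 : v * e * v = e * v * e := braid hD.1 hv he hnv
  calc e * (d * v) * e * d * (e * (d * v) * e)⁻¹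
      = e * (d * v) * (e * d * e) * (v * d) * e := by
        simp only [mul_inv_rev, inv_eq hD.1 hd, inv_eq hD.1 hv, inv_eq hD.1 he, mul_assoc]
    _ = e * ((v * d) * (d * e * d) * (d * v)) * e := by
        rw [r1]; conv_lhs => rw [show (v * d) = (d * v) from hdv.symm]
        conv_rhs => rw [← hdv]
        simp only [mul_assoc]
    _ = e * (v * e * v) * e := by
        simp only [mul_assoc, invol_cancel (hD.1.1 d hd)]
    _ = v := by
        rw [r2]; simp only [mul_assoc, invol_cancel (hD.1.1 e he), sq_one hD.1 he, mul_one]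

end CfsgLib.Trans3
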