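import Cfsg.Agent.Lib.Golay.LeechBasic
import Cfsg.Prelude.Def_Spor_Conway

/-! The stabiliser of a short vector of the Leech lattice acts faithfully on 23-dimensional space
over the field with 13 elements. -/

set_option autoImplicit false
set_option maxRecDepth 10000

namespace CfsgLib.Trans3.CoTwo

open Cfsg CfsgLib.Golay Matrix

/-- Thirteen. -/
abbrev K : Type := ZMod 13

/-- Thirteen is prime. -/
instance factThirteen : Fact (Nat.Prime 13) := ⟨by norm_num⟩

theorem eight_single_mem (p : GolayPt) : (Pi.single p (8 : ℤ) : GolayPt → ℤ) ∈ leechLattice := by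
  refine mem_leechLattice_iff.2 ⟨0, Pi.single p 4, fun i => ?_, ?_, ?_⟩
  · by_cases h : i = p
    · subst h; simp
    · simp [h]
  · rw [show mod2 (Pi.single p (4 : ℤ) : GolayPt → ℤ) = 0 by
      funext i
      by_cases h : i = p
      · subst h; simp [mod2]; decide
      · simp [mod2, h]]
    exact Submodule.zero_mem _
  · simp

/-- Eight times a coordinate vector. -/
def ev (p : GolayPt) : leechLattice := ⟨Pi.single p 8, eight_single_mem p⟩

/-- An element of `Co0` as an additive map. -/
def addHom (g : Co0) : leechLattice →+ leechLattice :=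
  AddMonoidHom.mk' (g.1 : leechLattice → leechLattice) g.2.1

theorem eight_smul (v : leechLattice) : (8 : ℤ) • v = ∑ p, ((v : GolayPt → ℤ) p) • ev p := by
  refine Subtype.ext ?_
  funext i
  rw [AddSubgroup.coe_zsmul, AddSubgroup.val_finset_sum]
  simp only [Pi.smul_apply, Finset.sum_apply, AddSubgroup.coe_zsmul, ev, smul_eq_mul]
  rw [Finset.sum_eq_single i]
  · simp [mul_comm]
  · intro j _ hj; simp [Ne.symm hj]
  · simp

/-- Reduction modulo 13. -/
def red (v : GolayPt → ℤ) : GolayPt → K := fun i => (v i : K)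

/-- The matrix of an element modulo 13. -/
def mat13 (g : Co0) : Matrix GolayPt GolayPt K :=
  Matrix.of fun q p => (((g.1 (ev p) : leechLattice) : GolayPt → ℤ) q : K) * 5

theorem red_apply (g : Co0) (v : leechLattice) :
    red ((g.1 v : leechLattice) : GolayPt → ℤ) = mat13 g *ᵥ red (v : GolayPt → ℤ) := by
  have h := congrArg (fun w : leechLattice => red (w : GolayPt → ℤ))
    (congrArg (addHom g) (eight_smul v))
  simp only [map_zsmul, map_sum] at h
  funext q
  have h' := congrFun h q
  simp only [red, AddSubgroup.coe_zsmul, AddSubgroup.val_finset_sum, Pi.smul_apply,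
    Finset.sum_apply, smul_eq_mul, Int.cast_sum, Int.cast_mul, Int.cast_ofNat] at h'
  simp only [Matrix.mulVec, dotProduct, mat13, Matrix.of_apply, red]
  have h40 : (5 : K) * 8 = 1 := by decide
  calc (((g.1 v : leechLattice) : GolayPt → ℤ) q : K)
      = 5 * (8 * (((g.1 v : leechLattice) : GolayPt → ℤ) q : K)) := by rw [← mul_assoc, h40, one_mul]
    _ = 5 * ∑ p, ((v : GolayPt → ℤ) p : K) * (((g.1 (ev p) : leechLattice) : GolayPt → ℤ) q : K) :=
        congrArg (fun x : K => 5 * x) h'
    _ = _ := by
        rw [Finset.mul_sum]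
        exact Finset.sum_congr rfl fun p _ => by ring

theorem red_ev (p : GolayPt) : red (ev p : GolayPt → ℤ) = Pi.single p (8 : K) := by
  funext i
  by_cases h : i = p
  · subst h; simp [red, ev]
  · simp [red, ev, h]

theorem mat13_col (g : Co0) (p : GolayPt) :
    mat13 g *ᵥ Pi.single p (8 : K) = red ((g.1 (ev p) : leechLattice) : GolayPt → ℤ) := by
  rw [← red_ev, red_apply]

theorem mat13_one : mat13 1 = 1 := by
  ext q p
  show (((ev p : leechLattice) : GolayPt → ℤ) q : K) * 5 = _
  rw [show ((ev p : GolayPt → ℤ) q : K) = red (ev p : GolayPt → ℤ) q from rfl, red_ev]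
  by_cases h : q = p
  · subst h; simp; decide
  · simp [h]

theorem mat13_mul (g k : Co0) : mat13 (g * k) = mat13 g * mat13 k := by
  ext q p
  have e : mat13 (g * k) *ᵥ Pi.single p (8 : K) = (mat13 g * mat13 k) *ᵥ Pi.single p (8 : K) := by
    rw [mat13_col, ← Matrix.mulVec_mulVec, mat13_col, ← red_apply]
    rfl
  have h := congrFun e q
  simp only [Matrix.mulVec_single, Pi.smul_apply, MulOpposite.smul_eq_mul_unop,
    MulOpposite.unop_op] at h
  exact mul_right_cancel₀ (show (8 : K) ≠ 0 by decide) h

theorem dot_eq (g : Co0) (v w : leechLattice) :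
    dotInt ((g.1 v : leechLattice) : GolayPt → ℤ) ((g.1 w : leechLattice) : GolayPt → ℤ) =
      dotInt (v : GolayPt → ℤ) (w : GolayPt → ℤ) := by
  have key : ∀ a b : leechLattice, sqNorm ((a + b : leechLattice) : GolayPt → ℤ) =
      sqNorm (a : GolayPt → ℤ) + sqNorm (b : GolayPt → ℤ) +
        2 * dotInt (a : GolayPt → ℤ) (b : GolayPt → ℤ) := by
    intro a b
    simp only [sqNorm, dotInt, Finset.mul_sum, ← Finset.sum_add_distrib]
    refine Finset.sum_congr rfl fun i _ => ?_
    show ((a : GolayPt → ℤ) i + (b : GolayPt → ℤ) i) ^ 2 = _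
    ring
  have h := g.2.2 (v + w)
  rw [g.2.1, key, key, g.2.2 v, g.2.2 w] at h
  linarith

theorem red_dot (v w : GolayPt → ℤ) : red v ⬝ᵥ red w = ((dotInt v w : ℤ) : K) := by
  simp [red, dotProduct, dotInt]

theorem mat13_orth (g : Co0) : (mat13 g)ᵀ * mat13 g = 1 := by
  ext p q
  have h := dot_eq g (ev p) (ev q)
  have h' := congrArg (fun x : ℤ => (x : K)) h
  simp only [← red_dot, red_ev] at h'
  rw [Matrix.mul_apply]
  simp only [Matrix.transpose_apply, mat13, Matrix.of_apply]
  have e : ∀ a b : K, a * 5 * (b * 5) = 25 * (a * b) := fun a b => by ring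
  rw [Finset.sum_congr rfl fun i _ => e _ _, ← Finset.mul_sum]
  simp only [dotProduct, red] at h'
  rw [h']
  by_cases hpq : p = q
  · subst hpq
    rw [Finset.sum_eq_single p (fun j _ hj => by simp [hj]) (by simp)]
    simp; decide
  · rw [Finset.sum_eq_zero fun j _ => ?_]
    · simp [hpq]
    · by_cases hj : j = p
      · subst hj; simp [hpq]
      · simp [hj]

theorem mat13_inj {g : Co0} (h : mat13 g = 1) : g = 1 := by
  have hfix : ∀ p, g.1 (ev p) = ev p := by
    intro p
    set y : GolayPt → ℤ := ((g.1 (ev p) : leechLattice) : GolayPt → ℤ) with hy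
    have hn : ∑ i, y i ^ 2 = 64 := by
      have := g.2.2 (ev p)
      rw [sqNorm, sqNorm] at this
      rw [hy, this, Finset.sum_eq_single p (fun j _ hj => by simp [ev, hj]) (by simp)]
      simp [ev]
    have hc : ∀ i, (y i : K) = if i = p then 8 else 0 := by
      intro i
      have := congrFun (mat13_col g p) i
      rw [h, Matrix.one_mulVec] at this
      show red y i = _
      rw [← this]
      by_cases hi : i = p
      · subst hi; simp
      · simp [hi]
    have hb : ∀ i, -8 ≤ y i ∧ y i ≤ 8 := by
      intro i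
      have hle := Finset.single_le_sum (f := fun j => y j ^ 2) (fun j _ => sq_nonneg _)
        (Finset.mem_univ i)
      rw [hn] at hle
      constructor <;> nlinarith [hle]
    have h0 : ∀ i, i ≠ p → y i = 0 := by
      intro i hi
      have := hc i
      rw [if_neg hi, ZMod.intCast_zmod_eq_zero_iff_dvd] at this
      obtain ⟨c, hc'⟩ := this
      have := hb i
      omega
    have hp : y p = 8 := by
      rw [Finset.sum_eq_single p (fun j _ hj => by rw [h0 j hj]; norm_num) (by simp)] at hn
      have h8 := hc p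
      rw [if_pos rfl] at h8
      have : y p = 8 ∨ y p = -8 := sq_eq_sq_iff_eq_or_eq_neg.1 (by rw [hn]; norm_num)
      rcases this with e | e
      · exact e
      · rw [e] at h8; exact absurd h8 (by decide)
    refine Subtype.ext (funext fun i => ?_)
    show y i = _
    by_cases hi : i = p
    · subst hi; simp [hp, ev]
    · simp [h0 i hi, ev, hi]
  refine Subtype.ext (Equiv.ext fun v => ?_)
  show g.1 v = v
  have h8 := congrArg (addHom g) (eight_smul v)
  simp only [map_zsmul, map_sum] at h8
  have e : ∀ p, addHom g (ev p) = ev p := hfix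
  simp only [e, ← eight_smul] at h8
  refine Subtype.ext (funext fun i => ?_)
  have h9 := congrArg (fun w : leechLattice => (w : GolayPt → ℤ) i) h8
  simp only [AddSubgroup.coe_zsmul, Pi.smul_apply, smul_eq_mul] at h9
  exact mul_left_cancel₀ (by norm_num : (8 : ℤ) ≠ 0) h9

attribute [local irreducible] mat13 Co0

/-- The fixed vector modulo 13. -/
def uVec : GolayPt → K := red Spor.vecU

theorem uVec_norm : uVec ⬝ᵥ uVec ≠ 0 := by decide +kernel

/-- The inclusion. -/
def incl : Spor.Co2 →* Co0 := Subgroup.inclusion inf_le_left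

theorem mat13_uVec (g : Spor.Co2) : mat13 (incl g) *ᵥ uVec = uVec := by
  have h : (g : Equiv.Perm leechLattice) Spor.leechU = Spor.leechU := g.2.2
  rw [show uVec = red (Spor.leechU : GolayPt → ℤ) from rfl, ← red_apply]
  exact congrArg (fun w : leechLattice => red (w : GolayPt → ℤ)) h

/-- The hyperplane. -/
def perp : Submodule K (GolayPt → K) where
  carrier := {x | uVec ⬝ᵥ x = 0}
  zero_mem' := dotProduct_zero _
  add_mem' := fun {a b} ha hb => by
    show uVec ⬝ᵥ (a + b) = 0
    rw [dotProduct_add, ha, hb, add_zero]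
  smul_mem' := fun c x hx => by
    show uVec ⬝ᵥ (c • x) = 0
    rw [dotProduct_smul, hx, smul_zero]

theorem perp_stable (g : Spor.Co2) {x : GolayPt → K} (hx : x ∈ perp) :
    mat13 (incl g) *ᵥ x ∈ perp := by
  show uVec ⬝ᵥ (mat13 (incl g) *ᵥ x) = 0
  conv_lhs => rw [← mat13_uVec g]
  rw [Matrix.dotProduct_mulVec, ← Matrix.mulVec_transpose, Matrix.mulVec_mulVec, mat13_orth,
    Matrix.one_mulVec]
  exact hx

/-- The representation. -/
def repPerp : Spor.Co2 →* Module.End K perp where
  toFun g := (Matrix.toLin' (mat13 (incl g))).restrict fun _ hx => perp_stable g hx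
  map_one' := by
    refine LinearMap.ext fun x => Subtype.ext ?_
    show mat13 (incl 1) *ᵥ (x : GolayPt → K) = x
    rw [map_one, mat13_one, Matrix.one_mulVec]
  map_mul' g k := by
    refine LinearMap.ext fun x => Subtype.ext ?_
    show mat13 (incl (g * k)) *ᵥ (x : GolayPt → K) =
      mat13 (incl g) *ᵥ (mat13 (incl k) *ᵥ (x : GolayPt → K))
    rw [map_mul, mat13_mul, Matrix.mulVec_mulVec]

theorem repPerp_apply (g : Spor.Co2) (x : perp) :
    ((repPerp g x : perp) : GolayPt → K) = mat13 (incl g) *ᵥ (x : GolayPt → K) := rfl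

theorem repPerp_inj : Function.Injective repPerp := by
  rw [injective_iff_map_eq_one]
  intro g hg
  have hfix : ∀ x ∈ perp, mat13 (incl g) *ᵥ x = x := by
    intro x hx
    have h := repPerp_apply g ⟨x, hx⟩
    rw [hg, Module.End.one_apply] at h
    exact h.symm
  have hall : ∀ x, mat13 (incl g) *ᵥ x = x := by
    intro x
    set c : K := (uVec ⬝ᵥ uVec)⁻¹ * (uVec ⬝ᵥ x)
    have hy : x - c • uVec ∈ perp := by
      show uVec ⬝ᵥ (x - c • uVec) = 0
      rw [dotProduct_sub, dotProduct_smul, smul_eq_mul,
        show c * (uVec ⬝ᵥ uVec) = uVec ⬝ᵥ x by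
          rw [mul_assoc, mul_comm (uVec ⬝ᵥ x), ← mul_assoc, inv_mul_cancel₀ uVec_norm, one_mul],
        sub_self]
    have := hfix _ hy
    rw [Matrix.mulVec_sub, Matrix.mulVec_smul, mat13_uVec, sub_left_inj] at this
    exact this
  have h1 : mat13 (incl g) = 1 := Matrix.ext_iff_mulVec.2 fun x => by rw [hall, Matrix.one_mulVec]
  exact Subgroup.inclusion_injective _ (mat13_inj h1)

theorem finrank_perp : Module.finrank K perp = 23 := by
  let φ : (GolayPt → K) →ₗ[K] K :=
    { toFun := fun x => uVec ⬝ᵥ x
      map_add' := fun a b => dotProduct_add _ a b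
      map_smul' := fun c x => dotProduct_smul c _ x }
  have hs : LinearMap.range φ = ⊤ := by
    rw [LinearMap.range_eq_top]
    intro c
    exact ⟨(c * (uVec ⬝ᵥ uVec)⁻¹) • uVec, by
      show uVec ⬝ᵥ _ = c
      rw [dotProduct_smul, smul_eq_mul, mul_assoc, inv_mul_cancel₀ uVec_norm, mul_one]⟩
  have hk : LinearMap.ker φ = perp := rfl
  have := LinearMap.finrank_range_add_finrank_ker φ
  rw [hs, finrank_top, Module.finrank_self, Module.finrank_fintype_fun_eq_card, hk] at this
  have h24 : Fintype.card GolayPt = 24 := by simp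
  omega

theorem embeds : ∃ f : Spor.Co2 →* GL (Fin 23) (ZMod 13), Function.Injective f := by
  let b := Module.finBasisOfFinrankEq K perp finrank_perp
  refine ⟨(Units.mapEquiv (LinearMap.toMatrixAlgEquiv b).toMulEquiv).toMonoidHom.comp
    repPerp.toHomUnits, ?_⟩
  intro g k h
  rw [MonoidHom.comp_apply, MonoidHom.comp_apply, MulEquiv.coe_toMonoidHom] at h
  have h' := congrArg Units.val ((Units.mapEquiv (LinearMap.toMatrixAlgEquiv b).toMulEquiv).injective h)
  rw [MonoidHom.coe_toHomUnits, MonoidHom.coe_toHomUnits] at h'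
  exact repPerp_inj h'

end CfsgLib.Trans3.CoTwo
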