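import Cfsg.Agent.Lib.Trans3.Fitting
import Cfsg.Agent.Lib.Comp.Normalize

/-! The component of a group generated by 3-transpositions with central `O₂` and `O₃`. -/

set_option autoImplicit false

namespace CfsgLib.Trans3

open Subgroup

variable {G : Type*} [Group G] {D : Set G}

theorem isCommutative_of_sq_or_cube {X : Type*} [Group X] [Finite X] [IsSimpleGroup X]
    (hexp : ∀ x : X, x ^ 2 = 1 ∨ x ^ 3 = 1) : center X = ⊤ := by
  have key : ∀ {p : ℕ}, p.Prime → IsPGroup p X → center X = ⊤ := fun {p} hp h => by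
    haveI := Fact.mk hp
    haveI := h.center_nontrivial
    exact (IsSimpleGroup.eq_bot_or_eq_top_of_normal (center X) inferInstance).resolve_left
      ((nontrivial_iff_ne_bot _).1 inferInstance)
  haveI : Fact (Nat.Prime 3) := ⟨Nat.prime_three⟩
  haveI : Fact (Nat.Prime 2) := ⟨Nat.prime_two⟩
  let D : Set X := {u | orderOf u = 2}
  by_cases hne : D.Nonempty
  swap
  · refine key Nat.prime_three fun x => ⟨1, ?_⟩
    rw [pow_one]
    rcases hexp x with h | h
    · by_cases h1 : x = 1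
      · rw [h1, one_pow]
      · exact absurd ⟨x, show orderOf x = 2 from orderOf_eq_prime h h1⟩ hne
    · exact h
  obtain ⟨t, ht⟩ := hne
  have hconj : ∀ g : X, ∀ u ∈ D, g * u * g⁻¹ ∈ D := fun g u hu => (orderOf_conj g u).trans hu
  have hn := closure_normal_of_conj_mem hconj
  have htop : closure D = ⊤ :=
    (IsSimpleGroup.eq_bot_or_eq_top_of_normal _ hn).resolve_left fun h =>
      invol_ne_one ht (mem_bot.1 (h ▸ subset_closure ht))
  have hD : Cfsg.IsThreeTranspositionGroup D :=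
    ⟨⟨fun u hu => hu, fun u _ v _ => hexp (u * v)⟩, hconj, htop⟩
  have hC : ∀ b ∈ D, ∀ x : X, Commute b x → x ^ 2 = 1 := by
    intro b hb x hx
    rcases hexp x with h | h
    · exact h
    · rcases hexp (b * x) with h' | h'
      · rwa [hx.mul_pow, pow_two b, invol_mul_self hb, one_mul] at h'
      · rw [hx.mul_pow, h, mul_one, pow_succ, pow_two, invol_mul_self hb, one_mul] at h'
        exact absurd h' (invol_ne_one hb)
  have htrans : ∀ a ∈ D, ∀ b ∈ D, ∀ c ∈ D, Commute a b → Commute b c → Commute a c :=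
    fun a ha b hb c hc h1 h2 =>
      (commute_iff_pow_two hD.1 ha hc).2 (hC b hb _ (h1.symm.mul_right h2))
  have hO : ∀ {p : ℕ}, p.Prime → ∀ x : X, x ∈ Cfsg.pCore p X → x ≠ 1 → center X = ⊤ := by
    intro p hp x hx hx1
    refine key hp ?_
    rcases IsSimpleGroup.eq_bot_or_eq_top_of_normal _
      (CfsgLib.Amalgam.normal_pCore (G := X) (p := p)) with h | h
    · exact absurd (mem_bot.1 (h ▸ hx)) hx1
    · exact (CfsgLib.Amalgam.isPGroup_pCore (G := X) (p := p)).of_equiv
        ((MulEquiv.subgroupCongr h).trans Subgroup.topEquiv)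
  by_cases hpair : ∃ a ∈ D, ∃ b ∈ D, a ≠ b ∧ Commute a b
  · obtain ⟨a, ha, b, hb, hab, hc⟩ := hpair
    refine hO Nat.prime_two (a * b) ((vRel_iff hD ha).1 ⟨ha, hb, fun e he => ?_⟩).2 fun h =>
      hab (by rw [eq_inv_of_mul_eq_one_left h, inv_eq hD.1 hb])
    exact ⟨htrans a ha b hb e he hc, htrans b hb a ha e he hc.symm⟩
  · have h3 : ∀ u ∈ D, ∀ v ∈ D, (u * v) ^ 3 = 1 := fun u hu v hv => by
      by_cases h : u = v
      · rw [h, sq_one hD.1 hv, one_pow]
      · exact pow_three hD.1 hu hv fun hc => hpair ⟨u, hu, v, hv, h, hc⟩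
    have hP := isPGroup_products (fun u hu => sq_one hD.1 hu) h3
      (fun u hu v hv => self_conj_mem hD hu hv)
    have hle := CfsgLib.Amalgam.le_pCore (closure_normal_of_conj_mem (by
      rintro g _ ⟨a, ha, b, hb, rfl⟩
      exact ⟨_, hconj g a ha, _, hconj g b hb, by group⟩)) hP
    by_cases hone : ∀ u ∈ D, u = t
    · refine (IsSimpleGroup.eq_bot_or_eq_top_of_normal (center X) inferInstance).resolve_left
        fun h => invol_ne_one ht (mem_bot.1 (h ▸ mem_center_iff.2 fun g => ?_))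
      exact mul_inv_eq_iff_eq_mul.1 (hone _ (hconj g t ht))
    · simp only [not_forall, exists_prop] at hone
      obtain ⟨u, hu, hut⟩ := hone
      exact hO Nat.prime_three (u * t) (hle (subset_closure ⟨u, hu, t, ht, rfl⟩)) fun h =>
        hut (by rw [eq_inv_of_mul_eq_one_left h, inv_eq hD.1 ht])

variable [Finite G]

/-- For a normal quasisimple `L` and a member `d`: `d` centralises `L`, or the products
`x d x⁻¹ d`, `x ∈ L`, generate `L`. -/
theorem orbit_dichotomy (hD : Cfsg.IsThreeTranspositionGroup D) {d : G} (hd : d ∈ D)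
    (L : Subgroup G) [L.Normal] (hL : Cfsg.IsQuasisimple L) :
    (∀ x ∈ L, Commute d x) ∨ L ≤ closure {z | ∃ x ∈ L, z = x * d * x⁻¹ * d} := by
  let Q := closure {z | ∃ x ∈ L, z = x * d * x⁻¹ * d}
  have hdd := sq_one hD.1 hd
  have hnd : d ∈ normalizer (L : Set G) := Subgroup.normalizer_eq_top L ▸ mem_top d
  have hQL : Q ≤ L := (closure_le _).2 (by
    rintro _ ⟨x, hx, rfl⟩; exact conj_mul_self_mem hdd hnd hx)
  have key : ∀ g ∈ L, ∀ y ∈ Q, g * y * g⁻¹ ∈ Q := fun g hg y hy =>
    (closure_le (Q.comap (MulAut.conj g).toMonoidHom)).2 (by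
      rintro _ ⟨x, hx, rfl⟩
      show g * (x * d * x⁻¹ * d) * g⁻¹ ∈ Q
      rw [show g * (x * d * x⁻¹ * d) * g⁻¹ = (g * x * d * (g * x)⁻¹ * d) * (g * d * g⁻¹ * d)⁻¹ by
        rw [mul_inv_rev (g * d * g⁻¹) d, inv_eq hD.1 hd, mul_inv_rev, mul_inv_rev, mul_inv_rev,
          inv_inv, inv_eq hD.1 hd]
        simp only [mul_assoc, invol_cancel (hD.1.1 d hd), inv_mul_cancel_left]]
      exact mul_mem (subset_closure ⟨g * x, mul_mem hg hx, rfl⟩)
        (inv_mem (subset_closure ⟨g, hg, rfl⟩))) hy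
  have hn : (Q.subgroupOf L).Normal := ⟨fun y hy g => key g g.2 y hy⟩
  rcases CfsgLib.Comp.eq_or_le_centralizer_of_subnormal hL hQL hn.isSubnormal with h | h
  · exact Or.inr h.ge
  · refine Or.inl fun x hx => commute_of_commutator_central (Subgroup.isPerfect_iff.1 hL.1)
      (fun y hy => ?_) hx
    have hm : y * d * y⁻¹ * d ∈ Q := subset_closure ⟨y, hy, rfl⟩
    rw [show d * y * d⁻¹ * y⁻¹ = (y * d * y⁻¹ * d)⁻¹ by
      simp only [mul_inv_rev, inv_inv, inv_eq hD.1 hd, mul_assoc]]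
    exact ⟨L.inv_mem (hQL hm), (centralizer (L : Set G)).inv_mem (h hm)⟩

theorem exists_orbit_pairs (hD : Cfsg.IsThreeTranspositionGroup D) {d : G} (hd : d ∈ D)
    (L : Subgroup G) [L.Normal] (hL : Cfsg.IsQuasisimple L)
    (hcomp : Cfsg.IsComponent L) (hne : ¬ ∀ x ∈ L, Commute d x) :
    (∃ x ∈ L, x * d * x⁻¹ ≠ d ∧ Commute (x * d * x⁻¹) d) ∧
      ∃ x ∈ L, ¬ Commute (x * d * x⁻¹) d := by
  constructor
  · by_contra h
    refine hne fun x hx => commute_of_orbit_noncomm hD hd (Subgroup.isPerfect_iff.1 hL.1) hcomp.1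
      (Subgroup.normalizer_eq_top L ▸ mem_top d)
      (fun R hR hs => CfsgLib.Comp.component_le_centralizer_of_isSolvable hcomp hR hs)
      (fun y hy => or_iff_not_imp_left.2 fun hyd hc => h ⟨y, hy, hyd, hc⟩) hx
  · by_contra h
    have hall : ∀ x ∈ L, Commute (x * d * x⁻¹) d := fun x hx =>
      not_not.1 fun hc => h ⟨x, hx, hc⟩
    have hle := (orbit_dichotomy hD hd L hL).resolve_left hne
    have hpair : ∀ u ∈ L, ∀ v ∈ L, Commute (u * d * u⁻¹) (v * d * v⁻¹) := fun u hu v hv => by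
      have h1 := commute_conj_iff u (u⁻¹ * v * d * (u⁻¹ * v)⁻¹) d
      have h2 := h1.2 (hall _ (mul_mem (inv_mem hu) hv))
      rw [show u * (u⁻¹ * v * d * (u⁻¹ * v)⁻¹) * u⁻¹ = v * d * v⁻¹ by group] at h2
      exact h2.symm
    refine CfsgLib.Comp.not_le_center_of_isQuasisimple hL fun x hx => ?_
    rw [mem_centralizer_iff]
    intro y hy
    refine (commute_closure ?_ (hle hy) (hle hx)).eq
    rintro _ ⟨u, hu, rfl⟩ _ ⟨v, hv, rfl⟩
    exact ((hpair u hu v hv).mul_right (hall u hu)).mul_left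
      ((hall v hv).symm.mul_right (Commute.refl d))

theorem not_centralizes (hD : Cfsg.IsThreeTranspositionClass D) {L : Subgroup G} [L.Normal]
    (hL : Cfsg.IsQuasisimple L) {d : G} (hd : d ∈ D) : ¬ ∀ x ∈ L, Commute d x := by
  intro h
  refine CfsgLib.Comp.not_le_center_of_isQuasisimple hL ?_
  refine (le_center_of_commute_class hD.2.2 fun x hx e he => ?_).trans (center_le_centralizer _)
  obtain ⟨g, rfl⟩ := class_exists_conj hD hd he
  have := (h _ ((inferInstance : L.Normal).conj_mem x hx g⁻¹)).map (MulAut.conj g).toMonoidHom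
  simpa [mul_assoc] using this

theorem component_normalized (hD : Cfsg.IsThreeTranspositionGroup D) {L : Subgroup G}
    (hL : Cfsg.IsComponent L) {d : G} (hd : d ∈ D) :
    L.map (MulAut.conj d).toMonoidHom = L := by
  by_contra hne
  have hcen := (CfsgLib.Comp.component_eq_or_le_centralizer
    (CfsgLib.Comp.isComponent_map_conj hL d) hL).resolve_left hne
  haveI : IsSimpleGroup (L ⧸ center L) := hL.2.2
  refine CfsgLib.Comp.not_isMulCommutative_central_quotient hL.2 ⟨⟨fun u v => ?_⟩⟩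
  have htop : center (L ⧸ center L) = ⊤ := isCommutative_of_sq_or_cube fun q => by
    obtain ⟨⟨x, hx⟩, rfl⟩ := QuotientGroup.mk_surjective q
    have hyM : d * x⁻¹ * d⁻¹ ∈ L.map (MulAut.conj d).toMonoidHom := ⟨x⁻¹, inv_mem hx, rfl⟩
    have hxy : Commute x (d * x⁻¹ * d⁻¹) := mem_centralizer_iff.1 (hcen hyM) x hx
    have hk : ∀ k : ℕ, (x * d * x⁻¹ * d⁻¹) ^ k = 1 →
        ((⟨x, hx⟩ : L) : L ⧸ center L) ^ k = 1 := by
      intro k hk
      rw [show x * d * x⁻¹ * d⁻¹ = x * (d * x⁻¹ * d⁻¹) by group, hxy.mul_pow] at hk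
      rw [← QuotientGroup.mk_pow, QuotientGroup.eq_one_iff, mem_center_iff]
      intro z
      refine Subtype.ext ?_
      show (z : G) * x ^ k = x ^ k * z
      rw [eq_inv_of_mul_eq_one_left hk]
      exact mem_centralizer_iff.1 (hcen (inv_mem (pow_mem hyM k))) z z.2
    rcases hD.1.2 _ (conj_mem hD (g := x) hd) d hd with h | h
    · exact Or.inl (hk 2 (by rwa [inv_eq hD.1 hd]))
    · exact Or.inr (hk 3 (by rwa [inv_eq hD.1 hd]))
  exact mem_center_iff.1 (htop ▸ mem_top v) u

theorem component_normal (hD : Cfsg.IsThreeTranspositionGroup D) {L : Subgroup G}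
    (hL : Cfsg.IsComponent L) : L.Normal := by
  refine CfsgLib.Comp.normal_of_top_le_normalizer ?_
  rw [← hD.2.2, closure_le]
  exact fun d hd => CfsgLib.Comp.map_conj_eq_iff.1 (component_normalized hD hL hd)

theorem component_unique (hD : Cfsg.IsThreeTranspositionClass D) {L M : Subgroup G}
    (hL : Cfsg.IsComponent L) (hM : Cfsg.IsComponent M) : L = M := by
  by_contra hne
  have hG := class_isGroup hD
  obtain ⟨d, hd, -⟩ := hD.2.1
  haveI := component_normal hG hL
  haveI := component_normal hG hM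
  obtain ⟨⟨x, hx, hxd, hxc⟩, -⟩ :=
    exists_orbit_pairs hG hd L hL.2 hL (not_centralizes hD hL.2 hd)
  obtain ⟨-, y, hy, hyc⟩ := exists_orbit_pairs hG hd M hM.2 hM (not_centralizes hD hM.2 hd)
  have hcen := (CfsgLib.Comp.component_eq_or_le_centralizer hL hM).resolve_left hne
  have hdd := sq_one hD.1 hd
  have hz : x * d * x⁻¹ * d ∈ L :=
    conj_mul_self_mem hdd (Subgroup.normalizer_eq_top L ▸ mem_top d) hx
  have hz' : y * d * y⁻¹ * d ∈ M :=
    conj_mul_self_mem hdd (Subgroup.normalizer_eq_top M ▸ mem_top d) hy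
  have hxz : Commute x (y * d * y⁻¹ * d) := (mem_centralizer_iff.1 (hcen hx) _ hz').symm
  have hzz : Commute (y * d * y⁻¹ * d) (x * d * x⁻¹ * d) := mem_centralizer_iff.1 (hcen hz) _ hz'
  have hprod : x * y * d * (x * y)⁻¹ * d = (y * d * y⁻¹ * d) * (x * d * x⁻¹ * d) := by
    calc x * y * d * (x * y)⁻¹ * d = x * ((y * d * y⁻¹) * (d * d)) * x⁻¹ * d := by
          rw [hdd]; group
      _ = (x * (y * d * y⁻¹ * d)) * d * x⁻¹ * d := by group
      _ = _ := by rw [hxz.eq]; group
  have hdx : x * d * x⁻¹ ∈ D := class_conj_mem hD x hd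
  have hdy : y * d * y⁻¹ ∈ D := class_conj_mem hD y hd
  have hz2 := (commute_iff_pow_two hD.1 hdx hd).1 hxc
  have hz3 := pow_three hD.1 hdy hd hyc
  rcases hD.1.2 _ (class_conj_mem hD (x * y) hd) d hd with h | h
  · rw [hprod, hzz.mul_pow, hz2, mul_one] at h
    exact hyc ((commute_iff_pow_two hD.1 hdy hd).2 h)
  · rw [hprod, hzz.mul_pow, hz3, one_mul] at h
    exact hxd (by rw [eq_inv_of_mul_eq_one_left (eq_one_of_sq_cube hz2 h), inv_eq hD.1 hd])

theorem exists_quasisimple (hD : Cfsg.IsThreeTranspositionClass D)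
    (hD2 : ∃ a ∈ D, ∃ b ∈ D, a ≠ b)
    (h2 : Cfsg.pCore 2 G ≤ center G) (h3 : Cfsg.pCore 3 G ≤ center G) :
    ∃ L : Subgroup G, L.Normal ∧ Cfsg.IsQuasisimple L ∧
      Cfsg.generalizedFittingSubgroup G = L ⊔ center G := by
  have hG := class_isGroup hD
  obtain ⟨L, hL⟩ : ∃ L : Subgroup G, Cfsg.IsComponent L := by
    by_contra h
    exact layer_ne_bot hD hD2 h2 h3 (le_bot_iff.1 (sSup_le fun L hL => absurd ⟨L, hL⟩ h))
  refine ⟨L, component_normal hG hL, hL.2, ?_⟩
  have hlayer : Cfsg.layer G = L :=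
    le_antisymm (sSup_le fun M hM => (component_unique hD hM hL).le) (CfsgLib.Comp.le_layer hL)
  have hFit : Cfsg.fittingSubgroup G = center G := by
    refine le_antisymm (fitting_le_center hG h2 h3) ?_
    exact CfsgLib.Comp.le_fittingSubgroup_of_abelian (inferInstance : (center G).Normal).isSubnormal
      (center_le_centralizer _)
  show Cfsg.layer G ⊔ Cfsg.fittingSubgroup G = _
  rw [hlayer, hFit]

theorem centralizer_le_center (hD : Cfsg.IsThreeTranspositionGroup D)
    (h2 : Cfsg.pCore 2 G ≤ center G) (h3 : Cfsg.pCore 3 G ≤ center G) {L : Subgroup G}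
    (hF : Cfsg.generalizedFittingSubgroup G = L ⊔ center G) :
    centralizer (L : Set G) ≤ center G := by
  intro x hx
  refine fitting_le_center hD h2 h3 (CfsgLib.Comp.centralizer_generalizedFitting_le_fitting G ?_)
  rw [hF]
  exact (CfsgLib.Comp.le_centralizer_sup (zpowers_le.2 hx)
    (zpowers_le.2 (mem_centralizer_iff.2 fun z hz => (mem_center_iff.1 hz x).symm)))
    (mem_zpowers x)

/-- Two members with commutator in `L` are congruent modulo `L`. -/
theorem congr_mod_component (hD : Cfsg.IsThreeTranspositionClass D) (L : Subgroup G) [L.Normal]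
    (hL : Cfsg.IsQuasisimple L) {a b : G} (ha : a ∈ D) (hb : b ∈ D)
    (h : a * b * a⁻¹ * b⁻¹ ∈ L) : a⁻¹ * b ∈ L := by
  by_contra hn
  have hG := class_isGroup hD
  rw [inv_eq hD.1 ha] at hn
  have hsq : (a * b) ^ 2 ∈ L := by
    rw [inv_eq hD.1 ha, inv_eq hD.1 hb] at h
    simpa [pow_two, mul_assoc] using h
  have key : ∀ x ∈ L, Commute (x * a * x⁻¹) b := by
    intro x hx
    by_contra hc
    apply hn
    have ha' := class_conj_mem hD x ha
    have hq : ((x * a * x⁻¹ * b : G) : G ⧸ L) = ((a * b : G) : G ⧸ L) := by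
      simp [QuotientGroup.mk_mul, (QuotientGroup.eq_one_iff x).2 hx,
        (QuotientGroup.eq_one_iff x⁻¹).2 (inv_mem hx)]
    refine (QuotientGroup.eq_one_iff _).1 (eq_one_of_sq_cube ?_ ?_ : ((a * b : G) : G ⧸ L) = 1)
    · rw [← QuotientGroup.mk_pow]; exact (QuotientGroup.eq_one_iff _).2 hsq
    · rw [← hq, ← QuotientGroup.mk_pow, pow_three hD.1 ha' hb hc, QuotientGroup.mk_one]
  have hab : Commute a b := by simpa using key 1 (one_mem L)
  have hle := (orbit_dichotomy hG ha L hL).resolve_left (not_centralizes hD hL ha)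
  refine not_centralizes hD hL hb fun x hx => ?_
  have h1 : closure {z | ∃ x ∈ L, z = x * a * x⁻¹ * a} ≤ centralizer ({b} : Set G) := by
    rw [closure_le]
    rintro _ ⟨u, hu, rfl⟩
    exact mem_centralizer_singleton_iff.2 ((key u hu).mul_left hab)
  exact (mem_centralizer_singleton_iff.1 (h1 (hle hx)) : x * b = b * x).symm

end CfsgLib.Trans3
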