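import Cfsg.Agent.Lib.Trans3.ConwayModel

/-!
Existence of the coordinates in the Conway-type configuration.
-/

set_option autoImplicit false

namespace CfsgLib.Trans3.Conway

open ExtraTwo Subgroup

variable {G : Type*} [Group G] [Finite G]

omit [Finite G] in
theorem ite_mul_z {z a c : G} (hz2 : z * z = 1) (hzc : a * z = z * a) {p q : ZMod 2}
    (h1 : a = if p = 0 then 1 else z) (h2 : c = if q = 0 then 1 else z) :
    a * c = if p + q = 0 then 1 else z := by
  rcases z2_cases p with rfl | rfl <;> rcases z2_cases q with rfl | rfl <;>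
    simp_all [z2_two]

theorem exists_cfg {z : G} (hz : orderOf z = 2) {Q : Subgroup G}
    (hQH : Q ≤ centralizer ({z} : Set G))
    (hnorm : ∀ c ∈ centralizer ({z} : Set G), ∀ a ∈ Q, c * a * c⁻¹ ∈ Q)
    (self : centralizer (Q : Set G) ≤ Q) (es : Cfsg.IsExtraspecial 2 Q)
    (hzQ : z ∈ Q) (hQc : Nat.card Q = 512) {b : G} (hb : orderOf b = 5) (hbz : b * z = z * b)
    (hR : Cfsg.IsExtraspecial 2 ↥(Q ⊓ centralizer ({b} : Set G)))
    (hRc : Nat.card ↥(Q ⊓ centralizer ({b} : Set G)) = 32)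
    (hRA : ∀ A : Subgroup G, A ≤ Q ⊓ centralizer ({b} : Set G) →
      Cfsg.IsElementaryAbelian 2 A → Nat.card A ≤ 4)
    (fus : ∃ g : G, g * z * g⁻¹ ∈ Q ∧ g * z * g⁻¹ ≠ z)
    (quot : ∃ π : ↥(centralizer ({z} : Set G)) →* ↥Om,
      Function.Surjective π ∧ π.ker = Q.subgroupOf (centralizer ({z} : Set G))) :
    ∃ u : G → Vv, Cfg z b Q u := by
  classical
  haveI : Fact (Nat.Prime 2) := ⟨Nat.prime_two⟩
  set R := Q ⊓ centralizer ({b} : Set G) with hRdef
  have hz1 : z ≠ 1 := fun h => by rw [h, orderOf_one] at hz; norm_num at hz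
  have hz2 : z * z = 1 := by rw [← pow_two, ← hz, pow_orderOf_eq_one]
  have hzc : ∀ a ∈ Q, a * z = z * a := fun a ha => mem_centralizer_singleton_iff.1 (hQH ha)
  -- the centre of `Q`
  have cen : (center Q).map Q.subtype = zpowers z := by
    obtain ⟨z', hz', hz'Q, hz'c, hZ⟩ := exists_centre_gen es
    have hzmem : z ∈ (center Q).map Q.subtype :=
      ⟨⟨z, hzQ⟩, Subgroup.mem_center_iff.2 fun q => Subtype.ext (hzc q.1 q.2), rfl⟩
    rw [hZ] at hzmem ⊢
    rcases mem_zpowers_invol hz' hzmem with e | e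
    · exact absurd e hz1
    · rw [e]
  have hcases : ∀ a ∈ Q, ∀ c ∈ Q, a * c = c * a ∨ a * c = z * (c * a) := fun a ha c hc => by
    rcases LargeSymm.comm_cases es hz cen ha hc with e | e
    · exact Or.inl (mul_inv_eq_iff_eq_mul.1 e)
    · exact Or.inr (by rw [← mul_assoc]; exact mul_inv_eq_iff_eq_mul.1 e)
  -- `R`
  have hzR : z ∈ R := ⟨hzQ, mem_centralizer_singleton_iff.2 hbz.symm⟩
  obtain ⟨eR⟩ : Nonempty (↥R ≃* ES 2 tM) := by
    rcases iso_model hR 1 (by rw [hRc]; norm_num) with e | e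
    · obtain ⟨e⟩ := e
      obtain ⟨A, hA, hAc⟩ := has_congr e.symm (plus_has 2)
      have h1 := hRA (A.map R.subtype) (map_subtype_le A) (by
        refine ⟨⟨⟨?_⟩⟩, ?_⟩
        · rintro ⟨_, a, ha, rfl⟩ ⟨_, c, hc, rfl⟩
          exact Subtype.ext (congrArg (R.subtype)
            (congrArg Subtype.val (hA.1.is_comm.comm ⟨a, ha⟩ ⟨c, hc⟩)))
        · rintro _ ⟨a, ha, rfl⟩
          rw [← map_pow, hA.2 a ha, map_one])
      rw [Nat.card_congr (A.equivMapOfInjective R.subtype R.subtype_injective).toEquiv.symm, hAc] at h1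
      norm_num at h1
    · exact e
  obtain ⟨uR, SR⟩ := half_of_iso hzR hz (fun a ha => hzc a ha.1) eR
  -- `P`
  let P : Subgroup G := Q ⊓ centralizer (R : Set G)
  have hPdef : ∀ a, a ∈ P ↔ a ∈ Q ∧ ∀ c ∈ R, a * c = c * a := fun a => by
    show a ∈ Q ∧ a ∈ centralizer (R : Set G) ↔ _
    rw [mem_centralizer_iff]
    exact ⟨fun h => ⟨h.1, fun c hc => (h.2 c hc).symm⟩, fun h => ⟨h.1, fun c hc => (h.2 c hc).symm⟩⟩
  have hsplit : ∀ a ∈ Q, ∃ r ∈ R, r⁻¹ * a ∈ P := fun a ha => by
    obtain ⟨r, hr, h⟩ := SR.exists_split (hzc a ha) fun c hc => hcases a ha c hc.1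
    exact ⟨r, hr, (hPdef _).2 ⟨mul_mem (inv_mem hr.1) ha, h⟩⟩
  have hint : ∀ a, a ∈ R → a ∈ P → a = 1 ∨ a = z := fun a haR haP => by
    refine (SR.ker a haR).1 (alt_nondeg' fun w => ?_)
    obtain ⟨c, hc, rfl⟩ := SR.surj w
    have h := SR.com a haR c hc
    rw [((hPdef a).1 haP).2 c hc] at h
    rcases z2_cases (alt (uR a) (uR c)) with e | e
    · exact e
    · rw [e, if_neg one_ne_zero] at h
      exact absurd (mul_eq_right.1 h.symm) hz1
  have hzP : z ∈ P := (hPdef z).2 ⟨hzQ, fun c hc => (hzc c hc.1).symm⟩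
  have hPc : Nat.card P = 32 :=
    exists_half_prod inf_le_left inf_le_left hPdef hsplit hz1 hint hzR hzP hQc hRc
  have hPne : P ≠ zpowers z := fun h => by rw [h, Nat.card_zpowers, hz] at hPc; omega
  have hPes : Cfsg.IsExtraspecial 2 P :=
    LargeSymm.extraspecial_sub es hz cen inf_le_left hzP (fun a ha hcom => by
      rw [← cen]
      refine ⟨⟨a, ha.1⟩, Subgroup.mem_center_iff.2 fun q => Subtype.ext ?_, rfl⟩
      obtain ⟨r, hr, hp⟩ := hsplit q.1 q.2
      show q.1 * a = a * q.1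
      have h1 := ((hPdef a).1 ha).2 r hr
      have h2 := hcom _ hp
      calc q.1 * a = r * (r⁻¹ * q.1 * a) := by group
        _ = r * a * (r⁻¹ * q.1) := by rw [h2]; group
        _ = a * q.1 := by rw [← h1]; group) hPne
  have hb5 : b ^ 5 = 1 := by rw [← hb, pow_orderOf_eq_one]
  have hbz' : b * z * b⁻¹ = z := by rw [hbz]; group
  -- `b` acts without fixed points on `P` modulo `z`
  have hfix : ∀ a ∈ P, b * a * b⁻¹ = a → a = 1 ∨ a = z := fun a ha h =>
    hint a ⟨ha.1, mem_centralizer_singleton_iff.2 (mul_inv_eq_iff_eq_mul.1 h).symm⟩ ha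
  have hfixz : ∀ a ∈ P, b * a * b⁻¹ = a * z → False := fun a _ h => by
    have step : ∀ n : ℕ, b ^ n * a * (b ^ n)⁻¹ = a * z ^ n := by
      intro n
      induction n with
      | zero => simp
      | succ n ih =>
        have hzn : b * z ^ n * b⁻¹ = z ^ n := by rw [← conj_pow, hbz']
        calc b ^ (n + 1) * a * (b ^ (n + 1))⁻¹ = b * (b ^ n * a * (b ^ n)⁻¹) * b⁻¹ := by
              rw [pow_succ']; group
          _ = (b * a * b⁻¹) * (b * z ^ n * b⁻¹) := by rw [ih]; group
          _ = a * z ^ (n + 1) := by rw [h, hzn, pow_succ', mul_assoc]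
    have h5 := step 5
    rw [hb5, one_mul, inv_one, mul_one, show z ^ 5 = z ^ 2 * z ^ 2 * z by group,
      pow_two, hz2, one_mul, one_mul] at h5
    exact hz1 (mul_eq_left.1 h5.symm)
  have hbC : b ∈ centralizer ({z} : Set G) := mem_centralizer_singleton_iff.2 hbz
  have hPn : ∀ c, c * z = z * c → c * b = b * c → ∀ a ∈ P, c * a * c⁻¹ ∈ P := by
    intro c hcz hcb a ha
    refine (hPdef _).2 ⟨hnorm c (mem_centralizer_singleton_iff.2 hcz) a ha.1, fun r hr => ?_⟩
    have hr' : c⁻¹ * r * c ∈ R := by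
      refine ⟨?_, mem_centralizer_singleton_iff.2 ?_⟩
      · have := hnorm c⁻¹ (inv_mem (mem_centralizer_singleton_iff.2 hcz)) r hr.1
        rwa [inv_inv] at this
      · have h1 : Commute c b := hcb
        have h2 : Commute r b := mem_centralizer_singleton_iff.1 hr.2
        exact ((h1.inv_left.mul_left h2).mul_left h1).eq
    have h := ((hPdef a).1 ha).2 _ hr'
    calc c * a * c⁻¹ * r = c * (a * (c⁻¹ * r * c)) * c⁻¹ := by group
      _ = r * (c * a * c⁻¹) := by rw [h]; group
  obtain ⟨eP⟩ : Nonempty (↥P ≃* ES 2 tM) := by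
    rcases iso_model hPes 1 (by rw [hPc]; norm_num) with e | e
    · obtain ⟨e⟩ := e
      exfalso
      refine not_plus hb5 (fun a => ⟨fun h => ?_, fun h => hPn b hbz rfl a h⟩) hfix hfixz hzP
        (fun a ha => hzc a ha.1) e fun x hx => ?_
      · have := hPn b⁻¹ (Commute.inv_left (show Commute b z from hbz)).eq
          (Commute.inv_left (Commute.refl b)).eq _ h
        rwa [inv_inv, show b⁻¹ * (b * a * b⁻¹) * b = a by group] at this
      · have hc : ∀ y : P, y * e.symm x = e.symm x * y := fun y => e.injective (by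
          rw [map_mul, map_mul, e.apply_symm_apply]
          exact Subgroup.mem_center_iff.1 ((mem_center_iff _ x).2 hx) _)
        have hmem : (e.symm x).1 ∈ zpowers z := by
          rw [← cen]
          refine ⟨⟨(e.symm x).1, (e.symm x).2.1⟩, Subgroup.mem_center_iff.2 fun q => Subtype.ext ?_, rfl⟩
          obtain ⟨r, hr, hp⟩ := hsplit q.1 q.2
          have h1 := ((hPdef _).1 (e.symm x).2).2 r hr
          have h2 : r⁻¹ * q.1 * (e.symm x).1 = (e.symm x).1 * (r⁻¹ * q.1) :=
            congrArg Subtype.val (hc ⟨_, hp⟩)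
          show q.1 * (e.symm x).1 = (e.symm x).1 * q.1
          calc q.1 * (e.symm x).1 = r * (r⁻¹ * q.1 * (e.symm x).1) := by group
            _ = r * (e.symm x).1 * (r⁻¹ * q.1) := by rw [h2]; group
            _ = (e.symm x).1 * q.1 := by rw [← h1]; group
        exact mem_zpowers_invol hz hmem
    · exact e
  obtain ⟨uP, SP⟩ := half_of_iso hzP hz (fun a ha => hzc a ha.1) eP
  -- the coordinates
  choose r hr hp using hsplit
  let u : G → Vv := fun a => if h : a ∈ Q then (uR (r a h), uP ((r a h)⁻¹ * a)) else 0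
  have uniq : ∀ {a r' p' : G}, a ∈ Q → r' ∈ R → p' ∈ P → a = r' * p' → u a = (uR r', uP p') := by
    intro a r' p' ha hr' hp' e
    simp only [u, dif_pos ha]
    have h1 : (r a ha)⁻¹ * r' = ((r a ha)⁻¹ * a) * p'⁻¹ := by
      rw [mul_assoc, show a * p'⁻¹ = r' from mul_inv_eq_iff_eq_mul.2 e]
    have h2 := hint _ (mul_mem (inv_mem (hr a ha)) hr') (h1 ▸ mul_mem (hp a ha) (inv_mem hp'))
    rcases h2 with h2 | h2
    · have e1 : r a ha = r' := inv_mul_eq_one.1 h2
      rw [e1, e]
      simp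
    · have e1 : r' = r a ha * z := inv_mul_eq_iff_eq_mul.1 h2
      have e2 : (r a ha)⁻¹ * a = z * p' := (congrArg ((r a ha)⁻¹ * ·) e).trans (by rw [e1]; group)
      refine Prod.ext ?_ ?_
      · show uR (r a ha) = uR r'
        rw [e1, SR.add _ (hr a ha) _ hzR, (SR.ker z hzR).2 (Or.inr rfl), add_zero]
      · show uP ((r a ha)⁻¹ * a) = uP p'
        rw [e2, SP.add _ hzP _ hp', (SP.ker z hzP).2 (Or.inr rfl), zero_add]
  have hue : ∀ a (ha : a ∈ Q), u a = (uR (r a ha), uP ((r a ha)⁻¹ * a)) := fun a ha => dif_pos ha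
  have swap : ∀ r' ∈ R, ∀ p' ∈ P, p' * r' = r' * p' := fun r' hr' p' hp' => ((hPdef p').1 hp').2 r' hr'
  refine ⟨u,
    { hz := hz, hQH := hQH, hnorm := hnorm, hzQ := hzQ, self := self, es := es, cen := cen
      hQc := hQc, hb := hb, hbz := hbz, fus := fus, quot := quot
      add := fun a ha c hc => ?_, ker := fun a ha => ?_, surj := fun v => ?_
      sq := fun a ha => ?_, com := fun a ha c hc => ?_, fixb := fun a ha => ?_ }⟩
  · rw [uniq (mul_mem ha hc) (mul_mem (hr a ha) (hr c hc)) (mul_mem (hp a ha) (hp c hc)) (by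
      calc a * c = r a ha * (((r a ha)⁻¹ * a) * r c hc) * ((r c hc)⁻¹ * c) := by group
        _ = _ := by rw [swap _ (hr c hc) _ (hp a ha)]; group), hue a ha, hue c hc,
      SR.add _ (hr a ha) _ (hr c hc), SP.add _ (hp a ha) _ (hp c hc)]
    rfl
  · rw [hue a ha]
    constructor
    · intro h
      have h1 := (SR.ker _ (hr a ha)).1 (congrArg Prod.fst h :)
      have h2 := (SP.ker _ (hp a ha)).1 (congrArg Prod.snd h :)
      rcases h1 with e1 | e1 <;> rcases h2 with e2 | e2 <;>
        rw [inv_mul_eq_iff_eq_mul, e1] at e2 <;> simp [e2, hz2]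
    · rintro (h | h) <;> rw [← hue _ ha]
      · rw [uniq ha R.one_mem P.one_mem (by rw [one_mul]; exact h), SR.one, SP.one]; rfl
      · rw [uniq ha R.one_mem hzP (by rw [one_mul]; exact h), SR.one, (SP.ker z hzP).2 (Or.inr rfl)]; rfl
  · obtain ⟨r', hr', e1⟩ := SR.surj v.1
    obtain ⟨p', hp', e2⟩ := SP.surj v.2
    exact ⟨r' * p', mul_mem hr'.1 hp'.1, by
      rw [uniq (mul_mem hr'.1 hp'.1) hr' hp' rfl, e1, e2]⟩
  · rw [hue a ha]
    have h1 := SR.sq _ (hr a ha)
    have h2 := SP.sq _ (hp a ha)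
    have := ite_mul_z hz2 (hzc _ (mul_mem (hr a ha).1 (hr a ha).1)) h1 h2
    rw [qv]
    refine Eq.trans ?_ this
    calc a * a = r a ha * (((r a ha)⁻¹ * a) * r a ha) * ((r a ha)⁻¹ * a) := by group
      _ = _ := by rw [swap _ (hr a ha) _ (hp a ha)]; group
  · rw [hue a ha, hue c hc]
    have h1 := SR.com _ (hr a ha) _ (hr c hc)
    have h2 := SP.com _ (hp a ha) _ (hp c hc)
    rw [bV]
    set ra := r a ha
    set rc := r c hc
    set pa := ra⁻¹ * a with hpa
    set pc := rc⁻¹ * c with hpc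
    have ea : a = ra * pa := by rw [hpa]; group
    have ec : c = rc * pc := by rw [hpc]; group
    have s1 := swap rc (hr c hc) pa (hp a ha)
    have s2 := swap ra (hr a ha) pc (hp c hc)
    have hc1 : a * c = (ra * rc) * (pa * pc) := by
      rw [ea, ec]
      calc ra * pa * (rc * pc) = ra * (pa * rc) * pc := by group
        _ = _ := by rw [s1]; group
    have hc2 : c * a = (rc * ra) * (pc * pa) := by
      rw [ea, ec]
      calc rc * pc * (ra * pa) = rc * (pc * ra) * pa := by group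
        _ = _ := by rw [s2]; group
    have hzr : rc * ra * z = z * (rc * ra) := hzc _ (mul_mem (hr c hc).1 (hr a ha).1)
    rw [hc1, hc2, h1, h2]
    rcases z2_cases (alt (uR ra) (uR rc)) with e1 | e1 <;>
      rcases z2_cases (alt (uP pa) (uP pc)) with e2 | e2 <;>
      simp only [e1, e2, z2_two, add_zero, zero_add, one_ne_zero, if_true, if_false, if_pos]
    · rw [← mul_assoc, hzr, mul_assoc]
    · rw [mul_assoc z]
    · calc z * (rc * ra) * (z * (pc * pa)) = z * (rc * ra * z) * (pc * pa) := by group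
        _ = _ := by rw [hzr, ← mul_assoc z z, hz2, one_mul]
  · rw [hue a ha]
    show _ ↔ uP ((r a ha)⁻¹ * a) = 0
    rw [SP.ker _ (hp a ha)]
    have hrb : r a ha * b = b * r a ha := mem_centralizer_singleton_iff.1 (hr a ha).2
    constructor
    · intro h
      refine hint _ ⟨(hp a ha).1, mem_centralizer_singleton_iff.2 ?_⟩ (hp a ha)
      exact ((show Commute (r a ha) b from hrb).inv_left.mul_left h).eq
    · intro h
      have e : a = r a ha * ((r a ha)⁻¹ * a) := by group
      rcases h with h | h <;> rw [h] at e <;> rw [e]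
      · rw [mul_one, hrb]
      · exact ((show Commute (r a ha) b from hrb).mul_left (show Commute z b from hbz.symm)).eq

end CfsgLib.Trans3.Conway
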