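import Cfsg.Agent.Lib.Trans3.ConwayTau

/-!
The `A5` centralizing `Q ∩ C(b)`, the element `w` and the centralizer of `z` and `b` with trivial
action on the moved summand.
-/

set_option autoImplicit false

namespace CfsgLib.Trans3.Conway

open ExtraTwo Subgroup CfsgLib.Trans3.LargeSymm
open scoped commutatorElement

variable {G : Type*} [Group G] [Finite G]

namespace Cfg

variable {z b : G} {Q : Subgroup G} {u : G → Vv} (S : Cfg z b Q u)
include S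

variable {gs w : G}

/-- The centralizer of `z, x, a₁, a₂, w`. -/
noncomputable def D3 (w : G) : Subgroup G :=
  centralizer ({z, S.xx, S.a1, S.a2, w} : Set G)

theorem mem_D3 {w d : G} : d ∈ S.D3 w ↔ d * z = z * d ∧ d * S.xx = S.xx * d ∧
    d * S.a1 = S.a1 * d ∧ d * S.a2 = S.a2 * d ∧ d * w = w * d := by
  rw [D3, mem_centralizer_iff]
  simp only [Set.mem_insert_iff, Set.mem_singleton_iff, forall_eq_or_imp, forall_eq]
  constructor
  · rintro ⟨a, c, d', e, f⟩; exact ⟨a.symm, c.symm, d'.symm, e.symm, f.symm⟩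
  · rintro ⟨a, c, d', e, f⟩; exact ⟨a.symm, c.symm, d'.symm, e.symm, f.symm⟩

theorem D3_rx {d p : G} (hd : d ∈ S.D3 w) (hp : S.Rx p) : d * p = p * d := by
  obtain ⟨h1, h2, h3, h4, -⟩ := S.mem_D3.1 hd
  exact (mem_centralizer_singleton_iff.1 (S.rx_le (T := centralizer ({d} : Set G))
    (mem_centralizer_singleton_iff.2 h1.symm) (mem_centralizer_singleton_iff.2 h2.symm)
    (mem_centralizer_singleton_iff.2 h3.symm) (mem_centralizer_singleton_iff.2 h4.symm) hp)).symm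

section Frame

variable (F : S.Frame gs w)
include F

/-- The elements of `C(b)` in `R` are products from `Q ∩ C(x)` and its image under `w`. -/
theorem R_decomp {y : G} (hy : y ∈ Q ⊔ Q.map (MulAut.conj gs).toMonoidHom)
    (hyz : y * z = z * y) (hyx : y * S.xx = S.xx * y) (hyb : y * b = b * y) :
    ∃ p p', S.Rx p ∧ S.Rx p' ∧ y = p * (w * p' * w⁻¹) := by
  classical
  have P := S.pair F.gz
  set Q' := Q.map (MulAut.conj gs).toMonoidHom with hQ'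
  set X := Q ⊔ Q' with hX
  set V := closure ({z, S.xx} : Set G) with hV
  set Px := Q' ⊓ centralizer ({z} : Set G) with hPx
  set Pz := Q ⊓ centralizer ({S.xx} : Set G) with hPz
  obtain ⟨hRX, -, -, -, -, -, -, -⟩ := P.X_structure V X (Px ⊔ Pz) rfl rfl rfl
  have hEin : ∀ e, e ∈ Q → e ∈ Q' → e ∈ Px ∧ e ∈ Pz := fun e he he' =>
    ⟨⟨he', mem_centralizer_singleton_iff.2 (S.zc he)⟩,
      ⟨he, mem_centralizer_singleton_iff.2 (P.conj_le_cx he')⟩⟩
  have hswap : ∀ p ∈ Pz, ∀ q ∈ Px, p⁻¹ * q * p * q⁻¹ ∈ Px := fun p hp q hq => by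
    have h := P.comm_E (a := p⁻¹) (b := q) (inv_mem hp) hq
    rw [inv_inv] at h
    exact (hEin _ h.1 h.2).1
  let T : Subgroup G :=
    { carrier := {y | ∃ p ∈ Pz, ∃ q ∈ Px, y = p * q}
      one_mem' := ⟨1, one_mem _, 1, one_mem _, (one_mul 1).symm⟩
      mul_mem' := by
        rintro _ _ ⟨p, hp, q, hq, rfl⟩ ⟨p', hp', q', hq', rfl⟩
        exact ⟨p * p', mul_mem hp hp', p'⁻¹ * q * p' * q⁻¹ * (q * q'),
          mul_mem (hswap p' hp' q hq) (mul_mem hq hq'), by group⟩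
      inv_mem' := by
        rintro _ ⟨p, hp, q, hq, rfl⟩
        exact ⟨p⁻¹, inv_mem hp, p * q⁻¹ * p⁻¹ * q * q⁻¹, mul_mem (by
          have h := hswap p⁻¹ (inv_mem hp) q⁻¹ (inv_mem hq)
          rwa [inv_inv, inv_inv] at h) (inv_mem hq), by group⟩ }
  have hle : Px ⊔ Pz ≤ T := sup_le (fun q hq => ⟨1, one_mem _, q, hq, (one_mul q).symm⟩)
    (fun p hp => ⟨p, hp, 1, one_mem _, (mul_one p).symm⟩)
  have hyR : y ∈ Px ⊔ Pz := by
    rw [hRX]
    refine ⟨hy, ?_⟩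
    show y ∈ centralizer (V : Set G)
    rw [hV, centralizer_closure, mem_centralizer_iff]
    rintro v (rfl | rfl)
    exacts [hyz.symm, hyx.symm]
  obtain ⟨p, hp, q, hq, rfl⟩ := hle hyR
  -- both factors commute with `b`
  have hbp : b * p * b⁻¹ ∈ Q := S.conj_mem S.b_mem hp.1
  have hbq : b * q * b⁻¹ ∈ Q' := by
    obtain ⟨c, hc, rfl⟩ := hq.1
    refine ⟨b * c * b⁻¹, S.conj_mem S.b_mem hc, ?_⟩
    show gs * (b * c * b⁻¹) * gs⁻¹ = b * (gs * c * gs⁻¹) * b⁻¹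
    rw [show gs * (b * c * b⁻¹) * gs⁻¹ = (gs * b) * c * (gs * b)⁻¹ by group, F.gb]
    group
  have hpq : b * p * b⁻¹ * (b * q * b⁻¹) = p * q := by
    rw [show b * p * b⁻¹ * (b * q * b⁻¹) = b * (p * q) * b⁻¹ by group, ← hyb]
    group
  set e := p⁻¹ * (b * p * b⁻¹) with he
  have he' : e = q * (b * q * b⁻¹)⁻¹ := by
    rw [he, eq_mul_inv_iff_mul_eq, mul_assoc, hpq]; group
  have hec : e = 1 ∨ e = z ∨ e = S.xx ∨ e = z * S.xx := S.E_cases F (mul_mem (inv_mem hp.1) hbp) (by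
    show e ∈ Q'
    rw [he']
    exact mul_mem hq.1 (inv_mem hbq))
  have hee : e * e = 1 ∧ b * e * b⁻¹ = e := by
    have hzb : b * z * b⁻¹ = z := S.conj_z S.b_mem
    have hxb : b * S.xx * b⁻¹ = S.xx := mul_inv_eq_iff_eq_mul.2 S.xx_b.symm
    rcases hec with h | h | h | h <;> rw [h]
    · simp
    · exact ⟨S.zz, hzb⟩
    · exact ⟨S.xx_sq, hxb⟩
    · refine ⟨?_, ?_⟩
      · rw [mul_assoc, ← mul_assoc S.xx, S.zc S.xx_mem, mul_assoc z, S.xx_sq, mul_one, S.zz]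
      · rw [show b * (z * S.xx) * b⁻¹ = (b * z * b⁻¹) * (b * S.xx * b⁻¹) by group, hzb, hxb]
  have step : ∀ n : ℕ, b ^ n * p * (b ^ n)⁻¹ = p * e ^ n := by
    intro n
    induction n with
    | zero => simp
    | succ n ih =>
      have hen : b * e ^ n * b⁻¹ = e ^ n := by rw [← conj_pow, hee.2]
      calc b ^ (n + 1) * p * (b ^ (n + 1))⁻¹ = b * (b ^ n * p * (b ^ n)⁻¹) * b⁻¹ := by
            rw [pow_succ']; group
        _ = (b * p * b⁻¹) * (b * e ^ n * b⁻¹) := by rw [ih]; group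
        _ = p * e ^ (n + 1) := by
          rw [hen, pow_succ', ← mul_assoc, show b * p * b⁻¹ = p * e by rw [he, mul_inv_cancel_left]]
  have he1 : e = 1 := by
    have h5 := step 5
    rw [S.hb5, one_mul, inv_one, mul_one, show e ^ 5 = e * e * (e * e) * e by simp only [pow_succ, pow_zero, one_mul, mul_assoc], hee.1,
      one_mul, one_mul] at h5
    exact mul_eq_left.1 h5.symm
  have hpb : p * b = b * p := by
    have h := step 1
    rw [pow_one, pow_one, he1, mul_one] at h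
    exact (mul_inv_eq_iff_eq_mul.1 h).symm
  have hqb : q * b = b * q := by
    have h : q * (b * q * b⁻¹)⁻¹ = 1 := he' ▸ he1
    rw [mul_inv_eq_one] at h
    exact (mul_inv_eq_iff_eq_mul.1 h.symm).symm
  refine ⟨p, w⁻¹ * q * w, S.rx_of_comm hp.1 hpb (mem_centralizer_singleton_iff.1 hp.2), ?_, by group⟩
  obtain ⟨c, hc, hce⟩ : q ∈ Q.map (MulAut.conj w).toMonoidHom := by
    rw [S.map_eq (F.wz.trans F.gz.symm)]; exact hq.1
  have hcq : w⁻¹ * q * w = c := by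
    rw [← hce]
    show w⁻¹ * (w * c * w⁻¹) * w = c
    group
  rw [hcq]
  refine S.rx_of_comm hc ?_ ?_
  · rw [← hcq]
    exact (((show Commute w b from F.wb).inv_left.mul_left (show Commute q b from hqb)).mul_left
      (show Commute w b from F.wb)).eq
  · -- `w` moves `z x` to `z`
    have hwzx : w * (z * S.xx) * w⁻¹ = z := by
      rw [show w * (z * S.xx) * w⁻¹ = (w * z * w⁻¹) * (w * S.xx * w⁻¹) by group, F.wz, F.wx,
        ← mul_assoc, S.zc S.xx_mem, mul_assoc, S.xx_sq, mul_one]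
    have hqz : q * z = z * q := mem_centralizer_singleton_iff.1 hq.2
    have h1 : c * (z * S.xx) = z * S.xx * c := by
      rw [← hwzx] at hqz
      rw [← hcq]
      calc w⁻¹ * q * w * (z * S.xx) = w⁻¹ * (q * (w * (z * S.xx) * w⁻¹)) * w := by group
        _ = z * S.xx * (w⁻¹ * q * w) := by rw [hqz]; group
    calc c * S.xx = z * (z * (c * S.xx)) := by rw [← mul_assoc z z, S.zz, one_mul]
      _ = z * (c * (z * S.xx)) := by
        rw [← mul_assoc z c, ← S.zc hc, mul_assoc]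
      _ = S.xx * c := by rw [h1, ← mul_assoc, ← mul_assoc, S.zz, one_mul]

theorem y0_conj_w : S.y0⁻¹ * w * S.y0 * w ∈ Q ⊔ Q.map (MulAut.conj gs).toMonoidHom ∧
    S.y0⁻¹ * w * S.y0 * w * z = z * (S.y0⁻¹ * w * S.y0 * w) ∧
    S.y0⁻¹ * w * S.y0 * w * S.xx = S.xx * (S.y0⁻¹ * w * S.y0 * w) ∧
    S.y0⁻¹ * w * S.y0 * w * b = b * (S.y0⁻¹ * w * S.y0 * w) := by
  obtain ⟨hyb, -, -, hy1, hy2⟩ := S.y0_comm
  set y := S.y0 with hy
  have hyQ : y ∈ Q := S.y0_mem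
  have hyz : y * z * y⁻¹ = z := by rw [S.zc hyQ]; group
  have hyz' : y⁻¹ * z * y = z := by
    rw [mul_assoc, ← S.zc hyQ, inv_mul_cancel_left]
  have hwzx : w * (z * S.xx) * w⁻¹ = z := by
    rw [show w * (z * S.xx) * w⁻¹ = (w * z * w⁻¹) * (w * S.xx * w⁻¹) by group, F.wz, F.wx,
      ← mul_assoc, S.zc S.xx_mem, mul_assoc, S.xx_sq, mul_one]
  have hyzx : y * (z * S.xx) * y⁻¹ = S.xx := by
    rw [show y * (z * S.xx) * y⁻¹ = (y * z * y⁻¹) * (y * S.xx * y⁻¹) by group, hyz, hy1,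
      ← mul_assoc, S.zz, one_mul]
  refine ⟨mul_mem (mul_mem (mul_mem (inv_mem (mem_sup_left hyQ)) F.wX) (mem_sup_left hyQ)) F.wX,
    mul_inv_eq_iff_eq_mul.1 ?_, mul_inv_eq_iff_eq_mul.1 ?_, ?_⟩
  · rw [show y⁻¹ * w * y * w * z * (y⁻¹ * w * y * w)⁻¹ =
      y⁻¹ * (w * (y * (w * z * w⁻¹) * y⁻¹) * w⁻¹) * y by group, F.wz, hy1, hwzx, hyz']
  · rw [show y⁻¹ * w * y * w * S.xx * (y⁻¹ * w * y * w)⁻¹ =
      y⁻¹ * (w * (y * (w * S.xx * w⁻¹) * y⁻¹) * w⁻¹) * y by group, F.wx, hyzx, F.wx,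
      show y⁻¹ * (z * S.xx) * y = (y⁻¹ * z * y) * (y⁻¹ * S.xx * y) by group, hyz', hy2,
      ← mul_assoc, S.zz, one_mul]
  · exact (((show Commute y b from hyb).inv_left.mul_left (show Commute w b from F.wb)).mul_left
      (show Commute y b from hyb) |>.mul_left (show Commute w b from F.wb)).eq

theorem D3_inf {d : G} (hd : d ∈ S.D3 w) (hQ : d ∈ Q) : d = 1 := by
  obtain ⟨-, -, -, -, hw⟩ := S.mem_D3.1 hd
  have h' : d ∈ Q.map (MulAut.conj gs).toMonoidHom := by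
    rw [show d = w * d * w⁻¹ by rw [← hw]; group]
    exact S.conj_mem_map F hQ
  rcases S.E_cases F hQ h' with e | e | e | e
  · exact e
  all_goals exact absurd hw.symm (S.not_comm_w F (by simp [e]))

theorem D3_y0 {d : G} (hd : d ∈ S.D3 w) : d * S.y0 = S.y0 * d := by
  obtain ⟨hdz, hdx, hd1, hd2, hdw⟩ := S.mem_D3.1 hd
  obtain ⟨-, hy1', hy2', hyx, hyx'⟩ := S.y0_comm
  obtain ⟨r1, r2, r3, r4⟩ := S.y0_conj_w F
  set y := S.y0 with hy
  set r := y⁻¹ * w * y * w with hr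
  obtain ⟨p, p', hp, hp', hre⟩ := S.R_decomp F r1 r2 r3 r4
  have hdr : Commute d r := by
    rw [hre]
    exact (show Commute d p from S.D3_rx hd hp).mul_right
      (((show Commute d w from hdw).mul_right (show Commute d p' from S.D3_rx hd hp')).mul_right
        (show Commute d w from hdw).inv_right)
  have hyz : y⁻¹ * z * y = z := by rw [mul_assoc, ← S.zc S.y0_mem, inv_mul_cancel_left]
  have fix : ∀ v, Commute d (y⁻¹ * v * y) → (y * d * y⁻¹) * v = v * (y * d * y⁻¹) := fun v h => by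
    calc y * d * y⁻¹ * v = y * (d * (y⁻¹ * v * y)) * y⁻¹ := by group
      _ = v * (y * d * y⁻¹) := by rw [h.eq]; group
  have hd' : y * d * y⁻¹ ∈ S.D3 w := S.mem_D3.2
    ⟨fix z (by rw [hyz]; exact hdz),
      fix S.xx (by rw [hyx']; exact ((show Commute d z from hdz).mul_right (show Commute d S.xx from hdx))),
      fix S.a1 (by rw [mul_assoc, ← hy1', inv_mul_cancel_left]; exact hd1),
      fix S.a2 (by rw [mul_assoc, ← hy2', inv_mul_cancel_left]; exact hd2),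
      fix w (by
        rw [show y⁻¹ * w * y = r * w⁻¹ by rw [hr]; group]
        exact hdr.mul_right (show Commute d w from hdw).inv_right)⟩
  have hm : y * d * y⁻¹ * d⁻¹ ∈ S.D3 w := mul_mem hd' (inv_mem hd)
  have hQ : y * d * y⁻¹ * d⁻¹ ∈ Q := by
    rw [show y * d * y⁻¹ * d⁻¹ = y * (d * y⁻¹ * d⁻¹) by group]
    exact mul_mem S.y0_mem (S.conj_mem (mem_centralizer_singleton_iff.2 hdz) (inv_mem S.y0_mem))
  have h1 := S.D3_inf F hm hQ
  rw [mul_inv_eq_one, mul_inv_eq_iff_eq_mul] at h1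
  exact h1.symm

theorem D3_cr {d : G} (hd : d ∈ S.D3 w) : S.CR d := by
  intro r hr hr2
  obtain ⟨h1, h2, h3, h4, -⟩ := S.mem_D3.1 hd
  exact (mem_centralizer_singleton_iff.1 (S.r_le (T := centralizer ({d} : Set G))
    (mem_centralizer_singleton_iff.2 h1.symm) (mem_centralizer_singleton_iff.2 h2.symm)
    (mem_centralizer_singleton_iff.2 h3.symm) (mem_centralizer_singleton_iff.2 h4.symm)
    (mem_centralizer_singleton_iff.2 (S.D3_y0 F hd).symm) hr hr2)).symm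

theorem D3_hom : ∃ f : ↥(S.D3 w) →* ↥(K true), Function.Bijective f ∧
    ∀ d, ∃ h, (f d).1 = S.rho ⟨d.1, h⟩ := by
  classical
  have hC : ∀ d : S.D3 w, d.1 ∈ centralizer ({z} : Set G) := fun d =>
    mem_centralizer_singleton_iff.2 (S.mem_D3.1 d.2).1
  let f : ↥(S.D3 w) →* ↥(K true) :=
    MonoidHom.mk' (fun d => ⟨S.rho ⟨d.1, hC d⟩, S.cr_mem_K (hC d) (S.D3_cr F d.2)⟩)
      fun d d' => Subtype.ext (by
        show S.rho _ = S.rho _ * S.rho _
        rw [← map_mul]; rfl)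
  refine ⟨f, ⟨?_, ?_⟩, fun d => ⟨hC d, rfl⟩⟩
  · rw [injective_iff_map_eq_one]
    intro d hd
    exact Subtype.ext (S.D3_inf F d.2 (S.rho_eq_one_iff.1 (congrArg Subtype.val hd :)))
  -- surjectivity
  rw [← MonoidHom.range_eq_top, eq_top_iff, ← K_perfect true, commutator_def, Subgroup.commutator_le]
  intro k1 _ k2 _
  have P := S.pair F.gz
  set Q' := Q.map (MulAut.conj gs).toMonoidHom with hQ'
  set X := Q ⊔ Q' with hX
  set V := closure ({z, S.xx} : Set G) with hV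
  set R := (Q' ⊓ centralizer ({z} : Set G)) ⊔ (Q ⊓ centralizer ({S.xx} : Set G)) with hR
  obtain ⟨hRX, hRp, -, hN, hNX, hRC, hcomm, -⟩ := P.X_structure V X R rfl rfl rfl
  obtain ⟨-, -, -, -, hRR, -, -⟩ := P.R_structure V X R _ rfl rfl rfl rfl
  have hR2 : IsPGroup 2 R := by
    haveI : Fact (Nat.Prime 2) := ⟨Nat.prime_two⟩
    rw [hRp]
    exact Amalgam.isPGroup_pCore.map _
  have hCV : ∀ {y : G}, y * z = z * y → y * S.xx = S.xx * y →
      y ∈ centralizer ({z} : Set G) ⊓ centralizer (V : Set G) := fun {y} h1 h2 => by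
    refine ⟨mem_centralizer_singleton_iff.2 h1, ?_⟩
    show y ∈ centralizer (V : Set G)
    rw [hV, centralizer_closure, mem_centralizer_iff]
    rintro v (rfl | rfl)
    exacts [h1.symm, h2.symm]
  have hcx : ∀ {c : G}, S.CR c → c * S.xx = S.xx * c := fun hc => hc _ S.xx_mem (by rw [S.u_xx]; rfl)
  -- the image of `R`
  let RR : Subgroup O8 := (R.subgroupOf (centralizer ({z} : Set G))).map S.rho
  have hRRn : ∀ k ∈ K true, ∀ g ∈ RR, k * g * k⁻¹ ∈ RR := by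
    rintro k hk _ ⟨r, hr, rfl⟩
    obtain ⟨c, hc, hcc, hck⟩ := S.exists_cr hk
    refine ⟨⟨c, hc⟩ * r * ⟨c, hc⟩⁻¹, ?_, by rw [map_mul, map_mul, map_inv, hck]⟩
    show c * r.1 * c⁻¹ ∈ R
    have hcV := hCV (mem_centralizer_singleton_iff.1 hc) (hcx hcc)
    have hrX : r.1 ∈ X := (hRX ▸ (hr : r.1 ∈ R) : r.1 ∈ X ⊓ centralizer (V : Set G)).1
    have h := hcomm r.1 hrX c hcV
    have h' := mul_mem (inv_mem h) (show r.1 ∈ R from hr)
    rwa [show (r.1 * c * r.1⁻¹ * c⁻¹)⁻¹ * r.1 = c * r.1 * c⁻¹ by group] at h'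
  have hRR1 : ∀ g ∈ RR, g ∈ K true → g = 1 := by
    intro g hg hgK
    haveI := K_simple true
    haveI hn : (RR.subgroupOf (K true)).Normal :=
      ⟨fun a ha k => hRRn k.1 k.2 a.1 ha⟩
    haveI : Fact (Nat.Prime 2) := ⟨Nat.prime_two⟩
    have h2 : IsPGroup 2 (RR.subgroupOf (K true)) :=
      ((hR2.comap_of_injective _ (centralizer ({z} : Set G)).subtype_injective).map
        S.rho).comap_of_injective _ (K true).subtype_injective
    rcases hn.eq_bot_or_eq_top with e | e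
    · have : (⟨g, hgK⟩ : K true) ∈ RR.subgroupOf (K true) := hg
      rw [e, Subgroup.mem_bot] at this
      exact congrArg Subtype.val this
    · exfalso
      obtain ⟨n, hn⟩ := (IsPGroup.iff_card).1 h2
      rw [e, Subgroup.card_top, K_card] at hn
      have h3 : (3 : ℕ) ∣ 2 ^ n := hn ▸ ⟨20, by norm_num⟩
      exact absurd (Nat.prime_three.dvd_of_dvd_pow h3) (by norm_num)
  -- lifts commuting with `w`
  have lifts : ∀ k ∈ K true, ∃ (d c : G) (hd : d ∈ centralizer ({z} : Set G)),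
      d * S.xx = S.xx * d ∧ d * w = w * d ∧ S.CR c ∧ c * z = z * c ∧ d * c⁻¹ ∈ R ∧
        S.rho ⟨d, hd⟩ * k⁻¹ ∈ RR := by
    intro k hk
    obtain ⟨c, hc, hcc, hck⟩ := S.exists_cr hk
    let A : Set G := {a | a * c⁻¹ ∈ R}
    have hAV : ∀ a ∈ A, a ∈ centralizer ({z} : Set G) ⊓ centralizer (V : Set G) := fun a ha => by
      simpa using mul_mem (hRC ha) (hCV (mem_centralizer_singleton_iff.1 hc) (hcx hcc))
    have hAc : Nat.card A = Nat.card R := Nat.card_congr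
      { toFun := fun a => ⟨a.1 * c⁻¹, a.2⟩
        invFun := fun r => ⟨r.1 * c, by
          show r.1 * c * c⁻¹ ∈ R
          rw [mul_inv_cancel_right]; exact r.2⟩
        left_inv := fun a => Subtype.ext (inv_mul_cancel_right a.1 c)
        right_inv := fun r => Subtype.ext (mul_inv_cancel_right r.1 c) }
    obtain ⟨n, hn⟩ := (IsPGroup.iff_card (p := 2)).1 hR2
    obtain ⟨k3, hk3⟩ := F.w3
    haveI : Fact (Nat.Prime 3) := ⟨Nat.prime_three⟩
    obtain ⟨d, hd, hdw⟩ := exists_comm_in (p := 3) (k := k3) w hk3 A (fun a (ha : a * c⁻¹ ∈ R) => by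
      show w * a * w⁻¹ * c⁻¹ ∈ R
      have h := mul_mem (hcomm w F.wX a (hAV a ha)) ha
      rwa [show w * a * w⁻¹ * a⁻¹ * (a * c⁻¹) = w * a * w⁻¹ * c⁻¹ by group] at h)
      (by
        rw [hAc, hn]
        intro h
        exact absurd (Nat.prime_three.dvd_of_dvd_pow h) (by norm_num))
    have hdC : d ∈ centralizer ({z} : Set G) := (hAV d hd).1
    have hdx : d * S.xx = S.xx * d :=
      ((mem_centralizer_iff.1 (hAV d hd).2) _ (subset_closure (Set.mem_insert_of_mem _ rfl))).symm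
    refine ⟨d, c, hdC, hdx, hdw.symm, hcc, mem_centralizer_singleton_iff.1 hc, hd, ?_⟩
    refine ⟨⟨d * c⁻¹, mul_mem hdC (inv_mem hc)⟩, hd, ?_⟩
    rw [← hck, ← map_inv, ← map_mul]
    rfl
  obtain ⟨d1, c1, hd1, hx1, hw1, hc1, hcz1, hr1, hk1⟩ := lifts _ (inv_mem k1.2)
  obtain ⟨d2, c2, hd2, hx2, hw2, hc2, hcz2, hr2, hk2⟩ := lifts _ (inv_mem k2.2)
  -- action on `a₁, a₂` modulo `V`
  have act : ∀ d c a : G, d * z = z * d → d * S.xx = S.xx * d → S.CR c → c * z = z * c →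
      d * c⁻¹ ∈ R → S.Rx a → d * a * d⁻¹ * a⁻¹ = 1 ∨ d * a * d⁻¹ * a⁻¹ = z ∨
        d * a * d⁻¹ * a⁻¹ = S.xx ∨ d * a * d⁻¹ * a⁻¹ = z * S.xx := by
    intro d c a _ _ hcc _ hr ha
    have hca : c * a = a * c := hcc a ha.1 ha.2.1
    have haR : a ∈ R := mem_sup_right ⟨ha.1, mem_centralizer_singleton_iff.2 (S.rx_x ha)⟩
    have h := (hRR _ hr _ haR).1
    rw [show d * c⁻¹ * a * (d * c⁻¹)⁻¹ * a⁻¹ = d * (c⁻¹ * a * c) * d⁻¹ * a⁻¹ by group,
      show c⁻¹ * a * c = a by rw [mul_assoc, ← hca]; group] at h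
    exact S.E_cases F h.1 h.2
  have hV4 : ∀ (d : G), d * z = z * d → d * S.xx = S.xx * d → ∀ v,
      (v = 1 ∨ v = z ∨ v = S.xx ∨ v = z * S.xx) → d * v * d⁻¹ = v := by
    intro d h1 h2 v hv
    rw [mul_inv_eq_iff_eq_mul]
    rcases hv with rfl | rfl | rfl | rfl
    · simp
    · exact h1
    · exact h2
    · rw [← mul_assoc, h1, mul_assoc, h2, ← mul_assoc]
  have hz1 := mem_centralizer_singleton_iff.1 hd1
  have hz2 := mem_centralizer_singleton_iff.1 hd2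
  have key : ∀ a, S.Rx a → ⁅d1⁻¹, d2⁻¹⁆ * a = a * ⁅d1⁻¹, d2⁻¹⁆ := by
    intro a ha
    set v1 := d1 * a * d1⁻¹ * a⁻¹ with hv1
    set v2 := d2 * a * d2⁻¹ * a⁻¹ with hv2
    have m1 := act d1 c1 a hz1 hx1 hc1 hcz1 hr1 ha
    have m2 := act d2 c2 a hz2 hx2 hc2 hcz2 hr2 ha
    have e1 : d1 * a * d1⁻¹ = v1 * a := by rw [hv1]; group
    have e2 : d2 * a * d2⁻¹ = v2 * a := by rw [hv2]; group
    have f1 := hV4 d1 hz1 hx1 v2 m2
    have f2 := hV4 d2 hz2 hx2 v1 m1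
    have hv12 : v1 * v2 = v2 * v1 := by
      have hx : Commute S.xx z := S.zc S.xx_mem
      have all : ∀ v, (v = 1 ∨ v = z ∨ v = S.xx ∨ v = z * S.xx) → Commute v z ∧ Commute v S.xx := by
        rintro v (rfl | rfl | rfl | rfl)
        exacts [⟨Commute.one_left _, Commute.one_left _⟩, ⟨Commute.refl _, hx.symm⟩,
          ⟨hx, Commute.refl _⟩,
          ⟨(Commute.refl z).mul_left hx, hx.symm.mul_left (Commute.refl _)⟩]
      obtain ⟨a, c⟩ := all v1 m1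
      rcases m2 with e | e | e | e <;> rw [← hv2] at e <;> rw [e]
      exacts [(Commute.one_right v1).eq, a.eq, c.eq, (a.mul_right c).eq]
    have h12 : (d1 * d2) * a * (d1 * d2)⁻¹ = v2 * v1 * a := by
      calc (d1 * d2) * a * (d1 * d2)⁻¹ = d1 * (d2 * a * d2⁻¹) * d1⁻¹ := by group
        _ = (d1 * v2 * d1⁻¹) * (d1 * a * d1⁻¹) := by rw [e2]; group
        _ = v2 * v1 * a := by rw [f1, e1]; group
    have h21 : (d2 * d1) * a * (d2 * d1)⁻¹ = v2 * v1 * a := by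
      calc (d2 * d1) * a * (d2 * d1)⁻¹ = d2 * (d1 * a * d1⁻¹) * d2⁻¹ := by group
        _ = (d2 * v1 * d2⁻¹) * (d2 * a * d2⁻¹) := by rw [e1]; group
        _ = v2 * v1 * a := by rw [f2, e2, ← hv12]; group
    have h3 : (d2 * d1) * a * (d2 * d1)⁻¹ = (d1 * d2) * a * (d1 * d2)⁻¹ := h21.trans h12.symm
    rw [commutatorElement_def, inv_inv, inv_inv]
    calc d1⁻¹ * d2⁻¹ * d1 * d2 * a
        = (d2 * d1)⁻¹ * ((d1 * d2) * a * (d1 * d2)⁻¹) * (d1 * d2) := by group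
      _ = (d2 * d1)⁻¹ * ((d2 * d1) * a * (d2 * d1)⁻¹) * (d1 * d2) := by rw [h3]
      _ = a * (d1⁻¹ * d2⁻¹ * d1 * d2) := by group
  have hc : ∀ v : G, d1 * v = v * d1 → d2 * v = v * d2 → ⁅d1⁻¹, d2⁻¹⁆ * v = v * ⁅d1⁻¹, d2⁻¹⁆ :=
    fun v e e' => by
      rw [commutatorElement_def, inv_inv, inv_inv]
      exact ((((show Commute d1 v from e).inv_left.mul_left (show Commute d2 v from e').inv_left).mul_left
        (show Commute d1 v from e)).mul_left (show Commute d2 v from e')).eq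
  have hD : ⁅d1⁻¹, d2⁻¹⁆ ∈ S.D3 w :=
    S.mem_D3.2 ⟨hc z hz1 hz2, hc _ hx1 hx2, key _ S.rx_a1, key _ S.rx_a2, hc w hw1 hw2⟩
  refine ⟨⟨_, hD⟩, Subtype.ext ?_⟩
  show S.rho ⟨⁅d1⁻¹, d2⁻¹⁆, hC ⟨_, hD⟩⟩ = k1.1 * k2.1 * k1.1⁻¹ * k2.1⁻¹
  have e0 : S.rho ⟨⁅d1⁻¹, d2⁻¹⁆, hC ⟨_, hD⟩⟩ =
      (S.rho ⟨d1, hd1⟩)⁻¹ * (S.rho ⟨d2, hd2⟩)⁻¹ * S.rho ⟨d1, hd1⟩ * S.rho ⟨d2, hd2⟩ := by
    rw [← map_inv, ← map_inv, ← map_mul, ← map_mul, ← map_mul]
    exact congrArg _ (Subtype.ext (by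
      show ⁅d1⁻¹, d2⁻¹⁆ = d1⁻¹ * d2⁻¹ * d1 * d2
      rw [commutatorElement_def, inv_inv, inv_inv]))
  have hD' : S.rho ⟨⁅d1⁻¹, d2⁻¹⁆, hC ⟨_, hD⟩⟩ ∈ K true := S.cr_mem_K _ (S.D3_cr F hD)
  obtain ⟨g1, hg1, eg1⟩ : ∃ g ∈ RR, S.rho ⟨d1, hd1⟩ = g * k1.1⁻¹ :=
    ⟨_, hk1, (inv_mul_cancel_right _ _).symm⟩
  obtain ⟨g2, hg2, eg2⟩ : ∃ g ∈ RR, S.rho ⟨d2, hd2⟩ = g * k2.1⁻¹ :=
    ⟨_, hk2, (inv_mul_cancel_right _ _).symm⟩
  rw [e0, eg1, eg2] at hD' ⊢
  set A := k2.1⁻¹ * g1⁻¹ * k2.1 * g2⁻¹ * g1 with hA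
  set B := k1.1 * A * k1.1⁻¹ * g2 with hB
  have hAm : A ∈ RR := by
    refine mul_mem (mul_mem ?_ (inv_mem hg2)) hg1
    have := hRRn _ (inv_mem k2.2) _ (inv_mem hg1)
    rwa [inv_inv] at this
  have hBm : k2.1 * B * k2.1⁻¹ ∈ RR :=
    hRRn _ k2.2 _ (mul_mem (hRRn _ k1.2 _ hAm) hg2)
  have e : (g1 * k1.1⁻¹)⁻¹ * (g2 * k2.1⁻¹)⁻¹ * (g1 * k1.1⁻¹) * (g2 * k2.1⁻¹) =
      (k1.1 * k2.1 * k1.1⁻¹ * k2.1⁻¹) * (k2.1 * B * k2.1⁻¹) := by
    rw [hB, hA]; group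
  rw [e] at hD' ⊢
  rw [hRR1 _ hBm ((Subgroup.mul_mem_cancel_left _
    (mul_mem (mul_mem (mul_mem k1.2 k2.2) (inv_mem k1.2)) (inv_mem k2.2))).1 hD'), mul_one]

end Frame

end Cfg

end CfsgLib.Trans3.Conway
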