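import Cfsg.Agent.Lib.Trans3.ConwayQuad

/-!
An extraspecial group of order 32 with an automorphism of order five does not act faithfully on the
eight-dimensional space of plus type with its centre inside `Ω`.
-/

set_option autoImplicit false

namespace CfsgLib.Trans3.Conway

open ExtraTwo

/-- Orbit counting for an element of order dividing five. -/
theorem count_five {α : Type*} [Finite α] (f : Equiv.Perm α) (h : f ^ 5 = 1) :
    Nat.card α % 5 = Nat.card {x : α // f x = x} % 5 := by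
  classical
  cases nonempty_fintype α
  haveI : Fact (Nat.Prime 5) := ⟨by norm_num⟩
  have hm := Equiv.Perm.card_compl_support_modEq (p := 5) (n := 1) (σ := f) (by simpa using h)
  have e : f.supportᶜ = Finset.univ.filter (fun x => f x = x) := by ext x; simp
  rw [e, ← Fintype.card_subtype] at hm
  rw [Nat.card_eq_fintype_card, Nat.card_eq_fintype_card]
  exact hm.symm

/-- The permutation induced on an invariant set. -/
noncomputable def permOn (g : O8) (A : Set Vv) (hA : ∀ v, ap g v ∈ A ↔ v ∈ A) : Equiv.Perm A where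
  toFun v := ⟨ap g v.1, (hA _).2 v.2⟩
  invFun v := ⟨ap g⁻¹ v.1, (hA _).1 (by rw [ap_ap_inv]; exact v.2)⟩
  left_inv v := Subtype.ext (ap_inv_ap g v.1)
  right_inv v := Subtype.ext (ap_ap_inv g v.1)

theorem permOn_pow (g : O8) (A : Set Vv) (hA : ∀ v, ap g v ∈ A ↔ v ∈ A) :
    ∀ (n : ℕ) (v : A), ((permOn g A hA ^ n) v).1 = ap (g ^ n) v.1
  | 0, v => by rw [pow_zero, pow_zero, ap_one]; rfl
  | n + 1, v => by
    rw [pow_succ, Equiv.Perm.mul_apply, permOn_pow g A hA n, pow_succ, ap_mul]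
    rfl

theorem count_set {b : O8} (hb : b ^ 5 = 1) (A : Set Vv) (hA : ∀ v, ap b v ∈ A ↔ v ∈ A) :
    Nat.card A % 5 = Nat.card {v : Vv // v ∈ A ∧ ap b v = v} % 5 := by
  rw [count_five (permOn b A hA) (Equiv.ext fun v => Subtype.ext (by
    rw [permOn_pow, hb, ap_one]; rfl))]
  congr 1
  exact Nat.card_congr
    { toFun := fun v => ⟨v.1.1, v.1.2, congrArg Subtype.val v.2⟩
      invFun := fun v => ⟨⟨v.1, v.2.1⟩, Subtype.ext v.2.2⟩
      left_inv := fun v => rfl
      right_inv := fun v => rfl }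

theorem card_Vv : Nat.card Vv = 256 := by
  rw [Nat.card_eq_fintype_card]; decide +kernel

theorem card_sub_cases (A : AddSubgroup Vv) :
    Nat.card A = 1 ∨ Nat.card A = 2 ∨ Nat.card A = 4 ∨ Nat.card A = 8 ∨ Nat.card A = 16 ∨
      Nat.card A = 32 ∨ Nat.card A = 64 ∨ Nat.card A = 128 ∨ Nat.card A = 256 := by
  have h := AddSubgroup.card_addSubgroup_dvd_card A
  rw [card_Vv, show (256 : ℕ) = 2 ^ 8 by norm_num, Nat.dvd_prime_pow Nat.prime_two] at h
  obtain ⟨i, hi, e⟩ := h
  rw [e]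
  interval_cases i <;> norm_num

/-- The fixed space. -/
noncomputable def fixSp (b : O8) : AddSubgroup Vv where
  carrier := {v | ap b v = v}
  add_mem' {x y} hx hy := by
    show ap b (x + y) = x + y
    rw [ap_add, hx, hy]
  zero_mem' := ap_zero b
  neg_mem' {x} hx := by
    show ap b (-x) = -x
    rwa [v_neg]

theorem card_fixSp {b : O8} (hb : b ^ 5 = 1) (hb1 : b ≠ 1) :
    Nat.card (fixSp b) = 1 ∨ Nat.card (fixSp b) = 16 := by
  have h := count_set hb Set.univ (fun _ => by simp)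
  have e : Nat.card {v : Vv // v ∈ Set.univ ∧ ap b v = v} = Nat.card (fixSp b) :=
    Nat.card_congr (Equiv.subtypeEquivRight fun v => ⟨fun h => h.2, fun h => ⟨trivial, h⟩⟩)
  rw [e, Nat.card_congr (Equiv.Set.univ Vv), card_Vv] at h
  rcases card_sub_cases (fixSp b) with h' | h' | h' | h' | h' | h' | h' | h' | h' <;>
    rw [h'] at h ⊢ <;> try omega
  exfalso
  refine hb1 (eq_one_of_ap fun v => ?_)
  have : fixSp b = ⊤ := AddSubgroup.eq_top_of_card_eq _ (by rw [h', card_Vv])
  exact (this.symm ▸ AddSubgroup.mem_top v : v ∈ fixSp b)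

/-- The sum over a cyclic group of order five is a projection onto the fixed space. -/
noncomputable def avg (b : O8) (v : Vv) : Vv :=
  v + ap b v + ap (b ^ 2) v + ap (b ^ 3) v + ap (b ^ 4) v

theorem avg_mem {b : O8} (hb : b ^ 5 = 1) (v : Vv) : avg b v ∈ fixSp b := by
  show ap b (avg b v) = avg b v
  rw [avg, ap_add, ap_add, ap_add, ap_add, ← ap_mul, ← ap_mul, ← ap_mul, ← ap_mul,
    ← pow_two, ← pow_succ', ← pow_succ', ← pow_succ', hb, ap_one]
  abel

theorem bV_avg {b : O8} {u : Vv} (hu : u ∈ fixSp b) (v : Vv) : bV u (avg b v) = bV u v := by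
  have h : ∀ n : ℕ, bV u (ap (b ^ n) v) = bV u v := by
    intro n
    induction n with
    | zero => rw [pow_zero, ap_one]
    | succ n ih =>
      rw [pow_succ', ap_mul]
      conv_lhs => rw [← show ap b u = u from hu, ap_b]
      exact ih
  rw [avg, bV_add_right, bV_add_right, bV_add_right, bV_add_right, h 2, h 3, h 4]
  have := h 1
  rw [pow_one] at this
  rw [this, z2_two, zero_add, z2_two, zero_add]

set_option synthInstance.maxHeartbeats 400000 in
set_option synthInstance.maxSize 2000 in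
theorem span_two : ∀ a c d f : ZMod 2, d + f = 1 → ∀ q : ZMod 2 × ZMod 2, q = 0 ∨ q = (1, a) ∨
    q = (c, 1) ∨ q = (d, f) ∨ q = (1, a) + (c, 1) ∨ q = (1, a) + (d, f) ∨ q = (c, 1) + (d, f) := by
  decide +kernel

/-- The hypothetical configuration. -/
structure Emb (b z : O8) (S : Set O8) : Prop where
  hb : b ^ 5 = 1
  hb1 : b ≠ 1
  norm : ∀ p ∈ S, b⁻¹ * p * b ∈ S
  gen : ∀ p ∈ S, ∃ q ∈ S, p = b * q * b⁻¹ * q⁻¹ ∨ p = z * (b * q * b⁻¹ * q⁻¹)
  zz : z * z = 1
  z1 : z ≠ 1
  zOm : z ∈ Om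
  bz : b * z = z * b
  sz : ∀ p ∈ S, p * z = z * p
  sq : ∀ p ∈ S, p * p = 1 ∨ p * p = z
  com : ∀ p ∈ S, ∀ q ∈ S, p * q = q * p ∨ p * q = z * (q * p)
  nab : ∃ p ∈ S, ∃ q ∈ S, p * q ≠ q * p

namespace Emb

variable {b z : O8} {S : Set O8} (E : Emb b z S)

/-- The fixed space of the central involution. -/
noncomputable def C (z : O8) : AddSubgroup Vv := fixSp z

/-- The moved space of the central involution. -/
noncomputable def U (z : O8) : AddSubgroup Vv :=
  AddMonoidHom.range (AddMonoidHom.mk' (fun v => ap z v + v) fun x y => by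
    show ap z (x + y) + (x + y) = _
    rw [ap_add]; abel)

theorem mem_U {v : Vv} : v ∈ U z ↔ ∃ x, ap z x + x = v := Iff.rfl

theorem mem_C {v : Vv} : v ∈ C z ↔ ap z v = v := Iff.rfl

include E

theorem z_z (v : Vv) : ap z (ap z v) = v := by rw [← ap_mul, E.zz, ap_one]

theorem U_le_C : U z ≤ C z := by
  rintro v ⟨x, rfl⟩
  show ap z (ap z x + x) = ap z x + x
  rw [ap_add, E.z_z, add_comm]

theorem C_perp {c u : Vv} (hc : c ∈ C z) (hu : u ∈ U z) : bV c u = 0 := by
  obtain ⟨x, rfl⟩ := mem_U.1 hu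
  rw [bV_add_right]
  conv_lhs => arg 1; rw [← mem_C.1 hc, ap_b]
  exact z2_two _

theorem card_CU : Nat.card (U z) * Nat.card (C z) = 256 := by
  let f : Vv →+ Vv := AddMonoidHom.mk' (fun v => ap z v + v) fun x y => by
    show ap z (x + y) + (x + y) = _
    rw [ap_add]; abel
  have h := AddSubgroup.card_eq_card_quotient_mul_card_addSubgroup f.ker
  rw [Nat.card_congr (QuotientAddGroup.quotientKerEquivRange f).toEquiv, card_Vv] at h
  have hk : f.ker = C z := by
    ext v
    show ap z v + v = 0 ↔ ap z v = v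
    exact ⟨v_eq_of_add, fun h => by rw [h, v_add_self]⟩
  rw [hk] at h
  exact h.symm

theorem comm_ap {p : O8} (hp : p * z = z * p) (v : Vv) :
    ap z (ap p v) + ap p v = ap p (ap z v + v) := by
  rw [ap_add, ← ap_mul, ← ap_mul, hp]

theorem inv_comm {p : O8} (hp : p * z = z * p) : p⁻¹ * z = z * p⁻¹ :=
  (Commute.inv_left (show Commute p z from hp)).eq

theorem pU {p : O8} (hp : p * z = z * p) {u : Vv} (hu : u ∈ U z) : ap p u ∈ U z := by
  obtain ⟨x, rfl⟩ := mem_U.1 hu
  exact mem_U.2 ⟨ap p x, E.comm_ap hp x⟩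

theorem pC {p : O8} (hp : p * z = z * p) {c : Vv} (hc : c ∈ C z) : ap p c ∈ C z := by
  rw [mem_C, ← ap_mul, ← hp, ap_mul, mem_C.1 hc]

theorem trivial_of_sub {p : O8} (hp : p ∈ S) {u : Vv} (hu : u ∈ C z) :
    ap p (ap p u) = u := by
  rcases E.sq p hp with h | h <;> rw [← ap_mul, h]
  · exact ap_one u
  · exact mem_C.1 hu

theorem comm_on_C {p q : O8} (hp : p ∈ S) (hq : q ∈ S) {u : Vv} (hu : u ∈ C z) :
    ap p (ap q u) = ap q (ap p u) := by
  rcases E.com p hp q hq with h | h <;> rw [← ap_mul, h, ap_mul]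
  rw [ap_mul]
  exact mem_C.1 (E.pC (E.sz q hq) (E.pC (E.sz p hp) hu))

/-- A vector outside `A` fixed by all of `S` modulo `A`. -/
theorem exists_fix (A : AddSubgroup Vv) (hA : ∀ p ∈ S, ∀ a ∈ A, ap p a ∈ A)
    {c : Vv} (hc : c ∈ C z) (hcA : c ∉ A) (T : AddSubgroup Vv) (hT : T ≤ C z)
    (hTp : ∀ p ∈ S, ∀ t ∈ T, ap p t ∈ T) (hcT : c ∈ T) :
    ∃ m ∈ T, m ∉ A ∧ ∀ p ∈ S, ap p m + m ∈ A := by
  classical
  have key : ∀ L : List O8, (∀ p ∈ L, p ∈ S) →
      ∃ m ∈ T, m ∉ A ∧ ∀ p ∈ L, ap p m + m ∈ A := by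
    intro L
    induction L with
    | nil => exact fun _ => ⟨c, hcT, hcA, by simp⟩
    | cons r L ih =>
      intro hL
      obtain ⟨m, hmT, hmA, hm⟩ := ih fun p hp => hL p (List.mem_cons_of_mem _ hp)
      have hr := hL r (List.mem_cons_self ..)
      by_cases h : ap r m + m ∈ A
      · exact ⟨m, hmT, hmA, fun p hp => by
          rcases List.mem_cons.1 hp with rfl | hp
          exacts [h, hm p hp]⟩
      · refine ⟨ap r m + m, T.add_mem (hTp r hr m hmT) hmT, h, fun p hp => ?_⟩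
        rw [ap_add]
        rcases List.mem_cons.1 hp with rfl | hp
        · rw [E.trivial_of_sub hr (hT hmT), show m + ap p m + (ap p m + m) = 0 by
            rw [add_comm m, v_add_self]]
          exact A.zero_mem
        · have hpS := hL p (List.mem_cons_of_mem _ hp)
          rw [E.comm_on_C hpS hr (hT hmT), show ap r (ap p m) + ap p m + (ap r m + m) =
            ap r (ap p m + m) + (ap p m + m) by rw [ap_add]; abel]
          exact A.add_mem (hA r hr _ (hm p hp)) (hm p hp)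
  haveI := Fintype.ofFinite O8
  obtain ⟨m, hmT, hmA, hm⟩ := key (Finset.univ.filter fun p => p ∈ S).toList
    (fun p hp => by simpa using hp)
  exact ⟨m, hmT, hmA, fun p hp => hm p (by simpa using hp)⟩

theorem binv_comm : b⁻¹ * z = z * b⁻¹ := E.inv_comm E.bz

theorem fix_inv_b {v : Vv} (h : ap b v = v) : ap b⁻¹ v = v := by
  conv_lhs => rw [← h, ap_inv_ap]

theorem b_trivial_U {u : Vv} (hu : u ∈ U z) : ap b u = u := by
  by_contra hne
  have h16 : Nat.card (U z) ≤ 16 := by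
    have := E.card_CU
    have hle := AddSubgroup.card_le_of_le E.U_le_C
    nlinarith
  have hinv : ∀ v, ap b v ∈ U z ↔ v ∈ U z := fun v => ⟨fun h => by
    have := E.pU E.binv_comm h
    rwa [ap_inv_ap] at this, E.pU E.bz⟩
  have hcnt := count_set E.hb (U z : Set Vv) hinv
  have e : Nat.card {v : Vv // v ∈ (U z : Set Vv) ∧ ap b v = v} = Nat.card (U z ⊓ fixSp b : AddSubgroup Vv) :=
    Nat.card_congr (Equiv.subtypeEquivRight fun v => Iff.rfl)
  rw [e] at hcnt
  have hlt : Nat.card (U z ⊓ fixSp b : AddSubgroup Vv) < Nat.card (U z) := by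
    refine lt_of_le_of_ne (AddSubgroup.card_le_of_le inf_le_left) fun h => hne ?_
    have := AddSubgroup.eq_of_le_of_card_ge (inf_le_left : U z ⊓ fixSp b ≤ U z) h.ge
    exact ((le_of_eq this.symm).trans inf_le_right hu : u ∈ fixSp b)
  have hval : Nat.card (U z) = 16 ∧ Nat.card (U z ⊓ fixSp b : AddSubgroup Vv) = 1 := by
    change Nat.card (U z) % 5 = _ at hcnt
    rcases card_sub_cases (U z) with a | a | a | a | a | a | a | a | a <;>
      rcases card_sub_cases (U z ⊓ fixSp b) with c | c | c | c | c | c | c | c | c <;>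
      omega
  have hCU : C z = U z := by
    have h := E.card_CU
    rw [hval.1] at h
    exact (AddSubgroup.eq_of_le_of_card_ge E.U_le_C (by omega)).symm
  -- the vectors of `U` fixed by `S`
  obtain ⟨c, hc, hc0⟩ : ∃ c ∈ U z, c ≠ 0 := ⟨u, hu, fun h => hne (by rw [h, ap_zero])⟩
  obtain ⟨m, hmU, hm0, hm⟩ := E.exists_fix ⊥
    (fun p _ a ha => by rw [AddSubgroup.mem_bot] at ha ⊢; rw [ha, ap_zero])
    (E.U_le_C hc) (by simpa using hc0) (U z) E.U_le_C (fun p hp t ht => E.pU (E.sz p hp) ht) hc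
  let F : AddSubgroup Vv :=
    { carrier := {v | v ∈ U z ∧ ∀ p ∈ S, ap p v = v}
      add_mem' := fun {x y} hx hy => ⟨(U z).add_mem hx.1 hy.1, fun p hp => by
        rw [ap_add, hx.2 p hp, hy.2 p hp]⟩
      zero_mem' := ⟨(U z).zero_mem, fun p _ => ap_zero p⟩
      neg_mem' := fun {x} hx => ⟨(U z).neg_mem hx.1, fun p hp => by rw [v_neg]; exact hx.2 p hp⟩ }
  have hFb : ∀ v, ap b v ∈ F ↔ v ∈ F := by
    have fwd : ∀ v, v ∈ F → ap b v ∈ F := fun v hv => ⟨E.pU E.bz hv.1, fun p hp => by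
      have := hv.2 _ (E.norm p hp)
      rw [ap_mul, ap_mul] at this
      exact ap_injective b⁻¹ (by rw [this, ap_inv_ap])⟩
    intro v
    refine ⟨fun h => ?_, fwd v⟩
    have h5 : v = ap b (ap b (ap b (ap b (ap b v)))) := by
      simp only [← ap_mul]
      rw [← pow_two, ← pow_succ', ← pow_succ', ← pow_succ', E.hb, ap_one]
    rw [h5]
    exact fwd _ (fwd _ (fwd _ (fwd _ h)))
  have hFU : F ≤ U z := fun v hv => hv.1
  have hFc := count_set E.hb (F : Set Vv) hFb
  have e2 : Nat.card {v : Vv // v ∈ (F : Set Vv) ∧ ap b v = v} = 1 := by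
    rw [← hval.2]
    refine le_antisymm (Nat.card_le_card_of_injective
      (fun v => (⟨v.1, hFU v.2.1, v.2.2⟩ : (U z ⊓ fixSp b : AddSubgroup Vv)))
      fun a c h => Subtype.ext (congrArg Subtype.val h :)) ?_
    rw [hval.2]
    haveI : Nonempty {v : Vv // v ∈ (F : Set Vv) ∧ ap b v = v} := ⟨⟨0, F.zero_mem, ap_zero b⟩⟩
    exact Nat.card_pos
  rw [e2] at hFc
  have hF16 : Nat.card F = 16 := by
    have hle := AddSubgroup.card_le_of_le hFU
    have hge : Nat.card F ≠ 1 := fun h => hm0 (by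
      rw [AddSubgroup.card_eq_one] at h
      have hmF : m ∈ F := ⟨hmU, fun p hp => v_eq_of_add (by simpa using hm p hp)⟩
      exact h ▸ hmF)
    change Nat.card F % 5 = _ at hFc
    rcases card_sub_cases F with a | a | a | a | a | a | a | a | a <;> omega
  have hFeq : F = U z := AddSubgroup.eq_of_le_of_card_ge hFU (by omega)
  obtain ⟨p, hp, q, hq, hpq⟩ := E.nab
  refine hpq (ap_ext fun v => ?_)
  have triv : ∀ r ∈ S, ∀ c ∈ U z, ap r c = c := fun r hr c hc => (hFeq.symm ▸ hc : c ∈ F).2 r hr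
  have hdif : ∀ r ∈ S, ap r v + v ∈ U z := fun r hr => by
    rw [← hCU, mem_C]
    refine v_eq_of_add ?_
    rw [ap_add, show ap z (ap r v) + ap z v + (ap r v + v) =
      (ap z (ap r v) + ap r v) + (ap z v + v) by abel, E.comm_ap (E.sz r hr),
      triv r hr _ (mem_U.2 ⟨v, rfl⟩), v_add_self]
  have hr : ∀ r, ap r v = v + (ap r v + v) := fun r => by
    rw [add_comm (ap r v), ← add_assoc, v_add_self, zero_add]
  rw [ap_mul, ap_mul]
  conv_lhs => rw [hr q, ap_add, triv p hp _ (hdif q hq)]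
  conv_rhs => rw [hr p, ap_add, triv q hq _ (hdif p hp)]
  abel

theorem fixU : U z ≤ fixSp b := fun _ hu => E.b_trivial_U hu

theorem S_trivial_U {p : O8} (hp : p ∈ S) {u : Vv} (hu : u ∈ U z) : ap p u = u := by
  obtain ⟨q, hq, h⟩ := E.gen p hp
  have hb' := fun {c : Vv} (hc : c ∈ U z) => E.b_trivial_U hc
  have key : ap (b * q * b⁻¹ * q⁻¹) u = u := by
    have hq' := E.pU (E.inv_comm (E.sz q hq)) hu
    rw [ap_mul, ap_mul, ap_mul, E.fix_inv_b (hb' hq'), ap_ap_inv, hb' hu]
  rcases h with h | h <;> rw [h]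
  · exact key
  · rw [ap_mul, key]; exact mem_C.1 (E.U_le_C hu)

theorem S_mod_C {p : O8} (hp : p ∈ S) (v : Vv) : ap p v + v ∈ C z := by
  rw [mem_C]
  refine v_eq_of_add ?_
  rw [ap_add, show ap z (ap p v) + ap z v + (ap p v + v) =
    (ap z (ap p v) + ap p v) + (ap z v + v) by abel, E.comm_ap (E.sz p hp),
    E.S_trivial_U hp (mem_U.2 ⟨v, rfl⟩), v_add_self]

theorem card_U_ge : 4 ≤ Nat.card (U z) := by
  have hU1 : Nat.card (U z) ≠ 1 := fun h => E.z1 (eq_one_of_ap fun v => v_eq_of_add (by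
    rw [AddSubgroup.card_eq_one] at h
    have hm : ap z v + v ∈ U z := mem_U.2 ⟨v, rfl⟩
    rw [h, AddSubgroup.mem_bot] at hm
    exact hm))
  rcases card_sub_cases (U z) with h | h | h | h | h | h | h | h | h <;> try omega
  exfalso
  -- the moved space is a line, so `z` is a reflection
  obtain ⟨⟨u, hu⟩, hu0⟩ : ∃ u : U z, u ≠ 0 := by
    by_contra hh
    push_neg at hh
    haveI : Subsingleton (U z) := ⟨fun a c => by rw [hh a, hh c]⟩
    rw [Nat.card_of_subsingleton (0 : U z)] at h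
    omega
  have hu0' : u ≠ 0 := fun e => hu0 (Subtype.ext e)
  have hline : ∀ v ∈ U z, v = 0 ∨ v = u := by
    intro v hv
    by_contra hh
    push_neg at hh
    have h3 := Nat.card_le_card_of_injective (α := Fin 3) (β := U z)
      ![⟨0, (U z).zero_mem⟩, ⟨u, hu⟩, ⟨v, hv⟩] (by
        intro i j e
        fin_cases i <;> fin_cases j <;> simp at e ⊢ <;> first
          | exact absurd e.symm hu0' | exact absurd e hu0' | exact absurd e hh.1
          | exact absurd e.symm hh.1 | exact absurd e hh.2 | exact absurd e.symm hh.2)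
    rw [Nat.card_eq_fintype_card (α := Fin 3), Fintype.card_fin, h] at h3
    omega
  have hmove : ∀ x, ap z x = x ∨ ap z x = x + u := fun x => by
    rcases hline _ (mem_U.2 ⟨x, rfl⟩) with e | e
    · exact Or.inl (v_eq_of_add e)
    · right
      rw [← e, add_comm, add_assoc, v_add_self, add_zero]
  have hval : ∀ x, ap z x = x + u → bV u x = qv u := fun x hx => by
    have := ap_q z x
    rw [hx, qv_add, add_assoc] at this
    have h0 : qv u + bV x u = 0 := add_left_cancel (this.trans (add_zero _).symm)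
    rw [bV_comm u x]
    exact ((by decide : ∀ a c : ZMod 2, a + c = 0 → c = a) _ _ h0)
  rcases z2_cases (qv u) with hq | hq
  · refine hu0' (bV_nondeg fun x => ?_)
    rcases hmove x with hx | hx
    · rw [bV_comm]; exact E.C_perp (mem_C.2 hx) hu
    · rw [hval x hx, hq]
  · have e : z = rf u hq := ap_ext fun x => by
      rw [ap_rf]
      rcases hmove x with hx | hx
      · rw [hx, if_neg]
        rw [bV_comm, E.C_perp (mem_C.2 hx) hu]
        exact zero_ne_one
      · rw [hx, if_pos]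
        rw [hval x hx, hq]
    exact rf_not_mem u hq (e ▸ E.zOm)

theorem shape : Nat.card (fixSp b) = 16 ∧ Nat.card (U z) = 4 ∧ C z ⊓ fixSp b = U z ∧
    (∀ v ∈ fixSp b, (∀ u ∈ U z, bV u v = 0) → v ∈ U z) := by
  classical
  have h16 : Nat.card (fixSp b) = 16 := by
    rcases card_fixSp E.hb E.hb1 with h | h
    · have := AddSubgroup.card_le_of_le E.fixU
      have := E.card_U_ge
      omega
    · exact h
  -- two independent elements
  obtain ⟨u₁, u₂, h1, h2, h12⟩ : ∃ u₁ u₂ : Vv, (u₁ ∈ U z ∧ u₁ ≠ 0) ∧ (u₂ ∈ U z ∧ u₂ ≠ 0) ∧ u₁ ≠ u₂ := by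
    by_contra hh
    push_neg at hh
    have h3 : ∀ u₁ ∈ U z, u₁ ≠ 0 → ∀ u₂ ∈ U z, u₂ ≠ 0 → u₁ = u₂ := fun a ha ha0 c hc hc0 =>
      hh a c ⟨ha, ha0⟩ ⟨hc, hc0⟩
    have hle : Nat.card (U z) ≤ 2 := by
      refine le_trans (Nat.card_le_card_of_injective (β := Bool) (fun u : U z => decide (u.1 = 0)) ?_)
        (by simp)
      intro a c e
      simp only [decide_eq_decide] at e
      by_cases ha : a.1 = 0
      · exact Subtype.ext (ha.trans (e.1 ha).symm)
      · exact Subtype.ext (h3 _ a.2 ha _ c.2 fun hc => ha (e.2 hc))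
    have := E.card_U_ge
    omega
  let Ψ : fixSp b →+ ZMod 2 × ZMod 2 :=
    AddMonoidHom.mk' (fun v => (bV u₁ v.1, bV u₂ v.1)) fun a c =>
      Prod.ext (bV_add_right u₁ a.1 c.1) (bV_add_right u₂ a.1 c.1)
  have hsur : Function.Surjective Ψ := by
    have hlin : ∀ c ∈ U z, c ≠ 0 → ∃ v : fixSp b, bV c v.1 = 1 := by
      intro c hc hc0
      by_contra hh
      push_neg at hh
      refine hc0 (bV_nondeg fun x => ?_)
      rw [← bV_avg (E.fixU hc) x]
      exact (z2_cases _).resolve_right (hh ⟨_, avg_mem E.hb x⟩)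
    obtain ⟨v1, e1⟩ := hlin u₁ h1.1 h1.2
    obtain ⟨v2, e2⟩ := hlin u₂ h2.1 h2.2
    obtain ⟨v3, e3⟩ := hlin (u₁ + u₂) ((U z).add_mem h1.1 h2.1) (fun h => h12 (v_eq_of_add h))
    rw [bV_add_left] at e3
    have m : ∀ v, Ψ v ∈ Set.range Ψ := fun v => ⟨v, rfl⟩
    have ha : ∀ a c, a ∈ Set.range Ψ → c ∈ Set.range Ψ → a + c ∈ Set.range Ψ := by
      rintro _ _ ⟨v, rfl⟩ ⟨w, rfl⟩; exact ⟨v + w, map_add Ψ v w⟩
    have h00 : (0 : ZMod 2 × ZMod 2) ∈ Set.range Ψ := ⟨0, map_zero Ψ⟩
    have r1 := m v1; have r2 := m v2; have r3 := m v3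
    simp only [Ψ, AddMonoidHom.mk'_apply, e1, e2] at r1 r2 r3
    intro p
    show p ∈ Set.range Ψ
    have dec : ∀ a : ZMod 2, a = 0 ∨ a = 1 := z2_cases
    rcases span_two _ _ _ _ e3 p with h | h | h | h | h | h | h <;> rw [h]
    exacts [h00, r1, r2, r3, ha _ _ r1 r2, ha _ _ r1 r3, ha _ _ r2 r3]
  have hΨ4 : Nat.card Ψ.ker = 4 := by
    have h := AddSubgroup.card_eq_card_quotient_mul_card_addSubgroup Ψ.ker
    rw [Nat.card_congr (QuotientAddGroup.quotientKerEquivOfSurjective Ψ hsur).toEquiv, h16] at h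
    simp only [Nat.card_prod, Nat.card_zmod] at h
    omega
  have hΨker : ∀ v : fixSp b, (∀ u ∈ U z, bV u v.1 = 0) → v ∈ Ψ.ker := fun v hv =>
    AddMonoidHom.mem_ker.2 (Prod.ext (hv u₁ h1.1) (hv u₂ h2.1))
  have hUker : (U z).addSubgroupOf (fixSp b) ≤ Ψ.ker := fun v hv =>
    hΨker v fun u hu => E.C_perp (E.U_le_C hu) hv
  have hUc : Nat.card ((U z).addSubgroupOf (fixSp b)) = Nat.card (U z) :=
    Nat.card_congr (AddSubgroup.addSubgroupOfEquivOfLe E.fixU).toEquiv
  have heq : (U z).addSubgroupOf (fixSp b) = Ψ.ker :=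
    AddSubgroup.eq_of_le_of_card_ge hUker (by rw [hΨ4, hUc]; exact E.card_U_ge)
  have hU4 : Nat.card (U z) = 4 := by rw [← hUc, heq, hΨ4]
  have hperp : ∀ v ∈ fixSp b, (∀ u ∈ U z, bV u v = 0) → v ∈ U z := fun v hv h => by
    have : (⟨v, hv⟩ : fixSp b) ∈ (U z).addSubgroupOf (fixSp b) :=
      heq.symm ▸ hΨker ⟨v, hv⟩ h
    exact this
  refine ⟨h16, hU4, le_antisymm (fun v hv => hperp v hv.2 fun u hu => ?_)
    (le_inf E.U_le_C E.fixU), hperp⟩
  rw [bV_comm]
  exact E.C_perp hv.1 hu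

theorem S_mod_U {p : O8} (hp : p ∈ S) {c : Vv} (hc : c ∈ C z) : ap p c + c ∈ U z := by
  classical
  obtain ⟨-, hU4, hCF, -⟩ := E.shape
  have hC64 : Nat.card (C z) = 64 := by
    have := E.card_CU
    rw [hU4] at this
    omega
  let CP : AddSubgroup Vv :=
    { carrier := {v | v ∈ C z ∧ ∀ r ∈ S, ap r v + v ∈ U z}
      add_mem' := fun {x y} hx hy => ⟨(C z).add_mem hx.1 hy.1, fun r hr => by
        rw [ap_add, show ap r x + ap r y + (x + y) = (ap r x + x) + (ap r y + y) by abel]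
        exact (U z).add_mem (hx.2 r hr) (hy.2 r hr)⟩
      zero_mem' := ⟨(C z).zero_mem, fun r _ => by rw [ap_zero, add_zero]; exact (U z).zero_mem⟩
      neg_mem' := fun {x} hx => ⟨(C z).neg_mem hx.1, fun r hr => by rw [v_neg]; exact hx.2 r hr⟩ }
  have fwd : ∀ v, v ∈ CP → ap b v ∈ CP := fun v hv => ⟨E.pC E.bz hv.1, fun r hr => by
    have := E.pU E.bz (hv.2 _ (E.norm r hr))
    rwa [ap_add, ← ap_mul, ← mul_assoc, ← mul_assoc, mul_inv_cancel, one_mul, ap_mul] at this⟩
  have hCPb : ∀ v, ap b v ∈ CP ↔ v ∈ CP := fun v => ⟨fun h => by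
    have h5 : v = ap b (ap b (ap b (ap b (ap b v)))) := by
      simp only [← ap_mul]
      rw [← pow_two, ← pow_succ', ← pow_succ', ← pow_succ', E.hb, ap_one]
    rw [h5]
    exact fwd _ (fwd _ (fwd _ (fwd _ h))), fwd v⟩
  have hUCP : U z ≤ CP := fun u hu => ⟨E.U_le_C hu, fun r hr => by
    rw [E.S_trivial_U hr hu, v_add_self]; exact (U z).zero_mem⟩
  have hCPC : CP ≤ C z := fun v hv => hv.1
  have hcnt := count_set E.hb (CP : Set Vv) hCPb
  have e : Nat.card {v : Vv // v ∈ (CP : Set Vv) ∧ ap b v = v} = Nat.card (U z) :=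
    Nat.card_congr (Equiv.subtypeEquivRight fun v => ⟨fun h => hCF ▸ ⟨hCPC h.1, h.2⟩,
      fun h => ⟨hUCP h, E.fixU h⟩⟩)
  rw [e, hU4] at hcnt
  have hlt : U z < CP := by
    obtain ⟨m, hm, hmU⟩ : ∃ m ∈ C z, m ∉ U z := by
      by_contra hh
      push_neg at hh
      have := AddSubgroup.card_le_of_le (show C z ≤ U z from hh)
      omega
    obtain ⟨m', hm', hm'U, h⟩ := E.exists_fix (U z) (fun r hr a ha => E.pU (E.sz r hr) ha) hm hmU
      (C z) le_rfl (fun r hr t ht => E.pC (E.sz r hr) ht) hm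
    exact lt_of_le_of_ne hUCP fun e' => hm'U (e' ▸ (⟨hm', h⟩ : m' ∈ CP))
  have hgt : 4 < Nat.card CP := by
    rw [← hU4]
    refine lt_of_le_of_ne (AddSubgroup.card_le_of_le hUCP) fun e' => hlt.ne ?_
    exact AddSubgroup.eq_of_le_of_card_ge hUCP e'.ge
  have hle := AddSubgroup.card_le_of_le hCPC
  have : CP = C z := AddSubgroup.eq_of_le_of_card_ge hCPC (by
    change Nat.card CP % 5 = _ at hcnt
    rcases card_sub_cases CP with a | a | a | a | a | a | a | a | a <;> omega)
  exact (this.symm ▸ hc : c ∈ CP).2 p hp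

theorem U_singular {u : Vv} (hu : u ∈ U z) : qv u = 0 := by
  obtain ⟨x, rfl⟩ := mem_U.1 hu
  obtain ⟨p, hp, q, hq, hpq⟩ := E.nab
  have hz : p * q = z * (q * p) := (E.com p hp q hq).resolve_left hpq
  rw [qv_add, ap_q, z2_two, zero_add]
  set w := ap (q * p)⁻¹ x with hw
  have hx : x = ap (q * p) w := by rw [hw, ap_ap_inv]
  have hzx : ap z x = ap (p * q) w := by rw [hz, ap_mul, ← hx]
  rw [hzx, hx]
  set m := ap p w + w with hm
  set m' := ap q w + w with hm'
  have hmC := E.S_mod_C hp w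
  have hm'C := E.S_mod_C hq w
  set u1 := ap p m' + m' with hu1
  set u2 := ap q m + m with hu2
  have hu1U : u1 ∈ U z := E.S_mod_U hp hm'C
  have hu2U : u2 ∈ U z := E.S_mod_U hq hmC
  have hsplit : ∀ a c : Vv, a = c + (a + c) := fun a c => by
    rw [add_comm a, ← add_assoc, v_add_self, zero_add]
  have e1 : ap (p * q) w = (w + m + m') + u1 := by
    rw [ap_mul, hsplit (ap q w) w, ← hm', ap_add, hsplit (ap p w) w, ← hm,
      hsplit (ap p m') m', ← hu1]
    abel
  have e2 : ap (q * p) w = (w + m + m') + u2 := by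
    rw [ap_mul, hsplit (ap p w) w, ← hm, ap_add, hsplit (ap q w) w, ← hm',
      hsplit (ap q m) m, ← hu2]
    abel
  rw [e1, e2]
  set A := w + m + m' with hA
  have h0 : ∀ v ∈ C z, ∀ u ∈ U z, bV v u = 0 := fun v hv u hu => E.C_perp hv hu
  have hAu : ∀ u ∈ U z, bV A u = bV w u := fun u hu => by
    rw [hA, bV_add_left, bV_add_left, h0 m hmC u hu, h0 m' hm'C u hu, add_zero, add_zero]
  rw [bV_add_left, bV_add_right A A, bV_add_right u1, bV_self, zero_add, hAu _ hu2U, bV_comm u1 A,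
    hAu _ hu1U, h0 u1 (E.U_le_C hu1U) u2 hu2U, add_zero]
  have key : ∀ {r : O8}, r ∈ S → ∀ c ∈ C z, bV w (ap r c + c) = bV (ap r w + w) c := by
    intro r hr c hc
    have h2 : ap r⁻¹ w + w = ap r⁻¹ (ap r w + w) := by rw [ap_add, ap_inv_ap, add_comm]
    rw [bV_add_right, bV_comm w (ap r c), ap_b_left, bV_comm c, ← bV_add_left, h2]
    set m2 := ap r⁻¹ (ap r w + w) with hm2
    have hm2C : m2 ∈ C z := E.pC (E.inv_comm (E.sz r hr)) (E.S_mod_C hr w)
    have hd : ap r w + w + m2 ∈ U z := by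
      have := E.S_mod_U hr hm2C
      rwa [hm2, ap_ap_inv] at this
    rw [← sub_eq_zero, sub_eq_add_neg, ZModModule.neg_eq_self, ← bV_add_left, add_comm m2,
      bV_comm]
    exact h0 c hc _ hd
  rw [hu2, hu1, key hq m hmC, key hp m' hm'C, ← hm, ← hm', bV_comm m' m, z2_two]

omit E in
/-- There is no such configuration. -/
theorem false' (E : Emb b z S) : False := by
  classical
  obtain ⟨h16, hU4, -, hperp⟩ := E.shape
  have hcnt := count_set E.hb {v | qv v = 0} (fun v => by simp [ap_q])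
  rw [show Nat.card {v : Vv | qv v = 0} = 136 from card_sing] at hcnt
  have hchi : ∀ a c : ZMod 2, chi (a + c) = chi a * chi c := chi_add
  let Sm : ℤ := ∑ v : fixSp b, chi (qv v.1)
  haveI := Fintype.ofFinite (fixSp b)
  haveI := Fintype.ofFinite (U z)
  have hshift : ∀ u : U z, ∑ v : fixSp b, chi (qv v.1) * chi (bV u.1 v.1) =
      ∑ v : fixSp b, chi (qv v.1) := by
    intro u
    rw [← Equiv.sum_comp (Equiv.addRight (⟨u.1, E.fixU u.2⟩ : fixSp b)) (fun v => chi (qv v.1))]
    refine Finset.sum_congr rfl fun v _ => ?_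
    show _ = chi (qv (v.1 + u.1))
    rw [qv_add, E.U_singular u.2, add_zero, hchi, bV_comm u.1]
  have htot : ∑ v : fixSp b, chi (qv v.1) * ∑ u : U z, chi (bV u.1 v.1) =
      (4 : ℤ) * ∑ v : fixSp b, chi (qv v.1) := by
    rw [Finset.sum_congr rfl fun v _ => Finset.mul_sum _ _ _, Finset.sum_comm,
      Finset.sum_congr rfl fun u _ => hshift u, Finset.sum_const, Finset.card_univ,
      ← Nat.card_eq_fintype_card, hU4]
    simp
  have hinner : ∀ v : fixSp b, (v.1 ∈ U z → ∑ u : U z, chi (bV u.1 v.1) = 4) ∧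
      (v.1 ∉ U z → ∑ u : U z, chi (bV u.1 v.1) = 0) := by
    intro v
    constructor
    · intro hv
      rw [Finset.sum_congr rfl (g := fun _ => (1 : ℤ)) fun u _ => by
        rw [bV_comm, E.C_perp (E.U_le_C hv) u.2]; rfl]
      simp [← Nat.card_eq_fintype_card, hU4]
    · intro hv
      obtain ⟨u0, hu0⟩ : ∃ u0 : U z, bV u0.1 v.1 = 1 := by
        by_contra hh
        push_neg at hh
        exact hv (hperp v.1 v.2 fun u hu => (z2_cases _).resolve_right (hh ⟨u, hu⟩))
      have h := Equiv.sum_comp (Equiv.addRight u0) (fun u : U z => chi (bV u.1 v.1))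
      rw [Finset.sum_congr rfl (g := fun u : U z => - chi (bV u.1 v.1)) fun u _ => by
        show chi (bV (u.1 + u0.1) v.1) = _
        rw [bV_add_left, hchi, hu0]
        simp [chi], Finset.sum_neg_distrib] at h
      omega
  have hS4 : ∑ v : fixSp b, chi (qv v.1) = 4 := by
    have hlhs : ∑ v : fixSp b, chi (qv v.1) * ∑ u : U z, chi (bV u.1 v.1) = 16 := by
      rw [Finset.sum_congr rfl (g := fun v : fixSp b => if v.1 ∈ U z then (4 : ℤ) else 0) fun v _ => by
        split_ifs with hv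
        · rw [(hinner v).1 hv, E.U_singular hv]; rfl
        · rw [(hinner v).2 hv, mul_zero]]
      rw [← Finset.sum_filter, Finset.sum_const, nsmul_eq_mul]
      have : (Finset.univ.filter fun v : fixSp b => v.1 ∈ U z).card = 4 := by
        rw [← hU4, ← Fintype.card_subtype, ← Nat.card_eq_fintype_card]
        exact Nat.card_congr
          { toFun := fun v => ⟨v.1.1, v.2⟩
            invFun := fun u => ⟨⟨u.1, E.fixU u.2⟩, u.2⟩
            left_inv := fun _ => rfl
            right_inv := fun _ => rfl }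
      rw [this]
      norm_num
    linarith
  have hsplit : ∑ v : fixSp b, chi (qv v.1) =
      2 * ((Finset.univ.filter fun v : fixSp b => qv v.1 = 0).card : ℤ) - 16 := by
    rw [Finset.sum_congr rfl (g := fun v : fixSp b => 2 * (if qv v.1 = 0 then (1 : ℤ) else 0) - 1)
      fun v _ => by
        rcases z2_cases (qv v.1) with e | e <;> rw [e] <;> simp [chi]]
    rw [Finset.sum_sub_distrib, ← Finset.mul_sum, Finset.sum_boole, Finset.sum_const,
      Finset.card_univ, ← Nat.card_eq_fintype_card, h16]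
    simp
  have h10 : (Finset.univ.filter fun v : fixSp b => qv v.1 = 0).card = 10 := by
    have := hS4
    rw [hsplit] at this
    omega
  have e : Nat.card {v : Vv // v ∈ {v | qv v = 0} ∧ ap b v = v} = 10 := by
    rw [← h10, ← Fintype.card_subtype, ← Nat.card_eq_fintype_card]
    exact Nat.card_congr
      { toFun := fun v => ⟨⟨v.1, v.2.2⟩, v.2.1⟩
        invFun := fun v => ⟨v.1.1, v.2, v.1.2⟩
        left_inv := fun _ => rfl
        right_inv := fun _ => rfl }
  rw [e] at hcnt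
  omega

end Emb

end CfsgLib.Trans3.Conway
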