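import Cfsg.Agent.Lib.Trans3.ConwayFive
import Cfsg.Agent.Lib.Trans3.LargeCoprime
import Cfsg.Agent.Lib.Comp.FStar

/-!
Coordinates on the extraspecial subgroup in the Conway-type configuration.
-/

set_option autoImplicit false

namespace CfsgLib.Trans3.Conway

open ExtraTwo Subgroup

variable {G : Type*} [Group G]

/-- The minus type tag. -/
abbrev tM : Fin 2 → Bool := tMinus 1

/-- Coordinates on an extraspecial group of order 32 of minus type. -/
structure Half (z : G) (H : Subgroup G) (uH : G → W) : Prop where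
  z_mem : z ∈ H
  z_inv : z * z = 1
  zc : ∀ a ∈ H, a * z = z * a
  add : ∀ a ∈ H, ∀ c ∈ H, uH (a * c) = uH a + uH c
  ker : ∀ a ∈ H, (uH a = 0 ↔ a = 1 ∨ a = z)
  surj : ∀ w, ∃ a ∈ H, uH a = w
  sq : ∀ a ∈ H, a * a = if qW (uH a) = 0 then 1 else z
  com : ∀ a ∈ H, ∀ c ∈ H, a * c = if alt (uH a) (uH c) = 0 then c * a else z * (c * a)

theorem half_of_iso {z : G} {H : Subgroup G} (hz : z ∈ H) (hz2 : orderOf z = 2)
    (hzc : ∀ a ∈ H, a * z = z * a) (e : ↥H ≃* ES 2 tM) :
    ∃ uH : G → W, Half z H uH := by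
  classical
  refine ⟨fun a => if h : a ∈ H then (e ⟨a, h⟩).v else 0, ?_⟩
  have hez : e ⟨z, hz⟩ = cen tM 1 := by
    have hv : (e ⟨z, hz⟩).v = 0 := by
      rw [← mem_center_iff, Subgroup.mem_center_iff]
      intro y
      obtain ⟨y, rfl⟩ := e.surjective y
      rw [← map_mul, ← map_mul, show y * ⟨z, hz⟩ = ⟨z, hz⟩ * y from Subtype.ext (hzc y.1 y.2)]
    rcases z2_cases (e ⟨z, hz⟩).c with h | h
    · exfalso
      have h' : e ⟨z, hz⟩ = e 1 := by rw [map_one]; exact ES.ext hv h
      have hz1 : z = 1 := congrArg Subtype.val (e.injective h')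
      rw [hz1, orderOf_one] at hz2
      norm_num at hz2
    · exact ES.ext hv h
  refine
    { z_mem := hz
      z_inv := by rw [← pow_two, ← hz2, pow_orderOf_eq_one]
      zc := hzc
      add := fun a ha c hc => ?_
      ker := fun a ha => ?_
      surj := fun w => ⟨(e.symm ⟨w, 0⟩).1, (e.symm ⟨w, 0⟩).2, ?_⟩
      sq := fun a ha => ?_
      com := fun a ha c hc => ?_ }
  · simp only [dif_pos (mul_mem ha hc), dif_pos ha, dif_pos hc]
    rw [show (⟨a * c, mul_mem ha hc⟩ : H) = ⟨a, ha⟩ * ⟨c, hc⟩ from rfl, map_mul, mul_v]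
  · simp only [dif_pos ha]
    constructor
    · intro h
      rcases z2_cases (e ⟨a, ha⟩).c with h' | h'
      · left
        have h2 : e ⟨a, ha⟩ = e 1 := by rw [map_one]; exact ES.ext h h'
        exact congrArg Subtype.val (e.injective h2)
      · right
        have h2 : e ⟨a, ha⟩ = e ⟨z, hz⟩ := by rw [hez]; exact ES.ext h h'
        exact congrArg Subtype.val (e.injective h2)
    · rintro (rfl | rfl)
      · rw [show (⟨1, ha⟩ : H) = 1 from rfl, map_one]; rfl
      · rw [hez]; rfl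
  · simp only [dif_pos (e.symm ⟨w, 0⟩).2, Subtype.coe_eta, e.apply_symm_apply]
  · simp only [dif_pos ha]
    have h := sq_eq tM (e ⟨a, ha⟩)
    rw [← map_mul] at h
    rcases z2_cases (qW (e ⟨a, ha⟩).v) with h' | h' <;> rw [h']
    · rw [if_pos rfl]
      have h2 : e (⟨a, ha⟩ * ⟨a, ha⟩) = e 1 := by
        rw [map_one, h, show beta tM (e ⟨a, ha⟩).v (e ⟨a, ha⟩).v = 0 from h']; rfl
      exact congrArg Subtype.val (e.injective h2)
    · rw [if_neg one_ne_zero]
      have h2 : e (⟨a, ha⟩ * ⟨a, ha⟩) = e ⟨z, hz⟩ := by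
        rw [hez, h, show beta tM (e ⟨a, ha⟩).v (e ⟨a, ha⟩).v = 1 from h']; rfl
      exact congrArg Subtype.val (e.injective h2)
  · simp only [dif_pos ha, dif_pos hc]
    set x := e ⟨a, ha⟩ with hx
    set y := e ⟨c, hc⟩ with hy
    rcases z2_cases (alt x.v y.v) with h' | h' <;> rw [h']
    · rw [if_pos rfl]
      have h2 := (comm_iff tM x y).2 h'
      rw [hx, hy, ← map_mul, ← map_mul] at h2
      exact congrArg Subtype.val (e.injective h2)
    · rw [if_neg one_ne_zero]
      have h3 : x * y = cen tM 1 * (y * x) := by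
        refine ES.ext ?_ ?_
        · simp [mul_v, cen, add_comm]
        · rw [mul_c, mul_c, mul_c]
          simp only [cen, beta_zero_left, add_zero]
          rw [← beta_symm tM] at h'
          revert h'
          generalize beta tM x.v y.v = p
          generalize beta tM y.v x.v = q
          generalize x.c = r
          generalize y.c = s
          revert p q r s
          decide
      rw [hx, hy, ← hez, ← map_mul, ← map_mul, ← map_mul] at h3
      exact congrArg Subtype.val (e.injective h3)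

theorem dual_vec : ∀ l0 l1 l2 l3 : ZMod 2, ∃ w : W, alt w ![(1, 0), (0, 0)] = l0 ∧
    alt w ![(0, 1), (0, 0)] = l1 ∧ alt w ![(0, 0), (1, 0)] = l2 ∧ alt w ![(0, 0), (0, 1)] = l3 := by
  decide +kernel

theorem basis_span : ∀ w : W, w = (if (w 0).1 = 1 then ![(1, 0), (0, 0)] else 0) +
    (if (w 0).2 = 1 then ![(0, 1), (0, 0)] else 0) + (if (w 1).1 = 1 then ![(0, 0), (1, 0)] else 0) +
    (if (w 1).2 = 1 then ![(0, 0), (0, 1)] else 0) := by
  decide +kernel

theorem plus_sing_card :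
    Fintype.card {v : W // beta (fun _ : Fin 2 => false) v v = 0} = 10 := by decide +kernel

namespace Half

variable {z : G} {H : Subgroup G} {uH : G → W} (S : Half z H uH)
include S

theorem one : uH 1 = 0 := (S.ker 1 H.one_mem).2 (Or.inl rfl)

theorem inv_mem_cases {a c : G} (ha : a ∈ H) (hc : c ∈ H) (h : uH a = uH c) : a = c ∨ a = c * z := by
  have hm : c⁻¹ * a ∈ H := mul_mem (inv_mem hc) ha
  have : uH (c⁻¹ * a) = 0 := by
    have := S.add c hc _ hm
    rw [mul_inv_cancel_left, h] at this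
    exact add_left_cancel (this.symm.trans (add_zero _).symm)
  rcases (S.ker _ hm).1 this with e | e
  · exact Or.inl (inv_mul_eq_one.1 e).symm
  · exact Or.inr (inv_mul_eq_iff_eq_mul.1 e)

end Half

/-- Commutation into `⟨z⟩` with a fixed element is additive. -/
theorem comm_mul {z a c d : G} (hzc : c * z = z * c) (hz2 : z * z = 1) {l m : ZMod 2}
    (h1 : a * c = if l = 0 then c * a else z * (c * a))
    (h2 : a * d = if m = 0 then d * a else z * (d * a)) :
    a * (c * d) = if l + m = 0 then c * d * a else z * (c * d * a) := by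
  have key : a * (c * d) = (a * c) * d := by group
  have e2 : c * (z * (d * a)) = z * (c * d * a) := by
    rw [← mul_assoc, hzc]; group
  rcases z2_cases l with rfl | rfl <;> rcases z2_cases m with rfl | rfl <;>
    simp only [one_ne_zero, if_true, if_false, if_pos, zero_add, add_zero, z2_two 1] at h1 h2 ⊢ <;>
    rw [key, h1]
  · rw [mul_assoc, h2, ← mul_assoc]
  · rw [mul_assoc, h2, e2]
  · rw [mul_assoc, mul_assoc, h2, ← mul_assoc c]
  · rw [mul_assoc, mul_assoc, h2, e2, ← mul_assoc, hz2, one_mul]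

/-- In an extraspecial group every element is a product of an element of a half and one of its centraliser. -/
theorem Half.exists_split {z : G} {H : Subgroup G} {uH : G → W} (S : Half z H uH) {a : G} (haz : a * z = z * a)
    (hbit : ∀ c ∈ H, a * c = c * a ∨ a * c = z * (c * a)) :
    ∃ r ∈ H, ∀ c ∈ H, r⁻¹ * a * c = c * (r⁻¹ * a) := by
  classical
  let l : G → ZMod 2 := fun c => if a * c = c * a then 0 else 1
  have hl : ∀ c ∈ H, a * c = if l c = 0 then c * a else z * (c * a) := fun c hc => by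
    by_cases h : a * c = c * a
    · simp [l, h]
    · simp only [l, if_neg h, one_ne_zero, if_false]
      exact (hbit c hc).resolve_left h
  obtain ⟨e0, he0, ue0⟩ := S.surj ![(1, 0), (0, 0)]
  obtain ⟨e1, he1, ue1⟩ := S.surj ![(0, 1), (0, 0)]
  obtain ⟨e2, he2, ue2⟩ := S.surj ![(0, 0), (1, 0)]
  obtain ⟨e3, he3, ue3⟩ := S.surj ![(0, 0), (0, 1)]
  obtain ⟨w, w0, w1, w2, w3⟩ := dual_vec (l e0) (l e1) (l e2) (l e3)
  obtain ⟨r, hr, ur⟩ := S.surj w
  refine ⟨r, hr, ?_⟩
  have hgen : ∀ c ∈ H, ∀ x, a * c = (if x = 0 then c * a else z * (c * a)) → alt w (uH c) = x →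
      r⁻¹ * a * c = c * (r⁻¹ * a) := by
    intro c hc x h1 h2
    have h3 := S.com r hr c hc
    rw [ur, h2] at h3
    rcases z2_cases x with rfl | rfl <;>
      simp only [one_ne_zero, if_true, if_false, if_pos] at h1 h3
    · rw [mul_assoc, h1, ← mul_assoc, ← mul_assoc,
        show r⁻¹ * c = c * r⁻¹ from ((show Commute r c from h3).inv_left).eq]
    · have h4 : r⁻¹ * c = z * (c * r⁻¹) := by
        have hzr : z * r⁻¹ = r⁻¹ * z := (S.zc _ (inv_mem hr)).symm
        calc r⁻¹ * c = r⁻¹ * (c * r) * r⁻¹ := by group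
          _ = r⁻¹ * (z * (r * c)) * r⁻¹ := by rw [h3, ← mul_assoc z z, S.z_inv, one_mul]
          _ = r⁻¹ * z * r * c * r⁻¹ := by group
          _ = z * (c * r⁻¹) := by rw [← hzr]; group
      calc r⁻¹ * a * c = r⁻¹ * (z * (c * a)) := by rw [mul_assoc, h1]
        _ = r⁻¹ * z * c * a := by group
        _ = z * r⁻¹ * c * a := by rw [← (S.zc _ (inv_mem hr))]
        _ = z * (r⁻¹ * c) * a := by group
        _ = z * (z * (c * r⁻¹)) * a := by rw [h4]
        _ = c * (r⁻¹ * a) := by rw [← mul_assoc z z, S.z_inv, one_mul]; group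
  let T : Subgroup G := centralizer ({r⁻¹ * a} : Set G)
  have hmT : ∀ c, r⁻¹ * a * c = c * (r⁻¹ * a) → c ∈ T := fun c h =>
    mem_centralizer_singleton_iff.2 h.symm
  have m0 := hmT _ (hgen e0 he0 _ (hl e0 he0) (by rw [ue0, w0]))
  have m1 := hmT _ (hgen e1 he1 _ (hl e1 he1) (by rw [ue1, w1]))
  have m2 := hmT _ (hgen e2 he2 _ (hl e2 he2) (by rw [ue2, w2]))
  have m3 := hmT _ (hgen e3 he3 _ (hl e3 he3) (by rw [ue3, w3]))
  have mz : z ∈ T := by
    refine hmT z ?_
    have hzr : z * r⁻¹ = r⁻¹ * z := (S.zc _ (inv_mem hr)).symm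
    rw [mul_assoc, haz, ← mul_assoc, ← hzr, mul_assoc]
  intro c hc
  have hp : ∀ (e : G) (w' : W) (q : Prop) [Decidable q], e ∈ H → e ∈ T → uH e = w' →
      ∃ x ∈ H, x ∈ T ∧ uH x = if q then w' else 0 := by
    intro e w' q _ he hT hu
    by_cases hq : q
    · exact ⟨e, he, hT, by rw [if_pos hq, hu]⟩
    · exact ⟨1, one_mem _, one_mem _, by rw [if_neg hq, S.one]⟩
  obtain ⟨x0, a0, b0, c0⟩ := hp e0 _ ((uH c 0).1 = 1) he0 m0 ue0
  obtain ⟨x1, a1, b1, c1⟩ := hp e1 _ ((uH c 0).2 = 1) he1 m1 ue1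
  obtain ⟨x2, a2, b2, c2⟩ := hp e2 _ ((uH c 1).1 = 1) he2 m2 ue2
  obtain ⟨x3, a3, b3, c3⟩ := hp e3 _ ((uH c 1).2 = 1) he3 m3 ue3
  have heq : uH c = uH (x0 * x1 * x2 * x3) := by
    rw [S.add _ (mul_mem (mul_mem a0 a1) a2) _ a3, S.add _ (mul_mem a0 a1) _ a2, S.add _ a0 _ a1,
      c0, c1, c2, c3]
    exact basis_span _
  have hT : c ∈ T := by
    rcases S.inv_mem_cases hc (mul_mem (mul_mem (mul_mem a0 a1) a2) a3) heq with e | e <;> rw [e]
    · exact mul_mem (mul_mem (mul_mem b0 b1) b2) b3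
    · exact mul_mem (mul_mem (mul_mem (mul_mem b0 b1) b2) b3) mz
  exact (mem_centralizer_singleton_iff.1 hT).symm

/-- The configuration with coordinates. -/
structure Cfg (z b : G) (Q : Subgroup G) (u : G → Vv) : Prop where
  hz : orderOf z = 2
  hQH : Q ≤ centralizer ({z} : Set G)
  hnorm : ∀ c ∈ centralizer ({z} : Set G), ∀ a ∈ Q, c * a * c⁻¹ ∈ Q
  hzQ : z ∈ Q
  self : centralizer (Q : Set G) ≤ Q
  es : Cfsg.IsExtraspecial 2 Q
  cen : (center Q).map Q.subtype = zpowers z
  hQc : Nat.card Q = 512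
  hb : orderOf b = 5
  hbz : b * z = z * b
  add : ∀ a ∈ Q, ∀ c ∈ Q, u (a * c) = u a + u c
  ker : ∀ a ∈ Q, (u a = 0 ↔ a = 1 ∨ a = z)
  surj : ∀ v, ∃ a ∈ Q, u a = v
  sq : ∀ a ∈ Q, a * a = if qv (u a) = 0 then 1 else z
  com : ∀ a ∈ Q, ∀ c ∈ Q, a * c = if bV (u a) (u c) = 0 then c * a else z * (c * a)
  fixb : ∀ a ∈ Q, (a * b = b * a ↔ (u a).2 = 0)
  fus : ∃ g : G, g * z * g⁻¹ ∈ Q ∧ g * z * g⁻¹ ≠ z
  quot : ∃ π : ↥(centralizer ({z} : Set G)) →* ↥Om,
    Function.Surjective π ∧ π.ker = Q.subgroupOf (centralizer ({z} : Set G))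

variable [Finite G]

theorem exists_half_prod {z : G} {Q H P : Subgroup G}
    (hHQ : H ≤ Q) (hPQ : P ≤ Q) (hdef : ∀ a, a ∈ P ↔ a ∈ Q ∧ ∀ c ∈ H, a * c = c * a)
    (hsplit : ∀ a ∈ Q, ∃ r ∈ H, r⁻¹ * a ∈ P) (hz1 : z ≠ 1) (hint : ∀ a, a ∈ H → a ∈ P → a = 1 ∨ a = z)
    (hzH : z ∈ H) (hzP : z ∈ P) (hQc : Nat.card Q = 512) (hHc : Nat.card H = 32) :
    Nat.card P = 32 := by
  have hsq : Set.range (fun p : H × P => (p.1 : G) * p.2) = (Q : Set G) := by
    ext a
    constructor
    · rintro ⟨p, rfl⟩; exact mul_mem (hHQ p.1.2) (hPQ p.2.2)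
    · intro ha
      obtain ⟨r, hr, hp⟩ := hsplit a ha
      exact ⟨(⟨r, hr⟩, ⟨_, hp⟩), mul_inv_cancel_left r a⟩
  let f : ↥H × ↥P →* G :=
    { toFun := fun p => (p.1 : G) * p.2
      map_one' := by simp
      map_mul' := fun p q => by
        show ((p.1 : G) * q.1) * (p.2 * q.2) = (p.1 * p.2) * (q.1 * q.2)
        have h := ((hdef p.2).1 p.2.2).2 q.1 q.1.2
        calc ((p.1 : G) * q.1) * (p.2 * q.2) = p.1 * (q.1 * p.2) * q.2 := by group
          _ = p.1 * (p.2 * q.1) * q.2 := by rw [h]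
          _ = _ := by group }
  have hr : f.range = Q := SetLike.coe_injective (by rw [MonoidHom.coe_range]; exact hsq)
  have hk : Nat.card f.ker = 2 := by
    have hz2 : ∀ x : f.ker, x = 1 ∨ x.1.1.1 = z := by
      intro x
      have hx : (x.1.1 : G) * x.1.2 = 1 := x.2
      have h1 : (x.1.1 : G) ∈ P := by rw [eq_inv_of_mul_eq_one_left hx]; exact inv_mem x.1.2.2
      rcases hint _ x.1.1.2 h1 with e | e
      · left
        refine Subtype.ext (Prod.ext (Subtype.ext e) (Subtype.ext ?_))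
        rw [e, one_mul] at hx
        exact hx
      · exact Or.inr e
    let k : ↥f.ker := ⟨(⟨z, hzH⟩, ⟨z⁻¹, inv_mem hzP⟩), show z * z⁻¹ = 1 from mul_inv_cancel z⟩
    rw [Nat.card_eq_two_iff]
    refine ⟨1, k, fun e => hz1 (congrArg (fun x : f.ker => (x.1.1 : G)) e).symm, ?_⟩
    ext x
    simp only [Set.mem_univ, Set.mem_insert_iff, Set.mem_singleton_iff, iff_true]
    rcases hz2 x with e | e
    · exact Or.inl e
    · right
      have hx : (x.1.1 : G) * x.1.2 = 1 := x.2
      refine Subtype.ext (Prod.ext (Subtype.ext e) (Subtype.ext ?_))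
      show (x.1.2 : G) = z⁻¹
      rw [e] at hx
      exact eq_inv_of_mul_eq_one_right hx
  have h := Subgroup.card_eq_card_quotient_mul_card_subgroup f.ker
  rw [Nat.card_congr (QuotientGroup.quotientKerEquivRange f).toEquiv, hr, hk, hQc, Nat.card_prod,
    hHc] at h
  omega

/-- A four-dimensional space of plus type has no automorphism of order five without fixed points. -/
theorem not_plus {P : Subgroup G} {z b : G} (hb : b ^ 5 = 1)
    (hnorm : ∀ a, b * a * b⁻¹ ∈ P ↔ a ∈ P) (hfix : ∀ a ∈ P, b * a * b⁻¹ = a → a = 1 ∨ a = z)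
    (hfixz : ∀ a ∈ P, b * a * b⁻¹ = a * z → False) (hz : z ∈ P) (hzc : ∀ a ∈ P, a * z = z * a)
    (e : ↥P ≃* ES 2 (fun _ => false)) (hez : ∀ x : ES 2 (fun _ : Fin 2 => false), x.v = 0 →
      (e.symm x).1 = 1 ∨ (e.symm x).1 = z) : False := by
  classical
  let t : Fin 2 → Bool := fun _ => false
  let c : MulAut P :=
    { toFun := fun a => ⟨b * a.1 * b⁻¹, (hnorm _).2 a.2⟩
      invFun := fun a => ⟨b⁻¹ * a.1 * b, (hnorm _).1 (by
        rw [show b * (b⁻¹ * a.1 * b) * b⁻¹ = a.1 by group]; exact a.2)⟩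
      left_inv := fun a => Subtype.ext (show b⁻¹ * (b * a.1 * b⁻¹) * b = a.1 by group)
      right_inv := fun a => Subtype.ext (show b * (b⁻¹ * a.1 * b) * b⁻¹ = a.1 by group)
      map_mul' := fun a d => Subtype.ext
        (show b * (a.1 * d.1) * b⁻¹ = b * a.1 * b⁻¹ * (b * d.1 * b⁻¹) by group) }
  let φ : MulAut (ES 2 t) := e.symm.trans (c.trans e)
  have hcn : ∀ n : ℕ, ∀ a : P, ((c ^ n) a).1 = b ^ n * a.1 * (b ^ n)⁻¹ := by
    intro n
    induction n with
    | zero => intro a; simp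
    | succ n ih =>
      intro a
      rw [pow_succ, MulAut.mul_apply, ih]
      show b ^ n * (b * a.1 * b⁻¹) * (b ^ n)⁻¹ = _
      rw [pow_succ]
      group
  have hφn : ∀ n : ℕ, ∀ x, (φ ^ n) x = e ((c ^ n) (e.symm x)) := by
    intro n
    induction n with
    | zero => intro x; simp
    | succ n ih => intro x; rw [pow_succ, MulAut.mul_apply, ih, pow_succ, MulAut.mul_apply]; simp [φ]
  have hφ5 : φ ^ 5 = 1 := MulEquiv.ext fun x => by
    rw [hφn, show (c ^ 5) (e.symm x) = e.symm x from Subtype.ext (by rw [hcn, hb]; simp)]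
    exact e.apply_symm_apply x
  let σ : Equiv.Perm (Sp 2) :=
    { toFun := vLin t φ
      invFun := vLin t φ⁻¹
      left_inv := fun v => by rw [← LinearMap.comp_apply, ← vLin_mul, inv_mul_cancel, vLin_one]; rfl
      right_inv := fun v => by rw [← LinearMap.comp_apply, ← vLin_mul, mul_inv_cancel, vLin_one]; rfl }
  have hσn : ∀ n : ℕ, ∀ v, (σ ^ n) v = vLin t (φ ^ n) v := by
    intro n
    induction n with
    | zero => intro v; rw [pow_zero, pow_zero, vLin_one]; rfl
    | succ n ih => intro v; rw [pow_succ, Equiv.Perm.mul_apply, ih, pow_succ, vLin_mul]; rfl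
  let τ : Equiv.Perm {v : W // beta t v v = 0} :=
    σ.subtypePerm fun v => by show beta t (vLin t φ v) (vLin t φ v) = 0 ↔ _; rw [q_vLin]
  have hτ5 : τ ^ 5 = 1 := Equiv.ext fun v => Subtype.ext (by
    rw [Equiv.Perm.subtypePerm_pow]
    show (σ ^ 5) v.1 = v.1
    rw [hσn, hφ5, vLin_one]; rfl)
  have h := count_five τ hτ5
  have h1 : Nat.card {x : {v : W // beta t v v = 0} // τ x = x} = 1 := by
    rw [Nat.card_eq_one_iff_unique]
    refine ⟨⟨fun x y => ?_⟩, ⟨⟨⟨0, beta_zero_left t 0⟩, Subtype.ext (map_zero (vLin t φ))⟩⟩⟩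
    have key : ∀ x : {x : {v : W // beta t v v = 0} // τ x = x}, x.1.1 = 0 := by
      intro x
      by_contra hne
      have hx : vLin t φ x.1.1 = x.1.1 := congrArg Subtype.val x.2
      rw [vLin_apply] at hx
      set p := e.symm (lift t x.1.1) with hp
      have hd : (e (c p * p⁻¹)).v = 0 := by
        have h2 : (e (c p)).v = x.1.1 := hx
        rw [map_mul, map_inv, mul_v, show ((e p)⁻¹).v = (e p).v from rfl, h2, hp, e.apply_symm_apply]
        exact sp_add_self _
      have h3 := hez _ hd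
      rw [e.symm_apply_apply] at h3
      change b * p.1 * b⁻¹ * p.1⁻¹ = 1 ∨ b * p.1 * b⁻¹ * p.1⁻¹ = z at h3
      rcases h3 with h3 | h3
      · apply hne
        rcases hfix p.1 p.2 (mul_inv_eq_one.1 h3) with h4 | h4
        · have : p = 1 := Subtype.ext h4
          have h5 := congrArg (fun q => (e q).v) this
          simp only [hp, e.apply_symm_apply, map_one] at h5
          exact h5
        · have hzz : (e ⟨z, hz⟩).v = 0 := by
            rw [← mem_center_iff, Subgroup.mem_center_iff]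
            intro y
            obtain ⟨y, rfl⟩ := e.surjective y
            rw [← map_mul, ← map_mul]
            refine congrArg e (Subtype.ext ?_)
            exact hzc y.1 y.2
          have : p = ⟨z, hz⟩ := Subtype.ext h4
          have h5 := congrArg (fun q => (e q).v) this
          simp only [hp, e.apply_symm_apply, hzz] at h5
          exact h5
      · refine hfixz p.1 p.2 ?_
        rw [mul_inv_eq_iff_eq_mul] at h3
        rw [h3]
        exact (hzc p.1 p.2).symm
    exact Subtype.ext (Subtype.ext ((key x).trans (key y).symm))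
  rw [h1, Nat.card_eq_fintype_card, plus_sing_card] at h
  omega

end CfsgLib.Trans3.Conway
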