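import Cfsg.Agent.Lib.Trans3.ConwayAct

/-!
The pair `z, x` in the Conway-type configuration: `Q` and its conjugate, an element of order three
of `C(b)` cycling `⟨z, x⟩`, an involution outside `Q`, and the complement centralizing them.
-/

set_option autoImplicit false

namespace CfsgLib.Trans3.Conway

open ExtraTwo Subgroup CfsgLib.Trans3.LargeSymm

def A1 : W := ![(1, 0), (0, 0)]
def A2 : W := ![(0, 1), (0, 0)]
def X0 : W := ![(0, 0), (1, 0)]
def Y0 : W := ![(0, 0), (0, 1)]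

theorem w_facts : qW X0 = 0 ∧ X0 ≠ 0 ∧ qW A1 = 1 ∧ qW A2 = 1 ∧ qW (A1 + A2) = 1 ∧ alt A1 X0 = 0 ∧
    alt A2 X0 = 0 ∧ alt Y0 X0 = 1 ∧ alt X0 Y0 = 1 := by decide +kernel

set_option synthInstance.maxHeartbeats 400000 in
set_option synthInstance.maxSize 2000 in
theorem isotropic_fix : ∀ v : W, qW v = 0 → alt v X0 = 0 → v = 0 ∨ v = X0 := by decide +kernel

set_option synthInstance.maxHeartbeats 400000 in
set_option synthInstance.maxSize 2000 in
theorem sing_pair : ∀ v w : W, qW v = 0 → qW w = 0 → v ≠ 0 → w ≠ 0 → alt v w = 0 → v = w := by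
  decide +kernel

set_option synthInstance.maxHeartbeats 400000 in
set_option synthInstance.maxSize 2000 in
theorem span_x : ∀ v : W, alt v X0 = 0 → v = 0 ∨ v = X0 ∨ v = A1 ∨ v = A1 + X0 ∨ v = A2 ∨
    v = A2 + X0 ∨ v = A1 + A2 ∨ v = A1 + A2 + X0 := by decide +kernel

set_option synthInstance.maxHeartbeats 400000 in
set_option synthInstance.maxSize 2000 in
theorem fix_frame : ∀ y : W, qW y = qW Y0 → alt y X0 = alt Y0 X0 → alt y A1 = alt Y0 A1 →
    alt y A2 = alt Y0 A2 → y = Y0 := by decide +kernel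

theorem fix_three {k : O8} (hk : k ∈ K false) (h1 : ap k (inj false A1) = inj false A1)
    (h2 : ap k (inj false A2) = inj false A2) (hx : ap k (inj false X0) = inj false X0) : k = 1 := by
  have hy : ap k (inj false Y0) = inj false Y0 := by
    rw [St.ap_inj (K_le_St false hk)]
    refine congrArg (inj false) (fix_frame _ ?_ ?_ ?_ ?_)
    · rw [← qv_inj false, ← St.ap_inj (K_le_St false hk), ap_q, qv_inj]
    all_goals rw [show ∀ y w : W, alt y w = bV (inj false y) (inj false w) from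
      fun y w => by rw [bV_inj, pr_inj], ← St.ap_inj (K_le_St false hk)]
    · conv_lhs => rw [← hx, ap_b]
      rw [bV_inj, pr_inj]
    · conv_lhs => rw [← h1, ap_b]
      rw [bV_inj, pr_inj]
    · conv_lhs => rw [← h2, ap_b]
      rw [bV_inj, pr_inj]
  refine eq_one_of_fix (s := false) (fun w => ?_) hk.2
  have key : ∀ (q : Prop) [Decidable q] (e : W), ap k (inj false e) = inj false e →
      ap k (inj false (if q then e else 0)) = inj false (if q then e else 0) := by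
    intro q _ e he
    split_ifs
    exacts [he, by rw [inj_zero, ap_zero]]
  rw [basis_span w, inj_add, inj_add, inj_add, ap_add, ap_add, ap_add, key _ ![(1, 0), (0, 0)] h1,
    key _ ![(0, 1), (0, 0)] h2, key _ ![(0, 0), (1, 0)] hx, key _ ![(0, 0), (0, 1)] hy]

variable {G : Type*} [Group G] [Finite G]

namespace Cfg

variable {z b : G} {Q : Subgroup G} {u : G → Vv} (S : Cfg z b Q u)
include S

/-- The second involution. -/
noncomputable def xx : G := S.lift (inj false X0)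

theorem xx_mem : S.xx ∈ Q := S.lift_mem _

theorem u_xx : u S.xx = inj false X0 := S.u_lift _

theorem xx_b : S.xx * b = b * S.xx := (S.fixb _ S.xx_mem).2 (by rw [S.u_xx]; rfl)

theorem xx_sq : S.xx * S.xx = 1 := (S.sq_one_iff S.xx_mem).2 (by rw [S.u_xx, qv_inj]; exact w_facts.1)

theorem xx_ne : S.xx ≠ 1 ∧ S.xx ≠ z := by
  have h : ∀ e : G, (e = 1 ∨ e = z) → S.xx ≠ e := fun e he h => by
    have h0 : u S.xx = 0 := (S.ker _ S.xx_mem).2 (h ▸ he)
    rw [S.u_xx] at h0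
    exact w_facts.2.1 (inj_injective false (h0.trans (inj_zero false).symm))
  exact ⟨h 1 (Or.inl rfl), h z (Or.inr rfl)⟩

theorem pair {g : G} (hg : g * z * g⁻¹ = S.xx) : Pair Q z g S.xx where
  es := S.es
  centre := S.cen
  invol := S.hz
  self := S.self
  norm := S.hnorm
  hx := hg.symm
  mem := S.xx_mem
  ne := S.xx_ne.2

theorem map_eq {g g' : G} (h : g * z * g⁻¹ = g' * z * g'⁻¹) :
    Q.map (MulAut.conj g).toMonoidHom = Q.map (MulAut.conj g').toMonoidHom := by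
  have key : ∀ g g' : G, g * z * g⁻¹ = g' * z * g'⁻¹ →
      Q.map (MulAut.conj g).toMonoidHom ≤ Q.map (MulAut.conj g').toMonoidHom := by
    rintro g g' h _ ⟨a, ha, rfl⟩
    refine ⟨(g'⁻¹ * g) * a * (g'⁻¹ * g)⁻¹, S.hnorm _ (mem_centralizer_singleton_iff.2 ?_) a ha, ?_⟩
    · calc g'⁻¹ * g * z = g'⁻¹ * (g * z * g⁻¹) * g := by group
        _ = z * (g'⁻¹ * g) := by rw [h]; group
    · show g' * (g'⁻¹ * g * a * (g'⁻¹ * g)⁻¹) * g'⁻¹ = g * a * g⁻¹
      group
  exact le_antisymm (key g g' h) (key g' g h.symm)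

theorem V_cases {v : G} (hv : v ∈ closure ({z, S.xx} : Set G)) :
    v = 1 ∨ v = z ∨ v = S.xx ∨ v = z * S.xx := by
  have hcomm : S.xx * z = z * S.xx := S.zc S.xx_mem
  induction hv using Subgroup.closure_induction with
  | mem y hy => rcases hy with rfl | rfl <;> simp
  | one => simp
  | mul p q _ _ hp hq =>
    have e1 : z * (z * S.xx) = S.xx := by rw [← mul_assoc, S.zz, one_mul]
    have e2 : S.xx * (z * S.xx) = z := by rw [← mul_assoc, hcomm, mul_assoc, S.xx_sq, mul_one]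
    have e3 : z * S.xx * z = S.xx := by rw [mul_assoc, hcomm, e1]
    have e4 : z * S.xx * S.xx = z := by rw [mul_assoc, S.xx_sq, mul_one]
    have e5 : z * S.xx * (z * S.xx) = 1 := by rw [mul_assoc, e2, S.zz]
    rcases hp with rfl | rfl | rfl | rfl <;> rcases hq with rfl | rfl | rfl | rfl <;>
      simp [S.zz, S.xx_sq, hcomm, e1, e2, e3, e4, e5]
  | inv p _ hp =>
    have hzi : z⁻¹ = z := inv_eq_of_mul_eq_one_right S.zz
    have hxi : S.xx⁻¹ = S.xx := inv_eq_of_mul_eq_one_right S.xx_sq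
    rcases hp with rfl | rfl | rfl | rfl <;> simp [hzi, hxi, hcomm]

theorem exists_two {g : G} (hg : g * z * g⁻¹ = S.xx) :
    (∃ s ∈ Q ⊔ Q.map (MulAut.conj g).toMonoidHom, s * b = b * s ∧
      s * z * s⁻¹ = S.xx ∧ s * S.xx * s⁻¹ = z) ∧
    (∃ t ∈ Q ⊔ Q.map (MulAut.conj g).toMonoidHom, t * b = b * t ∧
      t * z * t⁻¹ = S.xx ∧ t * S.xx * t⁻¹ = z * S.xx) := by
  classical
  have P := S.pair hg
  set V := closure ({z, S.xx} : Set G) with hV
  set X := Q ⊔ Q.map (MulAut.conj g).toMonoidHom with hX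
  set R := (Q.map (MulAut.conj g).toMonoidHom ⊓ centralizer ({z} : Set G)) ⊔
    (Q ⊓ centralizer ({S.xx} : Set G)) with hR
  obtain ⟨hRX, hRp, ⟨hn, ⟨e6⟩⟩, hN, -, -, hcomm, -⟩ := P.X_structure V X R rfl rfl rfl
  haveI := hn
  have hzV : z ∈ V := subset_closure (Set.mem_insert _ _)
  have hxV : S.xx ∈ V := subset_closure (Set.mem_insert_of_mem _ rfl)
  let T : Type _ := {v : G // v ∈ V ∧ v ≠ 1}
  have hXN : ∀ y ∈ X, ∀ v, y * v * y⁻¹ ∈ V ∧ y * v * y⁻¹ ≠ 1 ↔ v ∈ V ∧ v ≠ 1 := fun y hy v => by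
    have hyN : y ∈ normalizer (V : Set G) := hN.symm ▸ mem_sup_left hy
    exact and_congr (mem_normalizer_iff.1 hyN v).symm (not_congr conj_eq_one_iff)
  let f : ↥X →* Equiv.Perm T := MonoidHom.mk'
    (fun y => Equiv.Perm.subtypePerm (MulAut.conj y.1).toEquiv (hXN y.1 y.2))
    fun y y' => Equiv.ext fun v => Subtype.ext (by
      show y.1 * y'.1 * v.1 * (y.1 * y'.1)⁻¹ = y.1 * (y'.1 * v.1 * y'.1⁻¹) * y.1⁻¹
      group)
  let tz : T := ⟨z, hzV, S.z_ne⟩
  let tx : T := ⟨S.xx, hxV, S.xx_ne.1⟩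
  let tm : T := ⟨z * S.xx, mul_mem hzV hxV, fun h => S.xx_ne.2 (by
    have h' := congrArg (z * ·) h
    simp only [← mul_assoc, S.zz, one_mul, mul_one] at h'
    exact h')⟩
  have hzx : tz ≠ tx := fun h => S.xx_ne.2 (congrArg Subtype.val h).symm
  have hxm : tx ≠ tm := fun h => S.z_ne (mul_eq_right.1 (congrArg Subtype.val h).symm)
  have hzm : tz ≠ tm := fun h => S.xx_ne.1 (mul_eq_left.1 (congrArg Subtype.val h).symm)
  have hall : ∀ v : T, v = tz ∨ v = tx ∨ v = tm := fun v => by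
    rcases S.V_cases v.2.1 with h | h | h | h
    exacts [absurd h v.2.2, Or.inl (Subtype.ext h), Or.inr (Or.inl (Subtype.ext h)),
      Or.inr (Or.inr (Subtype.ext h))]
  have hT : Nat.card T ≤ 3 := by
    refine le_trans (Nat.card_le_card_of_surjective (α := Fin 3) ![tz, tx, tm] fun v => ?_) (by simp)
    rcases hall v with rfl | rfl | rfl
    exacts [⟨0, rfl⟩, ⟨1, rfl⟩, ⟨2, rfl⟩]
  have hker : f.ker = R.subgroupOf X := by
    ext y
    rw [MonoidHom.mem_ker, mem_subgroupOf, hRX, Subgroup.mem_inf, hV, centralizer_closure, mem_centralizer_iff]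
    constructor
    · intro h
      refine ⟨y.2, ?_⟩
      rintro v (rfl | rfl)
      · exact (mul_inv_eq_iff_eq_mul.1 (congrArg (fun p : Equiv.Perm T => (p tz).1) h :)).symm
      · exact (mul_inv_eq_iff_eq_mul.1 (congrArg (fun p : Equiv.Perm T => (p tx).1) h :)).symm
    · rintro ⟨-, h⟩
      have fz : y.1 * z * y.1⁻¹ = z := mul_inv_eq_iff_eq_mul.2 (h z (Set.mem_insert _ _)).symm
      have fx : y.1 * S.xx * y.1⁻¹ = S.xx :=
        mul_inv_eq_iff_eq_mul.2 (h _ (Set.mem_insert_of_mem _ rfl)).symm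
      refine Equiv.ext fun v => Subtype.ext ?_
      show y.1 * v.1 * y.1⁻¹ = v.1
      rcases hall v with rfl | rfl | rfl
      · exact fz
      · exact fx
      · show y.1 * (z * S.xx) * y.1⁻¹ = z * S.xx
        rw [show y.1 * (z * S.xx) * y.1⁻¹ = (y.1 * z * y.1⁻¹) * (y.1 * S.xx * y.1⁻¹) by group, fz, fx]
  have hsurj : f.range = ⊤ := by
    haveI : Finite T := inferInstance
    refine Subgroup.eq_top_of_le_card _ ?_
    rw [← Nat.card_congr (QuotientGroup.quotientKerEquivRange f).toEquiv,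
      Nat.card_congr (QuotientGroup.quotientMulEquivOfEq hker).toEquiv, Nat.card_congr e6.toEquiv,
      Nat.card_perm, Nat.card_perm, Nat.card_fin]
    exact Nat.factorial_le hT
  have hR2 : IsPGroup 2 R := by
    haveI : Fact (Nat.Prime 2) := ⟨Nat.prime_two⟩
    rw [hRp]
    exact Amalgam.isPGroup_pCore.map _
  have hbV : b ∈ centralizer ({z} : Set G) ⊓ centralizer (V : Set G) := by
    refine ⟨S.b_mem, ?_⟩
    show b ∈ centralizer (V : Set G)
    rw [hV, centralizer_closure, mem_centralizer_iff]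
    rintro v (rfl | rfl)
    exacts [S.hbz.symm, S.xx_b]
  have key : ∀ σ : Equiv.Perm T, ∃ y ∈ X, y * b = b * y ∧ ∀ v : T, y * v.1 * y⁻¹ = (σ v).1 := by
    intro σ
    obtain ⟨⟨y, hy⟩, hyσ⟩ : ∃ y, f y = σ := by
      have : σ ∈ f.range := hsurj ▸ mem_top σ
      exact this
    let A : Set G := {a | a * y⁻¹ ∈ R}
    have hRX' : R ≤ X := hRX ▸ inf_le_left
    have hAc : Nat.card A = Nat.card R := Nat.card_congr
      { toFun := fun a => ⟨a.1 * y⁻¹, a.2⟩
        invFun := fun r => ⟨r.1 * y, by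
          show r.1 * y * y⁻¹ ∈ R
          rw [mul_inv_cancel_right]; exact r.2⟩
        left_inv := fun a => Subtype.ext (inv_mul_cancel_right a.1 y)
        right_inv := fun r => Subtype.ext (mul_inv_cancel_right r.1 y) }
    obtain ⟨n, hn2⟩ := (IsPGroup.iff_card (p := 2)).1 hR2
    haveI : Fact (Nat.Prime 5) := ⟨by norm_num⟩
    obtain ⟨a, ha, hab⟩ := exists_comm_in (p := 5) (k := 1) b (by rw [pow_one]; exact S.hb5) A
      (fun a (ha : a * y⁻¹ ∈ R) => by
        show b * a * b⁻¹ * y⁻¹ ∈ R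
        have haX : a ∈ X := by simpa using mul_mem (hRX' ha) hy
        have h1 := mul_mem (inv_mem (hcomm a haX b hbV)) ha
        rwa [show (a * b * a⁻¹ * b⁻¹)⁻¹ * (a * y⁻¹) = b * a * b⁻¹ * y⁻¹ by group] at h1)
      (by
        rw [hAc, hn2]
        intro h
        exact absurd ((Nat.prime_dvd_prime_iff_eq (Fact.out) Nat.prime_two).1
          ((Fact.out : Nat.Prime 5).dvd_of_dvd_pow h)) (by norm_num))
    have haX : a ∈ X := by simpa using mul_mem (hRX' ha) hy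
    refine ⟨a, haX, hab.symm, fun v => ?_⟩
    have hk : (⟨a, haX⟩ * ⟨y, hy⟩⁻¹ : ↥X) ∈ f.ker := by
      rw [hker, mem_subgroupOf]; exact ha
    rw [MonoidHom.mem_ker, map_mul, map_inv, mul_inv_eq_one] at hk
    exact (congrArg (fun p : Equiv.Perm T => (p v).1) (hk.trans hyσ) :)
  obtain ⟨s, hsX, hsb, hs⟩ := key (Equiv.swap tz tx)
  obtain ⟨t, htX, htb, ht⟩ := key (Equiv.swap tz tx * Equiv.swap tx tm * 1)
  have t1 := ht tz
  have t2 := ht tx
  rw [mul_one, Equiv.Perm.mul_apply, Equiv.swap_apply_of_ne_of_ne hzx hzm, Equiv.swap_apply_left] at t1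
  rw [mul_one, Equiv.Perm.mul_apply, Equiv.swap_apply_left,
    Equiv.swap_apply_of_ne_of_ne hzm.symm hxm.symm] at t2
  refine ⟨⟨s, hsX, hsb, ?_, ?_⟩, ⟨t, htX, htb, t1, t2⟩⟩
  · have := hs tz; rwa [Equiv.swap_apply_left] at this
  · have := hs tx; rwa [Equiv.swap_apply_right] at this

/-- The chosen elements. -/
structure Frame (gs w : G) : Prop where
  gz : gs * z * gs⁻¹ = S.xx
  gx : gs * S.xx * gs⁻¹ = z
  gb : gs * b = b * gs
  wz : w * z * w⁻¹ = S.xx
  wx : w * S.xx * w⁻¹ = z * S.xx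
  wb : w * b = b * w
  wX : w ∈ Q ⊔ Q.map (MulAut.conj gs).toMonoidHom
  w3 : ∃ k, w ^ 3 ^ k = 1

theorem exists_frame : ∃ gs w : G, S.Frame gs w := by
  obtain ⟨g, hg⟩ := isConj_iff.1 (S.isConj_invol S.xx_mem S.xx_sq S.xx_ne.1 S.xx_ne.2)
  obtain ⟨⟨s, -, hsb, hsz, hsx⟩, -⟩ := S.exists_two hg
  obtain ⟨-, ⟨t, htX, htb, htz, htx⟩⟩ := S.exists_two hsz
  obtain ⟨k, m, hm, he⟩ := Nat.exists_eq_pow_mul_and_not_dvd (orderOf_pos t).ne' 3 (by norm_num)
  have hxz : S.xx * z = z * S.xx := S.zc S.xx_mem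
  have t3 : t * (z * S.xx) * t⁻¹ = z := by
    rw [show t * (z * S.xx) * t⁻¹ = (t * z * t⁻¹) * (t * S.xx * t⁻¹) by group, htz, htx,
      ← mul_assoc, hxz, mul_assoc, S.xx_sq, mul_one]
  have c3 : ∀ v, (v = z ∨ v = S.xx) → t ^ 3 * v * (t ^ 3)⁻¹ = v := by
    intro v hv
    rw [show t ^ 3 * v * (t ^ 3)⁻¹ = t * (t * (t * v * t⁻¹) * t⁻¹) * t⁻¹ by
      simp only [pow_succ, pow_zero, one_mul]; group]
    rcases hv with rfl | rfl
    · rw [htz, htx, t3]
    · rw [htx, t3, htz]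
  obtain ⟨q, hq⟩ : ∃ q, m * m = 3 * q + 1 := by
    have : m * m % 3 = 1 := by
      have h3 : m % 3 = 1 ∨ m % 3 = 2 := by omega
      rcases h3 with h | h <;> rw [Nat.mul_mod, h]
    exact ⟨m * m / 3, by omega⟩
  have cq : ∀ v, (v = z ∨ v = S.xx) → ∀ n : ℕ, (t ^ 3) ^ n * v * ((t ^ 3) ^ n)⁻¹ = v := by
    intro v hv n
    induction n with
    | zero => simp
    | succ n ih =>
      rw [pow_succ', show t ^ 3 * (t ^ 3) ^ n * v * (t ^ 3 * (t ^ 3) ^ n)⁻¹ =
        t ^ 3 * ((t ^ 3) ^ n * v * ((t ^ 3) ^ n)⁻¹) * (t ^ 3)⁻¹ by group, ih, c3 v hv]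
  have hpow : t ^ (m * m) = t * (t ^ 3) ^ q := by rw [hq, ← pow_mul, pow_succ']
  refine ⟨s, t ^ (m * m), hsz, hsx, hsb, ?_, ?_, ((show Commute t b from htb).pow_left _).eq,
    pow_mem htX _, k, ?_⟩
  · rw [hpow, show t * (t ^ 3) ^ q * z * (t * (t ^ 3) ^ q)⁻¹ =
      t * ((t ^ 3) ^ q * z * ((t ^ 3) ^ q)⁻¹) * t⁻¹ by group, cq z (Or.inl rfl), htz]
  · rw [hpow, show t * (t ^ 3) ^ q * S.xx * (t * (t ^ 3) ^ q)⁻¹ =
      t * ((t ^ 3) ^ q * S.xx * ((t ^ 3) ^ q)⁻¹) * t⁻¹ by group, cq S.xx (Or.inr rfl), htx]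
  · rw [← pow_mul, show m * m * 3 ^ k = 3 ^ k * m * m by ring, ← he, pow_mul, pow_orderOf_eq_one,
      one_pow]

end Cfg

end CfsgLib.Trans3.Conway
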