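import Cfsg.Prelude.Def_Classical
import Cfsg.Agent.Lib.Classical.OrthOmega
import Cfsg.Agent.Lib.Geom.OmegaIndex
import Cfsg.Agent.Lib.Trans3.ExtraTwoOut
import Mathlib.GroupTheory.SpecificGroups.Alternating.Centralizer

/-!
The eight-dimensional quadratic space of plus type over two elements, written as a sum of two
four-dimensional spaces of minus type.
-/

set_option autoImplicit false

namespace CfsgLib.Trans3.Conway

open ExtraTwo CfsgLib.Geom CfsgLib.Classical
open QuadraticMap (polar)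

/-- The four-dimensional space. -/
abbrev W : Type := Sp 2

/-- Its form, of minus type. -/
def qW (w : W) : ZMod 2 := beta (tMinus 1) w w

/-- The eight-dimensional space. -/
abbrev Vv : Type := W × W

def qv (v : Vv) : ZMod 2 := qW v.1 + qW v.2

def bV (v w : Vv) : ZMod 2 := alt v.1 w.1 + alt v.2 w.2

theorem qW_add : ∀ x y : W, qW (x + y) = qW x + qW y + alt x y := by decide +kernel

theorem alt_add : ∀ x y : W, ∀ z : W, alt (x + y) z = alt x z + alt y z := by decide +kernel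

theorem alt_comm' : ∀ x y : W, alt x y = alt y x := by decide +kernel

theorem alt_self' : ∀ x : W, alt x x = 0 := by decide +kernel

theorem z2_two (a : ZMod 2) : a + a = 0 := z2_add_self a

theorem bV_add_left (x y z : Vv) : bV (x + y) z = bV x z + bV y z := by
  simp only [bV, Prod.fst_add, Prod.snd_add, alt_add]; ring

theorem bV_comm (x y : Vv) : bV x y = bV y x := by simp only [bV, alt_comm' x.1, alt_comm' x.2]

theorem bV_add_right (x y z : Vv) : bV x (y + z) = bV x y + bV x z := by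
  rw [bV_comm, bV_add_left, bV_comm y, bV_comm z]

theorem bV_self (x : Vv) : bV x x = 0 := by simp [bV, alt_self']

theorem bV_zero_left (x : Vv) : bV 0 x = 0 := by
  have h := bV_add_left 0 0 x
  rw [add_zero] at h
  linear_combination -h

theorem bV_zero_right (x : Vv) : bV x 0 = 0 := by rw [bV_comm, bV_zero_left]

theorem qv_add (x y : Vv) : qv (x + y) = qv x + qv y + bV x y := by
  simp only [qv, bV, Prod.fst_add, Prod.snd_add, qW_add]; ring

theorem qv_zero : qv 0 = 0 := by decide +kernel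

theorem v_add_self (v : Vv) : v + v = 0 := by
  ext i <;> exact z2_two _

theorem v_neg (v : Vv) : -v = v := neg_eq_of_add_eq_zero_right (v_add_self v)

theorem v_sub (v w : Vv) : v - w = v + w := by rw [sub_eq_add_neg, v_neg]

theorem v_eq_of_add {v w : Vv} (h : v + w = 0) : v = w := by
  rw [add_eq_zero_iff_eq_neg, v_neg] at h; exact h

theorem alt_nondeg' {x : W} (h : ∀ y, alt x y = 0) : x = 0 := by
  by_contra hx
  obtain ⟨y, hy⟩ := alt_nondeg hx
  exact one_ne_zero (hy.symm.trans (h y))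

theorem bV_nondeg {x : Vv} (h : ∀ y, bV x y = 0) : x = 0 := by
  refine Prod.ext (alt_nondeg' fun y => ?_) (alt_nondeg' fun y => ?_)
  · simpa [bV, show alt x.2 0 = 0 by simp [alt]] using h (y, 0)
  · simpa [bV, show alt x.1 0 = 0 by simp [alt]] using h (0, y)

/-- Coordinates: the two anisotropic planes together give two hyperbolic planes. -/
def c8 (v : Vv) : Fin 4 ⊕ Fin 4 → ZMod 2 :=
  Sum.elim
    ![(v.1 0).1 + (v.2 0).2, (v.2 0).2 + (v.2 0).1 + (v.1 0).1 + (v.1 0).2, (v.1 1).1, (v.2 1).1]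
    ![(v.1 0).2 + (v.2 0).2, (v.2 0).1 + (v.1 0).1 + (v.1 0).2, (v.1 1).2, (v.2 1).2]

def d8 (u : Fin 4 ⊕ Fin 4 → ZMod 2) : Vv :=
  (![(u (.inl 0) + u (.inl 1) + u (.inr 1), u (.inr 0) + u (.inl 1) + u (.inr 1)),
      (u (.inl 2), u (.inr 2))],
    ![(u (.inl 0) + u (.inr 0) + u (.inr 1), u (.inl 1) + u (.inr 1)),
      (u (.inl 3), u (.inr 3))])

theorem d8_c8 : ∀ v : Vv, d8 (c8 v) = v := by decide +kernel

theorem c8_d8 : ∀ u : Fin 4 ⊕ Fin 4 → ZMod 2, c8 (d8 u) = u := by decide +kernel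

theorem c8_add (v w : Vv) : c8 (v + w) = c8 v + c8 w := by
  funext s
  rcases s with i | i <;> fin_cases i <;>
    simp [c8] <;> ring

/-- The coordinate map. -/
def L8 : Vv ≃+ (Fin 4 ⊕ Fin 4 → ZMod 2) where
  toFun := c8
  invFun := d8
  left_inv := d8_c8
  right_inv := c8_d8
  map_add' := c8_add

/-- The plus form in standard coordinates. -/
noncomputable abbrev Q8 : QuadraticForm (ZMod 2) (Fin 4 ⊕ Fin 4 → ZMod 2) := qfPlus 4 (ZMod 2)

theorem plus_c8 : ∀ v : Vv, Cfsg.quadFormPlus 4 (ZMod 2) (c8 v) = qv v := by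
  unfold Cfsg.quadFormPlus
  decide +kernel

theorem Q8_L8 (v : Vv) : Q8 (L8 v) = qv v := by
  rw [show Q8 (L8 v) = Cfsg.quadFormPlus 4 (ZMod 2) (c8 v) from congrFun (qfPlus_coe 4) _, plus_c8]

theorem polar_L8 (v w : Vv) : polar Q8 (L8 v) (L8 w) = bV v w := by
  rw [QuadraticMap.polar, ← map_add, Q8_L8, Q8_L8, Q8_L8, qv_add]
  ring

theorem Q8_sep : ∀ x, (∀ y, polar Q8 x y = 0) → x = 0 := qfPlus_sep 4

theorem Q8_ex : (∃ t : ZMod 2, t ≠ 0 ∧ t ≠ 1) ∨
    Module.finrank (ZMod 2) (Fin 4 ⊕ Fin 4 → ZMod 2) ≠ 4 :=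
  Or.inr (by rw [Module.finrank_fintype_fun_eq_card]; decide)

/-- The orthogonal group. -/
abbrev O8 : Type := ↥(Cfsg.isometryGroup (ZMod 2) ⇑Q8)

/-- Its commutator subgroup. -/
noncomputable abbrev Om : Subgroup O8 := Cfsg.Omega (ZMod 2) ⇑Q8

/-- The action on the space. -/
noncomputable def ap (g : O8) (v : Vv) : Vv := L8.symm (g.1.1.mulVec (L8 v))

theorem ap_one (v : Vv) : ap 1 v = v := by simp [ap]

theorem ap_mul (g h : O8) (v : Vv) : ap (g * h) v = ap g (ap h v) := by
  simp [ap, Matrix.mulVec_mulVec]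

theorem ap_add (g : O8) (v w : Vv) : ap g (v + w) = ap g v + ap g w := by
  simp [ap, Matrix.mulVec_add]

theorem ap_zero (g : O8) : ap g 0 = 0 := by simp [ap]

theorem ap_inv_ap (g : O8) (v : Vv) : ap g⁻¹ (ap g v) = v := by
  rw [← ap_mul, inv_mul_cancel, ap_one]

theorem ap_ap_inv (g : O8) (v : Vv) : ap g (ap g⁻¹ v) = v := by
  rw [← ap_mul, mul_inv_cancel, ap_one]

theorem ap_injective (g : O8) : Function.Injective (ap g) :=
  Function.LeftInverse.injective (ap_inv_ap g)

theorem ap_q (g : O8) (v : Vv) : qv (ap g v) = qv v := by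
  rw [← Q8_L8, ← Q8_L8, ap, L8.apply_symm_apply]
  exact (mem_isometryGroup_iff _ _).1 g.2 _

theorem ap_b (g : O8) (v w : Vv) : bV (ap g v) (ap g w) = bV v w := by
  have h := qv_add (ap g v) (ap g w)
  rw [← ap_add, ap_q, ap_q, ap_q, qv_add] at h
  exact (add_left_cancel h).symm

theorem ap_b_left (g : O8) (v w : Vv) : bV (ap g v) w = bV v (ap g⁻¹ w) := by
  conv_lhs => rw [← ap_ap_inv g w, ap_b]

theorem ap_ext {g h : O8} (e : ∀ v, ap g v = ap h v) : g = h := by
  refine Subtype.ext (Units.ext (Matrix.ext_iff_mulVec.2 fun u => ?_))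
  have := congrArg L8 (e (L8.symm u))
  simpa [ap] using this

theorem eq_one_of_ap {g : O8} (e : ∀ v, ap g v = v) : g = 1 :=
  ap_ext fun v => by rw [e, ap_one]

/-- An isometry of the space as an element of the orthogonal group. -/
noncomputable def mkO (f : Vv ≃+ Vv) (hf : ∀ v, qv (f v) = qv v) : O8 :=
  orEquiv Q8 ⟨{ toAddEquiv := (L8.symm.trans f).trans L8
                map_smul' := fun c x => ZMod.map_smul ((L8.symm.trans f).trans L8).toAddMonoidHom c x },
    fun u => by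
      show Q8 (L8 (f (L8.symm u))) = Q8 u
      rw [Q8_L8, hf, ← Q8_L8, L8.apply_symm_apply]⟩

theorem ap_mkO (f : Vv ≃+ Vv) (hf : ∀ v, qv (f v) = qv v) (v : Vv) : ap (mkO f hf) v = f v := by
  rw [ap, mkO, orEquiv_mulVec]
  simp

/-- A reflection. -/
noncomputable def rf (u : Vv) (hu : qv u = 1) : O8 :=
  orEquiv Q8 ⟨reflEquiv Q8 (L8 u) (by rw [Q8_L8, hu]; exact one_ne_zero),
    reflEquiv_mem Q8 (L8 u) (by rw [Q8_L8, hu]; exact one_ne_zero)⟩

theorem ap_rf (u : Vv) (hu : qv u = 1) (v : Vv) :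
    ap (rf u hu) v = if bV u v = 1 then v + u else v := by
  rw [ap, rf, orEquiv_mulVec, reflEquiv_apply, Q8_L8, polar_L8, hu, inv_one, one_mul]
  rcases z2_cases (bV u v) with h | h <;> rw [h]
  · simp
  · rw [one_smul, if_pos rfl, map_sub, L8.symm_apply_apply, L8.symm_apply_apply, v_sub]

theorem rf_not_mem (u : Vv) (hu : qv u = 1) : rf u hu ∉ Om := by
  intro h
  have hv : Q8 (L8 u) ≠ 0 := by rw [Q8_L8, hu]; exact one_ne_zero
  rw [Om, omega_eq_ker_spinorHom Q8 Q8_sep Q8_ex, MonoidHom.mem_ker,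
    spinorHom_refl Q8 Q8_sep Q8_ex _ hv (glOfEquiv_reflEquiv Q8 (L8 u) hv)] at h
  exact absurd (show Multiplicative.ofAdd (1 : ZMod 2) = 1 from congrArg Prod.fst h) (by decide)

theorem om_index : Om.index = 2 :=
  omega_index_even Q8 Q8_sep Q8_ex (by decide) (by simp)

/-- `Ω⁺(8,2)` is transitive on the non-zero singular vectors. -/
theorem om_transitive {x y : Vv} (hx : qv x = 0) (hy : qv y = 0) (hx0 : x ≠ 0) (hy0 : y ≠ 0) :
    ∃ g ∈ Om, ap g x = y := by
  have h5 : 5 ≤ Module.finrank (ZMod 2) (Fin 4 ⊕ Fin 4 → ZMod 2) := by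
    rw [Module.finrank_fintype_fun_eq_card]; decide
  obtain ⟨g, hg, hgx⟩ := siegel_transitive Q8 Q8_sep h5 (x := L8 x) (y := L8 y)
    (by rw [Q8_L8, hx]) (by rw [Q8_L8, hy])
    (fun h => hx0 (L8.injective (by rw [h, map_zero])))
    (fun h => hy0 (L8.injective (by rw [h, map_zero])))
  rw [← commutator_eq_siegelGroup Q8 Q8_sep h5] at hg
  refine ⟨orEquiv Q8 g, ?_, ?_⟩
  · have h := Subgroup.mem_map_of_mem (orEquiv Q8).toMonoidHom hg
    have hs : Function.Surjective (orEquiv Q8).toMonoidHom := (orEquiv Q8).surjective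
    have e : (commutator ↥(quadIsoms Q8)).map (orEquiv Q8).toMonoidHom = Om := by
      rw [commutator_def, Subgroup.map_commutator, Subgroup.map_top_of_surjective _ hs]
      rfl
    rw [e] at h
    exact h
  · rw [ap, orEquiv_mulVec, hgx, L8.symm_apply_apply]

theorem card_sing : Nat.card {v : Vv // qv v = 0} = 136 := by
  rw [Nat.card_eq_fintype_card, Fintype.card_subtype]
  decide +kernel

attribute [irreducible] ap mkO rf

end CfsgLib.Trans3.Conway
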