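import Cfsg.Agent.Lib.Trans3.ConwayPair

/-!
An involution outside `Q` in `C(b)` which is not conjugate to `z`, and the `A5` centralizing
`z`, `Q ∩ C(b)` and the element `w` of order three.
-/

set_option autoImplicit false

namespace CfsgLib.Trans3.Conway

open ExtraTwo Subgroup CfsgLib.Trans3.LargeSymm
open scoped commutatorElement

theorem altFive_simple : IsSimpleGroup ↥(alternatingGroup (Fin 5)) :=
  alternatingGroup.isSimpleGroup (by simp)

theorem K_simple (s : Bool) : IsSimpleGroup ↥(K s) := by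
  obtain ⟨e⟩ := K_equiv s
  haveI := altFive_simple
  haveI : Nontrivial ↥(K s) := e.toEquiv.nontrivial
  exact IsSimpleGroup.isSimpleGroup_of_surjective e.symm.toMonoidHom e.symm.surjective

theorem K_card (s : Bool) : Nat.card ↥(K s) = 60 := by
  obtain ⟨e⟩ := K_equiv s
  rw [Nat.card_congr e.toEquiv, nat_card_alternatingGroup, Nat.card_fin]
  decide

theorem K_perfect (s : Bool) : commutator ↥(K s) = ⊤ := by
  haveI := K_simple s
  refine ((inferInstance : (commutator ↥(K s)).Normal).eq_bot_or_eq_top).resolve_left fun h => ?_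
  obtain ⟨e⟩ := K_equiv s
  have hc : ∀ p q : ↥(alternatingGroup (Fin 5)), p * q = q * p := fun p q => by
    apply e.symm.injective
    rw [map_mul, map_mul]
    have : ⁅e.symm p, e.symm q⁆ = 1 := by
      rw [← Subgroup.mem_bot, ← h, commutator_def]
      exact Subgroup.commutator_mem_commutator (mem_top _) (mem_top _)
    exact commutatorElement_eq_one_iff_commute.1 this
  exact absurd (hc ⟨Equiv.swap 0 1 * Equiv.swap 1 2, Equiv.Perm.mem_alternatingGroup.2 (by decide)⟩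
    ⟨Equiv.swap 0 1 * Equiv.swap 2 3, Equiv.Perm.mem_alternatingGroup.2 (by decide)⟩) (by decide)

variable {G : Type*} [Group G] [Finite G]

namespace Cfg

variable {z b : G} {Q : Subgroup G} {u : G → Vv} (S : Cfg z b Q u)
include S

noncomputable def a1 : G := S.lift (inj false A1)
noncomputable def a2 : G := S.lift (inj false A2)
noncomputable def y0 : G := S.lift (inj false Y0)

/-- The elements of `Q ∩ C(b)` centralizing the second involution. -/
def Rx (_S : Cfg z b Q u) (p : G) : Prop := p ∈ Q ∧ (u p).2 = 0 ∧ alt (u p).1 X0 = 0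

theorem u_a1 : u S.a1 = inj false A1 := S.u_lift _
theorem u_a2 : u S.a2 = inj false A2 := S.u_lift _
theorem u_y0 : u S.y0 = inj false Y0 := S.u_lift _
theorem a1_mem : S.a1 ∈ Q := S.lift_mem _
theorem a2_mem : S.a2 ∈ Q := S.lift_mem _
theorem y0_mem : S.y0 ∈ Q := S.lift_mem _

theorem rx_a1 : S.Rx S.a1 := ⟨S.a1_mem, by rw [S.u_a1]; rfl, by rw [S.u_a1]; exact w_facts.2.2.2.2.2.1⟩
theorem rx_a2 : S.Rx S.a2 := ⟨S.a2_mem, by rw [S.u_a2]; rfl, by rw [S.u_a2]; exact w_facts.2.2.2.2.2.2.1⟩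

theorem rx_mul {p q : G} (hp : S.Rx p) (hq : S.Rx q) : S.Rx (p * q) :=
  ⟨mul_mem hp.1 hq.1, by rw [S.add _ hp.1 _ hq.1, Prod.snd_add, hp.2.1, hq.2.1, add_zero],
    by rw [S.add _ hp.1 _ hq.1, Prod.fst_add, alt_add, hp.2.2, hq.2.2, add_zero]⟩

theorem rx_b {p : G} (hp : S.Rx p) : p * b = b * p := (S.fixb p hp.1).2 hp.2.1

theorem rx_x {p : G} (hp : S.Rx p) : p * S.xx = S.xx * p := by
  refine (S.comm_iff' hp.1 S.xx_mem).2 ?_
  rw [S.u_xx, bV_comm, bV_inj]
  show alt X0 (u p).1 = 0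
  rw [alt_comm', hp.2.2]

theorem rx_of_comm {p : G} (hp : p ∈ Q) (hb : p * b = b * p) (hx : p * S.xx = S.xx * p) : S.Rx p := by
  refine ⟨hp, (S.fixb p hp).1 hb, ?_⟩
  have h := (S.comm_iff' hp S.xx_mem).1 hx
  rw [S.u_xx, bV_comm, bV_inj] at h
  rw [alt_comm']
  exact h

theorem y0_comm : S.y0 * b = b * S.y0 ∧ S.y0 * S.a1 = S.a1 * S.y0 ∧ S.y0 * S.a2 = S.a2 * S.y0 ∧
    S.y0 * S.xx * S.y0⁻¹ = z * S.xx ∧ S.y0⁻¹ * S.xx * S.y0 = z * S.xx := by
  have h : ∀ {a : G} {v : W}, a ∈ Q → u a = inj false v → alt Y0 v = 0 → S.y0 * a = a * S.y0 :=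
    fun ha hu hv => (S.comm_iff' S.y0_mem ha).2 (by rw [S.u_y0, hu, bV_inj, pr_inj]; exact hv)
  have hx := S.com _ S.y0_mem _ S.xx_mem
  rw [S.u_y0, S.u_xx, bV_inj, pr_inj, w_facts.2.2.2.2.2.2.2.1, if_neg one_ne_zero] at hx
  have hzy : S.y0 * z = z * S.y0 := S.zc S.y0_mem
  have e1 : S.y0 * S.xx * S.y0⁻¹ = z * S.xx := by rw [hx]; group
  refine ⟨(S.fixb _ S.y0_mem).2 (by rw [S.u_y0]; rfl), h S.a1_mem S.u_a1 (by decide +kernel),
    h S.a2_mem S.u_a2 (by decide +kernel), e1, ?_⟩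
  calc S.y0⁻¹ * S.xx * S.y0 = S.y0⁻¹ * (z * (z * S.xx)) * S.y0 := by
        rw [← mul_assoc z z, S.zz, one_mul]
    _ = S.y0⁻¹ * (z * (S.y0 * S.xx * S.y0⁻¹)) * S.y0 := by rw [e1]
    _ = S.y0⁻¹ * (z * S.y0) * S.xx := by group
    _ = z * S.xx := by rw [← hzy]; group

/-- A subgroup containing `z`, `x`, `a₁`, `a₂` contains `Q ∩ C(b, x)`. -/
theorem rx_le {T : Subgroup G} (hz : z ∈ T) (hx : S.xx ∈ T) (h1 : S.a1 ∈ T) (h2 : S.a2 ∈ T)
    {p : G} (hp : S.Rx p) : p ∈ T := by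
  have key : ∀ {t : G}, t ∈ T → t ∈ Q → u p = u t → p ∈ T := fun ht htQ e => by
    rcases S.cases_of_u hp.1 htQ e with h | h <;> rw [h]
    exacts [ht, mul_mem ht hz]
  have e : u p = inj false (u p).1 := eq_inj_of_pr (s := false) hp.2.1
  have m : ∀ {s t : G}, s ∈ Q → t ∈ Q → u (s * t) = u s + u t := fun hs ht => S.add _ hs _ ht
  rcases span_x _ hp.2.2 with h | h | h | h | h | h | h | h <;> rw [h] at e
  · exact key (one_mem T) (one_mem Q) (by rw [e, S.u_one, inj_zero])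
  · exact key hx S.xx_mem (by rw [e, S.u_xx])
  · exact key h1 S.a1_mem (by rw [e, S.u_a1])
  · exact key (mul_mem h1 hx) (mul_mem S.a1_mem S.xx_mem)
      (by rw [e, m S.a1_mem S.xx_mem, S.u_a1, S.u_xx, inj_add])
  · exact key h2 S.a2_mem (by rw [e, S.u_a2])
  · exact key (mul_mem h2 hx) (mul_mem S.a2_mem S.xx_mem)
      (by rw [e, m S.a2_mem S.xx_mem, S.u_a2, S.u_xx, inj_add])
  · exact key (mul_mem h1 h2) (mul_mem S.a1_mem S.a2_mem)
      (by rw [e, m S.a1_mem S.a2_mem, S.u_a1, S.u_a2, inj_add])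
  · exact key (mul_mem (mul_mem h1 h2) hx) (mul_mem (mul_mem S.a1_mem S.a2_mem) S.xx_mem)
      (by rw [e, m (mul_mem S.a1_mem S.a2_mem) S.xx_mem, m S.a1_mem S.a2_mem, S.u_a1, S.u_a2, S.u_xx,
        inj_add, inj_add])

/-- A subgroup containing `z`, `x`, `a₁`, `a₂`, `y₀` contains `Q ∩ C(b)`. -/
theorem r_le {T : Subgroup G} (hz : z ∈ T) (hx : S.xx ∈ T) (h1 : S.a1 ∈ T) (h2 : S.a2 ∈ T)
    (h0 : S.y0 ∈ T) {p : G} (hp : p ∈ Q) (hp2 : (u p).2 = 0) : p ∈ T := by
  rcases z2_cases (alt (u p).1 X0) with e | e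
  · exact S.rx_le hz hx h1 h2 ⟨hp, hp2, e⟩
  · have hm : S.Rx (p * S.y0) := ⟨mul_mem hp S.y0_mem, by
      rw [S.add _ hp _ S.y0_mem, S.u_y0, Prod.snd_add, hp2]; simp [inj], by
      rw [S.add _ hp _ S.y0_mem, S.u_y0, Prod.fst_add, alt_add, e]
      show (1 : ZMod 2) + alt Y0 X0 = 0
      rw [w_facts.2.2.2.2.2.2.2.1]
      exact z2_two _⟩
    exact (Subgroup.mul_mem_cancel_right T h0).1 (S.rx_le hz hx h1 h2 hm)

section Frame

variable {gs w : G} (F : S.Frame gs w)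
include F

theorem E_cases {e : G} (h : e ∈ Q) (h' : e ∈ Q.map (MulAut.conj gs).toMonoidHom) :
    e = 1 ∨ e = z ∨ e = S.xx ∨ e = z * S.xx := by
  classical
  have P := S.pair F.gz
  obtain ⟨-, -, -, hE, -, -, -⟩ := P.R_structure _ _ _ _ rfl rfl rfl rfl
  set E := Q ⊓ Q.map (MulAut.conj gs).toMonoidHom with hEd
  have hbE : ∀ a ∈ E, b * a * b⁻¹ ∈ E := by
    rintro a ⟨ha, c, hc, rfl⟩
    refine ⟨S.conj_mem S.b_mem ha, b * c * b⁻¹, S.conj_mem S.b_mem hc, ?_⟩
    show gs * (b * c * b⁻¹) * gs⁻¹ = b * (gs * c * gs⁻¹) * b⁻¹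
    rw [show gs * (b * c * b⁻¹) * gs⁻¹ = (gs * b) * c * (gs * b)⁻¹ by group, F.gb]
    group
  have hsq : ∀ a ∈ E, qv (u a) = 0 := fun a ha =>
    (S.sq_one_iff ha.1).1 (by rw [← pow_two]; exact hE.2 a ha)
  have hb := K_le_St true S.bb_mem
  have hzero : ∀ a ∈ E, (u a).1 = 0 → (u a).2 = 0 := by
    intro a ha ha1
    by_contra hne
    have hua : u a = inj true (u a).2 := eq_inj_of_pr (s := true) ha1
    have hub : u (b * a * b⁻¹) = inj true (pr true (ap S.bb (inj true (u a).2))) := by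
      rw [← S.ap_rho (c := ⟨b, S.b_mem⟩) ha.1, ← St.ap_inj hb, ← hua]
      rfl
    have h1 := hsq a ha
    have h2 := hsq _ (hbE a ha)
    rw [hua, qv_inj] at h1
    rw [hub, qv_inj] at h2
    have h3 := (S.comm_iff' ha.1 (hbE a ha).1).1
      (congrArg Subtype.val (hE.1.is_comm.comm ⟨a, ha⟩ ⟨_, hbE a ha⟩))
    rw [hua, hub, bV_inj, pr_inj] at h3
    have h4 : pr true (ap S.bb (inj true (u a).2)) ≠ 0 := fun e => hne (by
      have := (hb true _).1 e
      rwa [pr_inj] at this)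
    have h5 := sing_pair _ _ h1 h2 hne h4 h3
    have h6 : ap S.bb (inj true (u a).2) = inj true (u a).2 := by rw [St.ap_inj hb, ← h5]
    have := fixed_of_five S.bb_mem S.bb5 S.bb1 h6
    rw [pr_inj] at this
    exact hne this
  have hmem : e ∈ E := ⟨h, h'⟩
  have he2 : (u e).2 = 0 := by
    have hd : b * e * b⁻¹ * e⁻¹ ∈ E := mul_mem (hbE e hmem) (inv_mem hmem)
    have hu : u (b * e * b⁻¹ * e⁻¹) = ap S.bb (u e) + u e := by
      rw [S.add _ (S.conj_mem S.b_mem h) _ (inv_mem h), S.u_inv h, ← S.ap_rho (c := ⟨b, S.b_mem⟩) h]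
      rfl
    have hfix : (ap S.bb (u e)).1 = (u e).1 := Fix.pr_eq (s := false) S.bb_mem.2 (u e)
    have h1 : (u (b * e * b⁻¹ * e⁻¹)).1 = 0 := by
      rw [hu, Prod.fst_add, hfix]
      exact congrArg Prod.fst (v_add_self ((u e).1, (0 : W)))
    have h2 := hzero _ hd h1
    rw [hu] at h1 h2
    have h3 : ap S.bb (u e) = u e := v_eq_of_add (Prod.ext h1 h2)
    exact fixed_of_five S.bb_mem S.bb5 S.bb1 h3
  have hex : e * S.xx = S.xx * e := P.conj_le_cx h'
  have hq := hsq e hmem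
  have hu : u e = inj false (u e).1 := eq_inj_of_pr (s := false) he2
  rw [hu, qv_inj] at hq
  have hex' := (S.comm_iff' h S.xx_mem).1 hex
  rw [S.u_xx, hu, bV_inj, pr_inj] at hex'
  rcases isotropic_fix _ hq hex' with h0 | h0
  · rw [h0, inj_zero] at hu
    rcases (S.ker e h).1 hu with r | r <;> simp [r]
  · rw [h0] at hu
    rcases S.cases_of_u h S.xx_mem (hu.trans S.u_xx.symm) with r | r
    · simp [r]
    · right; right; right; rw [r, S.zc S.xx_mem]

theorem conj_mem_map {a : G} (ha : a ∈ Q) : w * a * w⁻¹ ∈ Q.map (MulAut.conj gs).toMonoidHom := by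
  rw [← S.map_eq (F.wz.trans F.gz.symm)]
  exact ⟨a, ha, rfl⟩

theorem not_comm_w {e : G} (he : e = z ∨ e = S.xx ∨ e = z * S.xx) : w * e ≠ e * w := by
  intro h
  have h' : w * e * w⁻¹ = e := mul_inv_eq_iff_eq_mul.2 h
  rcases he with rfl | rfl | rfl
  · rw [F.wz] at h'; exact S.xx_ne.2 h'
  · rw [F.wx] at h'; exact S.z_ne (mul_eq_right.1 h')
  · rw [show w * (z * S.xx) * w⁻¹ = (w * z * w⁻¹) * (w * S.xx * w⁻¹) by group, F.wz, F.wx,
      ← mul_assoc, S.zc S.xx_mem, mul_assoc] at h'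
    exact S.xx_ne.1 (mul_left_cancel h' ▸ S.xx_sq ▸ rfl : S.xx = 1)

theorem comm_V {p c : G} (hp : S.Rx p) (hc : c ∈ Q.map (MulAut.conj gs).toMonoidHom)
    (hcz : c * z = z * c) :
    p * c * p⁻¹ * c⁻¹ = 1 ∨ p * c * p⁻¹ * c⁻¹ = z ∨ p * c * p⁻¹ * c⁻¹ = S.xx ∨
      p * c * p⁻¹ * c⁻¹ = z * S.xx := by
  have h := (S.pair F.gz).comm_E (a := p) (b := c)
    ⟨hp.1, mem_centralizer_singleton_iff.2 (S.rx_x hp)⟩ ⟨hc, mem_centralizer_singleton_iff.2 hcz⟩
  exact S.E_cases F h.1 h.2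

/-- An element of `Q^g ∩ C(z, b)` commuting with `a₁, a₂` modulo `z` lies in `Q`. -/
theorem mem_Q_of {c : G} (hc : c ∈ Q.map (MulAut.conj gs).toMonoidHom) (hcz : c * z = z * c)
    (hcb : c * b = b * c) (h : ∀ p, p = S.a1 ∨ p = S.a2 → u (c * p * c⁻¹) = u p) : c ∈ Q := by
  have P := S.pair F.gz
  have hcx : c * S.xx = S.xx * c := P.conj_le_cx hc
  have hC : c ∈ centralizer ({z} : Set G) := mem_centralizer_singleton_iff.2 hcz
  obtain ⟨n, hn⟩ : ∃ n, orderOf c = 2 ^ n := by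
    haveI : Fact (Nat.Prime 2) := ⟨Nat.prime_two⟩
    obtain ⟨a, ha, rfl⟩ := hc
    show ∃ n, orderOf ((MulAut.conj gs).toMonoidHom a) = 2 ^ n
    rw [orderOf_injective (MulAut.conj gs).toMonoidHom (MulAut.conj gs).injective]
    have : orderOf a ∣ 2 ^ 9 := by
      rw [← Subgroup.orderOf_mk a ha, show (2 : ℕ) ^ 9 = Nat.card Q by rw [S.hQc]; norm_num]
      exact orderOf_dvd_natCard _
    obtain ⟨i, -, hi⟩ := (Nat.dvd_prime_pow Nat.prime_two).1 this
    exact ⟨i, hi⟩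
  obtain ⟨hC', -, hK⟩ := S.szb_of_two hC hcb (n := n) (by rw [← hn, pow_orderOf_eq_one])
  refine (S.rho_eq_one_iff (c := ⟨c, hC'⟩)).1 (fix_three hK ?_ ?_ ?_)
  · rw [← S.u_a1, S.ap_rho S.a1_mem]; exact h _ (Or.inl rfl)
  · rw [← S.u_a2, S.ap_rho S.a2_mem]; exact h _ (Or.inr rfl)
  · rw [← S.u_xx, S.ap_rho S.xx_mem, mul_inv_eq_iff_eq_mul.2 hcx]

theorem u_of_comm {p c : G} (hp : p ∈ Q) (h : p * c * p⁻¹ * c⁻¹ = 1 ∨ p * c * p⁻¹ * c⁻¹ = z) :
    u (c * p * c⁻¹) = u p := by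
  rcases h with h | h
  · have e : p * c * p⁻¹ = c := mul_inv_eq_one.1 h
    rw [show c * p * c⁻¹ = p by rw [← mul_inv_eq_iff_eq_mul.1 e]; group]
  · have e : p * c * p⁻¹ = z * c := mul_inv_eq_iff_eq_mul.1 h
    have e2 : p * c = z * c * p := mul_inv_eq_iff_eq_mul.1 e
    have e3 : c * p * c⁻¹ = c * (z * c)⁻¹ * p * (c * c⁻¹) := by
      calc c * p * c⁻¹ = c * (z * c)⁻¹ * (z * c * p) * c⁻¹ := by group
        _ = c * (z * c)⁻¹ * (p * c) * c⁻¹ := by rw [e2]
        _ = _ := by group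
    rw [e3, show c * (z * c)⁻¹ * p * (c * c⁻¹) = z⁻¹ * p by group,
      S.add _ (inv_mem S.hzQ) _ hp, S.u_inv S.hzQ, S.u_z, zero_add]

theorem exists_tau : ∃ t : G, orderOf t = 2 ∧ t * z = z * t ∧ t * b = b * t ∧ t ∉ Q := by
  classical
  have P := S.pair F.gz
  set Q' := Q.map (MulAut.conj gs).toMonoidHom with hQ'
  let c : G → G := fun p => gs * p * gs⁻¹
  have hcQ : ∀ {p}, S.Rx p → c p ∈ Q' := fun hp => ⟨_, hp.1, rfl⟩
  have hcb : ∀ {p}, S.Rx p → c p * b = b * c p := fun hp =>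
    (((show Commute gs b from F.gb).mul_left (show Commute _ b from S.rx_b hp)).mul_left
      (show Commute gs b from F.gb).inv_left).eq
  have hgxi : gs⁻¹ * S.xx * gs = z := by rw [← F.gz]; group
  have hgzi : gs⁻¹ * z * gs = S.xx := by
    calc gs⁻¹ * z * gs = gs⁻¹ * (gs * S.xx * gs⁻¹) * gs := by rw [F.gx]
      _ = S.xx := by group
  have hcz : ∀ {p}, S.Rx p → c p * z = z * c p := fun {p} hp => by
    have h : p * (gs⁻¹ * z * gs) = (gs⁻¹ * z * gs) * p := by rw [hgzi]; exact S.rx_x hp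
    calc gs * p * gs⁻¹ * z = gs * (p * (gs⁻¹ * z * gs)) * gs⁻¹ := by group
      _ = z * (gs * p * gs⁻¹) := by rw [h]; group
  have hnotQ : ∀ {p}, S.Rx p → qW (u p).1 = 1 → c p ∉ Q := fun {p} hp hq hm => by
    have e : p = gs⁻¹ * c p * gs := by show p = gs⁻¹ * (gs * p * gs⁻¹) * gs; group
    have hu : u p = 0 ∨ u p = inj false X0 := by
      rcases S.E_cases F hm (hcQ hp) with h | h | h | h <;> rw [h] at e
      · rw [mul_one, inv_mul_cancel] at e; rw [e]; exact Or.inl S.u_one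
      · rw [hgzi] at e; rw [e]; exact Or.inr S.u_xx
      · rw [hgxi] at e; rw [e]; exact Or.inl S.u_z
      · rw [show gs⁻¹ * (z * S.xx) * gs = (gs⁻¹ * z * gs) * (gs⁻¹ * S.xx * gs) by group, hgzi,
          hgxi] at e
        rw [e, S.add _ S.xx_mem _ S.hzQ, S.u_z, add_zero]; exact Or.inr S.u_xx
    rcases hu with h | h <;> rw [h] at hq
    · exact absurd hq (by decide +kernel)
    · exact absurd hq (by decide +kernel)
  have hA : qW (u S.a1).1 = 1 ∧ qW (u S.a2).1 = 1 ∧ qW (u (S.a1 * S.a2)).1 = 1 := by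
    rw [S.add _ S.a1_mem _ S.a2_mem, S.u_a1, S.u_a2, ← inj_add]
    exact ⟨w_facts.2.2.1, w_facts.2.2.2.1, w_facts.2.2.2.2.1⟩
  let κ : G → G → G := fun p d => p * d * p⁻¹ * d⁻¹
  have hV := fun {p q : G} (hp : S.Rx p) (hq : S.Rx q) => S.comm_V F hp (hcQ hq) (hcz hq)
  have hzx : S.xx * z = z * S.xx := S.zc S.xx_mem
  have hκ : ∀ {p q r : G}, S.Rx p → S.Rx q → S.Rx r →
      κ p (c (q * r)) = κ p (c q) * κ p (c r) := fun {p q r} hp hq hr => by
    have hc : c q * κ p (c r) * (c q)⁻¹ = κ p (c r) := by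
      rw [mul_inv_eq_iff_eq_mul]
      have hx : c q * S.xx = S.xx * c q := P.conj_le_cx (hcQ hq)
      rcases hV hp hr with h | h | h | h <;> simp only [κ] <;> rw [h]
      · rw [mul_one, one_mul]
      · exact hcz hq
      · exact hx
      · rw [← mul_assoc, hcz hq, mul_assoc, hx, ← mul_assoc]
    calc κ p (c (q * r)) = κ p (c q) * (c q * κ p (c r) * (c q)⁻¹) := by simp only [κ, c]; group
      _ = _ := by rw [hc]
  -- some value outside `⟨z⟩`
  have h1 : ∃ q, (q = S.a1 ∨ q = S.a2 ∨ q = S.a1 * S.a2) ∧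
      ¬ (κ S.a1 (c q) = 1 ∨ κ S.a1 (c q) = z) := by
    by_contra hh
    push_neg at hh
    have hh1 := hh
    have bad : ∀ {q}, S.Rx q → qW (u q).1 = 1 → (κ S.a1 (c q) = 1 ∨ κ S.a1 (c q) = z) →
        κ S.a2 (c q) = S.xx ∨ κ S.a2 (c q) = z * S.xx := fun {q} hq hqq h => by
      rcases hV S.rx_a2 hq with e | e | e | e
      pick_goal 3
      · exact Or.inl e
      pick_goal 3
      · exact Or.inr e
      all_goals
        refine absurd (S.mem_Q_of F (hcQ hq) (hcz hq) (hcb hq) ?_) (hnotQ hq hqq)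
        rintro p (rfl | rfl)
        · exact S.u_of_comm F S.a1_mem h
        · exact S.u_of_comm F S.a2_mem (by first | exact Or.inl e | exact Or.inr e)
    have b1 := bad S.rx_a1 hA.1 (hh1 _ (Or.inl rfl))
    have b2 := bad S.rx_a2 hA.2.1 (hh1 _ (Or.inr (Or.inl rfl)))
    have b3 := bad (S.rx_mul S.rx_a1 S.rx_a2) hA.2.2 (hh1 _ (Or.inr (Or.inr rfl)))
    rw [hκ S.rx_a2 S.rx_a1 S.rx_a2] at b3
    have e1 : z * S.xx * S.xx = z := by rw [mul_assoc, S.xx_sq, mul_one]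
    have e2 : S.xx * (z * S.xx) = z := by rw [← mul_assoc, hzx, mul_assoc, S.xx_sq, mul_one]
    have e3 : z * S.xx * (z * S.xx) = 1 := by rw [mul_assoc, e2, S.zz]
    have n1 : (1 : G) ≠ S.xx := S.xx_ne.1.symm
    have n2 : z ≠ S.xx := S.xx_ne.2.symm
    have n3 : (1 : G) ≠ z * S.xx := fun e => n2 (by
      have h := congrArg (z * ·) e
      simp only [mul_one, ← mul_assoc, S.zz, one_mul] at h
      exact h)
    have n4 : z ≠ z * S.xx := fun e => n1 (mul_left_cancel (by rw [mul_one]; exact e))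
    rcases b1 with h1 | h1 <;> rcases b2 with h2 | h2 <;> rw [h1, h2] at b3 <;>
      simp only [S.xx_sq, e1, e2, e3] at b3
    exacts [b3.elim n1 n3, b3.elim n2 n4, b3.elim n2 n4, b3.elim n1 n3]
  -- some value outside `⟨x⟩`
  have h2 : ∃ q, (q = S.a1 ∨ q = S.a2) ∧ ¬ (κ S.a1 (c q) = 1 ∨ κ S.a1 (c q) = S.xx) := by
    by_contra hh
    push_neg at hh
    set d := gs⁻¹ * S.a1 * gs with hd
    have hgg : gs⁻¹ * z * gs⁻¹⁻¹ = gs * z * gs⁻¹ := by rw [inv_inv, hgzi, F.gz]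
    have hdQ : d ∈ Q' := by
      rw [hQ', ← S.map_eq hgg]
      exact ⟨S.a1, S.a1_mem, by show gs⁻¹ * S.a1 * gs⁻¹⁻¹ = d; rw [inv_inv]⟩
    have hdz : d * z = z * d := by
      calc d * z = gs⁻¹ * (S.a1 * (gs * z * gs⁻¹)) * gs := by rw [hd]; group
        _ = gs⁻¹ * (gs * z * gs⁻¹ * S.a1) * gs := by rw [F.gz, S.rx_x S.rx_a1]
        _ = z * d := by rw [hd]; group
    have hdb : d * b = b * d :=
      (((show Commute gs b from F.gb).inv_left.mul_left (show Commute _ b from S.rx_b S.rx_a1)).mul_left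
        (show Commute gs b from F.gb)).eq
    have hdn : d ∉ Q := fun hm => hnotQ S.rx_a1 hA.1 (by
      have e : c S.a1 = gs * gs * d * (gs * gs)⁻¹ := by simp only [c, hd]; group
      rw [e]
      refine S.conj_mem (mem_centralizer_singleton_iff.2 (mul_inv_eq_iff_eq_mul.1 ?_)) hm
      rw [show gs * gs * z * (gs * gs)⁻¹ = gs * (gs * z * gs⁻¹) * gs⁻¹ by group, F.gz, F.gx])
    refine hdn (S.mem_Q_of F hdQ hdz hdb fun p hp => S.u_of_comm F (by
      rcases hp with rfl | rfl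
      exacts [S.a1_mem, S.a2_mem]) ?_)
    have h := hh p hp
    have e : p * d * p⁻¹ * d⁻¹ = (gs⁻¹ * κ S.a1 (c p) * gs)⁻¹ := by simp only [κ, c, hd]; group
    rw [e]
    rcases h with h0 | h0
    · left; rw [h0]; group
    · right; rw [h0, hgxi]; exact inv_eq_of_mul_eq_one_right S.zz
  -- hence `z x` is a value
  obtain ⟨q, hq, hqe⟩ : ∃ q, (q = S.a1 ∨ q = S.a2 ∨ q = S.a1 * S.a2) ∧ κ S.a1 (c q) = z * S.xx := by
    by_contra hh
    push_neg at hh
    obtain ⟨q1, hq1, n1⟩ := h1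
    obtain ⟨q2, hq2, n2⟩ := h2
    push_neg at n1 n2
    have rx3 : ∀ q, (q = S.a1 ∨ q = S.a2 ∨ q = S.a1 * S.a2) → S.Rx q := by
      rintro q (rfl | rfl | rfl)
      exacts [S.rx_a1, S.rx_a2, S.rx_mul S.rx_a1 S.rx_a2]
    have hq2' : q2 = S.a1 ∨ q2 = S.a2 ∨ q2 = S.a1 * S.a2 := by
      rcases hq2 with h | h
      exacts [Or.inl h, Or.inr (Or.inl h)]
    have v1 : κ S.a1 (c q1) = S.xx := by
      rcases hV S.rx_a1 (rx3 q1 hq1) with e | e | e | e
      exacts [absurd e n1.1, absurd e n1.2, e, absurd e (hh q1 hq1)]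
    have v2 : κ S.a1 (c q2) = z := by
      rcases hV S.rx_a1 (rx3 q2 hq2') with e | e | e | e
      exacts [absurd e n2.1, e, absurd e n2.2, absurd e (hh q2 hq2')]
    have k12 := hκ S.rx_a1 S.rx_a1 S.rx_a2
    have h3 := hh (S.a1 * S.a2) (Or.inr (Or.inr rfl))
    rw [k12] at h3
    have hne : z ≠ S.xx := fun e => S.xx_ne.2 e.symm
    rcases hq2 with rfl | rfl <;> rcases hq1 with rfl | rfl | rfl
    · exact hne (v2.symm.trans v1)
    · rw [v2, v1] at h3; exact h3 rfl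
    · rw [k12, v2] at v1
      refine hh S.a2 (Or.inr (Or.inl rfl)) ?_
      calc κ S.a1 (c S.a2) = z * (z * κ S.a1 (c S.a2)) := by rw [← mul_assoc, S.zz, one_mul]
        _ = z * S.xx := by rw [v1]
    · rw [v2, v1, hzx] at h3; exact h3 rfl
    · exact hne (v2.symm.trans v1)
    · rw [k12, v2] at v1
      refine hh S.a1 (Or.inl rfl) ?_
      calc κ S.a1 (c S.a1) = (κ S.a1 (c S.a1) * z) * z := by rw [mul_assoc, S.zz, mul_one]
        _ = z * S.xx := by rw [v1, hzx]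
  have hRq : S.Rx q ∧ qW (u q).1 = 1 := by
    rcases hq with rfl | rfl | rfl
    exacts [⟨S.rx_a1, hA.1⟩, ⟨S.rx_a2, hA.2.1⟩, ⟨S.rx_mul S.rx_a1 S.rx_a2, hA.2.2⟩]
  refine ⟨S.a1 * c q, ?_, ?_, ?_, fun h => hnotQ hRq.1 hRq.2 ((Subgroup.mul_mem_cancel_left Q S.a1_mem).1 h)⟩
  · have ha2 : S.a1 * S.a1 = z := by
      rw [S.sq _ S.a1_mem, S.u_a1, qv_inj, w_facts.2.2.1, if_neg one_ne_zero]
    have hc2 : c q * c q = S.xx := by
      show gs * q * gs⁻¹ * (gs * q * gs⁻¹) = _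
      rw [show gs * q * gs⁻¹ * (gs * q * gs⁻¹) = gs * (q * q) * gs⁻¹ by group, S.sq _ hRq.1.1]
      have : qv (u q) = 1 := by
        rw [show u q = inj false (u q).1 from eq_inj_of_pr (s := false) hRq.1.2.1, qv_inj, hRq.2]
      rw [this, if_neg one_ne_zero, F.gz]
    refine orderOf_eq_prime ?_ fun h => hnotQ hRq.1 hRq.2 ?_
    · have e : c q * S.a1 = (z * S.xx) * (S.a1 * c q) := by
        calc c q * S.a1 = (κ S.a1 (c q))⁻¹ * (S.a1 * c q) := by simp only [κ]; group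
          _ = _ := by
            rw [hqe, inv_eq_of_mul_eq_one_right (a := z * S.xx) (b := z * S.xx) (by
              rw [mul_assoc, ← mul_assoc S.xx, hzx, mul_assoc z, S.xx_sq, mul_one, S.zz])]
      have hax : S.a1 * S.xx = S.xx * S.a1 := S.rx_x S.rx_a1
      calc (S.a1 * c q) ^ 2 = S.a1 * (c q * S.a1) * c q := by rw [pow_two]; group
        _ = (S.a1 * z) * S.xx * S.a1 * (c q * c q) := by rw [e]; group
        _ = z * (S.a1 * S.xx) * S.a1 * S.xx := by rw [S.zc S.a1_mem, hc2]; group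
        _ = z * S.xx * (S.a1 * S.a1) * S.xx := by rw [hax]; group
        _ = z * (S.xx * z) * S.xx := by rw [ha2]; group
        _ = 1 := by rw [hzx, ← mul_assoc, S.zz, one_mul, S.xx_sq]
    · have : c q = S.a1⁻¹ := eq_inv_of_mul_eq_one_right h
      rw [this]; exact inv_mem S.a1_mem
  · rw [mul_assoc, hcz hRq.1, ← mul_assoc, S.zc S.a1_mem, mul_assoc]
  · rw [mul_assoc, hcb hRq.1, ← mul_assoc, S.rx_b S.rx_a1, mul_assoc]

end Frame

theorem tau_not_conj {t : G} (ht : orderOf t = 2) (htz : t * z = z * t) (htb : t * b = b * t)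
    (htQ : t ∉ Q) : ¬ IsConj z t := by
  classical
  intro hc
  obtain ⟨h, hh⟩ := isConj_iff.1 hc
  have htC : t ∈ centralizer ({z} : Set G) := mem_centralizer_singleton_iff.2 htz
  have hSz : S.Szb t := S.szb_of_two htC htb (n := 1) (by rw [pow_one, ← ht, pow_orderOf_eq_one])
  -- `z` is not in the conjugate of `Q` at `t`
  have hzn : h⁻¹ * z * h ∉ Q := by
    intro hm
    have hne : h⁻¹ * z * h ≠ z := fun e => htQ (by
      have : t = z := by
        rw [← hh]
        calc h * z * h⁻¹ = h * (h⁻¹ * z * h) * h⁻¹ := by rw [e]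
          _ = z := by group
      rw [this]; exact S.hzQ)
    have P : Pair Q z h⁻¹ (h⁻¹ * z * h) :=
      { es := S.es, centre := S.cen, invol := S.hz, self := S.self, norm := S.hnorm
        hx := by rw [inv_inv], mem := hm, ne := hne }
    obtain ⟨a, ha, e⟩ := P.symm_mem
    refine htQ ?_
    rw [← hh, show h * z * h⁻¹ = a from by
      rw [← e]
      show h * (h⁻¹ * a * h⁻¹⁻¹) * h⁻¹ = a
      group]
    exact ha
  have hconj : ∀ y : G, y * t = t * y → h⁻¹ * y * h ∈ centralizer ({z} : Set G) := fun y hy => by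
    refine mem_centralizer_singleton_iff.2 ?_
    have hz' : z = h⁻¹ * t * h := by rw [← hh]; group
    rw [hz', show h⁻¹ * y * h * (h⁻¹ * t * h) = h⁻¹ * (y * t) * h by group, hy]
    group
  let CT : Subgroup G := centralizer ({t} : Set G)
  have hzt : z ∈ CT := mem_centralizer_singleton_iff.2 htz.symm
  have hbt : b ∈ CT := mem_centralizer_singleton_iff.2 htb.symm
  have hPt : ∀ p ∈ Q, (u p).1 = 0 → p ∈ CT := fun p hp h1 =>
    mem_centralizer_singleton_iff.2 (S.fix_P hSz hp h1).symm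
  let ψ : ↥CT →* O8 := S.rho.comp
    { toFun := fun y => ⟨h⁻¹ * y.1 * h, hconj y.1 (mem_centralizer_singleton_iff.1 y.2)⟩
      map_one' := Subtype.ext (by show h⁻¹ * (1 : G) * h = 1; group)
      map_mul' := fun y y' => Subtype.ext (by
        show h⁻¹ * (y.1 * y'.1) * h = h⁻¹ * y.1 * h * (h⁻¹ * y'.1 * h)
        group) }
  have hψ : ∀ y : CT, ψ y = 1 ↔ h⁻¹ * y.1 * h ∈ Q := fun y => S.rho_eq_one_iff
  have hPQ : ∀ p ∈ Q, (u p).1 = 0 → u p ≠ 0 → h⁻¹ * p * h ∉ Q := by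
    intro p hp h1 h0 hm
    obtain ⟨v, hv⟩ : ∃ v, alt (u p).2 v = 1 := alt_nondeg fun e => h0 (Prod.ext h1 e)
    have hqm := S.lift_mem (inj true v)
    have hq1 : (u (S.lift (inj true v))).1 = 0 := by rw [S.u_lift]; rfl
    set q := S.lift (inj true v) with hqd
    have hcm := S.com p hp q hqm
    rw [show bV (u p) (u q) = 1 by
      rw [bV_comm, hqd, S.u_lift, bV_inj, alt_comm']; exact hv, if_neg one_ne_zero] at hcm
    have hq' := hconj q (mem_centralizer_singleton_iff.1 (hPt q hqm hq1))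
    refine hzn ?_
    have : h⁻¹ * z * h = (h⁻¹ * p * h) * ((h⁻¹ * q * h) * (h⁻¹ * p * h)⁻¹ * (h⁻¹ * q * h)⁻¹) := by
      calc h⁻¹ * z * h = h⁻¹ * (z * (q * p) * p⁻¹ * q⁻¹) * h := by group
        _ = h⁻¹ * (p * q * p⁻¹ * q⁻¹) * h := by rw [hcm]
        _ = _ := by group
    rw [this]
    exact mul_mem hm (S.conj_mem hq' (inv_mem hm))
  have hψe : ∀ p q : CT, p.1 = q.1 → ψ p = ψ q := fun p q e => by rw [Subtype.ext e]
  let SS : Set O8 := {g | ∃ p : CT, p.1 ∈ Q ∧ (u p.1).1 = 0 ∧ ψ p = g}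
  set bt : CT := ⟨b, hbt⟩ with hbtd
  set zt : CT := ⟨z, hzt⟩ with hztd
  have hb := K_le_St true S.bb_mem
  have hub : ∀ {p : G}, p ∈ Q → u (b * p * b⁻¹) = ap S.bb (u p) := fun {p} hp =>
    (S.ap_rho (c := ⟨b, S.b_mem⟩) hp).symm
  have hP1 : ∀ {p : G}, p ∈ Q → (u p).1 = 0 → ∀ n : ℕ,
      b ^ n * p * (b ^ n)⁻¹ ∈ Q ∧ (u (b ^ n * p * (b ^ n)⁻¹)).1 = 0 := by
    intro p hp h1 n
    induction n with
    | zero => simpa using ⟨hp, h1⟩
    | succ n ih =>
      rw [show b ^ (n + 1) * p * (b ^ (n + 1))⁻¹ = b * (b ^ n * p * (b ^ n)⁻¹) * b⁻¹ by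
        rw [pow_succ']; group]
      exact ⟨S.conj_mem S.b_mem ih.1, by rw [hub ih.1]; exact (hb false _).2 ih.2⟩
  have E : Emb (ψ bt) (ψ zt) SS :=
    { hb := by
        rw [← map_pow, show bt ^ 5 = 1 from Subtype.ext S.hb5, map_one]
      hb1 := fun e => by
        have hm := (hψ bt).1 e
        have h1 : orderOf (h⁻¹ * b * h) ∣ Nat.card Q := by
          rw [← Subgroup.orderOf_mk _ hm]; exact orderOf_dvd_natCard _
        rw [show orderOf (h⁻¹ * b * h) = orderOf b from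
          orderOf_injective (MulAut.conj h⁻¹).toMonoidHom (MulAut.conj h⁻¹).injective b ▸ (by
            show orderOf (h⁻¹ * b * h) = orderOf (h⁻¹ * b * h⁻¹⁻¹); rw [inv_inv]), S.hb, S.hQc] at h1
        norm_num at h1
      norm := by
        rintro _ ⟨p, hp, hp1, rfl⟩
        refine ⟨bt⁻¹ * p * bt, ?_, ?_, by rw [map_mul, map_mul, map_inv]⟩
        all_goals show _
        · have := (hP1 hp hp1 4).1
          rwa [show b ^ 4 = b⁻¹ from eq_inv_of_mul_eq_one_left (by rw [← pow_succ, S.hb5]),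
            inv_inv] at this
        · have := (hP1 hp hp1 4).2
          rwa [show b ^ 4 = b⁻¹ from eq_inv_of_mul_eq_one_left (by rw [← pow_succ, S.hb5]),
            inv_inv] at this
      gen := by
        rintro _ ⟨p, hp, hp1, rfl⟩
        have hinj : Function.Injective fun v : W => pr true (ap S.bb (inj true v)) + v := by
          intro v v' e
          have h0 : ap S.bb (inj true (v + v')) = inj true (v + v') := by
            rw [St.ap_inj hb, inj_add, ap_add, pr_add, ← inj_add]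
            exact congrArg (inj true) (W_shuffle e)
          have h' := fixed_of_five S.bb_mem S.bb5 S.bb1 h0
          rw [pr_inj] at h'
          funext i
          exact Prod.ext
            ((by decide : ∀ a c : ZMod 2, a + c = 0 → a = c) _ _ (congrArg (fun s : W => (s i).1) h'))
            ((by decide : ∀ a c : ZMod 2, a + c = 0 → a = c) _ _ (congrArg (fun s : W => (s i).2) h'))
        obtain ⟨v, hv⟩ := Finite.injective_iff_surjective.1 hinj (u p.1).2
        have hqm := S.lift_mem (inj true v)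
        have hq1 : (u (S.lift (inj true v))).1 = 0 := by rw [S.u_lift]; rfl
        set q : CT := ⟨S.lift (inj true v), hPt _ hqm hq1⟩ with hqd
        refine ⟨ψ q, ⟨q, hqm, hq1, rfl⟩, ?_⟩
        have hd : b * q.1 * b⁻¹ * q.1⁻¹ ∈ Q := mul_mem (S.conj_mem S.b_mem hqm) (inv_mem hqm)
        have hud : u (b * q.1 * b⁻¹ * q.1⁻¹) = u p.1 := by
          rw [S.add _ (S.conj_mem S.b_mem hqm) _ (inv_mem hqm), S.u_inv hqm, hub hqm]
          show ap S.bb (u (S.lift _)) + u (S.lift _) = _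
          rw [S.u_lift, St.ap_inj hb, ← inj_add]
          exact ((eq_inj_of_pr (s := true) hp1).trans (congrArg (inj true) hv.symm)).symm
        rcases S.cases_of_u hp hd hud.symm with e | e
        · left
          rw [← map_inv, ← map_inv, ← map_mul, ← map_mul, ← map_mul]
          exact hψe _ _ e
        · right
          rw [← map_inv, ← map_inv, ← map_mul, ← map_mul, ← map_mul, ← map_mul]
          exact hψe _ _ (e.trans (S.zc hd))
      zz := by rw [← map_mul, show zt * zt = 1 from Subtype.ext S.zz, map_one]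
      z1 := fun e => hzn ((hψ zt).1 e)
      zOm := S.rho_mem_Om _
      bz := by rw [← map_mul, ← map_mul]; exact hψe _ _ S.hbz
      sz := by
        rintro _ ⟨p, hp, -, rfl⟩
        rw [← map_mul, ← map_mul]
        exact hψe _ _ (S.zc hp)
      sq := by
        rintro _ ⟨p, hp, -, rfl⟩
        rw [← map_mul]
        have h2 := S.sq p.1 hp
        split_ifs at h2
        · exact Or.inl (by rw [show p * p = 1 from Subtype.ext h2, map_one])
        · exact Or.inr (hψe _ _ h2)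
      com := by
        rintro _ ⟨p, hp, -, rfl⟩ _ ⟨q, hq, -, rfl⟩
        rw [← map_mul, ← map_mul, ← map_mul]
        have h2 := S.com p.1 hp q.1 hq
        split_ifs at h2
        · exact Or.inl (hψe _ _ h2)
        · exact Or.inr (hψe _ _ h2)
      nab := by
        have hm1 := S.lift_mem (inj true A1)
        have hm2 := S.lift_mem (inj true A2)
        have h11 : (u (S.lift (inj true A1))).1 = 0 := by rw [S.u_lift]; rfl
        have h21 : (u (S.lift (inj true A2))).1 = 0 := by rw [S.u_lift]; rfl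
        set p : CT := ⟨_, hPt _ hm1 h11⟩ with hpd
        set q : CT := ⟨_, hPt _ hm2 h21⟩ with hqd
        refine ⟨ψ p, ⟨p, hm1, h11, rfl⟩, ψ q, ⟨q, hm2, h21, rfl⟩, ?_⟩
        intro e
        have h2 := S.com p.1 hm1 q.1 hm2
        rw [show bV (u p.1) (u q.1) = 1 by
          show bV (u (S.lift (inj true A1))) (u (S.lift (inj true A2))) = 1
          rw [S.u_lift, S.u_lift]
          decide +kernel, if_neg one_ne_zero] at h2
        rw [← map_mul, ← map_mul, hψe (p * q) (zt * (q * p)) h2, map_mul, mul_eq_right] at e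
        exact hzn ((hψ zt).1 e) }
  exact E.false'

end Cfg

end CfsgLib.Trans3.Conway
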