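import Mathlib.Tactic
import Cfsg.Prelude.Def_Transfer
import Cfsg.Agent.Lib.Transfer.Extraspecial

/-!
# The squaring form of an extraspecial 2-group
-/

set_option autoImplicit false

namespace CfsgLib.Trans3

open scoped commutatorElement

variable {E : Type*} [Group E]

/-- The bit of a group element: zero exactly at the identity. -/
noncomputable def exBit (w : E) : ZMod 2 :=
  @ite _ (w = 1) (Classical.dec _) 0 1

/-- The squaring form. -/
noncomputable def exSq (x : E) : ZMod 2 := exBit (x ^ 2)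

theorem exBit_eq_zero {w : E} : exBit w = 0 ↔ w = 1 := by
  unfold exBit
  by_cases h : w = 1
  · simp [h]
  · rw [if_neg h]; simp [h]

theorem exBit_one : exBit (1 : E) = 0 := exBit_eq_zero.2 rfl

theorem exSq_eq_zero {x : E} : exSq x = 0 ↔ x ^ 2 = 1 := exBit_eq_zero

variable [Finite E] (hE : Cfsg.IsExtraspecial 2 E)

include hE

theorem ex_sq_center (x : E) : x ^ 2 ∈ Subgroup.center E :=
  hE.1.2.1 ▸ CfsgLib.Transfer.pow_mem_frattini (p := 2) hE.1.1 x

theorem ex_center_cases {a b : E} (ha : a ∈ Subgroup.center E) (hb : b ∈ Subgroup.center E)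
    (ha1 : a ≠ 1) (hb1 : b ≠ 1) : a = b := by
  have h := CfsgLib.Transfer.extraspecial_center_eq_zpowers (p := 2) hE ha ha1
  rw [h, Subgroup.mem_zpowers_iff] at hb
  obtain ⟨k, rfl⟩ := hb
  have h2 : a ^ 2 = 1 := CfsgLib.Transfer.special_center_pow hE.1 ha
  rcases Int.even_or_odd' k with ⟨m, rfl | rfl⟩
  · exact absurd (by rw [zpow_mul, zpow_ofNat, h2, one_zpow]) hb1
  · rw [zpow_add, zpow_mul, zpow_ofNat, h2, one_zpow, one_mul, zpow_one]

theorem exBit_mul {a b : E} (ha : a ∈ Subgroup.center E) (hb : b ∈ Subgroup.center E) :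
    exBit (a * b) = exBit a + exBit b := by
  by_cases h1 : a = 1
  · rw [h1, one_mul, exBit_one, zero_add]
  by_cases h2 : b = 1
  · rw [h2, mul_one, exBit_one, add_zero]
  have e := ex_center_cases hE ha hb h1 h2
  have hab : a * b = 1 := by
    rw [← e, ← sq]; exact CfsgLib.Transfer.special_center_pow hE.1 ha
  rw [hab, exBit_one, e, CharTwo.add_self_eq_zero]

/-- The commutator form. -/
theorem exSq_mul (x y : E) : exSq (x * y) = exSq x + exSq y + exBit ⁅x⁻¹, y⁆ := by
  have hc := CfsgLib.Transfer.special_commutatorElement_mem_center hE.1 x⁻¹ y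
  have e : (x * y) ^ 2 = x ^ 2 * (⁅x⁻¹, y⁆ * y ^ 2) := by
    simp only [sq, commutatorElement_def]; group
  rw [exSq, e, exBit_mul hE (ex_sq_center hE x) (mul_mem hc (ex_sq_center hE y)),
    exBit_mul hE hc (ex_sq_center hE y), exSq, exSq]
  ring

theorem exSq_quad (x y w : E) :
    exSq (x * y * w) + exSq x + exSq y + exSq w = exSq (x * y) + exSq (x * w) + exSq (y * w) := by
  have hc := CfsgLib.Transfer.special_commutatorElement_mem_center hE.1
  have e : ⁅(x * y)⁻¹, w⁆ = ⁅y⁻¹, w⁆ * ⁅x⁻¹, w⁆ := by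
    rw [mul_inv_rev, CfsgLib.Transfer.commutatorElement_mul_left hc]
  rw [exSq_mul hE (x * y) w, exSq_mul hE x y, exSq_mul hE x w, exSq_mul hE y w, e,
    exBit_mul hE (hc _ _) (hc _ _)]
  generalize exSq x = a, exSq y = b, exSq w = c, exBit ⁅x⁻¹, y⁆ = d, exBit ⁅x⁻¹, w⁆ = f,
    exBit ⁅y⁻¹, w⁆ = g
  revert a b c d f g
  decide

theorem exSq_mul_center (x : E) {c : E} (hc : c ∈ Subgroup.center E) : exSq (x * c) = exSq x := by
  have h2 : c ^ 2 = 1 := CfsgLib.Transfer.special_center_pow hE.1 hc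
  rw [exSq, exSq, (show Commute x c from Subgroup.mem_center_iff.1 hc x).mul_pow, h2, mul_one]

theorem exists_exSq_ne : ∃ x : E, exSq x ≠ 0 := by
  by_contra h
  simp only [not_exists, not_not, exSq_eq_zero] at h
  have hcomm : ∀ x y : E, x * y = y * x := fun x y => by
    have hi : ∀ g : E, g⁻¹ = g := fun g => inv_eq_of_mul_eq_one_right (by rw [← sq]; exact h g)
    rw [← hi (x * y), mul_inv_rev, hi, hi]
  have hd : ∀ x y : E, ⁅x, y⁆ = 1 := fun x y =>
    commutatorElement_eq_one_iff_mul_comm.2 (hcomm x y)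
  have hb : commutator E = ⊥ := by
    rw [commutator_eq_closure, Subgroup.closure_eq_bot_iff]
    rintro _ ⟨x, y, rfl⟩
    exact hd x y
  have := hE.2
  rw [← hE.1.2.2, hb, Subgroup.card_bot] at this
  omega

end CfsgLib.Trans3
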