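import Mathlib.Data.Fin.Basic
import Mathlib.Tactic

/-! Generated derivation: four elements of a commutative idempotent self-distributive operation
with `(x ∘ y) ∘ x = y` span at most 81 points, on which right multiplication by the generators is
given by `act`. -/

set_option autoImplicit false

namespace CfsgLib.Trans3.FourTable

/-- Index of the `g`-th generator. -/
def gen (g : Fin 4) : Fin 81 :=
  ⟨[0, 1, 3, 9].getD g.1 0 % 81, Nat.mod_lt _ (by norm_num)⟩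

/-- Digits of the image of `(a, b, c, d)` under right multiplication by the `g`-th generator. -/
def actNat : ℕ → ℕ → ℕ → ℕ → ℕ → ℕ
  | 0, a, b, c, d => 2*a%3 + 3*(2*b%3) + 9*(2*c%3) + 27*(2*d%3)
  | 1, a, b, c, d => 2*(a+1)%3 + 3*(2*b%3) + 9*(2*c%3) + 27*(2*(d+2*c*b)%3)
  | 2, a, b, c, d => 2*a%3 + 3*(2*(b+1)%3) + 9*(2*c%3) + 27*(2*(d+c*a)%3)
  | _, a, b, c, d => 2*a%3 + 3*(2*b%3) + 9*(2*(c+1)%3) + 27*(2*d%3)

/-- Right multiplication by the `g`-th generator on `(Z/3)^4`, points coded in base 3. -/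
def act (g : Fin 4) (k : Fin 81) : Fin 81 :=
  ⟨actNat g.1 (k.1 % 3) (k.1 / 3 % 3) (k.1 / 9 % 3) (k.1 / 27) % 81, Nat.mod_lt _ (by norm_num)⟩

set_option maxHeartbeats 4000000 in
set_option maxRecDepth 8000 in
theorem exists_table {α : Type*} (o : α → α → α) (idem : ∀ x, o x x = x)
    (comm : ∀ x y, o x y = o y x) (inv : ∀ x y, o (o x y) x = y)
    (dist : ∀ x y z, o (o x y) z = o (o x z) (o y z)) (x0 x1 x3 x9 : α) :
    ∃ X : Fin 81 → α, (X 0 = x0 ∧ X 1 = x1 ∧ X 3 = x3 ∧ X 9 = x9) ∧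
      ∀ g k, o (X k) (X (gen g)) = X (act g k) := by
  have sw : ∀ {p q r : α}, o p q = r → o q p = r := fun h => (comm _ _).trans h
  have iv : ∀ {p q r : α}, o p q = r → o r p = q := fun h => h ▸ inv _ _
  have d1 : ∀ {p q k h A B C : α}, o p q = k → o p h = A → o q h = B → o A B = C → o k h = C :=
    fun h1 h2 h3 h4 => by rw [← h1, dist, h2, h3, h4]
  have d3 : ∀ {p q k h A B K : α}, o p q = k → o p h = A → o q h = B → o k h = K → o A B = K :=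
    fun h1 h2 h3 h4 => by rw [← h2, ← h3, ← dist, h1, h4]
  have f0_0 : o x0 x0 = x0 := idem _
  have f1_1 : o x1 x1 = x1 := idem _
  have f3_3 : o x3 x3 = x3 := idem _
  have f9_9 : o x9 x9 = x9 := idem _
  obtain ⟨x2, hd2⟩ : ∃ z, o x0 x1 = z := ⟨_, rfl⟩
  have f0_1 : o x0 x1 = x2 := hd2
  obtain ⟨x6, hd6⟩ : ∃ z, o x0 x3 = z := ⟨_, rfl⟩
  have f0_3 : o x0 x3 = x6 := hd6
  obtain ⟨x18, hd18⟩ : ∃ z, o x0 x9 = z := ⟨_, rfl⟩
  have f0_9 : o x0 x9 = x18 := hd18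
  obtain ⟨x8, hd8⟩ : ∃ z, o x1 x3 = z := ⟨_, rfl⟩
  have f1_3 : o x1 x3 = x8 := hd8
  obtain ⟨x20, hd20⟩ : ∃ z, o x1 x9 = z := ⟨_, rfl⟩
  have f1_9 : o x1 x9 = x20 := hd20
  obtain ⟨x24, hd24⟩ : ∃ z, o x3 x9 = z := ⟨_, rfl⟩
  have f3_9 : o x3 x9 = x24 := hd24
  obtain ⟨x7, hd7⟩ : ∃ z, o x2 x3 = z := ⟨_, rfl⟩
  have f3_2 : o x3 x2 = x7 := (sw hd7)
  obtain ⟨x19, hd19⟩ : ∃ z, o x2 x9 = z := ⟨_, rfl⟩
  have f9_2 : o x9 x2 = x19 := (sw hd19)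
  obtain ⟨x5, hd5⟩ : ∃ z, o x6 x1 = z := ⟨_, rfl⟩
  have f1_6 : o x1 x6 = x5 := (sw hd5)
  obtain ⟨x21, hd21⟩ : ∃ z, o x6 x9 = z := ⟨_, rfl⟩
  have f9_6 : o x9 x6 = x21 := (sw hd21)
  obtain ⟨x11, hd11⟩ : ∃ z, o x18 x1 = z := ⟨_, rfl⟩
  have f1_18 : o x1 x18 = x11 := (sw hd11)
  obtain ⟨x15, hd15⟩ : ∃ z, o x18 x3 = z := ⟨_, rfl⟩
  have f3_18 : o x3 x18 = x15 := (sw hd15)
  obtain ⟨x4, hd4⟩ : ∃ z, o x8 x0 = z := ⟨_, rfl⟩
  have f0_8 : o x0 x8 = x4 := (sw hd4)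
  obtain ⟨x22, hd22⟩ : ∃ z, o x8 x9 = z := ⟨_, rfl⟩
  have f9_8 : o x9 x8 = x22 := (sw hd22)
  obtain ⟨x10, hd10⟩ : ∃ z, o x20 x0 = z := ⟨_, rfl⟩
  have f0_20 : o x0 x20 = x10 := (sw hd10)
  obtain ⟨x70, hd70⟩ : ∃ z, o x20 x3 = z := ⟨_, rfl⟩
  have f3_20 : o x3 x20 = x70 := (sw hd70)
  obtain ⟨x12, hd12⟩ : ∃ z, o x24 x0 = z := ⟨_, rfl⟩
  have f0_24 : o x0 x24 = x12 := (sw hd12)
  obtain ⟨x41, hd41⟩ : ∃ z, o x24 x1 = z := ⟨_, rfl⟩
  have f1_24 : o x1 x24 = x41 := (sw hd41)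
  obtain ⟨x23, hd23⟩ : ∃ z, o x7 x9 = z := ⟨_, rfl⟩
  have f9_7 : o x9 x7 = x23 := (sw hd23)
  obtain ⟨x44, hd44⟩ : ∃ z, o x19 x3 = z := ⟨_, rfl⟩
  have f3_19 : o x3 x19 = x44 := (sw hd44)
  obtain ⟨x25, hd25⟩ : ∃ z, o x5 x9 = z := ⟨_, rfl⟩
  have f9_5 : o x9 x5 = x25 := (sw hd25)
  obtain ⟨x71, hd71⟩ : ∃ z, o x21 x1 = z := ⟨_, rfl⟩
  have f1_21 : o x1 x21 = x71 := (sw hd71)
  obtain ⟨x52, hd52⟩ : ∃ z, o x11 x3 = z := ⟨_, rfl⟩
  have f3_11 : o x3 x11 = x52 := (sw hd52)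
  obtain ⟨x77, hd77⟩ : ∃ z, o x15 x1 = z := ⟨_, rfl⟩
  have f1_15 : o x1 x15 = x77 := (sw hd77)
  obtain ⟨x26, hd26⟩ : ∃ z, o x4 x9 = z := ⟨_, rfl⟩
  have f9_4 : o x9 x4 = x26 := (sw hd26)
  obtain ⟨x17, hd17⟩ : ∃ z, o x22 x0 = z := ⟨_, rfl⟩
  have f0_22 : o x0 x22 = x17 := (sw hd17)
  obtain ⟨x80, hd80⟩ : ∃ z, o x10 x3 = z := ⟨_, rfl⟩
  have f3_10 : o x3 x10 = x80 := (sw hd80)
  obtain ⟨x50, hd50⟩ : ∃ z, o x70 x0 = z := ⟨_, rfl⟩
  have f0_70 : o x0 x70 = x50 := (sw hd50)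
  obtain ⟨x53, hd53⟩ : ∃ z, o x12 x1 = z := ⟨_, rfl⟩
  have f1_12 : o x1 x12 = x53 := (sw hd53)
  obtain ⟨x79, hd79⟩ : ∃ z, o x41 x0 = z := ⟨_, rfl⟩
  have f0_41 : o x0 x41 = x79 := (sw hd79)
  obtain ⟨x16, hd16⟩ : ∃ z, o x23 x0 = z := ⟨_, rfl⟩
  have f0_23 : o x0 x23 = x16 := (sw hd16)
  obtain ⟨x69, hd69⟩ : ∃ z, o x23 x1 = z := ⟨_, rfl⟩
  have f1_23 : o x1 x23 = x69 := (sw hd69)
  obtain ⟨x67, hd67⟩ : ∃ z, o x23 x3 = z := ⟨_, rfl⟩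
  have f3_23 : o x3 x23 = x67 := (sw hd67)
  obtain ⟨x76, hd76⟩ : ∃ z, o x44 x0 = z := ⟨_, rfl⟩
  have f0_44 : o x0 x44 = x76 := (sw hd76)
  obtain ⟨x48, hd48⟩ : ∃ z, o x44 x1 = z := ⟨_, rfl⟩
  have f1_44 : o x1 x44 = x48 := (sw hd48)
  obtain ⟨x14, hd14⟩ : ∃ z, o x25 x0 = z := ⟨_, rfl⟩
  have f0_25 : o x0 x25 = x14 := (sw hd14)
  obtain ⟨x40, hd40⟩ : ∃ z, o x25 x1 = z := ⟨_, rfl⟩
  have f1_25 : o x1 x25 = x40 := (sw hd40)
  obtain ⟨x38, hd38⟩ : ∃ z, o x25 x3 = z := ⟨_, rfl⟩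
  have f3_25 : o x3 x25 = x38 := (sw hd38)
  obtain ⟨x49, hd49⟩ : ∃ z, o x71 x0 = z := ⟨_, rfl⟩
  have f0_71 : o x0 x71 = x49 := (sw hd49)
  obtain ⟨x73, hd73⟩ : ∃ z, o x71 x3 = z := ⟨_, rfl⟩
  have f3_71 : o x3 x71 = x73 := (sw hd73)
  obtain ⟨x68, hd68⟩ : ∃ z, o x52 x0 = z := ⟨_, rfl⟩
  have f0_52 : o x0 x52 = x68 := (sw hd68)
  obtain ⟨x13, hd13⟩ : ∃ z, o x52 x1 = z := ⟨_, rfl⟩
  have f1_52 : o x1 x52 = x13 := (sw hd13)
  obtain ⟨x59, hd59⟩ : ∃ z, o x52 x9 = z := ⟨_, rfl⟩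
  have f9_52 : o x9 x52 = x59 := (sw hd59)
  obtain ⟨x43, hd43⟩ : ∃ z, o x77 x0 = z := ⟨_, rfl⟩
  have f0_77 : o x0 x77 = x43 := (sw hd43)
  obtain ⟨x34, hd34⟩ : ∃ z, o x77 x9 = z := ⟨_, rfl⟩
  have f9_77 : o x9 x77 = x34 := (sw hd34)
  obtain ⟨x39, hd39⟩ : ∃ z, o x26 x1 = z := ⟨_, rfl⟩
  have f1_26 : o x1 x26 = x39 := (sw hd39)
  obtain ⟨x64, hd64⟩ : ∃ z, o x26 x3 = z := ⟨_, rfl⟩
  have f3_26 : o x3 x26 = x64 := (sw hd64)
  obtain ⟨x75, hd75⟩ : ∃ z, o x17 x1 = z := ⟨_, rfl⟩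
  have f1_17 : o x1 x17 = x75 := (sw hd75)
  obtain ⟨x46, hd46⟩ : ∃ z, o x17 x3 = z := ⟨_, rfl⟩
  have f3_17 : o x3 x17 = x46 := (sw hd46)
  obtain ⟨x66, hd66⟩ : ∃ z, o x80 x1 = z := ⟨_, rfl⟩
  have f1_80 : o x1 x80 = x66 := (sw hd66)
  obtain ⟨x31, hd31⟩ : ∃ z, o x80 x9 = z := ⟨_, rfl⟩
  have f9_80 : o x9 x80 = x31 := (sw hd31)
  obtain ⟨x42, hd42⟩ : ∃ z, o x50 x1 = z := ⟨_, rfl⟩
  have f1_50 : o x1 x50 = x42 := (sw hd42)
  obtain ⟨x61, hd61⟩ : ∃ z, o x50 x9 = z := ⟨_, rfl⟩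
  have f9_50 : o x9 x50 = x61 := (sw hd61)
  obtain ⟨x37, hd37⟩ : ∃ z, o x53 x3 = z := ⟨_, rfl⟩
  have f3_53 : o x3 x53 = x37 := (sw hd37)
  obtain ⟨x58, hd58⟩ : ∃ z, o x53 x9 = z := ⟨_, rfl⟩
  have f9_53 : o x9 x53 = x58 := (sw hd58)
  obtain ⟨x65, hd65⟩ : ∃ z, o x79 x3 = z := ⟨_, rfl⟩
  have f3_79 : o x3 x79 = x65 := (sw hd65)
  obtain ⟨x32, hd32⟩ : ∃ z, o x79 x9 = z := ⟨_, rfl⟩
  have f9_79 : o x9 x79 = x32 := (sw hd32)
  obtain ⟨x74, hd74⟩ : ∃ z, o x16 x3 = z := ⟨_, rfl⟩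
  have f3_16 : o x3 x16 = x74 := (sw hd74)
  obtain ⟨x45, hd45⟩ : ∃ z, o x69 x3 = z := ⟨_, rfl⟩
  have f3_69 : o x3 x69 = x45 := (sw hd45)
  obtain ⟨x35, hd35⟩ : ∃ z, o x76 x9 = z := ⟨_, rfl⟩
  have f9_76 : o x9 x76 = x35 := (sw hd35)
  obtain ⟨x60, hd60⟩ : ∃ z, o x48 x9 = z := ⟨_, rfl⟩
  have f9_48 : o x9 x48 = x60 := (sw hd60)
  obtain ⟨x51, hd51⟩ : ∃ z, o x14 x1 = z := ⟨_, rfl⟩
  have f1_14 : o x1 x14 = x51 := (sw hd51)
  obtain ⟨x72, hd72⟩ : ∃ z, o x38 x1 = z := ⟨_, rfl⟩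
  have f1_38 : o x1 x38 = x72 := (sw hd72)
  obtain ⟨x62, hd62⟩ : ∃ z, o x49 x9 = z := ⟨_, rfl⟩
  have f9_49 : o x9 x49 = x62 := (sw hd62)
  obtain ⟨x29, hd29⟩ : ∃ z, o x73 x9 = z := ⟨_, rfl⟩
  have f9_73 : o x9 x73 = x29 := (sw hd29)
  obtain ⟨x78, hd78⟩ : ∃ z, o x68 x1 = z := ⟨_, rfl⟩
  have f1_68 : o x1 x68 = x78 := (sw hd78)
  obtain ⟨x33, hd33⟩ : ∃ z, o x59 x1 = z := ⟨_, rfl⟩
  have f1_59 : o x1 x59 = x33 := (sw hd33)
  obtain ⟨x47, hd47⟩ : ∃ z, o x43 x3 = z := ⟨_, rfl⟩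
  have f3_43 : o x3 x43 = x47 := (sw hd47)
  obtain ⟨x56, hd56⟩ : ∃ z, o x34 x3 = z := ⟨_, rfl⟩
  have f3_34 : o x3 x34 = x56 := (sw hd56)
  obtain ⟨x36, hd36⟩ : ∃ z, o x74 x1 = z := ⟨_, rfl⟩
  have f1_74 : o x1 x74 = x36 := (sw hd36)
  obtain ⟨x28, hd28⟩ : ∃ z, o x74 x9 = z := ⟨_, rfl⟩
  have f9_74 : o x9 x74 = x28 := (sw hd28)
  obtain ⟨x63, hd63⟩ : ∃ z, o x45 x0 = z := ⟨_, rfl⟩
  have f0_45 : o x0 x45 = x63 := (sw hd63)
  obtain ⟨x54, hd54⟩ : ∃ z, o x45 x9 = z := ⟨_, rfl⟩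
  have f9_45 : o x9 x45 = x54 := (sw hd54)
  obtain ⟨x57, hd57⟩ : ∃ z, o x35 x1 = z := ⟨_, rfl⟩
  have f1_35 : o x1 x35 = x57 := (sw hd57)
  obtain ⟨x55, hd55⟩ : ∃ z, o x35 x3 = z := ⟨_, rfl⟩
  have f3_35 : o x3 x35 = x55 := (sw hd55)
  obtain ⟨x30, hd30⟩ : ∃ z, o x60 x0 = z := ⟨_, rfl⟩
  have f0_60 : o x0 x60 = x30 := (sw hd30)
  obtain ⟨x27, hd27⟩ : ∃ z, o x60 x3 = z := ⟨_, rfl⟩
  have f3_60 : o x3 x60 = x27 := (sw hd27)
  have f0_2 : o x0 x2 = x1 := (sw (iv f0_1))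
  have f1_2 : o x1 x2 = x0 := (sw (iv (sw f0_1)))
  have f0_6 : o x0 x6 = x3 := (sw (iv f0_3))
  have f3_6 : o x3 x6 = x0 := (sw (iv (sw f0_3)))
  have f0_18 : o x0 x18 = x9 := (sw (iv f0_9))
  have f9_18 : o x9 x18 = x0 := (sw (iv (sw f0_9)))
  have f1_8 : o x1 x8 = x3 := (sw (iv f1_3))
  have f3_8 : o x3 x8 = x1 := (sw (iv (sw f1_3)))
  have f1_20 : o x1 x20 = x9 := (sw (iv f1_9))
  have f9_20 : o x9 x20 = x1 := (sw (iv (sw f1_9)))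
  have f3_24 : o x3 x24 = x9 := (sw (iv f3_9))
  have f9_24 : o x9 x24 = x3 := (sw (iv (sw f3_9)))
  have f3_7 : o x3 x7 = x2 := (sw (iv f3_2))
  have f2_7 : o x2 x7 = x3 := (sw (iv (sw f3_2)))
  have f9_19 : o x9 x19 = x2 := (sw (iv f9_2))
  have f2_19 : o x2 x19 = x9 := (sw (iv (sw f9_2)))
  have f1_5 : o x1 x5 = x6 := (sw (iv f1_6))
  have f6_5 : o x6 x5 = x1 := (sw (iv (sw f1_6)))
  have f9_21 : o x9 x21 = x6 := (sw (iv f9_6))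
  have f6_21 : o x6 x21 = x9 := (sw (iv (sw f9_6)))
  have f1_11 : o x1 x11 = x18 := (sw (iv f1_18))
  have f18_11 : o x18 x11 = x1 := (sw (iv (sw f1_18)))
  have f3_15 : o x3 x15 = x18 := (sw (iv f3_18))
  have f18_15 : o x18 x15 = x3 := (sw (iv (sw f3_18)))
  have f0_4 : o x0 x4 = x8 := (sw (iv f0_8))
  have f8_4 : o x8 x4 = x0 := (sw (iv (sw f0_8)))
  have f9_22 : o x9 x22 = x8 := (sw (iv f9_8))
  have f8_22 : o x8 x22 = x9 := (sw (iv (sw f9_8)))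
  have f0_10 : o x0 x10 = x20 := (sw (iv f0_20))
  have f20_10 : o x20 x10 = x0 := (sw (iv (sw f0_20)))
  have f3_70 : o x3 x70 = x20 := (sw (iv f3_20))
  have f20_70 : o x20 x70 = x3 := (sw (iv (sw f3_20)))
  have f0_12 : o x0 x12 = x24 := (sw (iv f0_24))
  have f24_12 : o x24 x12 = x0 := (sw (iv (sw f0_24)))
  have f1_41 : o x1 x41 = x24 := (sw (iv f1_24))
  have f24_41 : o x24 x41 = x1 := (sw (iv (sw f1_24)))
  have f9_23 : o x9 x23 = x7 := (sw (iv f9_7))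
  have f7_23 : o x7 x23 = x9 := (sw (iv (sw f9_7)))
  have f3_44 : o x3 x44 = x19 := (sw (iv f3_19))
  have f19_44 : o x19 x44 = x3 := (sw (iv (sw f3_19)))
  have f9_25 : o x9 x25 = x5 := (sw (iv f9_5))
  have f5_25 : o x5 x25 = x9 := (sw (iv (sw f9_5)))
  have f1_71 : o x1 x71 = x21 := (sw (iv f1_21))
  have f21_71 : o x21 x71 = x1 := (sw (iv (sw f1_21)))
  have f3_52 : o x3 x52 = x11 := (sw (iv f3_11))
  have f11_52 : o x11 x52 = x3 := (sw (iv (sw f3_11)))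
  have f1_77 : o x1 x77 = x15 := (sw (iv f1_15))
  have f15_77 : o x15 x77 = x1 := (sw (iv (sw f1_15)))
  have f9_26 : o x9 x26 = x4 := (sw (iv f9_4))
  have f4_26 : o x4 x26 = x9 := (sw (iv (sw f9_4)))
  have f0_17 : o x0 x17 = x22 := (sw (iv f0_22))
  have f22_17 : o x22 x17 = x0 := (sw (iv (sw f0_22)))
  have f3_80 : o x3 x80 = x10 := (sw (iv f3_10))
  have f10_80 : o x10 x80 = x3 := (sw (iv (sw f3_10)))
  have f0_50 : o x0 x50 = x70 := (sw (iv f0_70))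
  have f70_50 : o x70 x50 = x0 := (sw (iv (sw f0_70)))
  have f1_53 : o x1 x53 = x12 := (sw (iv f1_12))
  have f12_53 : o x12 x53 = x1 := (sw (iv (sw f1_12)))
  have f0_79 : o x0 x79 = x41 := (sw (iv f0_41))
  have f41_79 : o x41 x79 = x0 := (sw (iv (sw f0_41)))
  have f0_16 : o x0 x16 = x23 := (sw (iv f0_23))
  have f23_16 : o x23 x16 = x0 := (sw (iv (sw f0_23)))
  have f1_69 : o x1 x69 = x23 := (sw (iv f1_23))
  have f23_69 : o x23 x69 = x1 := (sw (iv (sw f1_23)))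
  have f3_67 : o x3 x67 = x23 := (sw (iv f3_23))
  have f23_67 : o x23 x67 = x3 := (sw (iv (sw f3_23)))
  have f0_76 : o x0 x76 = x44 := (sw (iv f0_44))
  have f44_76 : o x44 x76 = x0 := (sw (iv (sw f0_44)))
  have f1_48 : o x1 x48 = x44 := (sw (iv f1_44))
  have f44_48 : o x44 x48 = x1 := (sw (iv (sw f1_44)))
  have f0_14 : o x0 x14 = x25 := (sw (iv f0_25))
  have f25_14 : o x25 x14 = x0 := (sw (iv (sw f0_25)))
  have f1_40 : o x1 x40 = x25 := (sw (iv f1_25))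
  have f25_40 : o x25 x40 = x1 := (sw (iv (sw f1_25)))
  have f3_38 : o x3 x38 = x25 := (sw (iv f3_25))
  have f25_38 : o x25 x38 = x3 := (sw (iv (sw f3_25)))
  have f0_49 : o x0 x49 = x71 := (sw (iv f0_71))
  have f71_49 : o x71 x49 = x0 := (sw (iv (sw f0_71)))
  have f3_73 : o x3 x73 = x71 := (sw (iv f3_71))
  have f71_73 : o x71 x73 = x3 := (sw (iv (sw f3_71)))
  have f0_68 : o x0 x68 = x52 := (sw (iv f0_52))
  have f52_68 : o x52 x68 = x0 := (sw (iv (sw f0_52)))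
  have f1_13 : o x1 x13 = x52 := (sw (iv f1_52))
  have f52_13 : o x52 x13 = x1 := (sw (iv (sw f1_52)))
  have f9_59 : o x9 x59 = x52 := (sw (iv f9_52))
  have f52_59 : o x52 x59 = x9 := (sw (iv (sw f9_52)))
  have f0_43 : o x0 x43 = x77 := (sw (iv f0_77))
  have f77_43 : o x77 x43 = x0 := (sw (iv (sw f0_77)))
  have f9_34 : o x9 x34 = x77 := (sw (iv f9_77))
  have f77_34 : o x77 x34 = x9 := (sw (iv (sw f9_77)))
  have f1_39 : o x1 x39 = x26 := (sw (iv f1_26))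
  have f26_39 : o x26 x39 = x1 := (sw (iv (sw f1_26)))
  have f3_64 : o x3 x64 = x26 := (sw (iv f3_26))
  have f26_64 : o x26 x64 = x3 := (sw (iv (sw f3_26)))
  have f1_75 : o x1 x75 = x17 := (sw (iv f1_17))
  have f17_75 : o x17 x75 = x1 := (sw (iv (sw f1_17)))
  have f3_46 : o x3 x46 = x17 := (sw (iv f3_17))
  have f17_46 : o x17 x46 = x3 := (sw (iv (sw f3_17)))
  have f1_66 : o x1 x66 = x80 := (sw (iv f1_80))
  have f80_66 : o x80 x66 = x1 := (sw (iv (sw f1_80)))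
  have f9_31 : o x9 x31 = x80 := (sw (iv f9_80))
  have f80_31 : o x80 x31 = x9 := (sw (iv (sw f9_80)))
  have f1_42 : o x1 x42 = x50 := (sw (iv f1_50))
  have f9_61 : o x9 x61 = x50 := (sw (iv f9_50))
  have f3_37 : o x3 x37 = x53 := (sw (iv f3_53))
  have f53_37 : o x53 x37 = x3 := (sw (iv (sw f3_53)))
  have f9_58 : o x9 x58 = x53 := (sw (iv f9_53))
  have f53_58 : o x53 x58 = x9 := (sw (iv (sw f9_53)))
  have f3_65 : o x3 x65 = x79 := (sw (iv f3_79))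
  have f79_65 : o x79 x65 = x3 := (sw (iv (sw f3_79)))
  have f9_32 : o x9 x32 = x79 := (sw (iv f9_79))
  have f79_32 : o x79 x32 = x9 := (sw (iv (sw f9_79)))
  have f3_74 : o x3 x74 = x16 := (sw (iv f3_16))
  have f16_74 : o x16 x74 = x3 := (sw (iv (sw f3_16)))
  have f3_45 : o x3 x45 = x69 := (sw (iv f3_69))
  have f69_45 : o x69 x45 = x3 := (sw (iv (sw f3_69)))
  have f9_35 : o x9 x35 = x76 := (sw (iv f9_76))
  have f76_35 : o x76 x35 = x9 := (sw (iv (sw f9_76)))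
  have f9_60 : o x9 x60 = x48 := (sw (iv f9_48))
  have f48_60 : o x48 x60 = x9 := (sw (iv (sw f9_48)))
  have f1_51 : o x1 x51 = x14 := (sw (iv f1_14))
  have f14_51 : o x14 x51 = x1 := (sw (iv (sw f1_14)))
  have f1_72 : o x1 x72 = x38 := (sw (iv f1_38))
  have f9_62 : o x9 x62 = x49 := (sw (iv f9_49))
  have f49_62 : o x49 x62 = x9 := (sw (iv (sw f9_49)))
  have f9_29 : o x9 x29 = x73 := (sw (iv f9_73))
  have f73_29 : o x73 x29 = x9 := (sw (iv (sw f9_73)))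
  have f1_78 : o x1 x78 = x68 := (sw (iv f1_68))
  have f68_78 : o x68 x78 = x1 := (sw (iv (sw f1_68)))
  have f1_33 : o x1 x33 = x59 := (sw (iv f1_59))
  have f3_47 : o x3 x47 = x43 := (sw (iv f3_43))
  have f43_47 : o x43 x47 = x3 := (sw (iv (sw f3_43)))
  have f3_56 : o x3 x56 = x34 := (sw (iv f3_34))
  have f34_56 : o x34 x56 = x3 := (sw (iv (sw f3_34)))
  have f1_36 : o x1 x36 = x74 := (sw (iv f1_74))
  have f9_28 : o x9 x28 = x74 := (sw (iv f9_74))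
  have f0_63 : o x0 x63 = x45 := (sw (iv f0_45))
  have f45_63 : o x45 x63 = x0 := (sw (iv (sw f0_45)))
  have f9_54 : o x9 x54 = x45 := (sw (iv f9_45))
  have f1_57 : o x1 x57 = x35 := (sw (iv f1_35))
  have f3_55 : o x3 x55 = x35 := (sw (iv f3_35))
  have f0_30 : o x0 x30 = x60 := (sw (iv f0_60))
  have f60_30 : o x60 x30 = x0 := (sw (iv (sw f0_60)))
  have f3_27 : o x3 x27 = x60 := (sw (iv f3_60))
  have f6_8 : o x6 x8 = x7 := (d3 f0_1 f0_3 f1_3 (sw f3_2))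
  have f18_20 : o x18 x20 = x19 := (d3 f0_1 f0_9 f1_9 (sw f9_2))
  have f2_8 : o x2 x8 = x5 := (d3 f0_3 f0_1 (sw f1_3) (sw f1_6))
  have f18_24 : o x18 x24 = x21 := (d3 f0_3 f0_9 f3_9 (sw f9_6))
  have f1_4 : o x1 x4 = x7 := (sw (d3 f0_3 f0_8 f3_8 f6_8))
  have f2_20 : o x2 x20 = x11 := (d3 f0_9 f0_1 (sw f1_9) (sw f1_18))
  have f6_24 : o x6 x24 = x15 := (d3 f0_9 f0_3 (sw f3_9) (sw f3_18))
  have f1_10 : o x1 x10 = x19 := (sw (d3 f0_9 f0_20 f9_20 f18_20))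
  have f3_12 : o x3 x12 = x21 := (sw (d3 f0_9 f0_24 f9_24 f18_24))
  have f2_6 : o x2 x6 = x4 := (d3 f1_3 (sw f0_1) (sw f0_3) (sw f0_8))
  have f20_24 : o x20 x24 = x22 := (d3 f1_3 f1_9 f3_9 (sw f9_8))
  have f0_7 : o x0 x7 = x5 := (d3 f1_3 f1_2 f3_2 (sw f2_8))
  have f0_5 : o x0 x5 = x7 := (sw (d3 f1_3 f1_6 f3_6 (sw f6_8)))
  have f8_24 : o x8 x24 = x70 := (d3 f1_9 f1_3 (sw f3_9) (sw f3_20))
  have f0_19 : o x0 x19 = x11 := (d3 f1_9 f1_2 f9_2 (sw f2_20))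
  have f0_11 : o x0 x11 = x19 := (sw (d3 f1_9 f1_18 f9_18 (sw f18_20)))
  have f3_41 : o x3 x41 = x22 := (sw (d3 f1_9 f1_24 f9_24 f20_24))
  have f8_20 : o x8 x20 = x41 := (d3 f3_9 (sw f1_3) (sw f1_9) (sw f1_24))
  have f0_21 : o x0 x21 = x15 := (d3 f3_9 f3_6 f9_6 (sw f6_24))
  have f0_15 : o x0 x15 = x21 := (sw (d3 f3_9 f3_18 f9_18 (sw f18_24)))
  have f1_22 : o x1 x22 = x70 := (d3 f3_9 f3_8 f9_8 (sw f8_24))
  have f1_70 : o x1 x70 = x22 := (sw (d3 f3_9 f3_20 f9_20 (sw f20_24)))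
  have f1_7 : o x1 x7 = x4 := (sw (d1 f3_2 (sw f1_3) (sw f1_2) (sw f0_8)))
  have f24_19 : o x24 x19 = x23 := (d3 f3_2 f3_9 (sw f9_2) (sw f9_7))
  have f8_7 : o x8 x7 = x6 := (sw (d1 f3_2 f3_8 f2_8 f1_5))
  have f1_19 : o x1 x19 = x10 := (sw (d1 f9_2 (sw f1_9) (sw f1_2) (sw f0_20)))
  have f24_7 : o x24 x7 = x44 := (d3 f9_2 (sw f3_9) (sw f3_2) (sw f3_19))
  have f20_19 : o x20 x19 = x18 := (sw (d1 f9_2 f9_20 f2_20 f1_11))
  have f3_5 : o x3 x5 = x4 := (sw (d1 f1_6 f1_3 (sw f3_6) (sw f0_8)))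
  have f20_21 : o x20 x21 = x25 := (d3 f1_6 f1_9 (sw f9_6) (sw f9_5))
  have f8_5 : o x8 x5 = x2 := (sw (d1 f1_6 f1_8 f6_8 f3_7))
  have f20_5 : o x20 x5 = x71 := (d3 f9_6 (sw f1_9) (sw f1_6) (sw f1_21))
  have f3_21 : o x3 x21 = x12 := (sw (d1 f9_6 (sw f3_9) (sw f3_6) (sw f0_24)))
  have f24_21 : o x24 x21 = x18 := (sw (d1 f9_6 f9_24 f6_24 f3_15))
  have f8_15 : o x8 x15 = x52 := (d3 f1_18 f1_3 (sw f3_18) (sw f3_11))
  have f9_11 : o x9 x11 = x10 := (sw (d1 f1_18 f1_9 (sw f9_18) (sw f0_20)))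
  have f20_11 : o x20 x11 = x2 := (sw (d1 f1_18 f1_20 f18_20 f9_19))
  have f8_11 : o x8 x11 = x77 := (d3 f3_18 (sw f1_3) (sw f1_18) (sw f1_15))
  have f9_15 : o x9 x15 = x12 := (sw (d1 f3_18 f3_9 (sw f9_18) (sw f0_24)))
  have f24_15 : o x24 x15 = x6 := (sw (d1 f3_18 f3_24 f18_24 f9_21))
  have f3_4 : o x3 x4 = x5 := (sw (d1 f0_8 f0_3 (sw f3_8) (sw f1_6)))
  have f18_22 : o x18 x22 = x26 := (d3 f0_8 f0_9 (sw f9_8) (sw f9_4))
  have f2_4 : o x2 x4 = x6 := (sw (d1 f0_8 f0_2 (sw f2_8) f1_5))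
  have f6_4 : o x6 x4 = x2 := (sw (d1 f0_8 f0_6 (sw f6_8) f3_7))
  have f7_4 : o x7 x4 = x1 := (sw (d1 f0_8 f0_7 f8_7 (sw f6_5)))
  have f5_4 : o x5 x4 = x3 := (sw (d1 f0_8 f0_5 f8_5 (sw f2_7)))
  have f3_22 : o x3 x22 = x41 := (sw (d1 f9_8 (sw f3_9) (sw f3_8) (sw f1_24)))
  have f20_22 : o x20 x22 = x24 := (sw (d1 f9_8 f9_20 f8_20 f1_41))
  have f24_22 : o x24 x22 = x20 := (sw (d1 f9_8 f9_24 f8_24 f3_70))
  have f6_70 : o x6 x70 = x80 := (d3 f0_20 f0_3 (sw f3_20) (sw f3_10))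
  have f9_10 : o x9 x10 = x11 := (sw (d1 f0_20 f0_9 (sw f9_20) (sw f1_18)))
  have f2_10 : o x2 x10 = x18 := (sw (d1 f0_20 f0_2 (sw f2_20) f1_11))
  have f18_10 : o x18 x10 = x2 := (sw (d1 f0_20 f0_18 (sw f18_20) f9_19))
  have f19_10 : o x19 x10 = x1 := (sw (d1 f0_20 f0_19 f20_19 (sw f18_11)))
  have f11_10 : o x11 x10 = x9 := (sw (d1 f0_20 f0_11 f20_11 (sw f2_19)))
  have f9_70 : o x9 x70 = x41 := (sw (d1 f3_20 f3_9 (sw f9_20) (sw f1_24)))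
  have f8_70 : o x8 x70 = x24 := (sw (d1 f3_20 f3_8 (sw f8_20) f1_41))
  have f24_70 : o x24 x70 = x8 := (sw (d1 f3_20 f3_24 f20_24 f9_22))
  have f2_41 : o x2 x41 = x53 := (d3 f0_24 f0_1 (sw f1_24) (sw f1_12))
  have f9_12 : o x9 x12 = x15 := (sw (d1 f0_24 f0_9 (sw f9_24) (sw f3_18)))
  have f6_12 : o x6 x12 = x18 := (sw (d1 f0_24 f0_6 (sw f6_24) f3_15))
  have f18_12 : o x18 x12 = x6 := (sw (d1 f0_24 f0_18 (sw f18_24) f9_21))
  have f21_12 : o x21 x12 = x3 := (sw (d1 f0_24 f0_21 f24_21 (sw f18_15)))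
  have f15_12 : o x15 x12 = x9 := (sw (d1 f0_24 f0_15 f24_15 (sw f6_21)))
  have f2_12 : o x2 x12 = x79 := (d3 f1_24 (sw f0_1) (sw f0_24) (sw f0_41))
  have f9_41 : o x9 x41 = x70 := (sw (d1 f1_24 f1_9 (sw f9_24) (sw f3_20)))
  have f8_41 : o x8 x41 = x20 := (sw (d1 f1_24 f1_8 (sw f8_24) f3_70))
  have f20_41 : o x20 x41 = x8 := (sw (d1 f1_24 f1_20 (sw f20_24) f9_22))
  have f22_41 : o x22 x41 = x3 := (sw (d1 f1_24 f1_22 f24_22 (sw f20_70)))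
  have f70_41 : o x70 x41 = x9 := (sw (d1 f1_24 f1_70 f24_70 (sw f8_22)))
  have f18_5 : o x18 x5 = x16 := (d3 f9_7 (sw f0_9) (sw f0_7) (sw f0_23))
  have f20_4 : o x20 x4 = x69 := (d3 f9_7 (sw f1_9) (sw f1_7) (sw f1_23))
  have f2_24 : o x2 x24 = x67 := (sw (d3 f9_7 (sw f3_9) (sw f3_7) (sw f3_23)))
  have f2_23 : o x2 x23 = x44 := (sw (d1 f9_7 f9_2 (sw f2_7) (sw f3_19)))
  have f24_23 : o x24 x23 = x19 := (sw (d1 f9_7 f9_24 (sw f24_7) f3_44))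
  have f6_11 : o x6 x11 = x76 := (d3 f3_19 (sw f0_3) (sw f0_19) (sw f0_44))
  have f8_10 : o x8 x10 = x48 := (d3 f3_19 (sw f1_3) (sw f1_19) (sw f1_44))
  have f9_44 : o x9 x44 = x67 := (sw (d1 f3_19 f3_9 (sw f9_19) (sw f2_24)))
  have f2_44 : o x2 x44 = x23 := (sw (d1 f3_19 f3_2 (sw f2_19) (sw f9_7)))
  have f24_44 : o x24 x44 = x7 := (sw (d1 f3_19 f3_24 (sw f24_19) f9_23))
  have f18_7 : o x18 x7 = x14 := (d3 f9_5 (sw f0_9) (sw f0_5) (sw f0_25))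
  have f6_20 : o x6 x20 = x40 := (sw (d3 f9_5 (sw f1_9) (sw f1_5) (sw f1_25)))
  have f24_4 : o x24 x4 = x38 := (d3 f9_5 (sw f3_9) (sw f3_5) (sw f3_25))
  have f6_25 : o x6 x25 = x71 := (sw (d1 f9_5 f9_6 (sw f6_5) (sw f1_21)))
  have f18_25 : o x18 x25 = x23 := (sw (d1 f9_5 f9_18 (sw f18_5) f0_16))
  have f2_15 : o x2 x15 = x49 := (d3 f1_21 (sw f0_1) (sw f0_21) (sw f0_71))
  have f8_12 : o x8 x12 = x73 := (d3 f1_21 f1_3 (sw f3_21) (sw f3_71))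
  have f9_71 : o x9 x71 = x40 := (sw (d1 f1_21 f1_9 (sw f9_21) (sw f6_20)))
  have f6_71 : o x6 x71 = x25 := (sw (d1 f1_21 f1_6 (sw f6_21) (sw f9_5)))
  have f6_19 : o x6 x19 = x68 := (d3 f3_11 (sw f0_3) (sw f0_11) (sw f0_52))
  have f18_8 : o x18 x8 = x13 := (sw (d3 f3_11 (sw f1_3) (sw f1_11) (sw f1_52)))
  have f24_10 : o x24 x10 = x59 := (d3 f3_11 f3_9 (sw f9_11) (sw f9_52))
  have f6_52 : o x6 x52 = x44 := (sw (d1 f3_11 f3_6 (sw f6_11) f0_76))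
  have f18_52 : o x18 x52 = x77 := (sw (d1 f3_11 f3_18 (sw f18_11) (sw f1_15)))
  have f10_52 : o x10 x52 = x31 := (sw (d1 f3_11 f3_10 f11_10 (sw f9_80)))
  have f2_21 : o x2 x21 = x43 := (d3 f1_15 (sw f0_1) (sw f0_15) (sw f0_77))
  have f3_77 : o x3 x77 = x13 := (sw (d1 f1_15 f1_3 (sw f3_15) (sw f18_8)))
  have f20_12 : o x20 x12 = x34 := (d3 f1_15 f1_9 (sw f9_15) (sw f9_77))
  have f2_77 : o x2 x77 = x71 := (sw (d1 f1_15 f1_2 (sw f2_15) f0_49))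
  have f18_77 : o x18 x77 = x52 := (sw (d1 f1_15 f1_18 (sw f18_15) (sw f3_11)))
  have f0_26 : o x0 x26 = x13 := (sw (d1 f9_4 (sw f0_9) (sw f0_4) f18_8))
  have f20_7 : o x20 x7 = x39 := (d3 f9_4 (sw f1_9) (sw f1_4) (sw f1_26))
  have f24_5 : o x24 x5 = x64 := (d3 f9_4 (sw f3_9) (sw f3_4) (sw f3_26))
  have f2_26 : o x2 x26 = x68 := (sw (d1 f9_4 f9_2 (sw f2_4) (sw f6_19)))
  have f6_26 : o x6 x26 = x43 := (sw (d1 f9_4 f9_6 (sw f6_4) (sw f2_21)))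
  have f8_26 : o x8 x26 = x17 := (sw (d1 f9_4 f9_8 (sw f8_4) (sw f0_22)))
  have f20_26 : o x20 x26 = x23 := (sw (d1 f9_4 f9_20 (sw f20_4) f1_69))
  have f24_26 : o x24 x26 = x25 := (sw (d1 f9_4 f9_24 (sw f24_4) f3_38))
  have f7_26 : o x7 x26 = x69 := (sw (d1 f9_4 f9_7 (sw f7_4) (sw f1_23)))
  have f5_26 : o x5 x26 = x38 := (sw (d1 f9_4 f9_5 (sw f5_4) (sw f3_25)))
  have f2_70 : o x2 x70 = x75 := (d3 f0_22 f0_1 (sw f1_22) (sw f1_17))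
  have f6_41 : o x6 x41 = x46 := (d3 f0_22 f0_3 (sw f3_22) (sw f3_17))
  have f9_17 : o x9 x17 = x13 := (sw (d1 f0_22 f0_9 (sw f9_22) f18_8))
  have f18_17 : o x18 x17 = x4 := (sw (d1 f0_22 f0_18 (sw f18_22) f9_26))
  have f8_17 : o x8 x17 = x26 := (sw (d1 f0_22 f0_8 (sw f8_22) (sw f9_4)))
  have f20_17 : o x20 x17 = x59 := (sw (d1 f0_22 f0_20 (sw f20_22) (sw f24_10)))
  have f24_17 : o x24 x17 = x34 := (sw (d1 f0_22 f0_24 (sw f24_22) (sw f20_12)))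
  have f41_17 : o x41 x17 = x65 := (sw (d1 f0_22 f0_41 f22_41 (sw f3_79)))
  have f0_80 : o x0 x80 = x40 := (sw (d1 f3_10 (sw f0_3) (sw f0_10) f6_20))
  have f8_19 : o x8 x19 = x66 := (d3 f3_10 (sw f1_3) (sw f1_10) (sw f1_80))
  have f24_11 : o x24 x11 = x31 := (d3 f3_10 f3_9 (sw f9_10) (sw f9_80))
  have f2_80 : o x2 x80 = x14 := (sw (d1 f3_10 f3_2 (sw f2_10) (sw f18_7)))
  have f18_80 : o x18 x80 = x49 := (sw (d1 f3_10 f3_18 (sw f18_10) (sw f2_15)))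
  have f8_80 : o x8 x80 = x44 := (sw (d1 f3_10 f3_8 (sw f8_10) f1_48))
  have f20_80 : o x20 x80 = x50 := (sw (d1 f3_10 f3_20 (sw f20_10) (sw f0_70)))
  have f24_80 : o x24 x80 = x52 := (sw (d1 f3_10 f3_24 (sw f24_10) f9_59))
  have f19_80 : o x19 x80 = x48 := (sw (d1 f3_10 f3_19 (sw f19_10) (sw f1_44)))
  have f11_80 : o x11 x80 = x59 := (sw (d1 f3_10 f3_11 (sw f11_10) (sw f9_52)))
  have f2_22 : o x2 x22 = x42 := (d3 f0_70 f0_1 (sw f1_70) (sw f1_50))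
  have f3_50 : o x3 x50 = x40 := (sw (d1 f0_70 f0_3 (sw f3_70) f6_20))
  have f18_41 : o x18 x41 = x61 := (d3 f0_70 f0_9 (sw f9_70) (sw f9_50))
  have f6_50 : o x6 x50 = x10 := (sw (d1 f0_70 f0_6 (sw f6_70) f3_80))
  have f8_50 : o x8 x50 = x38 := (sw (d1 f0_70 f0_8 (sw f8_70) (sw f24_4)))
  have f20_50 : o x20 x50 = x80 := (sw (d1 f0_70 f0_20 (sw f20_70) (sw f3_10)))
  have f24_50 : o x24 x50 = x73 := (sw (d1 f0_70 f0_24 (sw f24_70) (sw f8_12)))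
  have f41_50 : o x41 x50 = x32 := (sw (d1 f0_70 f0_41 f70_41 (sw f9_79)))
  have f0_53 : o x0 x53 = x67 := (sw (d1 f1_12 (sw f0_1) (sw f0_12) f2_24))
  have f8_21 : o x8 x21 = x37 := (d3 f1_12 f1_3 (sw f3_12) (sw f3_53))
  have f20_15 : o x20 x15 = x58 := (d3 f1_12 f1_9 (sw f9_12) (sw f9_53))
  have f2_53 : o x2 x53 = x41 := (sw (d1 f1_12 f1_2 (sw f2_12) f0_79))
  have f6_53 : o x6 x53 = x16 := (sw (d1 f1_12 f1_6 (sw f6_12) (sw f18_5)))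
  have f18_53 : o x18 x53 = x76 := (sw (d1 f1_12 f1_18 (sw f18_12) (sw f6_11)))
  have f8_53 : o x8 x53 = x71 := (sw (d1 f1_12 f1_8 (sw f8_12) f3_73))
  have f20_53 : o x20 x53 = x77 := (sw (d1 f1_12 f1_20 (sw f20_12) f9_34))
  have f24_53 : o x24 x53 = x79 := (sw (d1 f1_12 f1_24 (sw f24_12) (sw f0_41)))
  have f21_53 : o x21 x53 = x73 := (sw (d1 f1_12 f1_21 (sw f21_12) (sw f3_71)))
  have f15_53 : o x15 x53 = x34 := (sw (d1 f1_12 f1_15 (sw f15_12) (sw f9_77)))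
  have f1_79 : o x1 x79 = x67 := (sw (d1 f0_41 f0_1 (sw f1_41) f2_24))
  have f6_22 : o x6 x22 = x65 := (d3 f0_41 f0_3 (sw f3_41) (sw f3_79))
  have f18_70 : o x18 x70 = x32 := (d3 f0_41 f0_9 (sw f9_41) (sw f9_79))
  have f2_79 : o x2 x79 = x12 := (sw (d1 f0_41 f0_2 (sw f2_41) f1_53))
  have f8_79 : o x8 x79 = x69 := (sw (d1 f0_41 f0_8 (sw f8_41) (sw f20_4)))
  have f20_79 : o x20 x79 = x48 := (sw (d1 f0_41 f0_20 (sw f20_41) (sw f8_10)))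
  have f24_79 : o x24 x79 = x53 := (sw (d1 f0_41 f0_24 (sw f24_41) (sw f1_12)))
  have f22_79 : o x22 x79 = x46 := (sw (d1 f0_41 f0_22 (sw f22_41) (sw f3_17)))
  have f70_79 : o x70 x79 = x61 := (sw (d1 f0_41 f0_70 (sw f70_41) (sw f9_50)))
  have f6_67 : o x6 x67 = x74 := (d3 f0_23 f0_3 (sw f3_23) (sw f3_16))
  have f9_16 : o x9 x16 = x14 := (sw (d1 f0_23 f0_9 (sw f9_23) f18_7))
  have f2_16 : o x2 x16 = x48 := (sw (d1 f0_23 f0_2 (sw f2_23) f1_44))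
  have f7_16 : o x7 x16 = x25 := (sw (d1 f0_23 f0_7 (sw f7_23) (sw f9_5)))
  have f0_69 : o x0 x69 = x48 := (sw (d1 f1_23 (sw f0_1) (sw f0_23) f2_16))
  have f8_67 : o x8 x67 = x45 := (d3 f1_23 f1_3 (sw f3_23) (sw f3_69))
  have f9_69 : o x9 x69 = x39 := (sw (d1 f1_23 f1_9 (sw f9_23) f20_7))
  have f9_67 : o x9 x67 = x44 := (sw (d1 f3_23 f3_9 (sw f9_23) f24_7))
  have f3_76 : o x3 x76 = x68 := (sw (d1 f0_44 f0_3 (sw f3_44) f6_19))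
  have f18_67 : o x18 x67 = x35 := (d3 f0_44 f0_9 (sw f9_44) (sw f9_76))
  have f2_76 : o x2 x76 = x69 := (sw (d1 f0_44 f0_2 (sw f2_44) f1_23))
  have f19_76 : o x19 x76 = x52 := (sw (d1 f0_44 f0_19 (sw f19_44) (sw f3_11)))
  have f0_48 : o x0 x48 = x69 := (sw (d1 f1_44 (sw f0_1) (sw f0_44) f2_76))
  have f3_48 : o x3 x48 = x66 := (sw (d1 f1_44 f1_3 (sw f3_44) f8_19))
  have f20_67 : o x20 x67 = x60 := (d3 f1_44 f1_9 (sw f9_44) (sw f9_48))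
  have f2_48 : o x2 x48 = x16 := (sw (d1 f1_44 f1_2 (sw f2_44) f0_23))
  have f2_40 : o x2 x40 = x51 := (d3 f0_25 f0_1 (sw f1_25) (sw f1_14))
  have f9_14 : o x9 x14 = x16 := (sw (d1 f0_25 f0_9 (sw f9_25) f18_5))
  have f6_14 : o x6 x14 = x73 := (sw (d1 f0_25 f0_6 (sw f6_25) f3_71))
  have f18_14 : o x18 x14 = x7 := (sw (d1 f0_25 f0_18 (sw f18_25) f9_23))
  have f5_14 : o x5 x14 = x23 := (sw (d1 f0_25 f0_5 (sw f5_25) (sw f9_7)))
  have f9_40 : o x9 x40 = x71 := (sw (d1 f1_25 f1_9 (sw f9_25) f20_5))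
  have f0_38 : o x0 x38 = x73 := (sw (d1 f3_25 (sw f0_3) (sw f0_25) f6_14))
  have f8_40 : o x8 x40 = x72 := (d3 f3_25 (sw f1_3) (sw f1_25) (sw f1_38))
  have f9_38 : o x9 x38 = x64 := (sw (d1 f3_25 f3_9 (sw f9_25) f24_5))
  have f1_49 : o x1 x49 = x43 := (sw (d1 f0_71 f0_1 (sw f1_71) f2_21))
  have f18_40 : o x18 x40 = x62 := (d3 f0_71 f0_9 (sw f9_71) (sw f9_49))
  have f6_49 : o x6 x49 = x38 := (sw (d1 f0_71 f0_6 (sw f6_71) f3_25))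
  have f21_49 : o x21 x49 = x77 := (sw (d1 f0_71 f0_21 (sw f21_71) (sw f1_15)))
  have f0_73 : o x0 x73 = x38 := (sw (d1 f3_71 (sw f0_3) (sw f0_71) f6_49))
  have f1_73 : o x1 x73 = x37 := (sw (d1 f3_71 (sw f1_3) (sw f1_71) f8_21))
  have f24_40 : o x24 x40 = x29 := (d3 f3_71 f3_9 (sw f9_71) (sw f9_73))
  have f6_73 : o x6 x73 = x14 := (sw (d1 f3_71 f3_6 (sw f6_71) f0_25))
  have f2_13 : o x2 x13 = x78 := (d3 f0_52 f0_1 (sw f1_52) (sw f1_68))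
  have f3_68 : o x3 x68 = x76 := (sw (d1 f0_52 f0_3 (sw f3_52) f6_11))
  have f6_68 : o x6 x68 = x19 := (sw (d1 f0_52 f0_6 (sw f6_52) f3_44))
  have f18_68 : o x18 x68 = x34 := (sw (d1 f0_52 f0_18 (sw f18_52) f9_77))
  have f11_68 : o x11 x68 = x44 := (sw (d1 f0_52 f0_11 (sw f11_52) (sw f3_19)))
  have f3_13 : o x3 x13 = x77 := (sw (d1 f1_52 f1_3 (sw f3_52) f8_11))
  have f0_59 : o x0 x59 = x34 := (sw (d1 f9_52 (sw f0_9) (sw f0_52) f18_68))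
  have f20_13 : o x20 x13 = x33 := (d3 f9_52 (sw f1_9) (sw f1_52) (sw f1_59))
  have f3_59 : o x3 x59 = x31 := (sw (d1 f9_52 (sw f3_9) (sw f3_52) f24_11))
  have f18_59 : o x18 x59 = x43 := (sw (d1 f9_52 f9_18 (sw f18_52) f0_77))
  have f11_59 : o x11 x59 = x80 := (sw (d1 f9_52 f9_11 (sw f11_52) (sw f3_10)))
  have f1_43 : o x1 x43 = x49 := (sw (d1 f0_77 f0_1 (sw f1_77) f2_15))
  have f6_13 : o x6 x13 = x47 := (d3 f0_77 f0_3 (sw f3_77) (sw f3_43))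
  have f18_43 : o x18 x43 = x59 := (sw (d1 f0_77 f0_18 (sw f18_77) f9_52))
  have f15_43 : o x15 x43 = x71 := (sw (d1 f0_77 f0_15 (sw f15_77) (sw f1_21)))
  have f0_34 : o x0 x34 = x59 := (sw (d1 f9_77 (sw f0_9) (sw f0_77) f18_43))
  have f1_34 : o x1 x34 = x58 := (sw (d1 f9_77 (sw f1_9) (sw f1_77) f20_15))
  have f24_13 : o x24 x13 = x56 := (d3 f9_77 (sw f3_9) (sw f3_77) (sw f3_34))
  have f18_34 : o x18 x34 = x68 := (sw (d1 f9_77 f9_18 (sw f18_77) f0_52))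
  have f15_34 : o x15 x34 = x53 := (sw (d1 f9_77 f9_15 (sw f15_77) (sw f1_12)))
  have f0_39 : o x0 x39 = x78 := (sw (d1 f1_26 (sw f0_1) (sw f0_26) f2_13))
  have f9_39 : o x9 x39 = x69 := (sw (d1 f1_26 f1_9 (sw f9_26) f20_4))
  have f2_39 : o x2 x39 = x52 := (sw (d1 f1_26 f1_2 (sw f2_26) f0_68))
  have f8_39 : o x8 x39 = x46 := (sw (d1 f1_26 f1_8 (sw f8_26) f3_17))
  have f4_39 : o x4 x39 = x23 := (sw (d1 f1_26 f1_4 (sw f4_26) (sw f9_7)))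
  have f0_64 : o x0 x64 = x47 := (sw (d1 f3_26 (sw f0_3) (sw f0_26) f6_13))
  have f1_64 : o x1 x64 = x46 := (sw (d1 f3_26 (sw f1_3) (sw f1_26) f8_39))
  have f9_64 : o x9 x64 = x38 := (sw (d1 f3_26 f3_9 (sw f9_26) f24_4))
  have f6_64 : o x6 x64 = x77 := (sw (d1 f3_26 f3_6 (sw f6_26) f0_43))
  have f0_75 : o x0 x75 = x42 := (sw (d1 f1_17 (sw f0_1) (sw f0_17) f2_22))
  have f9_75 : o x9 x75 = x33 := (sw (d1 f1_17 f1_9 (sw f9_17) f20_13))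
  have f8_75 : o x8 x75 = x64 := (sw (d1 f1_17 f1_8 (sw f8_17) f3_26))
  have f20_75 : o x20 x75 = x52 := (sw (d1 f1_17 f1_20 (sw f20_17) f9_59))
  have f22_75 : o x22 x75 = x50 := (sw (d1 f1_17 f1_22 (sw f22_17) (sw f0_70)))
  have f0_46 : o x0 x46 = x65 := (sw (d1 f3_17 (sw f0_3) (sw f0_17) f6_22))
  have f1_46 : o x1 x46 = x64 := (sw (d1 f3_17 (sw f1_3) (sw f1_17) f8_75))
  have f9_46 : o x9 x46 = x56 := (sw (d1 f3_17 f3_9 (sw f9_17) f24_13))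
  have f8_46 : o x8 x46 = x39 := (sw (d1 f3_17 f3_8 (sw f8_17) f1_26))
  have f24_46 : o x24 x46 = x77 := (sw (d1 f3_17 f3_24 (sw f24_17) f9_34))
  have f0_66 : o x0 x66 = x51 := (sw (d1 f1_80 (sw f0_1) (sw f0_80) f2_40))
  have f3_66 : o x3 x66 = x48 := (sw (d1 f1_80 f1_3 (sw f3_80) f8_10))
  have f2_66 : o x2 x66 = x25 := (sw (d1 f1_80 f1_2 (sw f2_80) f0_14))
  have f20_66 : o x20 x66 = x61 := (sw (d1 f1_80 f1_20 (sw f20_80) f9_50))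
  have f10_66 : o x10 x66 = x44 := (sw (d1 f1_80 f1_10 (sw f10_80) (sw f3_19)))
  have f0_31 : o x0 x31 = x62 := (sw (d1 f9_80 (sw f0_9) (sw f0_80) f18_40))
  have f1_31 : o x1 x31 = x61 := (sw (d1 f9_80 (sw f1_9) (sw f1_80) f20_66))
  have f3_31 : o x3 x31 = x59 := (sw (d1 f9_80 (sw f3_9) (sw f3_80) f24_10))
  have f18_31 : o x18 x31 = x71 := (sw (d1 f9_80 f9_18 (sw f18_80) f0_49))
  have f20_31 : o x20 x31 = x42 := (sw (d1 f9_80 f9_20 (sw f20_80) f1_50))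
  have f24_31 : o x24 x31 = x11 := (sw (d1 f9_80 f9_24 (sw f24_80) f3_52))
  have f10_31 : o x10 x31 = x52 := (sw (d1 f9_80 f9_10 (sw f10_80) (sw f3_11)))
  have f0_42 : o x0 x42 = x75 := (sw (d1 f1_50 (sw f0_1) (sw f0_50) f2_70))
  have f3_42 : o x3 x42 = x72 := (sw (d1 f1_50 f1_3 (sw f3_50) f8_40))
  have f8_42 : o x8 x42 = x25 := (sw (d1 f1_50 f1_8 (sw f8_50) f3_38))
  have f20_42 : o x20 x42 = x31 := (sw (d1 f1_50 f1_20 (sw f20_50) f9_80))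
  have f0_61 : o x0 x61 = x32 := (sw (d1 f9_50 (sw f0_9) (sw f0_50) f18_70))
  have f1_61 : o x1 x61 = x31 := (sw (d1 f9_50 (sw f1_9) (sw f1_50) f20_42))
  have f3_61 : o x3 x61 = x29 := (sw (d1 f9_50 (sw f3_9) (sw f3_50) f24_40))
  have f20_61 : o x20 x61 = x66 := (sw (d1 f9_50 f9_20 (sw f20_50) f1_80))
  have f24_61 : o x24 x61 = x71 := (sw (d1 f9_50 f9_24 (sw f24_50) f3_73))
  have f70_61 : o x70 x61 = x79 := (sw (d1 f9_50 f9_70 (sw f70_50) (sw f0_41)))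
  have f0_37 : o x0 x37 = x74 := (sw (d1 f3_53 (sw f0_3) (sw f0_53) f6_67))
  have f1_37 : o x1 x37 = x73 := (sw (d1 f3_53 (sw f1_3) (sw f1_53) f8_12))
  have f6_37 : o x6 x37 = x23 := (sw (d1 f3_53 f3_6 (sw f6_53) f0_16))
  have f24_37 : o x24 x37 = x32 := (sw (d1 f3_53 f3_24 (sw f24_53) f9_79))
  have f12_37 : o x12 x37 = x71 := (sw (d1 f3_53 f3_12 (sw f12_53) (sw f1_21)))
  have f0_58 : o x0 x58 = x35 := (sw (d1 f9_53 (sw f0_9) (sw f0_53) f18_67))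
  have f1_58 : o x1 x58 = x34 := (sw (d1 f9_53 (sw f1_9) (sw f1_53) f20_12))
  have f3_58 : o x3 x58 = x32 := (sw (d1 f9_53 (sw f3_9) (sw f3_53) f24_37))
  have f18_58 : o x18 x58 = x44 := (sw (d1 f9_53 f9_18 (sw f18_53) f0_76))
  have f0_65 : o x0 x65 = x46 := (sw (d1 f3_79 (sw f0_3) (sw f0_79) f6_41))
  have f1_65 : o x1 x65 = x45 := (sw (d1 f3_79 (sw f1_3) (sw f1_79) f8_67))
  have f8_65 : o x8 x65 = x23 := (sw (d1 f3_79 f3_8 (sw f8_79) f1_69))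
  have f24_65 : o x24 x65 = x58 := (sw (d1 f3_79 f3_24 (sw f24_79) f9_53))
  have f41_65 : o x41 x65 = x17 := (sw (d1 f3_79 f3_41 (sw f41_79) (sw f0_22)))
  have f0_32 : o x0 x32 = x61 := (sw (d1 f9_79 (sw f0_9) (sw f0_79) f18_41))
  have f1_32 : o x1 x32 = x60 := (sw (d1 f9_79 (sw f1_9) (sw f1_79) f20_67))
  have f3_32 : o x3 x32 = x58 := (sw (d1 f9_79 (sw f3_9) (sw f3_79) f24_65))
  have f20_32 : o x20 x32 = x44 := (sw (d1 f9_79 f9_20 (sw f20_79) f1_48))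
  have f24_32 : o x24 x32 = x37 := (sw (d1 f9_79 f9_24 (sw f24_79) f3_53))
  have f24_14 : o x24 x14 = x28 := (d3 f3_16 f3_9 (sw f9_16) (sw f9_74))
  have f6_48 : o x6 x48 = x63 := (d3 f3_69 (sw f0_3) (sw f0_69) (sw f0_45))
  have f24_39 : o x24 x39 = x54 := (d3 f3_69 f3_9 (sw f9_69) (sw f9_45))
  have f24_68 : o x24 x68 = x55 := (d3 f9_76 (sw f3_9) (sw f3_76) (sw f3_35))
  have f18_69 : o x18 x69 = x30 := (d3 f9_48 (sw f0_9) (sw f0_48) (sw f0_60))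
  have f24_66 : o x24 x66 = x27 := (d3 f9_48 (sw f3_9) (sw f3_48) (sw f3_60))
  have f69_63 : o x69 x63 = x66 := (sw (d1 f0_45 f0_69 (sw f69_45) (sw f3_48)))
  have f48_30 : o x48 x30 = x39 := (sw (d1 f0_60 f0_48 (sw f48_60) (sw f9_69)))
  have f53_79 : o x53 x79 = x24 := (sw (d3 f0_2 f0_41 f2_41 f1_41))
  have f44_16 : o x44 x16 = x69 := (sw (d3 f0_2 f0_23 f2_23 f1_23))
  have f23_76 : o x23 x76 = x48 := (sw (d3 f0_2 f0_44 f2_44 f1_44))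
  have f71_43 : o x71 x43 = x15 := (sw (d3 f0_2 f0_77 f2_77 f1_77))
  have f16_69 : o x16 x69 = x44 := (sw (d3 f0_2 f0_48 f2_48 f1_48))
  have f52_78 : o x52 x78 = x26 := (sw (d3 f0_2 f0_39 f2_39 f1_39))
  have f25_51 : o x25 x51 = x80 := (sw (d3 f0_2 f0_66 f2_66 f1_66))
  have f77_49 : o x77 x49 = x21 := (d3 f1_2 f1_15 f2_15 f0_15)
  have f23_48 : o x23 x48 = x76 := (sw (d3 f1_2 f1_44 f2_44 f0_44))
  have f0_40 : o x0 x40 = x80 := (d1 f1_2 f1_40 f2_40 f25_51)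
  have f0_13 : o x0 x13 = x26 := (d1 f1_2 f1_13 f2_13 f52_78)
  have f17_65 : o x17 x65 = x41 := (d3 f0_6 f0_22 f6_22 f3_22)
  have f80_50 : o x80 x50 = x20 := (sw (d3 f0_6 f0_70 f6_70 f3_70))
  have f79_46 : o x79 x46 = x22 := (d3 f0_6 f0_41 f6_41 f3_41)
  have f71_14 : o x71 x14 = x38 := (sw (d3 f0_6 f0_25 f6_25 f3_25))
  have f25_49 : o x25 x49 = x73 := (sw (d3 f0_6 f0_71 f6_71 f3_71))
  have f44_68 : o x44 x68 = x11 := (sw (d3 f0_6 f0_52 f6_52 f3_52))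
  have f13_43 : o x13 x43 = x64 := (d3 f0_6 f0_26 f6_26 f3_26)
  have f10_70 : o x10 x70 = x40 := (sw (d3 f0_6 f0_50 f6_50 f3_50))
  have f14_38 : o x14 x38 = x71 := (sw (d3 f0_6 f0_73 f6_73 f3_73))
  have f77_47 : o x77 x47 = x26 := (sw (d3 f0_6 f0_64 f6_64 f3_64))
  have f23_74 : o x23 x74 = x53 := (sw (d3 f0_6 f0_37 f6_37 f3_37))
  have f52_76 : o x52 x76 = x19 := (d3 f3_6 f3_11 f6_11 f0_11)
  have f0_67 : o x0 x67 = x53 := (d1 f3_6 f3_67 f6_67 f23_74)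
  have f26_17 : o x26 x17 = x8 := (sw (d3 f0_18 f0_22 f18_22 f9_22))
  have f79_61 : o x79 x61 = x70 := (d3 f0_18 f0_41 f18_41 f9_41)
  have f23_14 : o x23 x14 = x5 := (sw (d3 f0_18 f0_25 f18_25 f9_25))
  have f77_68 : o x77 x68 = x59 := (sw (d3 f0_18 f0_52 f18_52 f9_52))
  have f52_43 : o x52 x43 = x34 := (sw (d3 f0_18 f0_77 f18_77 f9_77))
  have f4_22 : o x4 x22 = x13 := (sw (d3 f0_18 f0_17 f18_17 f9_17))
  have f40_49 : o x40 x49 = x31 := (d3 f0_18 f0_80 f18_80 f9_80)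
  have f67_76 : o x67 x76 = x58 := (d3 f0_18 f0_53 f18_53 f9_53)
  have f68_59 : o x68 x59 = x77 := (sw (d3 f0_18 f0_34 f18_34 f9_34))
  have f71_62 : o x71 x62 = x80 := (sw (d3 f0_18 f0_31 f18_31 f9_31))
  have f44_35 : o x44 x35 = x53 := (sw (d3 f0_18 f0_58 f18_58 f9_58))
  have f25_16 : o x25 x16 = x7 := (d3 f9_18 f9_5 f18_5 f0_5)
  have f52_34 : o x52 x34 = x43 := (sw (d3 f9_18 f9_77 f18_77 f0_77))
  have f52_77 : o x52 x77 = x18 := (sw (d3 f1_8 f1_15 f8_15 f3_15))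
  have f53_73 : o x53 x73 = x21 := (d3 f1_8 f1_12 f8_12 f3_12)
  have f17_39 : o x17 x39 = x64 := (sw (d3 f1_8 f1_26 f8_26 f3_26))
  have f26_75 : o x26 x75 = x46 := (sw (d3 f1_8 f1_17 f8_17 f3_17))
  have f39_64 : o x39 x64 = x17 := (sw (d3 f1_8 f1_46 f8_46 f3_46))
  have f25_50 : o x25 x50 = x72 := (sw (d3 f1_8 f1_42 f8_42 f3_42))
  have f23_45 : o x23 x45 = x79 := (sw (d3 f1_8 f1_65 f8_65 f3_65))
  have f80_48 : o x80 x48 = x19 := (d3 f3_8 f3_10 f8_10 f1_10)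
  have f1_67 : o x1 x67 = x79 := (d1 f3_8 f3_67 f8_67 f23_45)
  have f25_71 : o x25 x71 = x6 := (sw (d3 f1_20 f1_21 f20_21 f9_21))
  have f53_34 : o x53 x34 = x15 := (d3 f1_20 f1_12 f20_12 f9_12)
  have f50_66 : o x50 x66 = x31 := (sw (d3 f1_20 f1_80 f20_80 f9_80))
  have f80_42 : o x80 x42 = x61 := (sw (d3 f1_20 f1_50 f20_50 f9_50))
  have f67_48 : o x67 x48 = x32 := (d3 f1_20 f1_79 f20_79 f9_79)
  have f52_17 : o x52 x17 = x33 := (sw (d3 f1_20 f1_75 f20_75 f9_75))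
  have f66_31 : o x66 x31 = x50 := (sw (d3 f1_20 f1_61 f20_61 f9_61))
  have f44_60 : o x44 x60 = x79 := (sw (d3 f1_20 f1_32 f20_32 f9_32))
  have f26_69 : o x26 x69 = x7 := (d3 f9_20 f9_4 f20_4 f1_4)
  have f13_59 : o x13 x59 = x75 := (d3 f9_20 f9_17 f20_17 f1_17)
  have f23_44 : o x23 x44 = x2 := (sw (d3 f3_24 f3_19 f24_19 f9_19))
  have f80_59 : o x80 x59 = x11 := (d3 f3_24 f3_10 f24_10 f9_10)
  have f79_37 : o x79 x37 = x58 := (sw (d3 f3_24 f3_53 f24_53 f9_53))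
  have f53_65 : o x53 x65 = x32 := (sw (d3 f3_24 f3_79 f24_79 f9_79))
  have f71_29 : o x71 x29 = x50 := (sw (d3 f3_24 f3_61 f24_61 f9_61))
  have f37_58 : o x37 x58 = x79 := (sw (d3 f3_24 f3_32 f24_32 f9_32))
  have f26_38 : o x26 x38 = x5 := (d3 f9_24 f9_4 f24_4 f3_4)
  have f13_34 : o x13 x34 = x46 := (d3 f9_24 f9_17 f24_17 f3_17)
  have f3_40 : o x3 x40 = x50 := (d1 f9_24 f9_40 f24_40 f71_29)
  have f77_56 : o x77 x56 = x17 := (sw (d3 f9_24 f9_46 f24_46 f3_46))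
  have f70_39 : o x70 x39 = x11 := (d3 f3_7 f3_20 (sw f20_7) f2_20)
  have f69_64 : o x69 x64 = x68 := (sw (d3 f3_7 f3_26 f7_26 f2_26))
  have f25_74 : o x25 x74 = x48 := (sw (d3 f3_7 f3_16 f7_16 f2_16))
  have f11_39 : o x11 x39 = x70 := (d3 f2_7 f2_20 (sw f20_7) f3_20)
  have f69_68 : o x69 x68 = x64 := (sw (d3 f2_7 f2_26 f7_26 f3_26))
  have f25_48 : o x25 x48 = x74 := (sw (d3 f2_7 f2_16 f7_16 f3_16))
  have f21_68 : o x21 x68 = x4 := (d3 f9_19 f9_6 (sw f6_19) f2_6)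
  have f48_31 : o x48 x31 = x14 := (sw (d3 f9_19 f9_80 f19_80 f2_80))
  have f52_35 : o x52 x35 = x69 := (sw (d3 f9_19 f9_76 f19_76 f2_76))
  have f5_66 : o x5 x66 = x22 := (d3 f2_19 f2_8 (sw f8_19) f9_8)
  have f48_14 : o x48 x14 = x31 := (sw (d3 f2_19 f2_80 f19_80 f9_80))
  have f52_69 : o x52 x69 = x35 := (sw (d3 f2_19 f2_76 f19_76 f9_76))
  have f38_39 : o x38 x39 = x43 := (sw (d3 f1_5 f1_26 f5_26 f6_26))
  have f23_51 : o x23 x51 = x73 := (sw (d3 f1_5 f1_14 f5_14 f6_14))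
  have f15_64 : o x15 x64 = x41 := (d3 f6_5 f6_24 (sw f24_5) f1_24)
  have f73_58 : o x73 x58 = x16 := (sw (d3 f9_21 f9_53 f21_53 f6_53))
  have f77_62 : o x77 x62 = x38 := (sw (d3 f9_21 f9_49 f21_49 f6_49))
  have f4_43 : o x4 x43 = x19 := (d3 f6_21 (sw f2_6) (sw f2_21) f9_2)
  have f16_73 : o x16 x73 = x58 := (d3 f6_21 f6_53 f21_53 f9_53)
  have f77_38 : o x77 x38 = x62 := (sw (d3 f6_21 f6_49 f21_49 f9_49))
  have f41_31 : o x41 x31 = x21 := (d3 f1_11 f1_24 (sw f24_11) f18_24)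
  have f59_66 : o x59 x66 = x49 := (sw (d3 f1_11 f1_80 f11_80 f18_80))
  have f44_78 : o x44 x78 = x34 := (sw (d3 f1_11 f1_68 f11_68 f18_68))
  have f15_52 : o x15 x52 = x8 := (d3 f18_11 (sw f3_18) (sw f3_11) f1_3)
  have f80_43 : o x80 x43 = x33 := (sw (d3 f18_11 f18_59 f11_59 f1_59))
  have f34_37 : o x34 x37 = x76 := (sw (d3 f3_15 f3_53 f15_53 f18_53))
  have f71_47 : o x71 x47 = x59 := (sw (d3 f3_15 f3_43 f15_43 f18_43))
  have f53_56 : o x53 x56 = x68 := (sw (d3 f3_15 f3_34 f15_34 f18_34))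
  have f11_77 : o x11 x77 = x8 := (d3 f18_15 (sw f1_18) (sw f1_15) (sw f1_3))
  have f53_68 : o x53 x68 = x56 := (sw (d3 f18_15 f18_34 f15_34 f3_34))
  have f17_13 : o x17 x13 = x9 := (d3 f0_4 f0_22 f4_22 f8_22)
  have f9_13 : o x9 x13 = x17 := (sw (d3 f0_4 f0_26 f4_26 f8_26))
  have f23_78 : o x23 x78 = x46 := (sw (d3 f0_4 f0_39 f4_39 f8_39))
  have f70_38 : o x70 x38 = x12 := (d3 f8_4 f8_24 (sw f24_4) f0_24)
  have f23_46 : o x23 x46 = x78 := (sw (d3 f8_4 f8_39 f4_39 f0_39))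
  have f19_42 : o x19 x42 = x5 := (d3 f9_22 f9_2 (sw f2_22) (sw f2_8))
  have f46_32 : o x46 x32 = x69 := (sw (d3 f9_22 f9_79 f22_79 f8_79))
  have f50_33 : o x50 x33 = x64 := (sw (d3 f9_22 f9_75 f22_75 f8_75))
  have f69_46 : o x69 x46 = x32 := (d3 f8_22 f8_79 f22_79 f9_79)
  have f4_48 : o x4 x48 = x41 := (d3 f0_10 f0_8 (sw f8_10) (sw f8_20))
  have f50_40 : o x50 x40 = x3 := (d3 f0_10 f0_70 f10_70 f20_70)
  have f52_62 : o x52 x62 = x42 := (sw (d3 f0_10 f0_31 f10_31 f20_31))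
  have f22_59 : o x22 x59 = x12 := (d3 f20_10 f20_24 (sw f24_10) f0_24)
  have f44_61 : o x44 x61 = x51 := (sw (d3 f20_10 f20_66 f10_66 f0_66))
  have f61_65 : o x61 x65 = x48 := (sw (d3 f3_70 f3_79 f70_79 f20_79))
  have f79_29 : o x79 x29 = x66 := (sw (d3 f3_70 f3_61 f70_61 f20_61))
  have f11_75 : o x11 x75 = x7 := (d3 f20_70 (sw f2_20) (sw f2_70) f3_2)
  have f70_73 : o x70 x73 = x4 := (d3 f24_12 (sw f8_24) (sw f8_12) f0_8)
  have f22_34 : o x22 x34 = x10 := (d3 f24_12 (sw f20_24) (sw f20_12) f0_20)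
  have f71_32 : o x71 x32 = x74 := (sw (d3 f24_12 f24_37 f12_37 f0_37))
  have f75_65 : o x75 x65 = x34 := (d3 f1_41 f1_17 f41_17 f24_17)
  have f73_32 : o x73 x32 = x42 := (d3 f24_41 f24_50 f41_50 f1_50)
  have f21_11 : o x21 x11 = x61 := (sw (d3 f24_41 f24_31 f41_31 f1_31))
  have f17_58 : o x17 x58 = x45 := (sw (d3 f24_41 f24_65 f41_65 f1_65))
  have f18_16 : o x18 x16 = x5 := (d3 f9_23 (sw f0_9) (sw f0_23) (sw f0_7))
  have f20_69 : o x20 x69 = x4 := (d3 f9_23 (sw f1_9) (sw f1_23) (sw f1_7))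
  have f6_76 : o x6 x76 = x11 := (d3 f3_44 (sw f0_3) (sw f0_44) (sw f0_19))
  have f24_38 : o x24 x38 = x4 := (d3 f9_25 (sw f3_9) (sw f3_25) (sw f3_5))
  have f8_73 : o x8 x73 = x12 := (d3 f1_71 f1_3 (sw f3_71) (sw f3_21))
  have f24_59 : o x24 x59 = x10 := (d3 f3_52 f3_9 (sw f9_52) (sw f9_11))
  have f20_34 : o x20 x34 = x12 := (d3 f1_77 f1_9 (sw f9_77) (sw f9_15))
  have f18_23 : o x18 x23 = x25 := (sw (d1 f0_16 f0_18 (sw f18_16) f9_5))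
  have f69_76 : o x69 x76 = x2 := (sw (d3 f0_16 f0_44 (sw f44_16) f23_44))
  have f0_74 : o x0 x74 = x37 := (d1 f23_16 f23_74 f16_74 (sw f3_53))
  have f11_30 : o x11 x30 = x25 := (d3 f1_69 f1_18 (sw f18_69) (sw f18_23))
  have f20_23 : o x20 x23 = x26 := (sw (d1 f1_69 f1_20 (sw f20_69) f9_4))
  have f1_16 : o x1 x16 = x76 := (d1 f23_69 f23_16 (sw f16_69) f0_44)
  have f1_76 : o x1 x76 = x16 := (d1 f23_69 f23_76 f69_76 (sw f2_48))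
  have f1_45 : o x1 x45 = x65 := (d1 f23_69 f23_45 f69_45 (sw f3_79))
  have f15_35 : o x15 x35 = x25 := (d3 f3_67 f3_18 (sw f18_67) (sw f18_23))
  have f8_23 : o x8 x23 = x65 := (sw (d1 f3_67 f3_8 (sw f8_67) f1_45))
  have f70_60 : o x70 x60 = x26 := (d3 f3_67 f3_20 (sw f20_67) (sw f20_23))
  have f68_58 : o x68 x58 = x48 := (d3 f3_67 f3_76 f67_76 f23_76)
  have f66_32 : o x66 x32 = x76 := (d3 f3_67 f3_48 f67_48 f23_48)
  have f25_35 : o x25 x35 = x15 := (d3 f23_67 (sw f18_23) (sw f18_67) f3_18)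
  have f18_35 : o x18 x35 = x67 := (d3 f0_76 f0_9 (sw f9_76) (sw f9_44))
  have f6_44 : o x6 x44 = x52 := (sw (d1 f0_76 f0_6 (sw f6_76) f3_11))
  have f0_35 : o x0 x35 = x58 := (d1 f44_76 f44_35 f76_35 (sw f9_53))
  have f5_63 : o x5 x63 = x52 := (d3 f1_48 f1_6 (sw f6_48) (sw f6_44))
  have f67_60 : o x67 x60 = x20 := (d3 f44_48 (sw f9_44) (sw f9_48) f1_9)
  have f1_60 : o x1 x60 = x32 := (d1 f44_48 f44_60 f48_60 (sw f9_79))
  have f38_49 : o x38 x49 = x6 := (sw (d3 f0_14 f0_71 (sw f71_14) f25_71))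
  have f0_51 : o x0 x51 = x66 := (d1 f25_14 f25_51 f14_51 (sw f1_80))
  have f2_25 : o x2 x25 = x66 := (sw (d1 f1_40 f1_2 (sw f2_40) f0_51))
  have f11_62 : o x11 x62 = x23 := (d3 f1_40 f1_18 (sw f18_40) (sw f18_25))
  have f43_31 : o x43 x31 = x73 := (d3 f1_40 f1_49 f40_49 f25_49)
  have f3_72 : o x3 x72 = x42 := (sw (d3 f25_40 f25_50 (sw f50_40) f1_50))
  have f24_25 : o x24 x25 = x26 := (sw (d1 f3_38 f3_24 (sw f24_38) f9_4))
  have f3_14 : o x3 x14 = x49 := (d1 f25_38 f25_14 (sw f14_38) f0_71)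
  have f3_49 : o x3 x49 = x14 := (d1 f25_38 f25_49 f38_49 (sw f6_73))
  have f18_62 : o x18 x62 = x40 := (d3 f0_49 f0_9 (sw f9_49) (sw f9_71))
  have f0_62 : o x0 x62 = x31 := (d1 f71_49 f71_62 f49_62 (sw f9_80))
  have f8_71 : o x8 x71 = x53 := (sw (d1 f3_73 f3_8 (sw f8_73) f1_12))
  have f70_71 : o x70 x71 = x69 := (sw (d1 f3_73 f3_70 (sw f70_73) f20_4))
  have f42_74 : o x42 x74 = x58 := (sw (d3 f71_73 f71_32 f73_32 f3_32))
  have f3_29 : o x3 x29 = x61 := (d1 f71_73 f71_29 f73_29 (sw f9_50))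
  have f59_43 : o x59 x43 = x18 := (sw (d3 f0_68 f0_77 (sw f77_68) f52_77))
  have f0_78 : o x0 x78 = x39 := (d1 f52_68 f52_78 f68_78 (sw f1_26))
  have f2_52 : o x2 x52 = x39 := (sw (d1 f1_13 f1_2 (sw f2_13) f0_78))
  have f5_47 : o x5 x47 = x44 := (d3 f1_13 f1_6 (sw f6_13) (sw f6_52))
  have f46_58 : o x46 x58 = x43 := (sw (d3 f1_13 f1_34 f13_34 f52_34))
  have f9_33 : o x9 x33 = x75 := (sw (d3 f52_13 f52_17 (sw f17_13) f1_17))
  have f43_46 : o x43 x46 = x58 := (d3 f52_13 f52_34 f13_34 f1_34)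
  have f24_52 : o x24 x52 = x80 := (sw (d1 f9_59 f9_24 (sw f24_59) f3_10))
  have f13_33 : o x13 x33 = x20 := (d3 f52_59 (sw f1_52) (sw f1_59) (sw f1_9))
  have f9_68 : o x9 x68 = x43 := (d1 f52_59 f52_68 (sw f68_59) f0_77)
  have f9_43 : o x9 x43 = x68 := (d1 f52_59 f52_43 f59_43 (sw f18_34))
  have f13_47 : o x13 x47 = x6 := (d3 f77_43 (sw f3_77) (sw f3_43) f0_3)
  have f0_47 : o x0 x47 = x64 := (d1 f77_43 f77_47 f43_47 (sw f3_26))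
  have f20_77 : o x20 x77 = x53 := (sw (d1 f9_34 f9_20 (sw f20_34) f1_12))
  have f9_56 : o x9 x56 = x46 := (d1 f77_34 f77_56 f34_56 (sw f3_17))
  have f41_54 : o x41 x54 = x25 := (d3 f1_39 f1_24 (sw f24_39) (sw f24_26))
  have f64_75 : o x64 x75 = x8 := (sw (d3 f1_39 f1_17 (sw f17_39) f26_17))
  have f5_43 : o x5 x43 = x72 := (d3 f26_39 f26_38 (sw f38_39) f1_38)
  have f68_45 : o x68 x45 = x7 := (sw (d3 f3_64 f3_69 (sw f69_64) f26_69))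
  have f7_68 : o x7 x68 = x45 := (d3 f26_64 f26_69 (sw f69_64) f3_69)
  have f3_39 : o x3 x39 = x75 := (d1 f26_64 f26_39 (sw f39_64) f1_17)
  have f3_75 : o x3 x75 = x39 := (d1 f26_64 f26_75 f64_75 (sw f8_46))
  have f11_17 : o x11 x17 = x14 := (sw (d1 f1_75 f1_11 (sw f11_75) f18_7))
  have f41_34 : o x41 x34 = x45 := (d3 f17_75 f17_65 f75_65 f1_65)
  have f43_45 : o x43 x45 = x32 := (sw (d3 f17_46 f17_58 f46_58 f3_58))
  have f41_27 : o x41 x27 = x52 := (d3 f1_66 f1_24 (sw f24_66) (sw f24_80))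
  have f31_42 : o x31 x42 = x20 := (sw (d3 f1_66 f1_50 (sw f50_66) f80_50))
  have f11_49 : o x11 x49 = x33 := (d3 f80_66 f80_59 (sw f59_66) f1_59)
  have f14_60 : o x14 x60 = x19 := (sw (d3 f9_31 f9_48 (sw f48_31) f80_48))
  have f73_33 : o x73 x33 = x68 := (sw (d3 f80_31 f80_43 (sw f43_31) f9_43))
  have f9_66 : o x9 x66 = x42 := (d1 f80_31 f80_66 (sw f66_31) f1_50)
  have f9_42 : o x9 x42 = x66 := (d1 f80_31 f80_42 f31_42 (sw f20_61))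
  have f58_65 : o x58 x65 = x24 := (sw (d3 f3_37 f3_79 (sw f79_37) f53_79))
  have f15_76 : o x15 x76 = x56 := (d3 f53_37 f53_34 (sw f34_37) f3_34)
  have f16_29 : o x16 x29 = x21 := (sw (d3 f9_58 f9_73 (sw f73_58) f53_73))
  have f21_16 : o x21 x16 = x29 := (d3 f53_58 f53_73 (sw f73_58) f9_73)
  have f48_56 : o x48 x56 = x43 := (sw (d3 f53_58 f53_68 (sw f68_58) f9_68))
  have f9_37 : o x9 x37 = x65 := (d1 f53_58 f53_37 (sw f37_58) f3_79)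
  have f9_65 : o x9 x65 = x37 := (d1 f53_58 f53_65 f58_65 (sw f24_32))
  have f48_29 : o x48 x29 = x70 := (sw (d3 f3_65 f3_61 (sw f61_65) f79_61))
  have f70_48 : o x70 x48 = x29 := (d3 f79_65 f79_61 (sw f61_65) f3_61)
  have f69_56 : o x69 x56 = x22 := (sw (d3 f9_32 f9_46 (sw f46_32) f79_46))
  have f22_69 : o x22 x69 = x56 := (d3 f79_32 f79_46 (sw f46_32) f9_46)
  have f8_36 : o x8 x36 = x76 := (d3 f3_74 (sw f1_3) (sw f1_74) (sw f1_16))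
  have f7_48 : o x7 x48 = x38 := (d3 f16_74 (sw f25_16) (sw f25_74) f3_25)
  have f7_76 : o x7 x76 = x64 := (sw (d3 f3_45 f3_68 (sw f68_45) f69_68))
  have f3_63 : o x3 x63 = x51 := (d1 f69_45 f69_63 f45_63 (sw f0_66))
  have f20_57 : o x20 x57 = x16 := (d3 f9_35 (sw f1_9) (sw f1_35) (sw f1_76))
  have f18_76 : o x18 x76 = x53 := (sw (d1 f9_35 f9_18 (sw f18_35) f0_67))
  have f19_69 : o x19 x69 = x59 := (d3 f76_35 (sw f52_76) (sw f52_35) f9_52)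
  have f41_26 : o x41 x26 = x29 := (d3 f9_60 f9_70 (sw f70_60) (sw f70_48))
  have f20_44 : o x20 x44 = x32 := (sw (d3 f9_60 f9_67 (sw f67_60) (sw f67_48)))
  have f19_16 : o x19 x16 = x31 := (sw (d3 f9_60 f9_14 (sw f14_60) f48_14))
  have f9_30 : o x9 x30 = x78 := (d1 f48_60 f48_30 f60_30 (sw f0_39))
  have f5_73 : o x5 x73 = x69 := (d3 f14_51 (sw f23_14) (sw f23_51) f1_23)
  have f18_49 : o x18 x49 = x80 := (sw (d1 f9_62 f9_18 (sw f18_62) f0_40))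
  have f10_23 : o x10 x23 = x33 := (d3 f9_62 f9_11 (sw f11_62) (sw f11_49))
  have f21_38 : o x21 x38 = x34 := (d3 f49_62 (sw f77_49) (sw f77_62) f9_77)
  have f79_73 : o x79 x73 = x76 := (sw (d1 f9_29 f9_79 (sw f79_29) (sw f66_32)))
  have f21_14 : o x21 x14 = x58 := (sw (d3 f9_29 f9_16 (sw f16_29) (sw f16_73)))
  have f48_73 : o x48 x73 = x26 := (sw (d1 f9_29 f9_48 (sw f48_29) (sw f70_60)))
  have f70_26 : o x70 x26 = x60 := (sw (d3 f73_29 (sw f48_73) (sw f48_29) f9_48))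
  have f23_68 : o x23 x68 = x32 := (sw (d1 f1_78 f1_23 (sw f23_78) f69_46))
  have f48_34 : o x48 x34 = x11 := (d3 f1_78 f1_44 (sw f44_78) (sw f44_68))
  have f20_52 : o x20 x52 = x75 := (sw (d3 f1_33 f1_13 (sw f13_33) (sw f13_59)))
  have f4_44 : o x4 x44 = x72 := (d3 f3_47 f3_5 (sw f5_47) (sw f5_43))
  have f73_59 : o x73 x59 = x15 := (d3 f3_47 f3_71 (sw f71_47) (sw f71_43))
  have f6_77 : o x6 x77 = x64 := (sw (d3 f3_47 f3_13 (sw f13_47) (sw f13_43)))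
  have f68_37 : o x68 x37 = x15 := (sw (d3 f3_56 f3_53 (sw f53_56) (sw f53_34)))
  have f8_74 : o x8 x74 = x68 := (sw (d1 f1_36 f1_8 (sw f8_36) f3_76))
  have f18_78 : o x18 x78 = x48 := (d3 f0_30 f0_9 (sw f9_30) (sw f9_60))
  have f69_66 : o x69 x66 = x63 := (sw (iv f69_63))
  have f21_4 : o x21 x4 = x68 := (sw (iv f21_68))
  have f38_62 : o x38 x62 = x77 := (iv (sw f77_62))
  have f19_5 : o x19 x5 = x42 := (sw (iv f19_42))
  have f64_33 : o x64 x33 = x50 := (iv (sw f50_33))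
  have f11_25 : o x11 x25 = x30 := (sw (iv f11_30))
  have f15_25 : o x15 x25 = x35 := (sw (iv f15_35))
  have f48_68 : o x48 x68 = x58 := (iv f68_58)
  have f5_52 : o x5 x52 = x63 := (sw (iv f5_63))
  have f11_23 : o x11 x23 = x62 := (sw (iv f11_62))
  have f70_69 : o x70 x69 = x71 := (sw (iv f70_71))
  have f5_44 : o x5 x44 = x47 := (sw (iv f5_47))
  have f41_25 : o x41 x25 = x54 := (sw (iv f41_54))
  have f11_14 : o x11 x14 = x17 := (sw (iv f11_17))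
  have f41_52 : o x41 x52 = x27 := (sw (iv f41_27))
  have f8_76 : o x8 x76 = x36 := (sw (iv f8_36))
  have f3_51 : o x3 x51 = x63 := (sw (iv f3_63))
  have f20_16 : o x20 x16 = x57 := (sw (iv f20_57))
  have f9_78 : o x9 x78 = x30 := (sw (iv f9_30))
  have f79_76 : o x79 x76 = x73 := (sw (iv f79_73))
  have f16_68 : o x16 x68 = x36 := (d3 f1_3 f1_76 f3_76 f8_76)
  have f7_15 : o x7 x15 = x80 := (d1 f3_2 f3_15 f2_15 f18_49)
  have f7_70 : o x7 x70 = x52 := (d1 f3_2 f3_70 f2_70 f20_75)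
  have f7_52 : o x7 x52 = x70 := (d1 f3_2 f3_52 f2_52 f11_39)
  have f7_66 : o x7 x66 = x74 := (d1 f3_2 f3_66 f2_66 (sw f25_48))
  have f19_22 : o x19 x22 = x25 := (d1 f9_2 f9_22 f2_22 f8_42)
  have f19_25 : o x19 x25 = x22 := (d1 f9_2 f9_25 f2_25 f5_66)
  have f19_39 : o x19 x39 = x35 := (d1 f9_2 f9_39 f2_39 (sw f52_69))
  have f5_11 : o x5 x11 = x53 := (d1 f1_6 f1_11 f6_11 f18_76)
  have f5_41 : o x5 x41 = x77 := (d1 f1_6 f1_41 f6_41 f24_46)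
  have f5_77 : o x5 x77 = x41 := (d1 f1_6 f1_77 f6_77 f15_64)
  have f21_22 : o x21 x22 = x23 := (d1 f9_6 f9_22 f6_22 f8_65)
  have f21_26 : o x21 x26 = x19 := (d1 f9_6 f9_26 f6_26 f4_43)
  have f21_64 : o x21 x64 = x62 := (d1 f9_6 f9_64 f6_64 (sw f77_38))
  have f25_69 : o x25 x69 = x62 := (sw (d3 f1_18 f1_23 f18_23 f11_23))
  have f7_51 : o x7 x51 = x17 := (sw (d3 f1_18 f1_14 f18_14 f11_14))
  have f11_78 : o x11 x78 = x58 := (d1 f1_18 f1_78 f18_78 (sw f48_68))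
  have f4_50 : o x4 x50 = x12 := (d1 f0_8 f0_50 f8_50 f70_38)
  have f4_65 : o x4 x65 = x78 := (d1 f0_8 f0_65 f8_65 (sw f23_46))
  have f4_74 : o x4 x74 = x15 := (d1 f0_8 f0_74 f8_74 (sw f68_37))
  have f26_16 : o x26 x16 = x33 := (sw (d3 f0_20 f0_23 f20_23 f10_23))
  have f68_75 : o x68 x75 = x31 := (d3 f0_20 f0_52 f20_52 f10_52)
  have f10_17 : o x10 x17 = x12 := (d1 f0_20 f0_17 f20_17 f22_59)
  have f10_32 : o x10 x32 = x51 := (d1 f0_20 f0_32 f20_32 (sw f44_61))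
  have f23_64 : o x23 x64 = x60 := (sw (d3 f3_20 f3_26 f20_26 f70_26))
  have f4_45 : o x4 x45 = x71 := (sw (d3 f3_20 f3_69 f20_69 f70_69))
  have f7_12 : o x7 x12 = x47 := (sw (d1 f0_24 f0_7 f24_7 f5_44))
  have f19_12 : o x19 x12 = x62 := (sw (d1 f0_24 f0_19 f24_19 f11_23))
  have f7_41 : o x7 x41 = x72 := (sw (d1 f1_24 f1_7 f24_7 f4_44))
  have f19_41 : o x19 x41 = x33 := (sw (d1 f1_24 f1_19 f24_19 f10_23))
  have f70_23 : o x70 x23 = x27 := (sw (d1 f9_7 f9_70 f7_70 f41_52))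
  have f23_66 : o x23 x66 = x58 := (d1 f9_7 f9_66 f7_66 f42_74)
  have f22_44 : o x22 x44 = x54 := (sw (d1 f3_19 f3_22 f19_22 f41_25))
  have f10_53 : o x10 x53 = x30 := (d3 f9_5 f9_11 f5_11 (sw f11_25))
  have f70_77 : o x70 x77 = x54 := (d3 f9_5 f9_41 f5_41 (sw f41_25))
  have f25_77 : o x25 x77 = x45 := (d1 f9_5 f9_77 f5_77 (sw f41_34))
  have f4_71 : o x4 x71 = x45 := (sw (d1 f1_21 f1_4 f21_4 f7_68))
  have f22_71 : o x22 x71 = x27 := (sw (d1 f1_21 f1_22 f21_22 f70_23))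
  have f71_26 : o x71 x26 = x35 := (d1 f1_21 f1_26 f21_26 (sw f19_39))
  have f4_53 : o x4 x53 = x63 := (d3 f3_11 f3_5 (sw f5_11) (sw f5_52))
  have f40_35 : o x40 x35 = x45 := (d3 f1_15 f1_25 f15_25 (sw f25_77))
  have f50_39 : o x50 x39 = x58 := (d1 f0_70 f0_39 f70_39 (sw f11_78))
  have f8_16 : o x8 x16 = x78 := (sw (d1 f0_23 f0_8 (sw f8_23) f4_65))
  have f24_16 : o x24 x16 = x62 := (sw (d1 f0_23 f0_24 (sw f24_23) (sw f19_12)))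
  have f52_32 : o x52 x32 = x36 := (d3 f0_23 f0_68 f23_68 f16_68)
  have f24_69 : o x24 x69 = x33 := (sw (d1 f1_23 f1_24 (sw f24_23) (sw f19_41)))
  have f80_58 : o x80 x58 = x63 := (d3 f1_23 f1_66 f23_66 f69_66)
  have f11_67 : o x11 x67 = x42 := (sw (d1 f3_23 f3_11 (sw f11_23) f52_62))
  have f20_76 : o x20 x76 = x51 := (sw (d1 f0_44 f0_20 (sw f20_44) f10_32))
  have f24_76 : o x24 x76 = x47 := (sw (d1 f0_44 f0_24 (sw f24_44) (sw f7_12)))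
  have f24_48 : o x24 x48 = x72 := (sw (d1 f1_44 f1_24 (sw f24_44) (sw f7_41)))
  have f12_26 : o x12 x26 = x28 := (d3 f0_25 f0_24 (sw f24_25) (sw f24_14))
  have f19_30 : o x19 x30 = x17 := (d3 f0_25 f0_11 (sw f11_25) (sw f11_14))
  have f77_14 : o x77 x14 = x32 := (sw (d1 f0_25 f0_77 f25_77 f43_45))
  have f15_57 : o x15 x57 = x45 := (sw (d3 f1_25 f1_35 f25_35 f40_35))
  have f2_38 : o x2 x38 = x74 := (sw (d1 f3_25 f3_2 (sw f2_25) f7_66))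
  have f19_38 : o x19 x38 = x54 := (sw (d1 f3_25 f3_19 (sw f19_25) (sw f22_44)))
  have f8_49 : o x8 x49 = x63 := (sw (d1 f0_71 f0_8 (sw f8_71) f4_53))
  have f12_80 : o x12 x80 = x55 := (d3 f0_52 f0_24 (sw f24_52) (sw f24_68))
  have f2_59 : o x2 x59 = x35 := (sw (d1 f9_52 f9_2 (sw f2_52) f19_39))
  have f7_59 : o x7 x59 = x27 := (sw (d1 f9_52 f9_7 (sw f7_52) (sw f70_23)))
  have f20_43 : o x20 x43 = x30 := (sw (d1 f0_77 f0_20 (sw f20_77) f10_53))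
  have f6_34 : o x6 x34 = x62 := (sw (d1 f9_77 f9_6 (sw f6_77) f21_64))
  have f20_64 : o x20 x64 = x27 := (sw (d1 f3_26 f3_20 (sw f20_26) f70_23))
  have f10_46 : o x10 x46 = x55 := (sw (d1 f3_17 f3_10 (sw f10_17) (sw f12_80)))
  have f8_31 : o x8 x31 = x54 := (sw (d1 f9_80 f9_8 (sw f8_80) f22_44))
  have f4_61 : o x4 x61 = x28 := (sw (d1 f9_50 f9_4 (sw f4_50) (sw f12_26)))
  have f2_37 : o x2 x37 = x72 := (sw (d1 f3_53 f3_2 (sw f2_53) f7_41))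
  have f18_37 : o x18 x37 = x56 := (sw (d1 f3_53 f3_18 (sw f18_53) f15_76))
  have f20_37 : o x20 x37 = x54 := (sw (d1 f3_53 f3_20 (sw f20_53) f70_77))
  have f2_58 : o x2 x58 = x33 := (sw (d1 f9_53 f9_2 (sw f2_53) f19_41))
  have f6_58 : o x6 x58 = x29 := (sw (d1 f9_53 f9_6 (sw f6_53) f21_16))
  have f8_58 : o x8 x58 = x27 := (sw (d1 f9_53 f9_8 (sw f8_53) f22_71))
  have f2_65 : o x2 x65 = x47 := (sw (d1 f3_79 f3_2 (sw f2_79) f7_12))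
  have f20_65 : o x20 x65 = x29 := (sw (d1 f3_79 f3_20 (sw f20_79) f70_48))
  have f2_32 : o x2 x32 = x62 := (sw (d1 f9_79 f9_2 (sw f2_79) f19_12))
  have f8_32 : o x8 x32 = x56 := (sw (d1 f9_79 f9_8 (sw f8_79) f22_69))
  have f2_74 : o x2 x74 = x38 := (sw (d1 f3_16 f3_2 (sw f2_16) f7_48))
  have f7_74 : o x7 x74 = x66 := (sw (d1 f3_16 f3_7 (sw f7_16) f2_25))
  have f26_74 : o x26 x74 = x50 := (sw (d1 f3_16 f3_26 (sw f26_16) f64_33))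
  have f25_45 : o x25 x45 = x77 := (sw (d1 f3_69 f3_25 (sw f25_69) f38_62))
  have f45_56 : o x45 x56 = x10 := (d1 f3_69 f3_56 f69_56 (sw f22_34))
  have f2_35 : o x2 x35 = x59 := (sw (d1 f9_76 f9_2 (sw f2_76) f19_69))
  have f6_35 : o x6 x35 = x61 := (sw (d1 f9_76 f9_6 (sw f6_76) f21_11))
  have f7_35 : o x7 x35 = x60 := (sw (d1 f9_76 f9_7 (sw f7_76) f23_64))
  have f2_60 : o x2 x60 = x31 := (sw (d1 f9_48 f9_2 (sw f2_48) f19_16))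
  have f4_60 : o x4 x60 = x29 := (sw (d1 f9_48 f9_4 (sw f4_48) (sw f41_26)))
  have f34_60 : o x34 x60 = x8 := (sw (d1 f9_48 f9_34 f48_34 (sw f11_77)))
  have f60_29 : o x60 x29 = x4 := (d1 f9_48 f9_29 f48_29 (sw f70_73))
  have f60_56 : o x60 x56 = x58 := (d1 f9_48 f9_56 f48_56 (sw f43_46))
  have f9_51 : o x9 x51 = x57 := (sw (d1 f1_14 f1_9 (sw f9_14) f20_16))
  have f9_72 : o x9 x72 = x27 := (sw (d1 f1_38 f1_9 (sw f9_38) f20_64))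
  have f2_72 : o x2 x72 = x37 := (sw (d1 f1_38 f1_2 (sw f2_38) f0_74))
  have f1_62 : o x1 x62 = x30 := (sw (d1 f9_49 (sw f1_9) (sw f1_49) f20_43))
  have f3_62 : o x3 x62 = x28 := (sw (d1 f9_49 (sw f3_9) (sw f3_49) f24_14))
  have f6_62 : o x6 x62 = x34 := (sw (d1 f9_49 f9_6 (sw f6_49) f21_38))
  have f1_29 : o x1 x29 = x54 := (sw (d1 f9_73 (sw f1_9) (sw f1_73) f20_37))
  have f6_29 : o x6 x29 = x58 := (sw (d1 f9_73 f9_6 (sw f6_73) f21_14))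
  have f5_29 : o x5 x29 = x62 := (sw (d1 f9_73 f9_5 (sw f5_73) f25_69))
  have f59_29 : o x59 x29 = x8 := (sw (d1 f9_73 f9_59 f73_59 (sw f15_52)))
  have f29_33 : o x29 x33 = x31 := (d1 f9_73 f9_33 f73_33 (sw f68_75))
  have f3_78 : o x3 x78 = x36 := (sw (d1 f1_68 f1_3 (sw f3_68) f8_76))
  have f6_78 : o x6 x78 = x42 := (sw (d1 f1_68 f1_6 (sw f6_68) (sw f19_5)))
  have f21_78 : o x21 x78 = x45 := (sw (d1 f1_68 f1_21 (sw f21_68) (sw f4_71)))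
  have f3_33 : o x3 x33 = x54 := (sw (d1 f1_59 f1_3 (sw f3_59) f8_31))
  have f2_33 : o x2 x33 = x58 := (sw (d1 f1_59 f1_2 (sw f2_59) f0_35))
  have f8_54 : o x8 x54 = x31 := (sw (d3 f1_59 f1_29 f59_29 (sw f29_33)))
  have f1_47 : o x1 x47 = x63 := (sw (d1 f3_43 (sw f1_3) (sw f1_43) f8_49))
  have f9_47 : o x9 x47 = x55 := (sw (d1 f3_43 f3_9 (sw f9_43) f24_68))
  have f1_56 : o x1 x56 = x27 := (sw (d1 f3_34 (sw f1_3) (sw f1_34) f8_58))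
  have f6_56 : o x6 x56 = x31 := (sw (d1 f3_34 f3_6 (sw f6_34) f0_62))
  have f8_27 : o x8 x27 = x58 := (sw (d3 f3_34 f3_60 f34_60 (sw f60_56)))
  have f0_36 : o x0 x36 = x72 := (sw (d1 f1_74 (sw f0_1) (sw f0_74) f2_37))
  have f3_36 : o x3 x36 = x78 := (sw (d1 f1_74 f1_3 (sw f3_74) f8_16))
  have f4_36 : o x4 x36 = x80 := (sw (d1 f1_74 f1_4 (sw f4_74) f7_15))
  have f26_36 : o x26 x36 = x58 := (sw (d1 f1_74 f1_26 (sw f26_74) (sw f50_39)))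
  have f0_28 : o x0 x28 = x56 := (sw (d1 f9_74 (sw f0_9) (sw f0_74) f18_37))
  have f3_28 : o x3 x28 = x62 := (sw (d1 f9_74 (sw f3_9) (sw f3_74) f24_16))
  have f2_28 : o x2 x28 = x54 := (sw (d1 f9_74 f9_2 (sw f2_74) f19_38))
  have f7_28 : o x7 x28 = x58 := (sw (d1 f9_74 f9_7 (sw f7_74) f23_66))
  have f1_63 : o x1 x63 = x47 := (sw (d1 f0_45 f0_1 (sw f1_45) f2_65))
  have f25_63 : o x25 x63 = x32 := (sw (d1 f0_45 f0_25 (sw f25_45) (sw f77_14)))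
  have f1_54 : o x1 x54 = x29 := (sw (d1 f9_45 (sw f1_9) (sw f1_45) f20_65))
  have f3_54 : o x3 x54 = x33 := (sw (d1 f9_45 (sw f3_9) (sw f3_45) f24_69))
  have f4_54 : o x4 x54 = x35 := (sw (d1 f9_45 f9_4 (sw f4_45) (sw f71_26)))
  have f56_54 : o x56 x54 = x55 := (sw (d1 f9_45 f9_56 f45_56 (sw f10_46)))
  have f0_57 : o x0 x57 = x33 := (sw (d1 f1_35 (sw f0_1) (sw f0_35) f2_58))
  have f9_57 : o x9 x57 = x51 := (sw (d1 f1_35 f1_9 (sw f9_35) f20_76))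
  have f18_57 : o x18 x57 = x42 := (sw (d1 f1_35 f1_18 (sw f18_35) f11_67))
  have f0_55 : o x0 x55 = x29 := (sw (d1 f3_35 (sw f0_3) (sw f0_35) f6_58))
  have f9_55 : o x9 x55 = x47 := (sw (d1 f3_35 f3_9 (sw f9_35) f24_76))
  have f2_55 : o x2 x55 = x27 := (sw (d1 f3_35 f3_2 (sw f2_35) f7_59))
  have f7_55 : o x7 x55 = x31 := (sw (d1 f3_35 f3_7 (sw f7_35) f2_60))
  have f1_30 : o x1 x30 = x62 := (sw (d1 f0_60 f0_1 (sw f1_60) f2_32))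
  have f44_30 : o x44 x30 = x73 := (sw (d1 f0_60 f0_44 (sw f44_60) (sw f79_76)))
  have f1_27 : o x1 x27 = x56 := (sw (d1 f3_60 (sw f1_3) (sw f1_60) f8_32))
  have f9_27 : o x9 x27 = x72 := (sw (d1 f3_60 f3_9 (sw f9_60) f24_48))
  have f4_27 : o x4 x27 = x62 := (sw (d1 f3_60 f3_4 (sw f4_60) f5_29))
  have f29_27 : o x29 x27 = x28 := (sw (d1 f3_60 f3_29 f60_29 (sw f4_61)))
  have f38_37 : o x38 x37 = x36 := (sw (d3 f0_2 f0_74 f2_74 f1_74))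
  have f59_58 : o x59 x58 = x57 := (sw (d3 f0_2 f0_35 f2_35 f1_35))
  have f1_28 : o x1 x28 = x55 := (d1 f0_2 f0_28 f2_28 f56_54)
  have f1_55 : o x1 x55 = x28 := (d1 f0_2 f0_55 f2_55 f29_27)
  have f0_72 : o x0 x72 = x36 := (d1 f1_2 f1_72 f2_72 f38_37)
  have f0_33 : o x0 x33 = x57 := (d1 f1_2 f1_33 f2_33 f59_58)
  have f61_58 : o x61 x58 = x55 := (sw (d3 f0_6 f0_35 f6_35 f3_35))
  have f34_31 : o x34 x31 = x28 := (sw (d3 f0_6 f0_62 f6_62 f3_62))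
  have f0_29 : o x0 x29 = x55 := (d1 f3_6 f3_29 f6_29 f61_58)
  have f0_56 : o x0 x56 = x28 := (d1 f3_6 f3_56 f6_56 f34_31)
  have f58_62 : o x58 x62 = x54 := (sw (d3 f3_7 f3_28 f7_28 f2_28))
  have f31_35 : o x31 x35 = x27 := (sw (d3 f3_7 f3_55 f7_55 f2_55))
  have f42_45 : o x42 x45 = x30 := (d3 f6_21 f6_78 f21_78 f9_78)
  have f3_57 : o x3 x57 = x30 := (d1 f18_15 f18_57 f15_57 f42_45)
  have f0_54 : o x0 x54 = x27 := (d1 f8_4 f8_54 f4_54 f31_35)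
  have f0_27 : o x0 x27 = x54 := (d1 f8_4 f8_27 f4_27 f58_62)
  have f17_73 : o x17 x73 = x57 := (d3 f7_23 f7_51 f23_51 f9_51)
  have f3_30 : o x3 x30 = x57 := (d1 f19_44 f19_30 f44_30 f17_73)
  have f9_63 : o x9 x63 = x36 := (d1 f5_25 f5_63 f25_63 f52_32)
  have f9_36 : o x9 x36 = x63 := (d1 f4_26 f4_36 f26_36 f80_58)
  refine ⟨fun k => List.getD [x0, x1, x2, x3, x4, x5, x6, x7, x8, x9, x10, x11, x12, x13, x14, x15, x16, x17, x18, x19, x20, x21, x22, x23, x24, x25, x26, x27, x28, x29, x30, x31, x32, x33, x34, x35, x36, x37, x38, x39, x40, x41, x42, x43, x44, x45, x46, x47, x48, x49, x50, x51, x52, x53, x54, x55, x56, x57, x58, x59, x60, x61, x62, x63, x64, x65, x66, x67, x68, x69, x70, x71, x72, x73, x74, x75, x76, x77, x78, x79, x80] k.1 x0, ⟨rfl, rfl, rfl, rfl⟩, ?_⟩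
  intro g
  match g with
  | 0 =>
    intro k
    match k with
    | 0 => exact f0_0
    | 1 => exact (sw f0_1)
    | 2 => exact (sw f0_2)
    | 3 => exact (sw f0_3)
    | 4 => exact (sw f0_4)
    | 5 => exact (sw f0_5)
    | 6 => exact (sw f0_6)
    | 7 => exact (sw f0_7)
    | 8 => exact (sw f0_8)
    | 9 => exact (sw f0_9)
    | 10 => exact (sw f0_10)
    | 11 => exact (sw f0_11)
    | 12 => exact (sw f0_12)
    | 13 => exact (sw f0_13)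
    | 14 => exact (sw f0_14)
    | 15 => exact (sw f0_15)
    | 16 => exact (sw f0_16)
    | 17 => exact (sw f0_17)
    | 18 => exact (sw f0_18)
    | 19 => exact (sw f0_19)
    | 20 => exact (sw f0_20)
    | 21 => exact (sw f0_21)
    | 22 => exact (sw f0_22)
    | 23 => exact (sw f0_23)
    | 24 => exact (sw f0_24)
    | 25 => exact (sw f0_25)
    | 26 => exact (sw f0_26)
    | 27 => exact (sw f0_27)
    | 28 => exact (sw f0_28)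
    | 29 => exact (sw f0_29)
    | 30 => exact (sw f0_30)
    | 31 => exact (sw f0_31)
    | 32 => exact (sw f0_32)
    | 33 => exact (sw f0_33)
    | 34 => exact (sw f0_34)
    | 35 => exact (sw f0_35)
    | 36 => exact (sw f0_36)
    | 37 => exact (sw f0_37)
    | 38 => exact (sw f0_38)
    | 39 => exact (sw f0_39)
    | 40 => exact (sw f0_40)
    | 41 => exact (sw f0_41)
    | 42 => exact (sw f0_42)
    | 43 => exact (sw f0_43)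
    | 44 => exact (sw f0_44)
    | 45 => exact (sw f0_45)
    | 46 => exact (sw f0_46)
    | 47 => exact (sw f0_47)
    | 48 => exact (sw f0_48)
    | 49 => exact (sw f0_49)
    | 50 => exact (sw f0_50)
    | 51 => exact (sw f0_51)
    | 52 => exact (sw f0_52)
    | 53 => exact (sw f0_53)
    | 54 => exact (sw f0_54)
    | 55 => exact (sw f0_55)
    | 56 => exact (sw f0_56)
    | 57 => exact (sw f0_57)
    | 58 => exact (sw f0_58)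
    | 59 => exact (sw f0_59)
    | 60 => exact (sw f0_60)
    | 61 => exact (sw f0_61)
    | 62 => exact (sw f0_62)
    | 63 => exact (sw f0_63)
    | 64 => exact (sw f0_64)
    | 65 => exact (sw f0_65)
    | 66 => exact (sw f0_66)
    | 67 => exact (sw f0_67)
    | 68 => exact (sw f0_68)
    | 69 => exact (sw f0_69)
    | 70 => exact (sw f0_70)
    | 71 => exact (sw f0_71)
    | 72 => exact (sw f0_72)
    | 73 => exact (sw f0_73)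
    | 74 => exact (sw f0_74)
    | 75 => exact (sw f0_75)
    | 76 => exact (sw f0_76)
    | 77 => exact (sw f0_77)
    | 78 => exact (sw f0_78)
    | 79 => exact (sw f0_79)
    | 80 => exact (sw f0_80)
    | ⟨n + 81, hk⟩ => exact absurd hk (by omega)
  | 1 =>
    intro k
    match k with
    | 0 => exact f0_1
    | 1 => exact f1_1
    | 2 => exact (sw f1_2)
    | 3 => exact (sw f1_3)
    | 4 => exact (sw f1_4)
    | 5 => exact (sw f1_5)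
    | 6 => exact (sw f1_6)
    | 7 => exact (sw f1_7)
    | 8 => exact (sw f1_8)
    | 9 => exact (sw f1_9)
    | 10 => exact (sw f1_10)
    | 11 => exact (sw f1_11)
    | 12 => exact (sw f1_12)
    | 13 => exact (sw f1_13)
    | 14 => exact (sw f1_14)
    | 15 => exact (sw f1_15)
    | 16 => exact (sw f1_16)
    | 17 => exact (sw f1_17)
    | 18 => exact (sw f1_18)
    | 19 => exact (sw f1_19)
    | 20 => exact (sw f1_20)
    | 21 => exact (sw f1_21)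
    | 22 => exact (sw f1_22)
    | 23 => exact (sw f1_23)
    | 24 => exact (sw f1_24)
    | 25 => exact (sw f1_25)
    | 26 => exact (sw f1_26)
    | 27 => exact (sw f1_27)
    | 28 => exact (sw f1_28)
    | 29 => exact (sw f1_29)
    | 30 => exact (sw f1_30)
    | 31 => exact (sw f1_31)
    | 32 => exact (sw f1_32)
    | 33 => exact (sw f1_33)
    | 34 => exact (sw f1_34)
    | 35 => exact (sw f1_35)
    | 36 => exact (sw f1_36)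
    | 37 => exact (sw f1_37)
    | 38 => exact (sw f1_38)
    | 39 => exact (sw f1_39)
    | 40 => exact (sw f1_40)
    | 41 => exact (sw f1_41)
    | 42 => exact (sw f1_42)
    | 43 => exact (sw f1_43)
    | 44 => exact (sw f1_44)
    | 45 => exact (sw f1_45)
    | 46 => exact (sw f1_46)
    | 47 => exact (sw f1_47)
    | 48 => exact (sw f1_48)
    | 49 => exact (sw f1_49)
    | 50 => exact (sw f1_50)
    | 51 => exact (sw f1_51)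
    | 52 => exact (sw f1_52)
    | 53 => exact (sw f1_53)
    | 54 => exact (sw f1_54)
    | 55 => exact (sw f1_55)
    | 56 => exact (sw f1_56)
    | 57 => exact (sw f1_57)
    | 58 => exact (sw f1_58)
    | 59 => exact (sw f1_59)
    | 60 => exact (sw f1_60)
    | 61 => exact (sw f1_61)
    | 62 => exact (sw f1_62)
    | 63 => exact (sw f1_63)
    | 64 => exact (sw f1_64)
    | 65 => exact (sw f1_65)
    | 66 => exact (sw f1_66)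
    | 67 => exact (sw f1_67)
    | 68 => exact (sw f1_68)
    | 69 => exact (sw f1_69)
    | 70 => exact (sw f1_70)
    | 71 => exact (sw f1_71)
    | 72 => exact (sw f1_72)
    | 73 => exact (sw f1_73)
    | 74 => exact (sw f1_74)
    | 75 => exact (sw f1_75)
    | 76 => exact (sw f1_76)
    | 77 => exact (sw f1_77)
    | 78 => exact (sw f1_78)
    | 79 => exact (sw f1_79)
    | 80 => exact (sw f1_80)
    | ⟨n + 81, hk⟩ => exact absurd hk (by omega)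
  | 2 =>
    intro k
    match k with
    | 0 => exact f0_3
    | 1 => exact f1_3
    | 2 => exact (sw f3_2)
    | 3 => exact f3_3
    | 4 => exact (sw f3_4)
    | 5 => exact (sw f3_5)
    | 6 => exact (sw f3_6)
    | 7 => exact (sw f3_7)
    | 8 => exact (sw f3_8)
    | 9 => exact (sw f3_9)
    | 10 => exact (sw f3_10)
    | 11 => exact (sw f3_11)
    | 12 => exact (sw f3_12)
    | 13 => exact (sw f3_13)
    | 14 => exact (sw f3_14)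
    | 15 => exact (sw f3_15)
    | 16 => exact (sw f3_16)
    | 17 => exact (sw f3_17)
    | 18 => exact (sw f3_18)
    | 19 => exact (sw f3_19)
    | 20 => exact (sw f3_20)
    | 21 => exact (sw f3_21)
    | 22 => exact (sw f3_22)
    | 23 => exact (sw f3_23)
    | 24 => exact (sw f3_24)
    | 25 => exact (sw f3_25)
    | 26 => exact (sw f3_26)
    | 27 => exact (sw f3_27)
    | 28 => exact (sw f3_28)
    | 29 => exact (sw f3_29)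
    | 30 => exact (sw f3_30)
    | 31 => exact (sw f3_31)
    | 32 => exact (sw f3_32)
    | 33 => exact (sw f3_33)
    | 34 => exact (sw f3_34)
    | 35 => exact (sw f3_35)
    | 36 => exact (sw f3_36)
    | 37 => exact (sw f3_37)
    | 38 => exact (sw f3_38)
    | 39 => exact (sw f3_39)
    | 40 => exact (sw f3_40)
    | 41 => exact (sw f3_41)
    | 42 => exact (sw f3_42)
    | 43 => exact (sw f3_43)
    | 44 => exact (sw f3_44)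
    | 45 => exact (sw f3_45)
    | 46 => exact (sw f3_46)
    | 47 => exact (sw f3_47)
    | 48 => exact (sw f3_48)
    | 49 => exact (sw f3_49)
    | 50 => exact (sw f3_50)
    | 51 => exact (sw f3_51)
    | 52 => exact (sw f3_52)
    | 53 => exact (sw f3_53)
    | 54 => exact (sw f3_54)
    | 55 => exact (sw f3_55)
    | 56 => exact (sw f3_56)
    | 57 => exact (sw f3_57)
    | 58 => exact (sw f3_58)
    | 59 => exact (sw f3_59)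
    | 60 => exact (sw f3_60)
    | 61 => exact (sw f3_61)
    | 62 => exact (sw f3_62)
    | 63 => exact (sw f3_63)
    | 64 => exact (sw f3_64)
    | 65 => exact (sw f3_65)
    | 66 => exact (sw f3_66)
    | 67 => exact (sw f3_67)
    | 68 => exact (sw f3_68)
    | 69 => exact (sw f3_69)
    | 70 => exact (sw f3_70)
    | 71 => exact (sw f3_71)
    | 72 => exact (sw f3_72)
    | 73 => exact (sw f3_73)
    | 74 => exact (sw f3_74)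
    | 75 => exact (sw f3_75)
    | 76 => exact (sw f3_76)
    | 77 => exact (sw f3_77)
    | 78 => exact (sw f3_78)
    | 79 => exact (sw f3_79)
    | 80 => exact (sw f3_80)
    | ⟨n + 81, hk⟩ => exact absurd hk (by omega)
  | 3 =>
    intro k
    match k with
    | 0 => exact f0_9
    | 1 => exact f1_9
    | 2 => exact (sw f9_2)
    | 3 => exact f3_9
    | 4 => exact (sw f9_4)
    | 5 => exact (sw f9_5)
    | 6 => exact (sw f9_6)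
    | 7 => exact (sw f9_7)
    | 8 => exact (sw f9_8)
    | 9 => exact f9_9
    | 10 => exact (sw f9_10)
    | 11 => exact (sw f9_11)
    | 12 => exact (sw f9_12)
    | 13 => exact (sw f9_13)
    | 14 => exact (sw f9_14)
    | 15 => exact (sw f9_15)
    | 16 => exact (sw f9_16)
    | 17 => exact (sw f9_17)
    | 18 => exact (sw f9_18)
    | 19 => exact (sw f9_19)
    | 20 => exact (sw f9_20)
    | 21 => exact (sw f9_21)
    | 22 => exact (sw f9_22)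
    | 23 => exact (sw f9_23)
    | 24 => exact (sw f9_24)
    | 25 => exact (sw f9_25)
    | 26 => exact (sw f9_26)
    | 27 => exact (sw f9_27)
    | 28 => exact (sw f9_28)
    | 29 => exact (sw f9_29)
    | 30 => exact (sw f9_30)
    | 31 => exact (sw f9_31)
    | 32 => exact (sw f9_32)
    | 33 => exact (sw f9_33)
    | 34 => exact (sw f9_34)
    | 35 => exact (sw f9_35)
    | 36 => exact (sw f9_36)
    | 37 => exact (sw f9_37)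
    | 38 => exact (sw f9_38)
    | 39 => exact (sw f9_39)
    | 40 => exact (sw f9_40)
    | 41 => exact (sw f9_41)
    | 42 => exact (sw f9_42)
    | 43 => exact (sw f9_43)
    | 44 => exact (sw f9_44)
    | 45 => exact (sw f9_45)
    | 46 => exact (sw f9_46)
    | 47 => exact (sw f9_47)
    | 48 => exact (sw f9_48)
    | 49 => exact (sw f9_49)
    | 50 => exact (sw f9_50)
    | 51 => exact (sw f9_51)
    | 52 => exact (sw f9_52)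
    | 53 => exact (sw f9_53)
    | 54 => exact (sw f9_54)
    | 55 => exact (sw f9_55)
    | 56 => exact (sw f9_56)
    | 57 => exact (sw f9_57)
    | 58 => exact (sw f9_58)
    | 59 => exact (sw f9_59)
    | 60 => exact (sw f9_60)
    | 61 => exact (sw f9_61)
    | 62 => exact (sw f9_62)
    | 63 => exact (sw f9_63)
    | 64 => exact (sw f9_64)
    | 65 => exact (sw f9_65)
    | 66 => exact (sw f9_66)
    | 67 => exact (sw f9_67)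
    | 68 => exact (sw f9_68)
    | 69 => exact (sw f9_69)
    | 70 => exact (sw f9_70)
    | 71 => exact (sw f9_71)
    | 72 => exact (sw f9_72)
    | 73 => exact (sw f9_73)
    | 74 => exact (sw f9_74)
    | 75 => exact (sw f9_75)
    | 76 => exact (sw f9_76)
    | 77 => exact (sw f9_77)
    | 78 => exact (sw f9_78)
    | 79 => exact (sw f9_79)
    | 80 => exact (sw f9_80)
    | ⟨n + 81, hk⟩ => exact absurd hk (by omega)

end CfsgLib.Trans3.FourTable
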