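import Mathlib.GroupTheory.Nilpotent
import Mathlib.GroupTheory.PGroup
import Mathlib.GroupTheory.Sylow
import Mathlib.Tactic
import Cfsg.Agent.Lib.Trans3.FourTable

/-! In a set of involutions with all pairwise products of order dividing 3, closed under mutual
conjugation, the products of any four members generate a 3-group. -/

set_option autoImplicit false

namespace CfsgLib.Trans3

open FourTable

def pr (k : Fin 81) : ZMod 3 × ZMod 3 × ZMod 3 :=
  ((k.1 : ZMod 3), ((k.1 / 3 : ℕ) : ZMod 3), ((k.1 / 9 : ℕ) : ZMod 3))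

def lst (k : Fin 81) : ZMod 3 := ((k.1 / 27 : ℕ) : ZMod 3)

theorem pr_lst_injective : ∀ k l : Fin 81, pr k = pr l → lst k = lst l → k = l := by
  intro k l h1 h2
  have h : ∀ k : Fin 81,
      (pr k).1.val + 3 * (pr k).2.1.val + 9 * (pr k).2.2.val + 27 * (lst k).val = k.1 := by
    decide +kernel
  exact Fin.ext ((h k).symm.trans ((by rw [h1, h2] : _ = _).trans (h l)))

/-- Shift of the `g`-th right multiplication. -/
def shiftV : Fin 4 → ZMod 3 × ZMod 3 × ZMod 3
  | 0 => (0, 0, 0) | 1 => (2, 0, 0) | 2 => (0, 2, 0) | 3 => (0, 0, 2)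

def shiftF : Fin 4 → ZMod 3 × ZMod 3 × ZMod 3 → ZMod 3
  | 0, _ => 0 | 1, x => x.2.2 * x.2.1 | 2, x => 2 * (x.2.2 * x.1) | 3, _ => 0

theorem act_spec : ∀ g k, pr (act g k) = -pr k + shiftV g ∧
    lst (act g k) = -lst k + shiftF g (pr k) := by decide +kernel

theorem act_act : ∀ g k, act g (act g k) = k := by decide +kernel

/-- The involution `act g` as a permutation. -/
def actPerm (g : Fin 4) : Equiv.Perm (Fin 81) := (Function.Involutive.toPerm (act g) (act_act g))

/-- Permutations in the group `(Z/3)^27 ⋊ (Z/3)^3`. -/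
def tri : Subgroup (Equiv.Perm (Fin 81)) where
  carrier := {p | ∃ v F, ∀ k, pr (p k) = pr k + v ∧ lst (p k) = lst k + F (pr k)}
  mul_mem' := by
    rintro p q ⟨v, F, hp⟩ ⟨w, K, hq⟩
    refine ⟨w + v, fun x => K x + F (x + w), fun k => ⟨?_, ?_⟩⟩
    · show pr (p (q k)) = _
      rw [(hp _).1, (hq _).1, add_assoc]
    · show lst (p (q k)) = _
      rw [(hp _).2, (hq _).2, (hq _).1, add_assoc]
  one_mem' := ⟨0, fun _ => 0, fun k => ⟨(add_zero _).symm, (add_zero _).symm⟩⟩
  inv_mem' := by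
    rintro p ⟨v, F, hp⟩
    refine ⟨-v, fun x => -F (x - v), fun k => ?_⟩
    have h1 := hp (p⁻¹ k)
    simp only [Equiv.Perm.inv_def, Equiv.apply_symm_apply] at h1
    refine ⟨by rw [h1.1]; simp, ?_⟩
    show _ = _ + -F (pr k - v)
    rw [h1.2, h1.1]; simp

theorem actPerm_mul_mem (g h : Fin 4) : actPerm g * actPerm h ∈ tri := by
  refine ⟨-shiftV h + shiftV g, fun x => -shiftF h x + shiftF g (-x + shiftV h), fun k => ?_⟩
  show pr (act g (act h k)) = _ ∧ lst (act g (act h k)) = _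
  obtain ⟨a1, a2⟩ := act_spec h k
  obtain ⟨b1, b2⟩ := act_spec g (act h k)
  rw [b1, b2, a1, a2]
  constructor <;> abel

theorem three_smul_zmod (x : ZMod 3) : x + x + x = 0 := by revert x; decide

theorem tri_pow_nine {p : Equiv.Perm (Fin 81)} (hp : p ∈ tri) : p ^ 9 = 1 := by
  obtain ⟨v, F, hp⟩ := hp
  have h3v : v + v + v = 0 := by ext <;> simp [three_smul_zmod]
  have h3 : ∀ k, pr ((p ^ 3) k) = pr k ∧
      lst ((p ^ 3) k) = lst k + (F (pr k) + F (pr k + v) + F (pr k + v + v)) := by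
    intro k
    show pr (p (p (p k))) = _ ∧ lst (p (p (p k))) = _
    simp only [(hp _).1, (hp _).2]
    refine ⟨?_, by abel⟩
    rw [add_assoc, add_assoc, ← add_assoc v, h3v, add_zero]
  ext k : 1
  show (p ^ (3 * 3)) k = k
  rw [pow_mul]
  refine pr_lst_injective _ _ ?_ ?_
  · show pr ((p ^ 3) ((p ^ 3) ((p ^ 3) k))) = _
    simp only [(h3 _).1]
  · show lst ((p ^ 3) ((p ^ 3) ((p ^ 3) k))) = _
    simp only [(h3 _).1, (h3 _).2]
    rw [add_assoc, add_assoc, ← add_assoc (F (pr k) + _ + _), three_smul_zmod, add_zero]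

variable {G : Type*} [Group G] [Finite G] {D : Set G}

theorem isPGroup_four (hi : ∀ x ∈ D, x * x = 1) (h3 : ∀ x ∈ D, ∀ y ∈ D, (x * y) ^ 3 = 1)
    (hc : ∀ x ∈ D, ∀ y ∈ D, x * y * x ∈ D) (a : Fin 4 → G) (ha : ∀ i, a i ∈ D) :
    IsPGroup 3 (Subgroup.closure (Set.range fun p : Fin 4 × Fin 4 => a p.1 * a p.2)) := by
  haveI : Fact (Nat.Prime 3) := ⟨Nat.prime_three⟩
  have hinv : ∀ x ∈ D, x⁻¹ = x := fun x hx => inv_eq_of_mul_eq_one_right (hi x hx)
  have hbraid : ∀ x ∈ D, ∀ y ∈ D, x * y * x = y * x * y := by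
    intro x hx y hy
    have h : (x * y * x) * (y * x * y) = 1 := by
      simpa [pow_succ, pow_zero, mul_assoc] using h3 x hx y hy
    rw [eq_inv_of_mul_eq_one_left h]
    simp [mul_inv_rev, hinv x hx, hinv y hy, mul_assoc]
  obtain ⟨X, ⟨h0, h1, h3', h9⟩, hX⟩ := exists_table (α := D)
    (fun x y => ⟨x.1 * y.1 * x.1, hc _ x.2 _ y.2⟩)
    (fun x => Subtype.ext (by simp [hi _ x.2]))
    (fun x y => Subtype.ext (hbraid _ x.2 _ y.2))
    (fun x y => Subtype.ext (by
      show (x.1 * y.1 * x.1) * x.1 * (x.1 * y.1 * x.1) = y.1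
      rw [hbraid _ (hc _ x.2 _ y.2) _ x.2]
      calc x.1 * (x.1 * y.1 * x.1) * x.1 = (x.1 * x.1) * y.1 * (x.1 * x.1) := by group
        _ = y.1 := by rw [hi _ x.2, one_mul, mul_one]))
    (fun x y z => Subtype.ext (by
      show (x.1 * y.1 * x.1) * z.1 * (x.1 * y.1 * x.1) =
        (x.1 * z.1 * x.1) * (y.1 * z.1 * y.1) * (x.1 * z.1 * x.1)
      rw [hbraid _ (hc _ x.2 _ y.2) _ z.2, hbraid _ x.2 _ z.2, hbraid _ y.2 _ z.2]
      calc z.1 * (x.1 * y.1 * x.1) * z.1
          = z.1 * x.1 * (z.1 * z.1) * y.1 * (z.1 * z.1) * x.1 * z.1 := by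
            rw [hi _ z.2]; group
        _ = _ := by group))
    ⟨a 0, ha 0⟩ ⟨a 1, ha 1⟩ ⟨a 2, ha 2⟩ ⟨a 3, ha 3⟩
  have hgen : ∀ g, (X (gen g) : G) = a g := by
    intro g
    fin_cases g
    · exact congrArg Subtype.val h0
    · exact congrArg Subtype.val h1
    · exact congrArg Subtype.val h3'
    · exact congrArg Subtype.val h9
  let s : Fin 4 → G × Equiv.Perm (Fin 81) := fun g => (a g, actPerm g)
  let C : Subgroup (G × Equiv.Perm (Fin 81)) :=
    { carrier := {p | ∀ k, p.1 * X k * p.1⁻¹ = (X (p.2 k) : G)}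
      one_mem' := fun k => by simp
      mul_mem' := fun {p q} hp hq k => by
        show p.1 * q.1 * X k * (p.1 * q.1)⁻¹ = (X (p.2 (q.2 k)) : G)
        rw [← hp, ← hq]; group
      inv_mem' := fun {p} hp k => by
        show p.1⁻¹ * X k * p.1⁻¹⁻¹ = (X (p.2.symm k) : G)
        have h := hp (p.2.symm k)
        simp only [Equiv.apply_symm_apply] at h
        rw [← h]; group }
  have hsC : ∀ g, s g ∈ C := fun g k => by
    show a g * X k * (a g)⁻¹ = (X (act g k) : G)
    rw [← hX g k, hinv _ (ha g), ← hgen g]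
    exact hbraid _ (X (gen g)).2 _ (X k).2
  let P := Subgroup.closure (Set.range fun p : Fin 4 × Fin 4 => s p.1 * s p.2)
  have hPC : P ≤ C := (Subgroup.closure_le _).2
    (by rintro _ ⟨p, rfl⟩; exact mul_mem (hsC _) (hsC _))
  have hPtri : P.map (MonoidHom.snd G _) ≤ tri := by
    rw [MonoidHom.map_closure, Subgroup.closure_le]
    rintro _ ⟨_, ⟨p, rfl⟩, rfl⟩
    exact actPerm_mul_mem _ _
  let φ : P →* Equiv.Perm (Fin 81) := (MonoidHom.snd G _).comp P.subtype
  have hrange : IsPGroup 3 φ.range := by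
    rintro ⟨x, y, rfl⟩
    exact ⟨2, Subtype.ext (tri_pow_nine (hPtri (Subgroup.mem_map_of_mem _ y.2)))⟩
  haveI : Group.IsNilpotent φ.range := hrange.isNilpotent
  haveI : Group.IsNilpotent P := by
    refine Subgroup.isNilpotent_of_ker_le_center φ.rangeRestrict ?_
    intro z hz
    rw [MonoidHom.ker_rangeRestrict] at hz
    rw [Subgroup.mem_center_iff]
    have hz2 : z.1.2 = 1 := hz
    have hcom : ∀ g, Commute (s g) z.1 := fun g => by
      refine Prod.ext ?_ (by show _ * _ = _ * _; rw [hz2, mul_one, one_mul])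
      show a g * z.1.1 = z.1.1 * a g
      have := hPC z.2 (gen g)
      rw [hgen, hz2, Equiv.Perm.one_apply, hgen] at this
      conv_lhs => rw [← this]
      group
    intro y
    refine Subtype.ext ?_
    exact (show ∀ y ∈ P, Commute y z.1 from fun y hy => by
      induction hy using Subgroup.closure_induction with
      | mem w hw => obtain ⟨p, rfl⟩ := hw; exact (hcom _).mul_left (hcom _)
      | one => exact Commute.one_left _
      | mul u v _ _ h1 h2 => exact h1.mul_left h2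
      | inv u _ h1 => exact h1.inv_left) y y.2
  have hP : IsPGroup 3 P := by
    obtain ⟨T⟩ := Sylow.nonempty (p := 3) (G := P)
    haveI : (T : Subgroup P).Normal :=
      Sylow.normal_of_normalizerCondition Group.normalizerCondition_of_isNilpotent T
    have hsub : Subgroup.closure ((fun x : P => x.1) ⁻¹'
        (Set.range fun p : Fin 4 × Fin 4 => s p.1 * s p.2)) ≤ (T : Subgroup P) := by
      rw [Subgroup.closure_le]
      rintro ⟨x, hx⟩ ⟨p, rfl⟩
      have h9 : (s p.1 * s p.2) ^ 9 = 1 := by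
        refine Prod.ext ?_ (tri_pow_nine (actPerm_mul_mem p.1 p.2))
        show (a p.1 * a p.2) ^ (3 * 3) = 1
        rw [pow_mul, h3 _ (ha _) _ (ha _), one_pow]
      have hz : IsPGroup 3 (Subgroup.zpowers (⟨s p.1 * s p.2, hx⟩ : P)) := by
        rintro ⟨y, k, rfl⟩
        refine ⟨2, Subtype.ext (Subtype.ext ?_)⟩
        show ((s p.1 * s p.2) ^ k) ^ 9 = 1
        rw [← zpow_natCast, ← zpow_mul, mul_comm, zpow_mul, zpow_natCast, h9, one_zpow]
      obtain ⟨U, hU⟩ := hz.exists_le_sylow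
      obtain ⟨g, rfl⟩ := MulAction.exists_smul_eq P T U
      rw [Sylow.smul_eq_of_normal] at hU
      exact hU (Subgroup.mem_zpowers _)
    have htop : (T : Subgroup P) = ⊤ :=
      top_le_iff.1 (Subgroup.closure_closure_coe_preimage.symm.le.trans hsub)
    exact IsPGroup.of_equiv T.2 ((MulEquiv.subgroupCongr htop).trans Subgroup.topEquiv)
  have := hP.map (MonoidHom.fst G (Equiv.Perm (Fin 81)))
  rw [MonoidHom.map_closure, ← Set.range_comp] at this
  exact this

end CfsgLib.Trans3
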