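import Cfsg.Agent.Lib.Trans3.BaerSuzuki
import Cfsg.Agent.Lib.Trans3.FourGen
import Cfsg.Agent.Lib.Trans3.Group
import Cfsg.Agent.Lib.Amalgam.PCore

/-! The width-one theorem: involutions with all pairwise products of order dividing 3, closed
under mutual conjugation, have their products in a 3-group. -/

set_option autoImplicit false

namespace CfsgLib.Trans3

variable {G : Type*} [Group G] [Finite G]

omit [Finite G] in
theorem mem_self_conj_closure {D : Set G} (hi : ∀ x ∈ D, x * x = 1)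
    (hc : ∀ x ∈ D, ∀ y ∈ D, x * y * x ∈ D) {g : G} (hg : g ∈ Subgroup.closure D) :
    ∀ d ∈ D, g * d * g⁻¹ ∈ D ∧ g⁻¹ * d * g ∈ D := by
  induction hg using Subgroup.closure_induction with
  | mem x hx =>
    intro d hd
    rw [inv_eq_of_mul_eq_one_right (hi x hx)]
    exact ⟨hc x hx d hd, hc x hx d hd⟩
  | one => intro d hd; simpa using hd
  | mul a b _ _ h1 h2 =>
    intro d hd
    exact ⟨by simpa [mul_assoc] using (h1 _ (h2 d hd).1).1,
      by simpa [mul_assoc] using (h2 _ (h1 d hd).2).2⟩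
  | inv a _ h1 =>
    intro d hd
    exact ⟨by simpa using (h1 d hd).2, by simpa using (h1 d hd).1⟩

theorem isPGroup_products {D : Set G} (hi : ∀ x ∈ D, x * x = 1)
    (h3 : ∀ x ∈ D, ∀ y ∈ D, (x * y) ^ 3 = 1) (hc : ∀ x ∈ D, ∀ y ∈ D, x * y * x ∈ D) :
    IsPGroup 3 (Subgroup.closure {x : G | ∃ a ∈ D, ∃ b ∈ D, x = a * b}) := by
  haveI : Fact (Nat.Prime 3) := ⟨Nat.prime_three⟩
  let K := Subgroup.closure D
  let C : Set K := {x | ∃ a ∈ D, ∃ b ∈ D, (x : G) = a * b}
  have h := isPGroup_closure_of_pairwise (p := 3) (C := C) ?_ ?_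
  · refine (h.map K.subtype).to_le ?_
    rw [Subgroup.closure_le]
    rintro _ ⟨a, ha, b, hb, rfl⟩
    exact ⟨⟨a * b, mul_mem (Subgroup.subset_closure ha) (Subgroup.subset_closure hb)⟩,
      Subgroup.subset_closure ⟨a, ha, b, hb, rfl⟩, rfl⟩
  · rintro ⟨g, hg⟩ x ⟨a, ha, b, hb, hx⟩
    refine ⟨_, (mem_self_conj_closure hi hc hg a ha).1, _,
      (mem_self_conj_closure hi hc hg b hb).1, ?_⟩
    show g * (x : G) * g⁻¹ = _
    rw [hx]; group
  · rintro x ⟨a, ha, b, hb, hx⟩ y ⟨c, hc', e, he, hy⟩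
    have h4 := isPGroup_four hi h3 hc ![a, b, c, e] (by intro i; fin_cases i <;> assumption)
    have hz : (Subgroup.closure {x, y}).map K.subtype ≤
        Subgroup.closure (Set.range fun p : Fin 4 × Fin 4 =>
          ![a, b, c, e] p.1 * ![a, b, c, e] p.2) := by
      rw [MonoidHom.map_closure, Subgroup.closure_le]
      rintro _ ⟨w, hw, rfl⟩
      rcases hw with rfl | hw
      · exact Subgroup.subset_closure ⟨(0, 1), hx.symm⟩
      · rw [Set.mem_singleton_iff.1 hw]
        exact Subgroup.subset_closure ⟨(2, 3), hy.symm⟩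
    exact (h4.to_le hz).of_equiv
      ((Subgroup.closure {x, y}).equivMapOfInjective K.subtype K.subtype_injective).symm

/-- A conjugation-invariant equivalence on `D` all whose class product groups are `p`-groups and
whose classes are stable under the products inside a class. -/
theorem class_products_mem_pCore {D : Set G} {p : ℕ} [Fact p.Prime]
    (hD : Cfsg.IsThreeTranspositionGroup D) (R : G → G → Prop)
    (hmem : ∀ d e, R d e → d ∈ D ∧ e ∈ D)
    (hsymm : ∀ d e, R d e → R e d) (htrans : ∀ d e f, R d e → R e f → R d f)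
    (hconj : ∀ g d e, R d e → R (g * d * g⁻¹) (g * e * g⁻¹))
    (hfix : ∀ d w, R d w → ∀ e ∈ D, R (d * e * d) (w * e * w))
    (hp : ∀ d ∈ D, IsPGroup p
      (Subgroup.closure {x : G | ∃ a, R d a ∧ ∃ b, R d b ∧ x = a * b}))
    {d w : G} (hdw : R d w) : d * w ∈ Cfsg.pCore p G := by
  let E : G → Subgroup G := fun d => Subgroup.closure {x : G | ∃ a, R d a ∧ ∃ b, R d b ∧ x = a * b}
  let C : Set G := {x | ∃ d w, R d w ∧ x = d * w}
  have hC : ∀ g : G, ∀ x ∈ C, g * x * g⁻¹ ∈ C := by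
    rintro g _ ⟨d, w, h, rfl⟩
    exact ⟨_, _, hconj g d w h, by group⟩
  -- `t = d * w` maps every class into itself
  have hstab : ∀ d w, R d w → ∀ e ∈ D, R e (d * w * e * (d * w)⁻¹) := by
    intro d w h e he
    obtain ⟨hd, hw⟩ := hmem d w h
    have h1 := hfix d w h e he
    have h2 := hconj d _ _ h1
    have e1 : d * (d * e * d) * d⁻¹ = e := by
      rw [inv_eq hD.1 hd]; simp only [mul_assoc]
      rw [invol_cancel (hD.1.1 d hd), sq_one hD.1 hd, mul_one]
    rw [e1] at h2
    convert h2 using 1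
    rw [mul_inv_rev, inv_eq hD.1 hd, inv_eq hD.1 hw]; simp only [mul_assoc]
  have hnorm : ∀ d w, R d w → ∀ e ∈ D, d * w ∈ Subgroup.normalizer (E e : Set G) := by
    intro d w h e he
    have key : ∀ d w, R d w → ∀ y ∈ E e, d * w * y * (d * w)⁻¹ ∈ E e := by
      intro d w h y hy
      refine (Subgroup.closure_le ((E e).comap (MulAut.conj (d * w)).toMonoidHom)).2 ?_ hy
      rintro _ ⟨a, ha, b, hb, rfl⟩
      refine Subgroup.subset_closure ⟨d * w * a * (d * w)⁻¹,
        htrans _ _ _ ha (hstab d w h a (hmem _ _ ha).2), d * w * b * (d * w)⁻¹,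
        htrans _ _ _ hb (hstab d w h b (hmem _ _ hb).2), ?_⟩
      simp [mul_assoc]
    intro y
    refine ⟨key d w h y, fun hy => ?_⟩
    have h3 := key w d (hsymm d w h) _ hy
    have e2 : w * d = (d * w)⁻¹ := by
      rw [mul_inv_rev, inv_eq hD.1 (hmem d w h).1, inv_eq hD.1 (hmem d w h).2]
    rw [e2] at h3
    simpa [mul_assoc] using h3
  have hpair : ∀ x ∈ C, ∀ y ∈ C, IsPGroup p (Subgroup.closure ({x, y} : Set G)) := by
    rintro _ ⟨d, w, h, rfl⟩ _ ⟨e, f, h', rfl⟩
    have hdd : R d d := htrans _ _ _ h (hsymm _ _ h)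
    have hee : R e e := htrans _ _ _ h' (hsymm _ _ h')
    refine ((hp d (hmem _ _ h).1).to_sup_of_normal_right' (hp e (hmem _ _ h').1) ?_).to_le
      ((Subgroup.closure_le _).2 ?_)
    · rw [Subgroup.closure_le]
      rintro _ ⟨a, ha, b, hb, rfl⟩
      exact hnorm a b (htrans _ _ _ (hsymm _ _ ha) hb) e (hmem _ _ h').1
    · exact Set.insert_subset (Subgroup.mem_sup_left (Subgroup.subset_closure ⟨d, hdd, w, h, rfl⟩))
        (Set.singleton_subset_iff.2
          (Subgroup.mem_sup_right (Subgroup.subset_closure ⟨e, hee, f, h', rfl⟩)))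
  exact CfsgLib.Amalgam.le_pCore (closure_normal_of_conj_mem hC)
    (isPGroup_closure_of_pairwise hC hpair) (Subgroup.subset_closure ⟨d, w, hdw, rfl⟩)

end CfsgLib.Trans3
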