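import Cfsg.Agent.Lib.Trans3.Planes

/-! The line system of a 3-transposition group is a Fischer space. -/

set_option autoImplicit false

namespace CfsgLib.Trans3

open Cfsg

theorem subspace_span {X : Type*} (L : Set (Set X)) (S : Set X) :
    LineSystem.IsSubspace L (LineSystem.span L S) := fun l hl x hx y hy hne hxl hyl z hz T hT =>
  hT.2 l hl x (hx T hT) y (hy T hT) hne hxl hyl hz

theorem iso_of_model {X P : Type*} (L : Set (Set X)) (M : Set (Set P))
    (hpl : LineSystem.IsPartialLinear L) (htwo : ∀ l ∈ L, ∃ x ∈ l, ∃ y ∈ l, x ≠ y)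
    (f : P → X) (hf : Function.Injective f) (himg : ∀ m ∈ M, f '' m ∈ L)
    (hcol : ∀ p q, p ≠ q → LineSystem.Collinear L (f p) (f q) → ∃ m ∈ M, p ∈ m ∧ q ∈ m)
    {S : Set X} (hS : S ⊆ Set.range f) (hgen : Set.range f ⊆ LineSystem.span L S) :
    LineSystem.Isomorphic (LineSystem.restrict L (LineSystem.span L S)) M := by
  have hsub : ∀ l ∈ L, ∀ p q, p ≠ q → f p ∈ l → f q ∈ l → ∃ m ∈ M, f '' m = l := by
    intro l hl p q hne hp hq
    obtain ⟨m, hm, hpm, hqm⟩ := hcol p q hne ⟨fun h => hne (hf h), l, hl, hp, hq⟩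
    exact ⟨m, hm, hpl _ (himg m hm) l hl _ _ (fun h => hne (hf h)) ⟨p, hpm, rfl⟩ ⟨q, hqm, rfl⟩ hp hq⟩
  have hspan : LineSystem.span L S = Set.range f := by
    refine Set.Subset.antisymm (fun z hz => hz _ ⟨hS, ?_⟩) hgen
    rintro l hl _ ⟨p, rfl⟩ _ ⟨q, rfl⟩ hne hp hq
    obtain ⟨m, -, rfl⟩ := hsub l hl p q (fun h => hne (congrArg f h)) hp hq
    exact Set.image_subset_range _ _
  let e : P ≃ LineSystem.span L S := (Equiv.ofInjective f hf).trans (Equiv.setCongr hspan.symm)
  have hval : ∀ p, ((e p : LineSystem.span L S) : X) = f p := fun p => rfl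
  refine ⟨e.symm, fun l => ⟨?_, fun h => ?_⟩⟩
  · rintro ⟨l₀, hl₀, hsubl, rfl⟩
    obtain ⟨x, hx, y, hy, hne⟩ := htwo l₀ hl₀
    obtain ⟨p, rfl⟩ : x ∈ Set.range f := hspan ▸ hsubl hx
    obtain ⟨q, rfl⟩ : y ∈ Set.range f := hspan ▸ hsubl hy
    obtain ⟨m, hm, hml⟩ := hsub l₀ hl₀ p q (fun h => hne (congrArg f h)) hx hy
    convert hm using 1
    ext r
    constructor
    · rintro ⟨s, hs, rfl⟩
      obtain ⟨t, ht, hts⟩ := (hml ▸ hs : (s : X) ∈ f '' m)
      rwa [show s = e t from Subtype.ext ((hval t).trans hts).symm, Equiv.symm_apply_apply]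
    · intro hr
      exact ⟨e r, show f r ∈ l₀ from hml ▸ ⟨r, hr, rfl⟩, e.symm_apply_apply r⟩
  · refine ⟨f '' (e.symm '' l), himg _ h, (Set.image_subset_range _ _).trans hspan.ge, ?_⟩
    ext s
    constructor
    · intro hs
      exact ⟨e.symm s, ⟨s, hs, rfl⟩, by rw [← hval, Equiv.apply_symm_apply]⟩
    · rintro ⟨t, ⟨u, hu, rfl⟩, htu⟩
      have : u = s := Subtype.ext (by rw [← htu, ← hval, Equiv.apply_symm_apply])
      exact this ▸ hu

/-- The transposition of a point of the dual affine plane. -/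
def pairPerm (s : DualAffinePoint) : Equiv.Perm (Fin 4) :=
  match (List.finRange 4).filter (fun i => decide (i ∈ s.val)) with
  | [i, j] => Equiv.swap i j
  | _ => 1

theorem pairPerm_conj : ∀ s, ∃ g, g * Equiv.swap 0 1 * g⁻¹ = pairPerm s := by decide +kernel

theorem pairPerm_inj : ∀ s t, pairPerm s = pairPerm t → s = t := by decide +kernel

theorem pairPerm_col : ∀ s t, s ≠ t → pairPerm s * pairPerm t ≠ pairPerm t * pairPerm s →
    ∃ i : Fin 4, i ∉ s.val ∧ i ∉ t.val := by decide +kernel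

theorem pairPerm_line : ∀ i : Fin 4, ∃ s t u : DualAffinePoint,
    pairPerm s * pairPerm t ≠ pairPerm t * pairPerm s ∧
      pairPerm t * pairPerm s * pairPerm t = pairPerm u ∧
        ∀ r : DualAffinePoint, i ∉ r.val ↔ r = s ∨ r = t ∨ r = u := by decide +kernel

theorem pairPerm_six : ∀ s, pairPerm s = Equiv.swap 0 1 ∨ pairPerm s = Equiv.swap 1 2 ∨
    pairPerm s = Equiv.swap 2 3 ∨
    pairPerm s = Equiv.swap 1 2 * Equiv.swap 0 1 * Equiv.swap 1 2 ∨
    pairPerm s = Equiv.swap 1 2 * Equiv.swap 2 3 * Equiv.swap 1 2 ∨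
    pairPerm s = Equiv.swap 0 1 * (Equiv.swap 1 2 * Equiv.swap 2 3 * Equiv.swap 1 2) * Equiv.swap 0 1 := by
  decide +kernel

theorem thirdPt_add : ∀ v w : Fin 2 → ZMod 3, w ≠ 0 →
    let code : (Fin 2 → ZMod 3) → Fin 9 := fun x =>
      ⟨((x 0).val + 3 * (x 1).val) % 9, Nat.mod_lt _ (by norm_num)⟩
    code v ≠ code (v + w) ∧ thirdPt (code v) (code (v + w)) = code (v + (2 : ZMod 3) • w) := by
  decide +kernel

theorem affine_code_inj : ∀ v w : Fin 2 → ZMod 3,
    ((⟨((v 0).val + 3 * (v 1).val) % 9, Nat.mod_lt _ (by norm_num)⟩ : Fin 9) =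
      ⟨((w 0).val + 3 * (w 1).val) % 9, Nat.mod_lt _ (by norm_num)⟩) → v = w := by
  decide +kernel

variable {G : Type*} [Group G] {D : Set G}

theorem mem_lines_iff (hD : IsThreeTranspositionGroup D) {l : Set D} :
    l ∈ threeTranspositionLines D ↔
      ∃ x y z : D, OnLine D (x : G) y z ∧ l = {x, y, z} := by
  have hset : ∀ x y z : D, (z : G) = (y : G) * (x : G) * (y : G)⁻¹ →
      {w : D | (w : G) = x ∨ (w : G) = y ∨ (w : G) = (y : G) * (x : G) * (y : G)⁻¹} = {x, y, z} := by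
    intro x y z hz
    ext w
    simp only [Set.mem_insert_iff, Set.mem_singleton_iff, Set.mem_ofPred_eq, ← Subtype.coe_inj, hz]
  constructor
  · rintro ⟨x, y, hn, rfl⟩
    refine ⟨x, y, ⟨_, self_conj_mem hD x.2 y.2⟩, onLine_of hD x.2 y.2 hn, hset x y _ ?_⟩
    show (x : G) * y * x = y * x * (y : G)⁻¹
    rw [inv_eq hD.1 y.2]
    exact braid hD.1 x.2 y.2 hn
  · rintro ⟨x, y, z, h, rfl⟩
    exact ⟨x, y, h.2.2.2.1, (hset x y z (by rw [inv_eq hD.1 y.2]; exact h.2.2.2.2.2.symm)).symm⟩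

theorem line_through (hD : IsThreeTranspositionGroup D) {l : Set D}
    (hl : l ∈ threeTranspositionLines D) {p : D} (hp : p ∈ l) :
    ∃ q r : D, OnLine D (p : G) q r ∧ l = {p, q, r} := by
  obtain ⟨x, y, z, h, rfl⟩ := (mem_lines_iff hD).1 hl
  rcases hp with rfl | rfl | rfl
  · exact ⟨y, z, h, rfl⟩
  · exact ⟨x, z, h.swap, Set.insert_comm _ _ _⟩
  · exact ⟨x, y, h.rot hD, by rw [Set.pair_comm y, Set.insert_comm]⟩

theorem line_eq (hD : IsThreeTranspositionGroup D) {l : Set D}
    (hl : l ∈ threeTranspositionLines D) {p q : D} (hne : p ≠ q) (hp : p ∈ l) (hq : q ∈ l) :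
    ∃ r : D, OnLine D (p : G) q r ∧ l = {p, q, r} := by
  obtain ⟨u, v, h, rfl⟩ := line_through hD hl hp
  rcases hq with rfl | rfl | rfl
  · exact absurd rfl hne
  · exact ⟨v, h, rfl⟩
  · exact ⟨u, (h.rot hD).swap, by rw [Set.pair_comm]⟩

theorem lines_partialLinear (hD : IsThreeTranspositionGroup D) :
    LineSystem.IsPartialLinear (threeTranspositionLines D) := by
  intro l hl m hm x y hne hxl hyl hxm hym
  obtain ⟨r, hr, rfl⟩ := line_eq hD hl hne hxl hyl
  obtain ⟨s, hs, rfl⟩ := line_eq hD hm hne hxm hym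
  rw [show r = s from Subtype.ext (hr.2.2.2.2.1.symm.trans hs.2.2.2.2.1)]

theorem lines_distinct (hD : IsThreeTranspositionGroup D) {x y z : D}
    (h : OnLine D (x : G) y z) : x ≠ y ∧ x ≠ z ∧ y ≠ z :=
  ⟨fun e => h.2.2.2.1 (e ▸ Commute.refl _),
    fun e => (h.rot hD).2.2.2.1 (e ▸ Commute.refl _),
    fun e => (h.swap.rot hD).2.2.2.1 (e ▸ Commute.refl _)⟩

theorem lines_ncard (hD : IsThreeTranspositionGroup D) {l : Set D}
    (hl : l ∈ threeTranspositionLines D) : l.ncard = 3 := by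
  obtain ⟨x, y, z, h, rfl⟩ := (mem_lines_iff hD).1 hl
  obtain ⟨h1, h2, h3⟩ := lines_distinct hD h
  exact Set.ncard_eq_three.2 ⟨x, y, z, h1, h2, h3, rfl⟩

theorem lines_two (hD : IsThreeTranspositionGroup D) :
    ∀ l ∈ threeTranspositionLines D, ∃ x ∈ l, ∃ y ∈ l, x ≠ y := by
  intro l hl
  obtain ⟨x, y, z, h, rfl⟩ := (mem_lines_iff hD).1 hl
  exact ⟨x, by simp, y, by simp, (lines_distinct hD h).1⟩

/-- Two lines through `x` whose other points `a`, `b` commute span a dual affine plane. -/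
theorem plane_dual (hD : IsThreeTranspositionGroup D) {x a b c e : D} (h1 : OnLine D (x : G) a c)
    (h2 : OnLine D (x : G) b e) (hne : a ≠ b) (hab : Commute (a : G) b) :
    LineSystem.Isomorphic (LineSystem.restrict (threeTranspositionLines D)
      (LineSystem.span (threeTranspositionLines D) ({x, a, c} ∪ {x, b, e}))) dualAffinePlaneTwo := by
  obtain ⟨φ, f1, f2, f3⟩ := exists_hom_perm_four (sq_one hD.1 a.2) (sq_one hD.1 x.2)
    (sq_one hD.1 b.2) hab.eq (braid hD.1 a.2 x.2 fun h => h1.2.2.2.1 h.symm)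
    (braid hD.1 x.2 b.2 h2.2.2.2.1)
  have hinj : Function.Injective φ := injective_of_hom_perm_four φ (by
    rw [map_mul, f1, f3]
    intro h
    exact hne (Subtype.ext (by rw [eq_inv_of_mul_eq_one_left h, inv_eq hD.1 b.2])))
  have hmem : ∀ s, φ (pairPerm s) ∈ D := fun s => by
    obtain ⟨g, hg⟩ := pairPerm_conj s
    rw [← hg, map_mul, map_mul, map_inv, f1]
    exact hD.2.1 _ _ a.2
  let F : DualAffinePoint → D := fun s => ⟨φ (pairPerm s), hmem s⟩
  have hF : Function.Injective F := fun s t h =>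
    pairPerm_inj s t (hinj (congrArg Subtype.val h))
  have hnc : ∀ s t, pairPerm s * pairPerm t ≠ pairPerm t * pairPerm s →
      ¬ Commute (F s : G) (F t) := fun s t hn hc => hn (hinj (by rw [map_mul, map_mul]; exact hc))
  refine iso_of_model _ _ (lines_partialLinear hD) (lines_two hD) F hF ?_ ?_ ?_ ?_
  · rintro _ ⟨i, rfl⟩
    obtain ⟨s, t, u, hn, htu, hr⟩ := pairPerm_line i
    refine (mem_lines_iff hD).2 ⟨F s, F t, F u, ?_, ?_⟩
    · refine ⟨(F s).2, (F t).2, (F u).2, hnc s t hn, ?_, ?_⟩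
      · rw [braid hD.1 (F s).2 (F t).2 (hnc s t hn)]
        show φ _ * φ _ * φ _ = φ _
        rw [← map_mul, ← map_mul, htu]
      · show φ _ * φ _ * φ _ = φ _
        rw [← map_mul, ← map_mul, htu]
    · rw [show {r : DualAffinePoint | i ∉ r.val} = {s, t, u} from Set.ext hr,
        Set.image_insert_eq, Set.image_pair]
  · rintro p q hpq ⟨hne', l, hl, hp, hq⟩
    obtain ⟨r, hr, -⟩ := line_eq hD hl hne' hp hq
    obtain ⟨i, hi⟩ := pairPerm_col p q hpq fun he => hr.2.2.2.1 (by
      show φ _ * φ _ = φ _ * φ _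
      rw [← map_mul, he, map_mul])
    exact ⟨_, ⟨i, rfl⟩, hi.1, hi.2⟩
  · have hin : ∀ σ : Equiv.Perm (Fin 4), ∀ y : D, (y : G) = φ σ →
        (∃ s, pairPerm s = σ) → y ∈ Set.range F := by
      rintro σ y hy ⟨s, rfl⟩
      exact ⟨s, Subtype.ext hy.symm⟩
    rintro y ((rfl | rfl | rfl) | (rfl | rfl | rfl))
    · exact hin _ _ f2.symm (by decide +kernel)
    · exact hin _ _ f1.symm (by decide +kernel)
    · refine hin (Equiv.swap 1 2 * Equiv.swap 0 1 * Equiv.swap 1 2) _ ?_ (by decide +kernel)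
      simp only [map_mul, f1, f2]; exact h1.2.2.2.2.1.symm
    · exact hin _ _ f2.symm (by decide +kernel)
    · exact hin _ _ f3.symm (by decide +kernel)
    · refine hin (Equiv.swap 1 2 * Equiv.swap 2 3 * Equiv.swap 1 2) _ ?_ (by decide +kernel)
      simp only [map_mul, f2, f3]; exact h2.2.2.2.2.1.symm
  · set L := threeTranspositionLines D
    set S : Set D := {x, a, c} ∪ {x, b, e}
    have hS : ∀ y ∈ S, y ∈ LineSystem.span L S := fun y hy T hT => hT.1 hy
    rintro _ ⟨s, rfl⟩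
    rcases pairPerm_six s with h | h | h | h | h | h
    · rw [show F s = a from Subtype.ext (by show φ _ = _; rw [h, f1])]; exact hS _ (by simp [S])
    · rw [show F s = x from Subtype.ext (by show φ _ = _; rw [h, f2])]; exact hS _ (by simp [S])
    · rw [show F s = b from Subtype.ext (by show φ _ = _; rw [h, f3])]; exact hS _ (by simp [S])
    · rw [show F s = c from Subtype.ext (by
        show φ _ = _; rw [h]; simp only [map_mul, f1, f2]; exact h1.2.2.2.2.1)]
      exact hS _ (by simp [S])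
    · rw [show F s = e from Subtype.ext (by
        show φ _ = _; rw [h]; simp only [map_mul, f2, f3]; exact h2.2.2.2.2.1)]
      exact hS _ (by simp [S])
    · have hae : ¬ Commute (a : G) e := fun hc => by
        rw [← h2.2.2.2.2.1, ← f1, ← f2, ← f3] at hc
        have := hc.eq
        simp only [← map_mul] at this
        exact absurd (hinj this) (by decide +kernel)
      have hl := onLine_of hD a.2 e.2 hae
      have hline : ({a, e, ⟨_, hl.2.2.1⟩} : Set D) ∈ L := (mem_lines_iff hD).2 ⟨_, _, _, hl, rfl⟩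
      rw [show F s = ⟨_, hl.2.2.1⟩ from Subtype.ext (by
        show φ _ = (a : G) * e * a
        rw [h, ← h2.2.2.2.2.1]; simp only [map_mul, f1, f2, f3])]
      exact subspace_span L S _ hline a (hS _ (by simp [S])) e (hS _ (by simp [S]))
        (lines_distinct hD (z := ⟨_, hl.2.2.1⟩) hl).1 (by simp) (by simp) (by simp)

/-- Two lines through `x` all of whose other points fail to commute span an affine plane. -/
theorem plane_affine (hD : IsThreeTranspositionGroup D) {x a b c e : D} (h1 : OnLine D (x : G) a c)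
    (h2 : OnLine D (x : G) b e) (hab : ¬ Commute (a : G) b) (hae : ¬ Commute (a : G) e) :
    LineSystem.Isomorphic (LineSystem.restrict (threeTranspositionLines D)
      (LineSystem.span (threeTranspositionLines D) ({x, a, c} ∪ {x, b, e}))) affinePlaneThree := by
  obtain ⟨Y, ⟨Y0, Y1, Y3⟩, hY⟩ := exists_affine hD x.2 a.2 b.2 h1.2.2.2.1 h2.2.2.2.1 hab
    (by rw [h2.2.2.2.2.1]; exact hae)
  have hmem : ∀ p, Y p ∈ D := fun p => by
    by_cases h : p = 0
    · rw [h, Y0]; exact x.2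
    · exact (hY p 0 h).1
  let Z : Fin 9 → D := fun p => ⟨Y p, hmem p⟩
  have hZ : Function.Injective Z := fun p q h => not_not.1 fun hne => by
    have h' : Y p = Y q := congrArg Subtype.val h
    exact (hY p q hne).2.2.2.1 (h' ▸ Commute.refl _)
  let code : (Fin 2 → ZMod 3) → Fin 9 := fun v =>
    ⟨((v 0).val + 3 * (v 1).val) % 9, Nat.mod_lt _ (by norm_num)⟩
  refine iso_of_model _ _ (lines_partialLinear hD) (lines_two hD) (Z ∘ code)
    (hZ.comp fun v w h => affine_code_inj v w h) ?_ ?_ ?_ ?_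
  · rintro _ ⟨v, w, hw, rfl⟩
    obtain ⟨hne, hth⟩ := thirdPt_add v w hw
    refine (mem_lines_iff hD).2 ⟨Z (code v), Z (code (v + w)), Z (code (v + (2 : ZMod 3) • w)), ?_, ?_⟩
    · have := hY _ _ hne
      rwa [hth] at this
    · have hline : {z : Fin 2 → ZMod 3 | ∃ k : ZMod 3, z = v + k • w} =
          {v, v + w, v + (2 : ZMod 3) • w} := by
        ext z
        constructor
        · rintro ⟨k, rfl⟩
          rcases (show ∀ k : ZMod 3, k = 0 ∨ k = 1 ∨ k = 2 by decide) k with rfl | rfl | rfl <;>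
            simp
        · rintro (rfl | rfl | rfl)
          exacts [⟨0, by simp⟩, ⟨1, by simp⟩, ⟨2, rfl⟩]
      rw [hline, Set.image_insert_eq, Set.image_pair]
      rfl
  · intro p q hpq _
    exact ⟨_, ⟨p, q - p, sub_ne_zero.2 fun h => hpq h.symm, rfl⟩, ⟨0, by simp⟩, ⟨1, by simp⟩⟩
  · have hc : Y 2 = (c : G) :=
      ((hY 0 1 (by decide)).2.2.2.2.1.symm.trans (by rw [Y0, Y1])).trans h1.2.2.2.2.1
    have he : Y 6 = (e : G) :=
      ((hY 0 3 (by decide)).2.2.2.2.1.symm.trans (by rw [Y0, Y3])).trans h2.2.2.2.2.1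
    have hsur : ∀ p : Fin 9, ∃ v, code v = p := by decide +kernel
    have hin : ∀ p, ∀ y : D, (y : G) = Y p → y ∈ Set.range (Z ∘ code) := by
      intro p y hy
      obtain ⟨v, hv⟩ := hsur p
      exact ⟨v, Subtype.ext (by show Y (code v) = _; rw [hv, hy])⟩
    rintro y ((rfl | rfl | rfl) | (rfl | rfl | rfl))
    exacts [hin 0 _ Y0.symm, hin 1 _ Y1.symm, hin 2 _ hc.symm, hin 0 _ Y0.symm, hin 3 _ Y3.symm,
      hin 6 _ he.symm]
  · set L := threeTranspositionLines D
    set S : Set D := {x, a, c} ∪ {x, b, e}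
    have hstep : ∀ p q r, Z p ∈ LineSystem.span L S → Z q ∈ LineSystem.span L S → p ≠ q →
        thirdPt p q = r → Z r ∈ LineSystem.span L S := by
      rintro p q _ hp hq hne rfl
      exact subspace_span L S _ ((mem_lines_iff hD).2 ⟨Z p, Z q, Z _, hY p q hne, rfl⟩) _ hp _ hq
        (fun h => hne (hZ h)) (by simp) (by simp) (by simp)
    have z0 : Z 0 ∈ LineSystem.span L S := fun T hT => hT.1 (by
      rw [show Z 0 = x from Subtype.ext Y0]; simp [S])
    have z1 : Z 1 ∈ LineSystem.span L S := fun T hT => hT.1 (by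
      rw [show Z 1 = a from Subtype.ext Y1]; simp [S])
    have z3 : Z 3 ∈ LineSystem.span L S := fun T hT => hT.1 (by
      rw [show Z 3 = b from Subtype.ext Y3]; simp [S])
    have z2 := hstep 0 1 2 z0 z1 (by decide) (by decide)
    have z6 := hstep 0 3 6 z0 z3 (by decide) (by decide)
    have z8 := hstep 1 3 8 z1 z3 (by decide) (by decide)
    have z5 := hstep 1 6 5 z1 z6 (by decide) (by decide)
    have z4 := hstep 2 6 4 z2 z6 (by decide) (by decide)
    have z7 := hstep 2 3 7 z2 z3 (by decide) (by decide)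
    rintro _ ⟨v, rfl⟩
    show Z (code v) ∈ _
    generalize code v = p
    fin_cases p <;> assumption

theorem isFischerSpace (hD : IsThreeTranspositionGroup D) :
    IsFischerSpace (threeTranspositionLines D) := by
  refine ⟨lines_partialLinear hD, fun l hl => lines_ncard hD hl, ?_⟩
  rintro l hl m hm hlm ⟨x, hxl, hxm⟩
  obtain ⟨a, c, h1, rfl⟩ := line_through hD hl hxl
  obtain ⟨b, e, h2, rfl⟩ := line_through hD hm hxm
  have hne : a ≠ b := fun h => hlm (lines_partialLinear hD _ hl _ hm x a (lines_distinct hD h1).1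
    (by simp) (by simp) (by simp) (by simp [h]))
  have hne' : a ≠ e := fun h => hlm (lines_partialLinear hD _ hl _ hm x a (lines_distinct hD h1).1
    (by simp) (by simp) (by simp) (by simp [h]))
  by_cases hab : Commute (a : G) b
  · exact Or.inl (plane_dual hD h1 h2 hne hab)
  by_cases hae : Commute (a : G) e
  · rw [Set.pair_comm b e]
    exact Or.inl (plane_dual hD h1 (h2.rot hD).swap hne' hae)
  exact Or.inr (plane_affine hD h1 h2 hab hae)

end CfsgLib.Trans3
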