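import Cfsg.Agent.Lib.Trans3.Group
import Cfsg.Agent.Lib.Trans3.AffineFiftyFour
import Mathlib

/-!
Lifting a generating `Rel`-triple of a group of order 54 to 3-transpositions.
-/

set_option autoImplicit false

namespace CfsgLib.Trans3.Fifty

theorem card_closure_pair_le {G : Type*} [Group G] {a b : G} (ha : a * a = 1) (hb : b * b = 1)
    (h : (a * b) ^ 3 = 1) : Nat.card (Subgroup.closure ({a, b} : Set G)) ≤ 6 := by
  have hsub : (Subgroup.closure {a, b} : Set G) ⊆ Set.range (six a b) := by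
    intro g hg
    induction hg using Subgroup.closure_induction_left with
    | one => exact ⟨0, by simp [six]⟩
    | mul_left x hx y hy ih =>
      obtain ⟨k, rfl⟩ := ih
      rcases hx with rfl | rfl
      · obtain ⟨k', hk⟩ := (left_six ha hb h k).1; exact ⟨k', hk.symm⟩
      · obtain ⟨k', hk⟩ := (left_six ha hb h k).2; exact ⟨k', hk.symm⟩
    | inv_mul_cancel x hx y hy ih =>
      obtain ⟨k, rfl⟩ := ih
      rcases hx with rfl | rfl
      · rw [inv_eq_self' ha]
        obtain ⟨k', hk⟩ := (left_six ha hb h k).1; exact ⟨k', hk.symm⟩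
      · rw [inv_eq_self' hb]
        obtain ⟨k', hk⟩ := (left_six ha hb h k).2; exact ⟨k', hk.symm⟩
  exact (Nat.card_mono (Set.finite_range _) hsub).trans ((Finite.card_range_le _).trans (by simp))

/-- A generating triple of a group of order more than six consists of distinct nontrivial elements. -/
theorem distinct_of_six_lt {G : Type*} [Group G] [Finite G] {a b c : G} (h : Rel a b c)
    (hgen : Subgroup.closure {a, b, c} = ⊤) (hG : 6 < Nat.card G) :
    (a ≠ 1 ∧ b ≠ 1 ∧ c ≠ 1) ∧ a ≠ b ∧ b ≠ c ∧ c ≠ a ∧ a ≠ b * c * b := by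
  have small : ∀ x y : G, x * x = 1 → y * y = 1 → (x * y) ^ 3 = 1 →
      a ∈ Subgroup.closure ({x, y} : Set G) → b ∈ Subgroup.closure ({x, y} : Set G) →
      c ∈ Subgroup.closure ({x, y} : Set G) → False := by
    intro x y hx hy hxy ma mb mc
    have : (⊤ : Subgroup G) ≤ Subgroup.closure {x, y} := by
      rw [← hgen, Subgroup.closure_le]
      rintro z (rfl | rfl | rfl) <;> assumption
    have h6 := card_closure_pair_le hx hy hxy
    rw [top_le_iff.1 this, Subgroup.card_top] at h6
    omega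
  have m1 : ∀ x y : G, x ∈ Subgroup.closure ({x, y} : Set G) :=
    fun x y => Subgroup.subset_closure (by simp)
  have m2 : ∀ x y : G, y ∈ Subgroup.closure ({x, y} : Set G) :=
    fun x y => Subgroup.subset_closure (by simp)
  refine ⟨⟨?_, ?_, ?_⟩, ?_, ?_, ?_, ?_⟩
  · intro e; exact small b c h.hb h.hc h.hbc (e ▸ one_mem _) (m1 _ _) (m2 _ _)
  · intro e; exact small c a h.hc h.ha h.hca (m2 _ _) (e ▸ one_mem _) (m1 _ _)
  · intro e; exact small a b h.ha h.hb h.hab (m1 _ _) (m2 _ _) (e ▸ one_mem _)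
  · intro e; exact small b c h.hb h.hc h.hbc (e ▸ m1 _ _) (m1 _ _) (m2 _ _)
  · intro e; exact small a b h.ha h.hb h.hab (m1 _ _) (m2 _ _) (e ▸ m2 _ _)
  · intro e; exact small a b h.ha h.hb h.hab (m1 _ _) (m2 _ _) (e ▸ m1 _ _)
  · intro e
    exact small b c h.hb h.hc h.hbc (e ▸ mul_mem (mul_mem (m1 _ _) (m2 _ _)) (m1 _ _))
      (m1 _ _) (m2 _ _)

variable {G Q : Type*} [Group G] [Group Q] {D : Set G}

theorem pow_three_lift (hD : Cfsg.IsThreeTranspositionSet D) (π : G →* Q) {d e : G} (hd : d ∈ D)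
    (he : e ∈ D) (hne : π d ≠ π e) (h3 : (π d * π e) ^ 3 = 1) : (d * e) ^ 3 = 1 := by
  refine (hD.2 d hd e he).resolve_left fun h2 => hne ?_
  have h2' : (π d * π e) ^ 2 = 1 := by rw [← map_mul, ← map_pow, h2, map_one]
  have h1 : π d * π e = 1 := by
    have := h3
    rwa [pow_succ, h2', one_mul] at this
  have hdd : π d * π d = 1 := by rw [← map_mul, CfsgLib.Trans3.sq_one hD hd, map_one]
  exact mul_left_cancel (a := π d) (hdd.trans h1.symm)

/-- A surjection onto a group of order 54 generated by a `Rel`-triple in the image of a class of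
3-transpositions splits. -/
theorem exists_lift (hD : Cfsg.IsThreeTranspositionClass D) (π : G →* Q) {a b c : Q} [Finite Q]
    (h : Rel a b c) (hgen : Subgroup.closure {a, b, c} = ⊤) (hQ : Nat.card Q = 54)
    (ha : a ∈ π '' D) (hb : b ∈ π '' D) (hc : c ∈ π '' D) :
    ∃ K : Subgroup G, Function.Bijective (π.comp K.subtype) := by
  obtain ⟨-, hab, hbc, hca, habc⟩ := distinct_of_six_lt h hgen (by rw [hQ]; norm_num)
  obtain ⟨x, hx, rfl⟩ := ha
  obtain ⟨y, hy, rfl⟩ := hb
  obtain ⟨z, hz, rfl⟩ := hc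
  have hyzy : y * z * y ∈ D := by
    have := CfsgLib.Trans3.class_conj_mem hD y hz
    rwa [CfsgLib.Trans3.inv_eq hD.1 hy] at this
  have hr : Rel x y z := by
    refine ⟨sq_one hD.1 hx, sq_one hD.1 hy, sq_one hD.1 hz, pow_three_lift hD.1 π hx hy hab h.hab,
      pow_three_lift hD.1 π hy hz hbc h.hbc, pow_three_lift hD.1 π hz hx hca h.hca, ?_⟩
    refine pow_three_lift hD.1 π hx hyzy ?_ ?_
    · simpa only [map_mul] using habc
    · simpa only [map_mul] using h.habc
  refine ⟨Subgroup.closure {x, y, z}, ?_⟩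
  have : Finite (Subgroup.closure ({x, y, z} : Set G)) := (finite_closure hr).to_subtype
  have hsurj : Function.Surjective (π.comp (Subgroup.closure ({x, y, z} : Set G)).subtype) := by
    rw [← MonoidHom.range_eq_top, MonoidHom.range_comp, Subgroup.range_subtype,
      MonoidHom.map_closure, Set.image_insert_eq, Set.image_insert_eq, Set.image_singleton, hgen]
  refine (Nat.bijective_iff_surjective_and_card _).2 ⟨hsurj, le_antisymm ?_ ?_⟩
  · exact (card_closure_le hr).trans hQ.ge
  · exact Nat.card_le_card_of_surjective _ hsurj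

/-- In a group of order 54 any two elements of order two are conjugate. -/
theorem exists_conj_of_card [Finite Q] (hQ : Nat.card Q = 54) {x y : Q} (hx : orderOf x = 2)
    (hy : orderOf y = 2) : ∃ g, g * x * g⁻¹ = y := by
  have : Fact (Nat.Prime 2) := ⟨Nat.prime_two⟩
  have h2 : 2 ^ (Nat.card Q).factorization 2 = 2 := by
    have : (54 : ℕ).factorization 2 = 1 := by
      rw [Nat.factorization_def _ Nat.prime_two]
      rw [show (54 : ℕ) = 2 * 27 by norm_num, padicValNat.mul (by norm_num) (by norm_num)]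
      simp
    rw [hQ, this]; rfl
  let S := Sylow.ofCard (p := 2) (Subgroup.zpowers x) (by rw [Nat.card_zpowers, hx, h2])
  let T := Sylow.ofCard (p := 2) (Subgroup.zpowers y) (by rw [Nat.card_zpowers, hy, h2])
  obtain ⟨g, hg⟩ := MulAction.exists_smul_eq Q S T
  refine ⟨g, ?_⟩
  have hgx : g * x * g⁻¹ ∈ (T : Subgroup Q) := by
    rw [← hg]
    exact Subgroup.smul_mem_pointwise_smul x (MulAut.conj g) _ (Subgroup.mem_zpowers x)
  change g * x * g⁻¹ ∈ Subgroup.zpowers y at hgx
  have hy1 : y * y = 1 := CfsgLib.Trans3.invol_mul_self hy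
  obtain ⟨n, hn⟩ := Subgroup.mem_zpowers_iff.1 hgx
  rcases Int.even_or_odd n with ⟨k, hk⟩ | ⟨k, hk⟩
  · exfalso
    rw [hk, ← two_mul, zpow_mul, zpow_ofNat, pow_two, hy1, one_zpow] at hn
    have hxx := CfsgLib.Trans3.orderOf_conj g x
    rw [← hn, orderOf_one, hx] at hxx
    norm_num at hxx
  · rw [← hn, hk, zpow_add, zpow_mul, zpow_ofNat, pow_two, hy1, one_zpow, one_mul, zpow_one]

end CfsgLib.Trans3.Fifty
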