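import Cfsg.Agent.Lib.Trans3.RootSub

/-!
# Commutators computed on generators
-/

set_option autoImplicit false

namespace CfsgLib.Trans3.RankOne

open Subgroup
open scoped commutatorElement

variable {G : Type*} [Group G]

/-- If commutators of generators lie in a subgroup centralized by the generators, so do all
commutators. -/
theorem commutator_mem_of_gen {T : Set G} (hinv : ∀ t ∈ T, t⁻¹ ∈ T) {K : Subgroup G}
    (hcen : ∀ t ∈ T, ∀ k ∈ K, t * k = k * t) (hK : ∀ s ∈ T, ∀ t ∈ T, ⁅s, t⁆ ∈ K)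
    {x y : G} (hx : x ∈ Subgroup.closure T) (hy : y ∈ Subgroup.closure T) : ⁅x, y⁆ ∈ K := by
  have hc : ∀ z ∈ Subgroup.closure T, ∀ k ∈ K, z * k = k * z := by
    intro z hz k hk
    induction hz using Subgroup.closure_induction'' with
    | mem t ht => exact hcen t ht k hk
    | inv_mem t ht => exact hcen _ (hinv t ht) k hk
    | one => simp
    | mul a b _ _ ha hb =>
        exact ((show Commute a k from ha).mul_left (show Commute b k from hb)).eq
  have h1 : ∀ t ∈ T, ∀ z ∈ Subgroup.closure T, ⁅z, t⁆ ∈ K := by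
    intro t ht z hz
    induction hz using Subgroup.closure_induction'' with
    | mem s hs => exact hK s hs t ht
    | inv_mem s hs => exact hK _ (hinv s hs) t ht
    | one => simp
    | mul a b ha _ iha ihb =>
        have h : ⁅a * b, t⁆ = ⁅b, t⁆ * ⁅a, t⁆ := by
          calc ⁅a * b, t⁆ = a * ⁅b, t⁆ * a⁻¹ * ⁅a, t⁆ := by
                simp only [commutatorElement_def]; group
            _ = ⁅b, t⁆ * ⁅a, t⁆ := by rw [hc a ha _ ihb, mul_inv_cancel_right]
        rw [h]; exact mul_mem ihb iha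
  induction hy using Subgroup.closure_induction'' with
  | mem t ht => exact h1 t ht x hx
  | inv_mem t ht => exact h1 _ (hinv t ht) x hx
  | one => simp
  | mul a b ha _ iha ihb =>
      have h : ⁅x, a * b⁆ = ⁅x, a⁆ * ⁅x, b⁆ := by
        calc ⁅x, a * b⁆ = ⁅x, a⁆ * (a * ⁅x, b⁆ * a⁻¹) := by
              simp only [commutatorElement_def]; group
          _ = ⁅x, a⁆ * ⁅x, b⁆ := by rw [hc a ha _ ihb, mul_inv_cancel_right]
      rw [h]; exact mul_mem iha ihb

theorem commutator_commutator_sup_eq_bot {P Q : Subgroup G}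
    (hP : ∀ p ∈ P, ∀ q ∈ P, p * q = q * p) (hQ : ∀ p ∈ Q, ∀ q ∈ Q, p * q = q * p)
    (hc : ∀ k ∈ ⁅P, Q⁆, ∀ x ∈ P ⊔ Q, k * x = x * k) : ⁅⁅P ⊔ Q, P ⊔ Q⁆, P ⊔ Q⁆ = ⊥ := by
  refine commutator_eq_bot_of_comm fun k hk x hx => hc k ?_ x hx
  refine (Subgroup.commutator_le.2 fun a ha b hb => ?_) hk
  rw [sup_eq_closure] at ha hb
  refine commutator_mem_of_gen (T := (P : Set G) ∪ Q) ?_ ?_ ?_ ha hb
  · rintro t (ht | ht)
    exacts [Or.inl (inv_mem ht), Or.inr (inv_mem ht)]
  · rintro t (ht | ht) k hk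
    exacts [(hc k hk t (mem_sup_left ht)).symm, (hc k hk t (mem_sup_right ht)).symm]
  · rintro s (hs | hs) t (ht | ht)
    · rw [commutatorElement_eq_one_iff_mul_comm.2 (hP s hs t ht)]; exact one_mem _
    · exact commutator_mem_commutator hs ht
    · rw [← commutatorElement_inv]; exact inv_mem (commutator_mem_commutator ht hs)
    · rw [commutatorElement_eq_one_iff_mul_comm.2 (hQ s hs t ht)]; exact one_mem _

/-- Nilpotency from a finite chain of sets of elements reaching the generators. -/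
theorem isNilpotent_of_chain {R : Subgroup G} {T : Set G} (hR : R = Subgroup.closure T)
    (L : ℕ → Set G) (n : ℕ) (h0 : L 0 ⊆ {1}) (hsub : ∀ i ≤ n, L i ⊆ (R : Set G))
    (hstep : ∀ i < n, ∀ x ∈ L (i + 1), ∀ t ∈ T, ⁅x, t⁆ ∈ Subgroup.closure (L i))
    (hn : T ⊆ L n) : Group.IsNilpotent R := by
  have key : ∀ i ≤ n, ∀ x : R, (x : G) ∈ L i → x ∈ Subgroup.upperCentralSeries R i := by
    intro i
    induction i with
    | zero =>
        intro _ x hx
        have : x = 1 := Subtype.ext (h0 hx)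
        rw [this]; exact one_mem _
    | succ i ih =>
        intro hi x hx
        have hle : Subgroup.closure (L i) ≤ (Subgroup.upperCentralSeries R i).map R.subtype :=
          (Subgroup.closure_le _).2 fun y hy =>
            ⟨⟨y, hsub i (by omega) hy⟩, ih (by omega) _ hy, rfl⟩
        have hmem : ∀ t ∈ T, ∀ ht : t ∈ R, ⁅x, ⟨t, ht⟩⁆ ∈ Subgroup.upperCentralSeries R i := by
          intro t ht htR
          obtain ⟨z, hz, hze⟩ := hle (hstep i (by omega) x hx t ht)
          have : z = ⁅x, ⟨t, htR⟩⁆ := R.subtype_injective (by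
            rw [hze, map_commutatorElement]; rfl)
          exact this ▸ hz
        refine Subgroup.mem_upperCentralSeries_succ_iff.2 ?_
        rintro ⟨y, hy⟩
        have hyc : y ∈ Subgroup.closure T := hR ▸ hy
        induction hyc using Subgroup.closure_induction'' with
        | mem t ht => exact hmem t ht hy
        | inv_mem t ht =>
            have htR : t ∈ R := hR ▸ Subgroup.subset_closure ht
            have h1 := (inferInstance : (Subgroup.upperCentralSeries R i).Normal).conj_mem _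
              (inv_mem (hmem t ht htR)) (⟨t, htR⟩ : R)⁻¹
            rw [show (⟨t⁻¹, hy⟩ : R) = (⟨t, htR⟩ : R)⁻¹ from rfl]
            have h2 : ⁅x, (⟨t, htR⟩ : R)⁻¹⁆
                = (⟨t, htR⟩ : R)⁻¹ * ⁅x, (⟨t, htR⟩ : R)⁆⁻¹ * ((⟨t, htR⟩ : R)⁻¹)⁻¹ := by
              simp only [commutatorElement_def]; group
            rw [h2]; exact h1
        | one =>
            rw [show (⟨1, hy⟩ : R) = 1 from rfl, commutatorElement_one_right]; exact one_mem _
        | mul a b ha hb iha ihb =>
            have haR : a ∈ R := hR ▸ ha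
            have hbR : b ∈ R := hR ▸ hb
            rw [show (⟨a * b, hy⟩ : R) = ⟨a, haR⟩ * ⟨b, hbR⟩ from rfl]
            have h2 : ⁅x, (⟨a, haR⟩ : R) * ⟨b, hbR⟩⁆ = ⁅x, (⟨a, haR⟩ : R)⁆ *
                ((⟨a, haR⟩ : R) * ⁅x, (⟨b, hbR⟩ : R)⁆ * (⟨a, haR⟩ : R)⁻¹) := by
              simp only [commutatorElement_def]; group
            rw [h2]
            exact mul_mem (iha haR) ((inferInstance :
              (Subgroup.upperCentralSeries R i).Normal).conj_mem _ (ihb hbR) _)
  refine ⟨n, ?_⟩
  rw [eq_top_iff]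
  rintro ⟨y, hy⟩ -
  have hyc : y ∈ Subgroup.closure T := hR ▸ hy
  induction hyc using Subgroup.closure_induction'' with
  | mem t ht => exact key n le_rfl _ (hn ht)
  | inv_mem t ht =>
      have htR : t ∈ R := hR ▸ Subgroup.subset_closure ht
      exact inv_mem (key n le_rfl ⟨t, htR⟩ (hn ht))
  | one => exact one_mem (Subgroup.upperCentralSeries R n)
  | mul a b ha hb iha ihb => exact mul_mem (iha (hR ▸ ha)) (ihb (hR ▸ hb))

end CfsgLib.Trans3.RankOne
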