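import Cfsg.Agent.Lib.Golay.MatrixElement

/-! Generated: data for the centraliser of an element of order seven in `Co0`. -/

set_option autoImplicit false
set_option maxRecDepth 100000

namespace CfsgLib.Trans3

/-- The cycle of each point under the standard element of order seven. -/
def heldCyc : List ℕ := [0, 0, 0, 0, 1, 0, 1, 2, 2, 1, 2, 2, 3, 1, 4, 1, 2, 0, 1, 1, 2, 2, 5, 0]

/-- A basis of the fixed lattice, in cycle coordinates. -/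
def heldBasis : List (List ℤ) := [[0, 0, 0, -8, 0, 0], [-2, -2, 0, 2, 2, 0], [-2, 0, -2, 0, 2, 2], [-2, -2, 0, -2, -2, 0], [-2, 0, -2, 0, -2, -2], [-1, -1, -1, -5, 3, 3]]

/-- Short representatives of the classes, in basis coordinates. -/
def heldReps : List (List ℤ) := [[0, 0, 0, 0, 0, 0],
  [1, 0, 0, 0, 0, 0],
  [0, 1, 0, 0, 0, 0],
  [-1, -1, -2, 0, 2, 2],
  [0, 0, 1, 0, 0, 0],
  [-1, 0, -1, 0, 0, 2],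
  [0, 1, -1, 0, 0, 0],
  [1, 1, 1, 0, 0, -2],
  [0, 0, 0, 1, 0, 0],
  [-1, 0, -2, -1, 2, 2],
  [0, -1, 0, 1, 0, 0],
  [1, 1, 0, -1, 0, 0],
  [2, 2, 1, -1, 0, -2],
  [1, 0, 3, 1, -2, -2],
  [-2, -1, -1, 1, 0, 2],
  [-1, 1, -3, -1, 2, 2],
  [0, 0, 0, 0, 1, 0],
  [-1, 0, -2, 0, 1, 2],
  [2, 1, 2, 0, -1, -2],
  [1, 1, 2, 0, -1, -2],
  [0, 0, -1, 0, 1, 0],
  [-1, -2, 1, 2, -1, 0],
  [-2, -1, -1, 0, 1, 2],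
  [-1, -1, -1, 0, 1, 2],
  [0, 0, 0, 1, -1, 0],
  [1, 0, 2, 1, -1, -2],
  [-2, -1, -2, 1, 1, 2],
  [-1, 1, -2, -1, 1, 2],
  [-2, -2, -1, 1, 1, 2],
  [-1, 0, -1, -1, 1, 2],
  [0, -1, 1, 1, -1, 0],
  [1, 1, -1, -1, 1, 0],
  [0, 0, 0, 0, 0, 1],
  [-1, 0, 0, 0, 0, 1],
  [0, -1, 2, 2, -2, -1],
  [1, 1, 0, 0, 0, -1],
  [0, 0, 1, 0, 0, -1],
  [1, 0, 1, 0, 0, -1],
  [2, 1, 3, 0, -2, -3],
  [1, -1, 3, 2, -2, -3],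
  [0, 0, 0, 1, 0, -1],
  [1, 2, 0, -1, 0, -1],
  [0, 1, -2, -1, 2, 1],
  [-1, -1, 0, 1, 0, 1],
  [2, 0, 3, 1, -2, -3],
  [1, 0, 3, 1, -2, -3],
  [0, -1, 1, 1, 0, -1],
  [1, 1, 1, -1, 0, -1],
  [0, 0, 2, 0, -1, -1],
  [1, 0, 2, 0, -1, -1],
  [2, 1, 2, 0, -1, -3],
  [1, -1, 4, 2, -3, -3],
  [0, 0, -1, 0, 1, 1],
  [-1, 0, -1, 0, 1, 1],
  [0, -1, 1, 2, -1, -1],
  [1, 1, 1, 0, -1, -1],
  [2, 0, 2, 1, -1, -3],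
  [3, 2, 2, -1, -1, -3],
  [0, -1, 2, 1, -1, -1],
  [1, 1, 0, -1, 1, -1],
  [0, 0, 1, 1, -1, -1],
  [1, 0, 1, 1, -1, -1],
  [0, 1, -1, -1, 1, 1],
  [-1, -1, -1, 1, 1, 1]]

/-- A permutation of order three commuting with the element of order seven. -/
def heldT3 : ℕ := 888515322029050656739614880078048788

/-- An involution commuting with the element of order seven. -/
def heldT2 : ℕ := 891412677342242593941268414261964308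

/-- Fixed codewords. -/
def heldC0 : ℕ := 8536111

/-- Fixed codewords. -/
def heldC1 : ℕ := 832080

/-- An involution of `Co0` (times eight) inverting the element of order seven. -/
def heldEps : List (List ℤ) := [[2, -2, -2, -2, 2, 2, 2, 0, 0, -2, 0, 0, -2, -2, 2, 2, 0, 2, 2, -2, 0, 0, 0, -2],
  [-2, -2, -2, 2, 2, -2, -2, 0, 0, 2, 0, 0, -2, -2, 2, -2, 0, 2, 2, 2, 0, 0, 0, 2],
  [-2, -2, 2, 2, -2, 2, -2, 0, 0, -2, 0, 0, -2, 2, 2, 2, 0, -2, 2, 2, 0, 0, 0, -2],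
  [-2, 2, 2, -2, -2, -2, 2, 0, 0, 2, 0, 0, -2, -2, 2, 2, 0, 2, -2, 2, 0, 0, 0, -2],
  [2, 2, -2, -2, -2, -2, -2, 0, 0, -2, 0, 0, -2, 2, -2, 2, 0, 2, 2, 2, 0, 0, 0, 2],
  [2, -2, 2, -2, -2, -2, 2, 0, 0, 2, 0, 0, -2, 2, 2, -2, 0, -2, 2, -2, 0, 0, 0, 2],
  [2, -2, -2, 2, -2, 2, 2, 0, 0, 2, 0, 0, -2, -2, -2, 2, 0, -2, -2, 2, 0, 0, 0, 2],
  [0, 0, 0, 0, 0, 0, 0, 6, -2, 0, -2, -2, 0, 0, 0, 0, -2, 0, 0, 0, -2, -2, -2, 0],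
  [0, 0, 0, 0, 0, 0, 0, -2, -2, 0, -2, -2, 0, 0, 0, 0, -2, 0, 0, 0, -2, 6, -2, 0],
  [-2, 2, -2, 2, -2, 2, 2, 0, 0, 2, 0, 0, -2, 2, -2, -2, 0, 2, 2, -2, 0, 0, 0, -2],
  [0, 0, 0, 0, 0, 0, 0, -2, -2, 0, -2, -2, 0, 0, 0, 0, -2, 0, 0, 0, 6, -2, -2, 0],
  [0, 0, 0, 0, 0, 0, 0, -2, -2, 0, -2, -2, 0, 0, 0, 0, 6, 0, 0, 0, -2, -2, -2, 0],
  [-2, -2, -2, -2, -2, -2, -2, 0, 0, -2, 0, 0, -2, -2, -2, -2, 0, -2, -2, -2, 0, 0, 0, -2],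
  [-2, -2, 2, -2, 2, 2, -2, 0, 0, 2, 0, 0, -2, 2, -2, 2, 0, 2, -2, -2, 0, 0, 0, 2],
  [2, 2, 2, 2, -2, 2, -2, 0, 0, -2, 0, 0, -2, -2, 2, -2, 0, 2, -2, -2, 0, 0, 0, 2],
  [2, -2, 2, 2, 2, -2, 2, 0, 0, -2, 0, 0, -2, 2, -2, -2, 0, 2, -2, 2, 0, 0, 0, -2],
  [0, 0, 0, 0, 0, 0, 0, -2, -2, 0, -2, 6, 0, 0, 0, 0, -2, 0, 0, 0, -2, -2, -2, 0],
  [2, 2, -2, 2, 2, -2, -2, 0, 0, 2, 0, 0, -2, 2, 2, 2, 0, -2, -2, -2, 0, 0, 0, -2],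
  [2, 2, 2, -2, 2, 2, -2, 0, 0, 2, 0, 0, -2, -2, -2, -2, 0, -2, 2, 2, 0, 0, 0, -2],
  [-2, 2, 2, 2, 2, -2, 2, 0, 0, -2, 0, 0, -2, -2, -2, 2, 0, -2, 2, -2, 0, 0, 0, 2],
  [0, 0, 0, 0, 0, 0, 0, -2, -2, 0, 6, -2, 0, 0, 0, 0, -2, 0, 0, 0, -2, -2, -2, 0],
  [0, 0, 0, 0, 0, 0, 0, -2, 6, 0, -2, -2, 0, 0, 0, 0, -2, 0, 0, 0, -2, -2, -2, 0],
  [0, 0, 0, 0, 0, 0, 0, -2, -2, 0, -2, -2, 0, 0, 0, 0, -2, 0, 0, 0, -2, -2, 6, 0],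
  [-2, 2, -2, -2, 2, 2, 2, 0, 0, -2, 0, 0, -2, 2, 2, -2, 0, -2, -2, 2, 0, 0, 0, 2]]

/-- The matrices of the four monomial generators on the fixed lattice (images of the basis as rows). -/
def heldGens : List (List (List ℤ)) := [[[-1, -2, 0, 2, 0, 0], [0, 0, 1, 0, 0, 0], [-3, -1, -3, 0, 2, 4], [0, 0, 0, 0, 1, 0], [-2, 0, -4, -1, 3, 4], [-2, -2, 0, 2, 0, 1]],
  [[1, 0, 0, 0, 0, 0], [-3, -1, -3, 0, 2, 4], [0, 0, 1, 0, 0, 0], [-2, 0, -4, -1, 3, 4], [0, 0, 0, 0, 1, 0], [0, 0, 0, 0, 0, 1]],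
  [[1, 0, 0, 0, 0, 0], [-3, -1, -4, 0, 2, 4], [-3, -2, -3, 0, 2, 4], [-2, 0, -4, -1, 2, 4], [-2, 0, -4, -2, 3, 4], [-2, -2, -2, 1, 1, 3]],
  [[-1, 0, 0, 0, 0, 0], [3, 1, 4, 0, -2, -4], [0, 0, 1, 0, 0, 0], [2, 0, 4, 1, -2, -4], [0, 0, 0, 0, 1, 0], [0, 0, 2, 0, -1, -1]]]

/-- The matrix of the inverting involution on the fixed lattice. -/
def heldEpsMat : List (List ℤ) := [[0, 0, 0, -1, 0, 0], [-2, 0, -2, 0, 1, 2], [-2, -2, 0, 2, -1, 1], [-1, 0, 0, 0, 0, 0], [0, -1, 2, 2, -2, -2], [-2, -1, -1, 0, 0, 2]]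

/-- Twenty-four words in the monomial generators with different actions. -/
def heldStabWords : List (List ℕ) := [[], [0], [0, 0], [0, 1], [0, 2], [0, 2, 0], [0, 2, 1], [1], [1, 0], [1, 2], [1, 2, 0], [2], [2, 0], [2, 0, 0], [2, 0, 1], [2, 1], [2, 1, 0], [3], [3, 0], [3, 0, 0], [3, 0, 1], [3, 1], [3, 1, 0], [3, 2]]

/-- Words reaching the classes. -/
def heldReach1 : List (List ℕ) := [[], [4], [5], [0, 4], [1, 4], [0, 5], [1, 5]]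

/-- Words reaching the other classes. -/
def heldReach2 : List (List ℕ) := [[], [0], [1], [4, 0], [5, 0], [4, 1], [5, 1]]

end CfsgLib.Trans3
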