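import Cfsg.Agent.Lib.Golay.Co0Basic
import Cfsg.Agent.Lib.Golay.LeechFrame

/-!
# Congruence of short Leech lattice vectors modulo twice the lattice
-/

set_option autoImplicit false

namespace CfsgLib.Trans3

open Cfsg CfsgLib.Golay

/-- The form in terms of integer dot products. -/
theorem leechB_mul (v w : leechLattice) :
    8 * leechR.b v w = dotInt (v : GolayPt → ℤ) (w : GolayPt → ℤ) := leechForm_mul v w

/-- Congruent short vectors, in coordinates. -/
theorem leech_short_congr {x y : GolayPt → ℤ} (hx : x ∈ leechLattice) (hy : y ∈ leechLattice)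
    (hxn : sqNorm x ≤ 64) (hyn : sqNorm y ≤ 64) (hc : ∃ z ∈ leechLattice, x - y = 2 • z) :
    y = x ∨ y = -x ∨ (sqNorm x = 64 ∧ sqNorm y = 64 ∧ dotInt x y = 0) := by
  have h1 := leech_q ⟨x, hx⟩
  have h2 := leech_q ⟨y, hy⟩
  have h3 := leechB_mul ⟨x, hx⟩ ⟨y, hy⟩
  simp only at h1 h2 h3
  have hcls : leechR.cls (⟨x, hx⟩ : leechLattice) = leechR.cls ⟨y, hy⟩ :=
    exists_two_smul_iff.2 hc
  rcases leechR.short_congr hcls (by omega) (by omega) with h | h | h
  · exact Or.inl (congrArg Subtype.val h)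
  · refine Or.inr (Or.inl ?_)
    have e := congrArg Subtype.val h
    simpa using e
  · exact Or.inr (Or.inr ⟨by omega, by omega, by omega⟩)

end CfsgLib.Trans3
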