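import Cfsg.Agent.Lib.Trans3.HeldData
import Cfsg.Agent.Lib.Trans3.LeechMod2
import Cfsg.Agent.Lib.Mathieu.Seven
import Cfsg.Agent.Lib.Golay.Co0Co2

/-!
# The centraliser in `Co0` of an element of order seven of cycle type `1^3 7^3`
-/

set_option autoImplicit false
set_option maxRecDepth 100000

namespace CfsgLib.Trans3

open Cfsg CfsgLib.Golay CfsgLib.Mathieu
open scoped Pointwise

/-- The cycle of a point. -/
def hCyc (p : GolayPt) : Fin 6 := Fin.ofNat 6 (heldCyc.getD (idx p) 0)

/-- The basis of the fixed lattice. -/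
def hB (k j : Fin 6) : ℤ := (heldBasis.getD k []).getD j 0

/-- A combination of the basis. -/
def hVec (n : Fin 6 → ℤ) : GolayPt → ℤ := fun p => ∑ k, n k * hB k (hCyc p)

theorem hB_mem : ∀ k : Fin 6, inLat (fun p => hB k (hCyc p)) = true := by decide +kernel

theorem hVec_mem (n : Fin 6 → ℤ) : hVec n ∈ leechLattice := by
  rw [show hVec n = ∑ k, n k • (fun p => hB k (hCyc p)) from funext fun p => by
    simp [hVec, Finset.sum_apply]]
  exact sum_mem fun k _ => leechLattice.zsmul_mem (inLat_mem (hB_mem k)) _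

/-- The parametrisation of the fixed lattice. -/
def hLift : (Fin 6 → ℤ) →+ leechLattice where
  toFun n := ⟨hVec n, hVec_mem n⟩
  map_zero' := Subtype.ext (funext fun p => by simp [hVec])
  map_add' n m := Subtype.ext (funext fun p => by simp [hVec, add_mul, Finset.sum_add_distrib])

theorem hLift_coe (n : Fin 6 → ℤ) : ((hLift n : leechLattice) : GolayPt → ℤ) = hVec n := rfl

theorem hCyc_sev : ∀ i < 24, hCyc (pt (img sSeven i)) = hCyc (pt i) := by decide +kernel

theorem sSeven_valid : valid sSeven = true := by decide +kernel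

theorem hCyc_perm (p : GolayPt) : hCyc (permOf sSeven p) = hCyc p := by
  rw [permOf_apply sSeven_valid p, hCyc_sev _ (idx_lt p), pt_idx]

/-- The element of order seven. -/
noncomputable def heldA : Co0 := monoCo0 (permOf sSeven) sSeven_mem ∅ empty_code

theorem heldA_smul (v : leechLattice) (p : GolayPt) :
    ((heldA • v : leechLattice) : GolayPt → ℤ) (permOf sSeven p) = (v : GolayPt → ℤ) p := by
  rw [heldA, monoCo0_smul]
  simp [signedPerm]

theorem heldA_fix (n : Fin 6 → ℤ) : heldA • hLift n = hLift n := by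
  refine Subtype.ext (funext fun p => ?_)
  obtain ⟨q, rfl⟩ := (permOf sSeven).surjective p
  rw [heldA_smul, hLift_coe]
  simp only [hVec, hCyc_perm]

theorem heldA_pow_smul (k : ℕ) (v : leechLattice) (p : GolayPt) :
    ((heldA ^ k • v : leechLattice) : GolayPt → ℤ) ((permOf sSeven ^ k) p) = (v : GolayPt → ℤ) p := by
  induction k with
  | zero => simp
  | succ k ih =>
    rw [pow_succ' heldA, mul_smul, pow_succ' (permOf sSeven), Equiv.Perm.mul_apply, heldA_smul, ih]

theorem heldA_pow_seven : heldA ^ 7 = 1 := by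
  refine co0_ext fun v => Subtype.ext (funext fun p => ?_)
  have h := heldA_pow_smul 7 v p
  rw [sSeven_pow, Equiv.Perm.one_apply] at h
  rw [one_smul]; exact h

theorem heldA_mem_N0 : heldA ∈ N0 := mono_mem_N0 ⟨permOf sSeven, sSeven_mem⟩ ∅ empty_code

theorem permPart_heldA : permPart ⟨heldA, heldA_mem_N0⟩ = sev :=
  permPart_mono ⟨permOf sSeven, sSeven_mem⟩ ∅ empty_code

theorem heldA_ne_one : heldA ≠ 1 := fun h => sev_ne_one (by
  rw [← permPart_heldA, show (⟨heldA, heldA_mem_N0⟩ : N0) = 1 from Subtype.ext h, map_one])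

theorem orderOf_heldA : orderOf heldA = 7 :=
  haveI : Fact (Nat.Prime 7) := ⟨by norm_num⟩
  orderOf_eq_prime heldA_pow_seven heldA_ne_one

/-- A point on each cycle. -/
def hRep (j : Fin 6) : GolayPt := pt ([0, 4, 7, 12, 14, 22].getD j 0)

theorem hCyc_reach : ∀ i < 24, ∃ t < 7, imgIter sSeven t (idx (hRep (hCyc (pt i)))) = i := by
  decide +kernel

theorem code_constant : ∀ m < 64, isCode ((List.range 24).foldl
    (fun w i => if Nat.testBit m (hCyc (pt i)).val then w + 2 ^ i else w) 0) = true →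
    m ∈ [0, 17, 10, 27, 36, 53, 46, 63] := by decide +kernel

/-- The fixed lattice is spanned by the basis. -/
theorem fixed_span {v : leechLattice} (hv : heldA • v = v) : ∃ n, v = hLift n := by
  classical
  have hpow : ∀ t : ℕ, heldA ^ t • v = v := fun t => by
    induction t with
    | zero => simp
    | succ t ih => rw [pow_succ, mul_smul, hv, ih]
  have hconst : ∀ p, (v : GolayPt → ℤ) p = (v : GolayPt → ℤ) (hRep (hCyc p)) := fun p => by
    obtain ⟨t, -, ht⟩ := hCyc_reach _ (idx_lt p)
    rw [pt_idx] at ht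
    have h := heldA_pow_smul t v (hRep (hCyc p))
    rw [hpow] at h
    rwa [show (permOf sSeven ^ t) (hRep (hCyc p)) = p from by
      have := (imgIter_spec sSeven_valid t (idx_lt (hRep (hCyc p)))).1
      rw [pt_idx, ht, pt_idx] at this
      first | exact this | exact this.symm] at h
  obtain ⟨m, a, h1, h2, h3⟩ := mem_leechLattice_iff.1 v.2
  set c : Fin 6 → ℤ := fun j => a (hRep j) with hc
  have hac : ∀ p, a p = c (hCyc p) := fun p => by
    have e1 := h1 p
    have e2 := h1 (hRep (hCyc p))
    have e3 := hconst p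
    simp only [hc]; omega
  set bits : ℕ := (List.range 6).foldl (fun w j => if c (Fin.ofNat 6 j) % 2 = 1 then w + 2 ^ j else w) 0
    with hbits
  have hb : bits < 64 ∧ ∀ j : Fin 6, bits.testBit j.val = decide (c j % 2 = 1) := by
    have key : ∀ f : Fin 6 → Bool,
        let w := (List.range 6).foldl (fun w j => if f (Fin.ofNat 6 j) then w + 2 ^ j else w) 0
        w < 64 ∧ ∀ j : Fin 6, w.testBit j.val = f j := by decide +kernel
    have := key fun j => decide (c j % 2 = 1)
    simpa [hbits] using this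
  have hcode : bits ∈ [0, 17, 10, 27, 36, 53, 46, 63] := by
    refine code_constant _ hb.1 ?_
    obtain ⟨mk, hmk, e⟩ := mem_supports_iff.1 (mem_supports_word.2 h2)
    have hlt : ∀ b < 64, (List.range 24).foldl
        (fun w i => if Nat.testBit b (hCyc (pt i)).val then w + 2 ^ i else w) 0 < 16777216 ∧
      ∀ i < 24, ((List.range 24).foldl
        (fun w i => if Nat.testBit b (hCyc (pt i)).val then w + 2 ^ i else w) 0).testBit i =
          Nat.testBit b (hCyc (pt i)).val := by decide +kernel
    convert hmk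
    refine mset_inj (hlt _ hb.1).1 (isCode_lt hmk) ?_
    rw [e]
    ext p
    rw [mem_mset, (hlt _ hb.1).2 _ (idx_lt p), pt_idx, hb.2, mem_support_mod2, hac p]
    simp
  have hsum : ∑ p, a p = 7 * (c 0 + c 1 + c 2) + c 3 + c 4 + c 5 := by
    have key : ∀ j : Fin 6, (Finset.univ.filter fun p => hCyc p = j).card = if j.val < 3 then 7 else 1 := by
      decide +kernel
    rw [Finset.sum_congr rfl fun p _ => hac p, ← Finset.sum_fiberwise Finset.univ hCyc]
    rw [Finset.sum_congr rfl fun j _ => Finset.sum_congr rfl fun p hp => by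
      rw [(Finset.mem_filter.1 hp).2]]
    simp only [Finset.sum_const, key, Fin.sum_univ_six, smul_eq_mul]
    simp
    ring
  rw [hsum] at h3
  set y : Fin 6 → ℤ := fun j => m + 2 * c j with hy
  refine ⟨![(-5 * y 0 + 5 * y 1 + 5 * y 2 - y 3 + y 4 - y 5) / 8, (-y 0 + y 2 + y 4 - y 5) / 4,
    (-4 * y 0 + 4 * y 1 + 3 * y 2 + y 5) / 4, (-y 0 + y 2 - y 4 + y 5) / 4,
    (2 * y 0 - 2 * y 1 - 3 * y 2 - y 5) / 4, y 0 - y 1 - y 2], Subtype.ext (funext fun p => ?_)⟩
  have hcases : (c 0 - c 4) % 2 = 0 ∧ (c 1 - c 3) % 2 = 0 ∧ (c 2 - c 5) % 2 = 0 := by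
    have h0 := hb.2 0; have h1 := hb.2 1; have h2 := hb.2 2
    have h3 := hb.2 3; have h4 := hb.2 4; have h5 := hb.2 5
    simp only [List.mem_cons, List.not_mem_nil, or_false] at hcode
    rcases hcode with e | e | e | e | e | e | e | e <;> rw [e] at h0 h1 h2 h3 h4 h5 <;>
      simp [Nat.testBit, Nat.shiftRight_eq_div_pow] at h0 h1 h2 h3 h4 h5 <;> omega
  rw [hLift_coe, h1 p, hac p]
  simp only [hVec, Fin.sum_univ_six, hy]
  generalize hCyc p = j
  fin_cases j <;> simp [hB, heldBasis] <;> omega

/-- Classes are given by combinations with coefficients 0 and 1. -/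
def hv (s : Fin 6 → ZMod 2) : leechLattice := hLift fun k => ((s k).val : ℤ)

theorem hLift_cls (n : Fin 6 → ℤ) : leechR.cls (hLift n) = leechR.cls (hv fun k => (n k : ZMod 2)) := by
  refine leechR.cls_eq_iff.2 ⟨hLift fun k => n k / 2, ?_⟩
  rw [hv, ← map_add, ← map_add]
  congr 1
  funext k
  simp only [Pi.add_apply]
  rw [ZMod.val_intCast]
  omega

theorem hv_add (s t : Fin 6 → ZMod 2) : leechR.cls (hv (s + t)) = leechR.cls (hv s + hv t) := by
  rw [hv, hv, hv, ← map_add hLift, hLift_cls ((fun k => ((s k).val : ℤ)) + fun k => ((t k).val : ℤ))]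
  congr 2

/-- The short representative of a class. -/
def hShort (s : Fin 6 → ZMod 2) : Fin 6 → ℤ := fun k =>
  (heldReps.getD (∑ j : Fin 6, (s j).val * 2 ^ j.val) []).getD k 0

/-- The classes of norm eight. -/
def hEight (s : Fin 6 → ZMod 2) : Prop :=
  s ≠ 0 ∧ ((s 0 = 0 ∧ s 1 = 0 ∧ s 2 = 0) ∨ (s 3 = 0 ∧ s 4 = 0 ∧ s 5 = 0))

instance : DecidablePred hEight := fun s => by unfold hEight; infer_instance

theorem hShort_spec : ∀ s : Fin 6 → ZMod 2,
    (∀ k, ((hShort s k : ℤ) : ZMod 2) = s k) ∧
    sqNorm (hVec (hShort s)) ≤ 64 ∧ (sqNorm (hVec (hShort s)) = 64 ↔ hEight s) := by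
  decide +kernel

theorem hShort_cls (s : Fin 6 → ZMod 2) : leechR.cls (hLift (hShort s)) = leechR.cls (hv s) := by
  rw [hLift_cls]; simp only [(hShort_spec s).1]

theorem hv_norm8 (s : Fin 6 → ZMod 2) :
    (∃ w, leechR.q w = 8 ∧ leechR.cls w = leechR.cls (hv s)) ↔ hEight s := by
  obtain ⟨-, hle, hiff⟩ := hShort_spec s
  have h8 : leechR.q (hLift (hShort s)) ≤ 8 := by
    have := leech_q (hLift (hShort s)); rw [hLift_coe] at this; omega
  constructor
  · rintro ⟨w, hw, hc⟩
    apply hiff.1
    have hq : leechR.q (hLift (hShort s)) = 8 := by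
      rcases leechR.short_congr ((hShort_cls s).trans hc.symm) h8 hw.le with h | h | h
      · rw [h] at hw; exact hw
      · rw [h, Rootless.q_neg] at hw; exact hw
      · exact h.1
    have := leech_q (hLift (hShort s)); rw [hLift_coe] at this; omega
  · intro h
    refine ⟨hLift (hShort s), ?_, hShort_cls s⟩
    have := leech_q (hLift (hShort s)); rw [hLift_coe] at this
    have := hiff.2 h
    omega

theorem hLift_injective : Function.Injective hLift := by
  rw [injective_iff_map_eq_zero]
  intro n hn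
  have h : ∀ j : Fin 6, hVec n (hRep j) = 0 := fun j => by
    rw [← hLift_coe, hn]; rfl
  have e : ∀ j : Fin 6, hCyc (hRep j) = j := by decide +kernel
  have h0 := h 0; have h1 := h 1; have h2 := h 2; have h3 := h 3; have h4 := h 4; have h5 := h 5
  simp only [hVec, e, Fin.sum_univ_six] at h0 h1 h2 h3 h4 h5
  simp [hB, heldBasis] at h0 h1 h2 h3 h4 h5
  funext k
  fin_cases k <;> simp <;> omega

theorem hv_inj {s t : Fin 6 → ZMod 2} (h : leechR.cls (hv s) = leechR.cls (hv t)) : s = t := by
  obtain ⟨z, hz⟩ := leechR.cls_eq_iff.1 h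
  have hA : heldA • z = z := by
    have e : hv s = hv t + (heldA • z + heldA • z) := by
      rw [← co0_add, show hv s = heldA • hv s from (heldA_fix _).symm, hz, co0_add,
        show heldA • hv t = hv t from heldA_fix _]
    rw [hz, add_right_inj] at e
    refine Subtype.ext (funext fun p => ?_)
    have := congrArg (fun v : leechLattice => (v : GolayPt → ℤ) p) e
    simp only [AddSubgroup.coe_add, Pi.add_apply] at this
    omega
  obtain ⟨n, rfl⟩ := fixed_span hA
  rw [hv, hv, ← map_add, ← map_add, hLift_injective.eq_iff] at hz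
  funext k
  have := congrFun hz k
  simp only [Pi.add_apply] at this
  have h2 := congrArg (fun x : ℤ => (x : ZMod 2)) this
  push_cast at h2
  rwa [ZMod.natCast_zmod_val, ZMod.natCast_zmod_val, ← two_mul, show (2 : ZMod 2) = 0 from rfl,
    zero_mul, add_zero] at h2

/-- The fixed classes. -/
theorem held_cls_fixed (v : leechLattice) :
    leechR.cls (heldA • v) = leechR.cls v ↔ ∃ s, leechR.cls v = leechR.cls (hv s) := by
  constructor
  · intro h
    set w := ∑ i ∈ Finset.range 7, heldA ^ i • v with hw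
    have hfix : heldA • w = w := by
      have h1 : heldA • w = ∑ i ∈ Finset.range 7, heldA ^ (i + 1) • v := by
        rw [hw]
        refine (map_sum (co0Hom heldA) _ _).trans ?_
        refine Finset.sum_congr rfl fun i _ => ?_
        show heldA • (heldA ^ i • v) = _
        rw [← mul_smul, ← pow_succ']
      rw [h1, hw]
      simp only [Finset.sum_range_succ, Finset.sum_range_zero, zero_add, pow_zero, one_smul]
      rw [heldA_pow_seven, one_smul]
      abel
    obtain ⟨n, hn⟩ := fixed_span hfix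
    refine ⟨fun k => (n k : ZMod 2), ?_⟩
    rw [← hLift_cls, ← hn]
    have hi : ∀ i : ℕ, ∃ z, heldA ^ i • v = v + (z + z) := fun i => by
      induction i with
      | zero => exact ⟨0, by simp⟩
      | succ i ih =>
        obtain ⟨z, hz⟩ := ih
        obtain ⟨u, hu⟩ := leechR.cls_eq_iff.1 h
        refine ⟨u + heldA • z, ?_⟩
        rw [pow_succ', mul_smul, hz, co0_add, co0_add, hu]
        abel
    choose z hz using hi
    refine (leechR.cls_eq_iff.2 ⟨v + v + v + ∑ i ∈ Finset.range 7, z i, ?_⟩).symm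
    rw [hw]
    simp only [Finset.sum_range_succ, Finset.sum_range_zero, zero_add, hz]
    abel
  · rintro ⟨s, hs⟩
    rw [co0_cls heldA hs, show heldA • hv s = hv s from heldA_fix _, hs]

theorem hv_zero : hv 0 = 0 := by
  rw [hv, show (fun k : Fin 6 => (((0 : Fin 6 → ZMod 2) k).val : ℤ)) = 0 from funext fun k => by simp]
  exact map_zero hLift

/-- The pairing modulo 2 is non-degenerate on the fixed classes. -/
theorem hv_pair (s : Fin 6 → ZMod 2) (hs : s ≠ 0) : ∃ t, ¬ (2 : ℤ) ∣ leechR.b (hv s) (hv t) := by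
  have key : ∀ s : Fin 6 → ZMod 2, s ≠ 0 → ∃ t : Fin 6 → ZMod 2,
      dotInt (hVec fun k => ((s k).val : ℤ)) (hVec fun k => ((t k).val : ℤ)) % 16 ≠ 0 := by
    decide +kernel
  obtain ⟨t, ht⟩ := key s hs
  refine ⟨t, fun ⟨c, hc⟩ => ht ?_⟩
  have := leechB_mul (hv s) (hv t)
  rw [hc, hv, hv, hLift_coe, hLift_coe] at this
  omega

end CfsgLib.Trans3
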