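import Cfsg.Agent.Lib.Trans3.HeldGroup

/-! A frame on which the involution inverting the element of order seven is diagonal. -/

set_option autoImplicit false
set_option maxRecDepth 100000

namespace CfsgLib.Trans3

open Cfsg CfsgLib.Golay

/-- Twenty-four vectors of one frame. -/
def heldFrame : List (List ℤ) := [[4, -2, 0, -2, 2, 2, 0, 0, 0, 0, 0, 0, -2, 4, 0, 2, 0, 2, 0, -2, 0, 0, 0, 0],
  [-4, -2, 0, -2, 2, 2, 0, 0, 0, 0, 0, 0, -2, -4, 0, 2, 0, 2, 0, -2, 0, 0, 0, 0],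
  [0, 2, 0, -2, 2, 2, 0, 0, 0, 0, 0, 0, -2, 0, 0, -2, 0, -2, 4, 2, 0, 0, 0, 4],
  [0, 2, 0, -2, 2, 2, 0, 0, 0, 0, 0, 0, -2, 0, 0, -2, 0, -2, -4, 2, 0, 0, 0, -4],
  [0, -2, 4, 2, -2, 2, 4, 0, 0, 0, 0, 0, -2, 0, 0, 2, 0, -2, 0, 2, 0, 0, 0, 0],
  [0, -2, -4, 2, -2, 2, -4, 0, 0, 0, 0, 0, -2, 0, 0, 2, 0, -2, 0, 2, 0, 0, 0, 0],
  [0, -2, 0, -2, -2, 2, 0, -4, 0, 0, 0, 0, 2, 0, 0, -2, 0, -2, 0, -2, 0, 0, 4, 0],
  [0, -2, 0, -2, -2, 2, 0, 4, 0, 0, 0, 0, 2, 0, 0, -2, 0, -2, 0, -2, 0, 0, -4, 0],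
  [0, 2, 0, -2, -2, 2, 0, 0, -4, 0, 0, 0, 2, 0, 0, 2, 0, 2, 0, 2, 0, 4, 0, 0],
  [0, 2, 0, -2, -2, 2, 0, 0, 4, 0, 0, 0, 2, 0, 0, 2, 0, 2, 0, 2, 0, -4, 0, 0],
  [0, 2, 0, 2, -2, 2, 0, 0, 0, 4, 0, 0, -2, 0, 4, -2, 0, 2, 0, -2, 0, 0, 0, 0],
  [0, 2, 0, 2, -2, 2, 0, 0, 0, -4, 0, 0, -2, 0, -4, -2, 0, 2, 0, -2, 0, 0, 0, 0],
  [0, -2, 0, 2, 2, 2, 0, 0, 0, 0, -4, 0, 2, 0, 0, -2, 0, 2, 0, 2, 4, 0, 0, 0],
  [0, -2, 0, 2, 2, 2, 0, 0, 0, 0, 4, 0, 2, 0, 0, -2, 0, 2, 0, 2, -4, 0, 0, 0],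
  [0, 2, 0, 2, 2, 2, 0, 0, 0, 0, 0, -4, 2, 0, 0, 2, 4, -2, 0, -2, 0, 0, 0, 0],
  [0, 2, 0, 2, 2, 2, 0, 0, 0, 0, 0, 4, 2, 0, 0, 2, -4, -2, 0, -2, 0, 0, 0, 0],
  [2, 0, 2, 0, 0, 0, -2, 2, 2, 2, 2, 2, 0, -2, -2, 0, 2, 0, -2, 0, 2, 2, 2, 2],
  [-2, 0, 2, 0, 0, 0, -2, -2, -2, 2, 2, 2, 0, 2, -2, 0, 2, 0, 2, 0, 2, -2, -2, -2],
  [-2, 0, -2, 0, 0, 0, 2, 2, 2, -2, 2, 2, 0, 2, 2, 0, 2, 0, 2, 0, 2, 2, 2, -2],
  [2, 0, -2, 0, 0, 0, 2, -2, -2, -2, 2, 2, 0, -2, 2, 0, 2, 0, -2, 0, 2, -2, -2, 2],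
  [-2, 0, -2, 0, 0, 0, 2, -2, 2, 2, -2, 2, 0, 2, -2, 0, 2, 0, -2, 0, -2, 2, -2, 2],
  [2, 0, -2, 0, 0, 0, 2, 2, -2, 2, -2, 2, 0, -2, -2, 0, 2, 0, 2, 0, -2, -2, 2, -2],
  [2, 0, 2, 0, 0, 0, -2, -2, 2, -2, -2, 2, 0, -2, 2, 0, 2, 0, 2, 0, -2, 2, -2, -2],
  [-2, 0, 2, 0, 0, 0, -2, 2, -2, -2, -2, 2, 0, 2, 2, 0, 2, 0, -2, 0, -2, -2, 2, 2]]

/-- A frame vector. -/
def hfFun (n : ℕ) : GolayPt → ℤ := fun p => (heldFrame.getD n []).getD (idx p) 0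

/-- Half the difference to the first frame vector. -/
def hfHalf (n : ℕ) : GolayPt → ℤ := fun p => (hfFun n p - hfFun 0 p) / 2

theorem hf_mem : ∀ n < 24, inLat (hfFun n) = true := by decide +kernel
theorem hfHalf_mem : ∀ n < 24, inLat (hfHalf n) = true := by decide +kernel
theorem hf_half : ∀ n < 24, ∀ i < 24, hfFun n (pt i) = hfFun 0 (pt i) + (hfHalf n (pt i) + hfHalf n (pt i)) := by
  decide +kernel
theorem hf_eig : ∀ n < 24, (∀ i < 24, matFun hEpsFun (hfFun n) (pt i) = hfFun n (pt i)) ∨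
    ∀ i < 24, matFun hEpsFun (hfFun n) (pt i) = -hfFun n (pt i) := by decide +kernel
theorem hf_norm : ∀ n < 24, sqNorm (hfFun n) = 8 * 8 := by decide +kernel
theorem hf_dist : ∀ n < 24, ∀ m < 24, n ≠ m →
    (∃ i < 24, hfFun n (pt i) ≠ hfFun m (pt i)) ∧ ∃ i < 24, hfFun n (pt i) ≠ -hfFun m (pt i) := by
  decide +kernel

/-- The vectors of the frame in the lattice. -/
noncomputable def hfVec (p : GolayPt) : leechLattice := ⟨hfFun (idx p), inLat_mem (hf_mem _ (idx_lt p))⟩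

/-- The inverting involution is, up to conjugation, a sign change. -/
theorem heldE_sign : ∃ (h : Co0) (hm : h⁻¹ * heldE * h ∈ N0), permPart ⟨h⁻¹ * heldE * h, hm⟩ = 1 := by
  have hq : ∀ p, leechR.q (hfVec p) = 8 := fun p =>
    (leech_q_iff _ 8).2 (hf_norm _ (idx_lt p))
  have hc : ∀ p, leechR.cls (hfVec p) = leechR.cls (hfVec (pt 0)) := fun p =>
    leechR.cls_eq_iff.2 ⟨⟨hfHalf (idx p), inLat_mem (hfHalf_mem _ (idx_lt p))⟩, Subtype.ext (funext fun x => by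
      have h0 : idx (pt 0) = 0 := by decide +kernel
      have := hf_half _ (idx_lt p) _ (idx_lt x)
      rw [pt_idx] at this
      show hfFun (idx p) x = hfFun (idx (pt 0)) x + (hfHalf (idx p) x + hfHalf (idx p) x)
      rw [h0, this])⟩
  have he : ∀ p, heldE • hfVec p = hfVec p ∨ heldE • hfVec p = -hfVec p := fun p => by
    rcases hf_eig _ (idx_lt p) with h | h
    · refine Or.inl (Subtype.ext (funext fun x => ?_))
      have := h _ (idx_lt x)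
      rw [pt_idx] at this
      rw [heldE, matCo0_smul]
      exact this
    · refine Or.inr (Subtype.ext (funext fun x => ?_))
      have := h _ (idx_lt x)
      rw [pt_idx] at this
      rw [heldE, matCo0_smul]
      exact this
  obtain ⟨h, hh⟩ := co0_trans8 (vec8_q pinf) (hq (pt 0))
  set k := h⁻¹ * heldE * h with hk
  have hu : ∀ p, ((h⁻¹ • hfVec p : leechLattice) : GolayPt → ℤ) ∈ stdCross := fun p => by
    rw [mem_std_iff _ pinf, co0_q, hq, co0_cls h⁻¹ (hc p), ← hh, inv_smul_smul]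
    exact ⟨rfl, rfl⟩
  have hku : ∀ p, k • (h⁻¹ • hfVec p) = h⁻¹ • hfVec p ∨ k • (h⁻¹ • hfVec p) = -(h⁻¹ • hfVec p) := fun p => by
    rw [hk, mul_smul, mul_smul, smul_inv_smul, ← co0_neg]
    rcases he p with e | e <;> rw [e]
    · exact Or.inl rfl
    · exact Or.inr rfl
  choose f s hs hf using hu
  have hinj : Function.Injective f := by
    intro p q hpq
    by_contra hne
    obtain ⟨⟨i, -, h1⟩, ⟨j, -, h2⟩⟩ := hf_dist _ (idx_lt p) _ (idx_lt q) fun h0 => hne (by rw [← pt_idx p, h0, pt_idx])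
    have hsgn : s p = s q ∨ s p = -s q := by rcases hs p with a | a <;> rcases hs q with b | b <;> omega
    rcases hsgn with e | e
    · have h3 : h⁻¹ • hfVec p = h⁻¹ • hfVec q := Subtype.ext (by rw [hf p, hf q, hpq, e])
      exact h1 (congrFun (congrArg Subtype.val (smul_left_cancel _ h3)) (pt i))
    · have h3 : h⁻¹ • hfVec p = h⁻¹ • (-hfVec q) := by
        rw [co0_neg]
        exact Subtype.ext (by rw [NegMemClass.coe_neg, hf p, hf q, hpq, e, Pi.single_neg])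
      exact h2 (congrFun (congrArg Subtype.val (smul_left_cancel _ h3)) (pt j))
  have hv : ∀ x, k • vec8 x = vec8 x ∨ k • vec8 x = -vec8 x := fun x => by
    obtain ⟨p, rfl⟩ := (Finite.injective_iff_surjective.1 hinj) x
    rcases hs p with e | e
    · rw [show vec8 (f p) = h⁻¹ • hfVec p from Subtype.ext (by rw [hf p, e]; rfl)]
      exact hku p
    · have hneg : vec8 (f p) = -(h⁻¹ • hfVec p) := Subtype.ext (by
        rw [NegMemClass.coe_neg, hf p, e, Pi.single_neg, neg_neg]; rfl)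
      rcases hku p with e' | e'
      · exact Or.inl (by rw [hneg, co0_neg, e'])
      · exact Or.inr (by rw [hneg, co0_neg, e'])
  have hkN : k ∈ N0 := by
    rw [mem_classStab]
    rcases hv pinf with e | e <;> rw [e]
    exact leechR.cls_neg _
  refine ⟨h, hkN, ?_⟩
  obtain ⟨σ, c, hc', e⟩ := N0_rep hkN
  rw [show (⟨k, hkN⟩ : N0) = ⟨monoCo0 σ σ.2 c hc', mono_mem_N0 σ c hc'⟩ from Subtype.ext e, permPart_mono]
  refine Subtype.ext (Equiv.ext fun x => ?_)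
  show (σ : Equiv.Perm GolayPt) x = x
  by_contra hne
  rcases hv x with e' | e' <;>
  · rw [e] at e'
    have := congrFun (congrArg Subtype.val e') ((σ : Equiv.Perm GolayPt) x)
    rw [monoCo0_smul] at this
    simp [signedPerm, vec8, hne] at this <;> split_ifs at this <;> omega

end CfsgLib.Trans3
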