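import Cfsg.Agent.Lib.Trans3.HeldFix
import Cfsg.Agent.Lib.Trans3.Co1Twenty3

/-!
# The action on the seven classes: the centraliser of the element of order seven is `2 × 7 × L₃(2)`
-/

set_option autoImplicit false
set_option maxRecDepth 100000
set_option synthInstance.maxSize 2000

namespace CfsgLib.Trans3

open Cfsg CfsgLib.Golay CfsgLib.Mathieu
open scoped Pointwise

/-- The matrices of the four monomial generators. -/
def hMat (i : Fin 4) (k j : Fin 6) : ℤ := ((heldGens.getD i []).getD k []).getD j 0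

/-- The matrix of the inverting involution. -/
def hEpsMat (k j : Fin 6) : ℤ := (heldEpsMat.getD k []).getD j 0

/-- `g` acts on the fixed lattice by the matrix `M`. -/
def hActs (g : Co0) (M : Fin 6 → Fin 6 → ℤ) : Prop :=
  ∀ k, g • hLift (Pi.single k 1) = hLift (M k)

/-- A matrix applied modulo 2. -/
def hRed (M : Fin 6 → Fin 6 → ℤ) (s : Fin 6 → ZMod 2) : Fin 6 → ZMod 2 :=
  fun j => ∑ k, s k * (M k j : ZMod 2)

theorem hActs_cls {g : Co0} {M : Fin 6 → Fin 6 → ℤ} (h : hActs g M) (s : Fin 6 → ZMod 2) :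
    leechR.cls (g • hv s) = leechR.cls (hv (hRed M s)) := by
  have e : g • hv s = hLift (∑ k, ((s k).val : ℤ) • M k) := by
    have h1 : (fun k => ((s k).val : ℤ)) = ∑ k, ((s k).val : ℤ) • (Pi.single k 1 : Fin 6 → ℤ) := by
      funext j
      simp only [Finset.sum_apply, Pi.smul_apply, Pi.single_apply, smul_eq_mul, mul_ite, mul_one,
        mul_zero, Finset.sum_ite_eq, Finset.mem_univ, if_true]
    rw [hv, h1, map_sum, map_sum]
    refine (map_sum (co0Hom g) _ _).trans (Finset.sum_congr rfl fun k _ => ?_)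
    show g • hLift _ = _
    rw [map_zsmul, map_zsmul, co0_zsmul, h k]
  rw [e, hLift_cls]
  congr 2
  funext j
  simp only [hRed, Finset.sum_apply, Pi.smul_apply, smul_eq_mul]
  push_cast
  simp

/-- The signs and permutations of the monomial generators. -/
def hPermCode (i : Fin 4) : ℕ := [heldT3, heldT2, idCode, idCode].getD i idCode

/-- The sign masks of the monomial generators. -/
def hSignCode (i : Fin 4) : ℕ := [0, 0, heldC0, heldC1].getD i 0

theorem hPermCode_ok : ∀ i, inM24 (hPermCode i) = true := by decide +kernel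
theorem hSignCode_ok : ∀ i, isCode (hSignCode i) = true := by decide +kernel

/-- The monomial generators. -/
noncomputable def hGen (i : Fin 4) : Co0 :=
  monoCo0 (permOf (hPermCode i)) (inM24_mem (hPermCode_ok i)) (mset (hSignCode i))
    (mem_supports_iff.2 ⟨hSignCode i, hSignCode_ok i, rfl⟩)

theorem hGen_smul (i : Fin 4) (v : leechLattice) (p : GolayPt) :
    ((hGen i • v : leechLattice) : GolayPt → ℤ) (permOf (hPermCode i) p) =
      if (hSignCode i).testBit (img (hPermCode i) (idx p)) then -(v : GolayPt → ℤ) p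
      else (v : GolayPt → ℤ) p := by
  rw [hGen, monoCo0_smul]
  simp only [signedPerm, Equiv.symm_apply_apply, mem_mset]
  rw [permOf_apply (inM24_valid (hPermCode_ok i)), idx_pt (valid_lt (inM24_valid (hPermCode_ok i)) (idx_lt p))]

theorem hGen_acts (i : Fin 4) : hActs (hGen i) (hMat i) := by
  have key : ∀ i : Fin 4, ∀ k : Fin 6, ∀ n < 24,
      hVec (hMat i k) (pt (img (hPermCode i) n)) = if (hSignCode i).testBit (img (hPermCode i) n) then
        -hVec (Pi.single k 1) (pt n) else hVec (Pi.single k 1) (pt n) := by decide +kernel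
  intro k
  refine Subtype.ext (funext fun q => ?_)
  obtain ⟨p, rfl⟩ := (permOf (hPermCode i)).surjective q
  rw [hGen_smul, hLift_coe, hLift_coe, permOf_apply (inM24_valid (hPermCode_ok i)) p,
    key i k _ (idx_lt p), pt_idx]

theorem hGen_comm (i : Fin 4) : hGen i * heldA = heldA * hGen i := by
  have key : ∀ i : Fin 4, ∀ n < 24, img (hPermCode i) (img sSeven n) = img sSeven (img (hPermCode i) n) ∧
      (hSignCode i).testBit (img (hPermCode i) (img sSeven n)) =
        (hSignCode i).testBit (img (hPermCode i) n) := by decide +kernel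
  have hv' := inM24_valid (hPermCode_ok i)
  refine co0_ext fun v => Subtype.ext (funext fun q => ?_)
  obtain ⟨p, rfl⟩ := (permOf (hPermCode i)).surjective q
  obtain ⟨p, rfl⟩ := (permOf sSeven).surjective p
  rw [mul_smul, hGen_smul, heldA_smul, mul_smul]
  obtain ⟨h1, h2⟩ := key i _ (idx_lt p)
  have e : permOf (hPermCode i) (permOf sSeven p) = permOf sSeven (permOf (hPermCode i) p) := by
    rw [permOf_apply hv', permOf_apply sSeven_valid, permOf_apply hv', permOf_apply sSeven_valid,
      idx_pt (valid_lt sSeven_valid (idx_lt p)), idx_pt (valid_lt hv' (idx_lt p)), h1]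
  rw [e, heldA_smul, hGen_smul, permOf_apply sSeven_valid, idx_pt (valid_lt sSeven_valid (idx_lt p)), h2]

/-- The inverting matrix. -/
def hEpsFun (a b : GolayPt) : ℤ := (heldEps.getD (idx a) []).getD (idx b) 0

theorem hEps_ok : matOK hEpsFun = true := by decide +kernel

/-- An involution inverting the element of order seven. -/
noncomputable def heldE : Co0 := matCo0 hEpsFun hEps_ok

theorem hEps_symm : matT hEpsFun = hEpsFun := by
  have key : ∀ a < 24, ∀ b < 24, hEpsFun (pt a) (pt b) = hEpsFun (pt b) (pt a) := by decide +kernel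
  funext a b
  have := key _ (idx_lt b) _ (idx_lt a)
  rwa [pt_idx, pt_idx] at this

theorem heldE_sq : heldE * heldE = 1 := by
  refine co0_ext fun v => Subtype.ext ?_
  rw [mul_smul, heldE, matCo0_smul, matCo0_smul, one_smul]
  have h := hEps_ok
  simp only [matOK, Bool.and_eq_true] at h
  conv_lhs => arg 1; rw [← hEps_symm]
  exact matFun_inv h.1.1.1 h.1.2 v.2

theorem heldE_conj : heldA * heldE * heldA = heldE := by
  have key : ∀ a < 24, ∀ b < 24, hEpsFun (pt (img sSeven a)) (pt b) = hEpsFun (pt a) (pt (img sSeven b)) := by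
    decide +kernel
  refine co0_ext fun v => Subtype.ext (funext fun q => ?_)
  obtain ⟨r, rfl⟩ := (permOf sSeven).surjective q
  rw [mul_smul, mul_smul, heldA_smul, heldE, matCo0_smul, matCo0_smul]
  simp only [matFun]
  congr 1
  simp only [dotInt]
  rw [← Equiv.sum_comp (permOf sSeven) (fun p => hEpsFun r p * ((heldA • v : leechLattice) : GolayPt → ℤ) p)]
  refine Finset.sum_congr rfl fun p _ => ?_
  rw [heldA_smul, permOf_apply sSeven_valid r, permOf_apply sSeven_valid p]
  have := key _ (idx_lt r) _ (idx_lt p)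
  rw [pt_idx, pt_idx] at this
  rw [← this]

theorem heldE_inv : heldE * heldA * heldE = heldA⁻¹ := by
  refine eq_inv_of_mul_eq_one_right ?_
  rw [← mul_assoc, ← mul_assoc, heldE_conj, heldE_sq]

theorem heldE_acts : hActs heldE hEpsMat := by
  have key : ∀ k : Fin 6, ∀ n < 24,
      matFun hEpsFun (hVec (Pi.single k 1)) (pt n) = hVec (hEpsMat k) (pt n) := by decide +kernel
  intro k
  refine Subtype.ext (funext fun q => ?_)
  have := key k _ (idx_lt q)
  rw [pt_idx] at this
  exact this

/-- The centraliser of the element of order seven. -/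
noncomputable abbrev heldH : Subgroup Co0 := Subgroup.centralizer {heldA}

theorem mem_heldH {g : Co0} : g ∈ heldH ↔ g * heldA = heldA * g := Subgroup.mem_centralizer_singleton_iff

/-- The eight generators. -/
noncomputable def hEl (i : ℕ) : Co0 :=
  if i < 4 then hGen (Fin.ofNat 4 i) else heldE * hGen (Fin.ofNat 4 i) * heldE

theorem hEl_mem (i : ℕ) : hEl i ∈ heldH := by
  rw [mem_heldH]
  have hg := hGen_comm (Fin.ofNat 4 i)
  unfold hEl
  split_ifs
  · exact hg
  · have h2 : hGen (Fin.ofNat 4 i) * heldA⁻¹ = heldA⁻¹ * hGen (Fin.ofNat 4 i) :=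
      (show Commute _ _ from hg).inv_right.eq
    have e1 : heldE * heldA = heldA⁻¹ * heldE := by
      rw [← heldE_inv, mul_assoc, heldE_sq, mul_one]
    have e2 : heldE * heldA⁻¹ = heldA * heldE := by
      rw [← heldE_inv, ← mul_assoc, ← mul_assoc, heldE_sq, one_mul]
    calc heldE * hGen (Fin.ofNat 4 i) * heldE * heldA
        = heldE * (hGen (Fin.ofNat 4 i) * heldA⁻¹) * heldE := by rw [mul_assoc _ heldE, e1]; simp [mul_assoc]
      _ = heldE * heldA⁻¹ * hGen (Fin.ofNat 4 i) * heldE := by rw [h2]; simp [mul_assoc]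
      _ = heldA * (heldE * hGen (Fin.ofNat 4 i) * heldE) := by rw [e2]; simp [mul_assoc]

/-- The action of a generator modulo 2. -/
def hElRed (i : ℕ) (s : Fin 6 → ZMod 2) : Fin 6 → ZMod 2 :=
  if i < 4 then hRed (hMat (Fin.ofNat 4 i)) s
  else hRed hEpsMat (hRed (hMat (Fin.ofNat 4 i)) (hRed hEpsMat s))

theorem hEl_cls (i : ℕ) (s : Fin 6 → ZMod 2) :
    leechR.cls (hEl i • hv s) = leechR.cls (hv (hElRed i s)) := by
  unfold hEl hElRed
  split_ifs
  · exact hActs_cls (hGen_acts _) s
  · rw [mul_smul, mul_smul, co0_cls heldE (co0_cls _ (hActs_cls heldE_acts s)),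
      co0_cls heldE (hActs_cls (hGen_acts _) _), hActs_cls heldE_acts]

/-- The element of a word. -/
noncomputable def hWord : List ℕ → Co0
  | [] => 1
  | i :: l => hEl i * hWord l

/-- The action of a word modulo 2. -/
def hWordRed : List ℕ → (Fin 6 → ZMod 2) → (Fin 6 → ZMod 2)
  | [], s => s
  | i :: l, s => hElRed i (hWordRed l s)

theorem hWord_mem : ∀ l, hWord l ∈ heldH
  | [] => Subgroup.one_mem _
  | i :: l => Subgroup.mul_mem _ (hEl_mem i) (hWord_mem l)

theorem hWord_cls : ∀ l s, leechR.cls (hWord l • hv s) = leechR.cls (hv (hWordRed l s))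
  | [], s => by rw [hWord, one_smul]; rfl
  | i :: l, s => by rw [hWord, mul_smul, co0_cls _ (hWord_cls l s), hEl_cls]; rfl

/-- The first basis class. -/
def he0 : Fin 6 → ZMod 2 := Pi.single 0 1

/-- The seven classes. -/
def hFirst (s : Fin 6 → ZMod 2) : Prop := s ≠ 0 ∧ s 3 = 0 ∧ s 4 = 0 ∧ s 5 = 0

instance : DecidablePred hFirst := fun s => by unfold hFirst; infer_instance

theorem mem_N0_cls {g : Co0} : g ∈ N0 ↔ leechR.cls (g • hv he0) = leechR.cls (hv he0) := by
  have hv8 : leechR.cls (hv he0) = leechR.cls (vec8 pinf) := by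
    rw [← vec8_cls (pt 12) pinf]
    have e : hv he0 = -vec8 (pt 12) := Subtype.ext (funext fun p => by
      have key : ∀ n < 24, hVec (fun k => ((he0 k).val : ℤ)) (pt n) = -(Pi.single (pt 12) 8 : GolayPt → ℤ) (pt n) := by
        decide +kernel
      have := key _ (idx_lt p)
      rw [pt_idx] at this
      exact this)
    exact leechR.cls_eq_iff.2 ⟨-vec8 (pt 12), by rw [e]; abel⟩
  show g ∈ classStab (vec8 pinf) ↔ _
  rw [mem_classStab, co0_cls g hv8, hv8]

/-- An element centralising the element of order seven keeps the seven classes. -/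
theorem held_invariant {h : Co0} (hh : h ∈ heldH) {s : Fin 6 → ZMod 2} (hs : hFirst s) :
    ∃ t, hFirst t ∧ leechR.cls (h • hv s) = leechR.cls (hv t) := by
  have hreach : ∀ s, hFirst s → ∃ l ∈ heldReach1, hWordRed l he0 = s := by decide +kernel
  obtain ⟨l, -, hl⟩ := hreach s hs
  set g := h * hWord l
  have hg : g ∈ heldH := Subgroup.mul_mem _ hh (hWord_mem l)
  have hcomm := mem_heldH.1 hg
  have hgs : leechR.cls (h • hv s) = leechR.cls (g • hv he0) := by
    rw [mul_smul, co0_cls h (hWord_cls l he0), hl]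
  have hfix : leechR.cls (heldA • g • hv he0) = leechR.cls (g • hv he0) := by
    rw [← mul_smul, ← hcomm, mul_smul, show heldA • hv he0 = hv he0 from heldA_fix _]
  obtain ⟨t, ht⟩ := (held_cls_fixed _).1 hfix
  have h8 : hEight t := by
    refine (hv_norm8 t).1 ?_
    obtain ⟨w, hw, hwc⟩ := (hv_norm8 he0).2 (by decide)
    exact ⟨g • w, (co0_q g w).trans hw, (co0_cls g hwc).trans ht⟩
  rcases h8 with ⟨ht0, h8 | h8⟩
  · exfalso
    have hr : ∀ t : Fin 6 → ZMod 2, t ≠ 0 → t 0 = 0 → t 1 = 0 → t 2 = 0 →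
        ∃ l ∈ heldReach2, hWordRed l (hRed hEpsMat he0) = t := by decide +kernel
    obtain ⟨l2, -, hl2⟩ := hr t ht0 h8.1 h8.2.1 h8.2.2
    set k := hWord l2 * heldE
    have hk : leechR.cls (k • hv he0) = leechR.cls (hv t) := by
      rw [mul_smul, co0_cls _ (hActs_cls heldE_acts he0), hWord_cls, hl2]
    set n := k⁻¹ * g
    have hn : n ∈ N0 := by
      rw [mem_N0_cls, mul_smul, co0_cls k⁻¹ (ht.trans hk.symm), inv_smul_smul]
    have hinv : n * heldA = heldA⁻¹ * n := by
      have hw2 := mem_heldH.1 (hWord_mem l2)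
      have hk' : k * heldA⁻¹ = heldA * k := by
        show hWord l2 * heldE * heldA⁻¹ = _
        rw [mul_assoc, show heldE * heldA⁻¹ = heldA * heldE by
          rw [← heldE_inv, ← mul_assoc, ← mul_assoc, heldE_sq, one_mul], ← mul_assoc, hw2, mul_assoc]
      calc k⁻¹ * g * heldA = k⁻¹ * (g * heldA) := mul_assoc _ _ _
        _ = k⁻¹ * (heldA * g) := by rw [hcomm]
        _ = k⁻¹ * (k * heldA⁻¹ * k⁻¹) * g := by rw [hk']; group
        _ = heldA⁻¹ * (k⁻¹ * g) := by group
    apply seven_no_inverter (permPart ⟨n, hn⟩)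
    rw [← permPart_heldA, ← map_inv, ← map_mul, ← map_mul]
    exact congrArg permPart (Subtype.ext hinv)
  · exact ⟨t, ⟨ht0, h8⟩, hgs.trans ht⟩

/-- The elements of the centraliser in the monomial group. -/
theorem held_card_K0 : Nat.card ↥(heldH ⊓ N0) ≤ 336 := by
  have hfix : ∀ k < 4096, mimg sSeven (enc k) = enc k →
      enc k ∈ [0, 8536111, 832080, 9368191, 7409024, 15945135, 8241104, 16777215] := by decide +kernel
  have hrep : ∀ g : ↥(heldH ⊓ N0), ∃ (τ : ↥(commFix [] sSevenPows)) (i : Fin 8) (hc : _),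
      (g : Co0) = monoCo0 τ.1 (fixMasks_le _ τ.2.1)
        (mset ([0, 8536111, 832080, 9368191, 7409024, 15945135, 8241104, 16777215].getD i 0)) hc := by
    intro g
    obtain ⟨τ, c, hc, e⟩ := N0_rep (Subgroup.mem_inf.1 g.2).2
    have h := mem_heldH.1 (Subgroup.mem_inf.1 g.2).1
    rw [e, show heldA = monoCo0 sev sev.2 ∅ empty_code from rfl, monoCo0_mul, monoCo0_mul] at h
    obtain ⟨h1, h2⟩ := monoCo0_inj h
    have h1' : τ * sev = sev * τ := Subtype.ext h1
    have hsc : permOf sSeven • c = c := by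
      rw [Finset.smul_finset_empty, ← Finset.bot_eq_empty, symmDiff_bot, bot_symmDiff] at h2
      exact h2.symm
    obtain ⟨m, hm, hmc⟩ := mem_supports_iff.1 hc
    rw [← hmc, smul_mset sSeven_valid] at hsc
    have hm2 := mset_inj (mimg_lt sSeven_valid m) (isCode_lt hm) hsc
    have hl : m ∈ [0, 8536111, 832080, 9368191, 7409024, 15945135, 8241104, 16777215] := by
      have := hfix (m % 4096) (Nat.mod_lt _ (by norm_num))
      rw [isCode_iff.1 hm] at this
      exact this hm2
    obtain ⟨i, hi, him⟩ := List.getElem_of_mem hl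
    refine ⟨⟨τ, mem_commSeven.2 h1'⟩, ⟨i, hi⟩, ?_, ?_⟩
    · rw [List.getD_eq_getElem _ _ hi, him, hmc]; exact hc
    · rw [e]; congr 1; rw [List.getD_eq_getElem _ _ hi, him, hmc]
  choose τ i hc he using hrep
  refine (Nat.card_le_card_of_injective (fun g => (τ g, i g)) fun a b hab => ?_).trans ?_
  · obtain ⟨h1, h2⟩ := Prod.mk.injEq _ _ _ _ ▸ hab
    refine Subtype.ext ((he a).trans (Eq.trans ?_ (he b).symm))
    congr 1
    · rw [h1]
    · rw [h2]
  · rw [Nat.card_prod, card_comm_sSeven, Nat.card_eq_fintype_card, Fintype.card_fin]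

/-- The first three coordinates. -/
def hEmb (j : Fin 3) : Fin 6 → ZMod 2 := Pi.single (j.castLE (by norm_num)) 1

/-- The combination of the three classes. -/
def hComb (x : Fin 3 → ZMod 2) : Fin 6 → ZMod 2 :=
  fun k => if hk : k.val < 3 then x ⟨k.val, hk⟩ else 0

/-- The structure of the centraliser. -/
theorem held_centralizer : ∃ φ : heldH →* Matrix.SpecialLinearGroup (Fin 3) (ZMod 2),
    Function.Surjective φ ∧
    (∀ h : heldH, φ h = 1 → ∃ i < 7, (h : Co0) = heldA ^ i ∨ (h : Co0) = negCo0 * heldA ^ i) ∧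
    (∀ h : heldH, φ h ≠ 1 → ∃ s, leechR.cls ((h : Co0) • hv s) ≠ leechR.cls (hv s)) ∧
    (∀ h : heldH, ((h : Co0) = negCo0 ∨ (h : Co0) = heldA) → φ h = 1) := by
  classical
  have hEmb_first : ∀ j, hFirst (hEmb j) := by decide +kernel
  have ex : ∀ (h : heldH) (j : Fin 3), ∃ t, hFirst t ∧
      leechR.cls ((h : Co0) • hv (hEmb j)) = leechR.cls (hv t) := fun h j =>
    held_invariant h.2 (hEmb_first j)
  choose T hT1 hT2 using ex
  let mat : heldH → Matrix (Fin 3) (Fin 3) (ZMod 2) := fun h i j => T h j (i.castLE (by norm_num))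
  have hTcomb : ∀ h j, T h j = hComb fun i => mat h i j := by
    intro h j
    have key : ∀ t : Fin 6 → ZMod 2, hFirst t → t = hComb fun i => t (i.castLE (by norm_num)) := by
      decide +kernel
    exact key _ (hT1 h j)
  have hlin : ∀ (h : heldH) (x : Fin 3 → ZMod 2),
      leechR.cls ((h : Co0) • hv (hComb x)) = leechR.cls (hv (hComb ((mat h).mulVec x))) := by
    intro h
    have hadd : ∀ {s t a b : Fin 6 → ZMod 2}, leechR.cls ((h : Co0) • hv s) = leechR.cls (hv a) →
        leechR.cls ((h : Co0) • hv t) = leechR.cls (hv b) →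
        leechR.cls ((h : Co0) • hv (s + t)) = leechR.cls (hv (a + b)) := by
      intro s t a b ha hb
      rw [co0_cls _ (hv_add s t), co0_add, hv_add]
      obtain ⟨z, hz⟩ := leechR.cls_eq_iff.1 ha
      obtain ⟨u, hu⟩ := leechR.cls_eq_iff.1 hb
      exact leechR.cls_eq_iff.2 ⟨z + u, by rw [hz, hu]; abel⟩
    have h0 : leechR.cls ((h : Co0) • hv 0) = leechR.cls (hv 0) := by rw [hv_zero, co0_zero]
    have hscal : ∀ (c : ZMod 2) (j : Fin 3),
        leechR.cls ((h : Co0) • hv (c • hEmb j)) = leechR.cls (hv (c • T h j)) := by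
      intro c j
      rcases (show ∀ c : ZMod 2, c = 0 ∨ c = 1 by decide) c with rfl | rfl
      · simpa using h0
      · simpa using hT2 h j
    intro x
    have e1 : hComb x = x 0 • hEmb 0 + x 1 • hEmb 1 + x 2 • hEmb 2 := by
      revert x; decide +kernel
    have e2 : ∀ (M : Matrix (Fin 3) (Fin 3) (ZMod 2)) (x : Fin 3 → ZMod 2), hComb (M.mulVec x) =
        x 0 • hComb (fun i => M i 0) + x 1 • hComb (fun i => M i 1) + x 2 • hComb (fun i => M i 2) := by
      intro M x
      funext k
      simp only [hComb, Matrix.mulVec, dotProduct, Fin.sum_univ_three, Pi.add_apply, Pi.smul_apply,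
        smul_eq_mul]
      split_ifs <;> ring
    rw [e1, e2, ← hTcomb, ← hTcomb, ← hTcomb]
    exact hadd (hadd (hscal _ 0) (hscal _ 1)) (hscal _ 2)
  have hComb_inj : Function.Injective hComb := by
    intro x y h
    funext i
    have := congrFun h (i.castLE (by norm_num))
    simpa [hComb] using this
  have huniq : ∀ (h : heldH) (M : Matrix (Fin 3) (Fin 3) (ZMod 2)),
      (∀ j, leechR.cls ((h : Co0) • hv (hEmb j)) = leechR.cls (hv (hComb fun i => M i j))) →
      mat h = M := by
    intro h M hM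
    funext i j
    have := hv_inj ((hT2 h j).symm.trans (hM j))
    rw [hTcomb] at this
    exact congrFun (hComb_inj this) i
  have hembc : ∀ j, hEmb j = hComb (Pi.single j 1) := by decide +kernel
  have hmul : ∀ a b, mat (a * b) = mat a * mat b := fun a b => huniq _ _ fun j => by
    rw [Subgroup.coe_mul, mul_smul, co0_cls _ (hT2 b j), hTcomb, hlin]
    rfl
  have hone : mat 1 = 1 := huniq _ _ fun j => by
    rw [Subgroup.coe_one, one_smul, hembc]
    congr 3
    funext i
    simp [Matrix.one_apply, Pi.single_apply]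
  have hdet : ∀ h, (mat h).det = 1 := fun h => by
    have h1 : (mat h).det * (mat h⁻¹).det = 1 := by rw [← Matrix.det_mul, ← hmul, mul_inv_cancel, hone, Matrix.det_one]
    revert h1
    generalize (mat h).det = a; generalize (mat h⁻¹).det = b
    revert a b; decide
  let φ : heldH →* Matrix.SpecialLinearGroup (Fin 3) (ZMod 2) :=
    MonoidHom.mk' (fun h => ⟨mat h, hdet h⟩) fun a b => Subtype.ext (hmul a b)
  -- the images of the words
  let wm : List ℕ → Fin 3 → Fin 3 → ZMod 2 := fun l i j => hWordRed l (hEmb j) (i.castLE (by norm_num))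
  have hwm : ∀ l, ∀ j, mat ⟨hWord l, hWord_mem l⟩ j = wm l j := fun l i => by
    funext j
    have h := hv_inj ((hT2 ⟨hWord l, hWord_mem l⟩ j).symm.trans (hWord_cls l (hEmb j)))
    show T _ j _ = _
    rw [h]
  let wl : List (List ℕ) := heldReach1.flatMap fun r => heldStabWords.map fun w => r ++ w
  have hnd : (wl.map wm).Nodup ∧ (wl.map wm).length = 168 := by decide +kernel
  have hnd24 : (heldStabWords.map wm).Nodup ∧ heldStabWords.length = 24 ∧
      ∀ w ∈ heldStabWords, hWordRed w he0 = he0 := by decide +kernel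
  have hSL : Fintype.card (Matrix.SpecialLinearGroup (Fin 3) (ZMod 2)) = 168 := by decide +kernel
  have hget : ∀ k : Fin 168, k.val < wl.length := fun k => by
    have := hnd.2; rw [List.length_map] at this; rw [this]; exact k.2
  have hφ : Function.Surjective φ := by
    let F : Fin 168 → Matrix.SpecialLinearGroup (Fin 3) (ZMod 2) := fun k =>
      φ ⟨hWord (wl[k.val]'(hget k)), hWord_mem _⟩
    have hF : Function.Injective F := fun a b hab => by
      have h' : wm (wl[a.val]'(hget a)) = wm (wl[b.val]'(hget b)) := by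
        funext i; rw [← hwm, ← hwm]
        exact congrArg (fun g : Matrix.SpecialLinearGroup (Fin 3) (ZMod 2) => (Subtype.val g) i) hab
      exact Fin.ext ((hnd.1.getElem_inj_iff (hi := by rw [List.length_map]; exact hget a)
        (hj := by rw [List.length_map]; exact hget b)).1 (by simpa using h'))
    have hb := (Fintype.bijective_iff_injective_and_card F).2 ⟨hF, by rw [hSL, Fintype.card_fin]⟩
    intro g
    obtain ⟨k, hk⟩ := hb.2 g
    exact ⟨_, hk⟩
  have hker : ∀ h : heldH, φ h = 1 → ∀ s, hFirst s →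
      leechR.cls ((h : Co0) • hv s) = leechR.cls (hv s) := by
    intro h hh s hs
    have hm : mat h = 1 := congrArg Subtype.val hh
    have : ∀ s : Fin 6 → ZMod 2, hFirst s → s = hComb fun i => s (i.castLE (by norm_num)) := by
      decide +kernel
    rw [this s hs, hlin, hm, Matrix.one_mulVec]
  have hkc : ∀ h : heldH, ((h : Co0) = negCo0 ∨ (h : Co0) = heldA) → φ h = 1 := by
    intro h hh
    refine Subtype.ext (huniq h 1 fun j => ?_)
    have e : hComb (fun i => (1 : Matrix (Fin 3) (Fin 3) (ZMod 2)) i j) = hEmb j := by revert j; decide +kernel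
    rw [e]
    rcases hh with hh | hh <;> rw [hh]
    · rw [negCo0_smul]; exact leechR.cls_eq_iff.2 ⟨-hv (hEmb j), by abel⟩
    · rw [show heldA • hv (hEmb j) = hv (hEmb j) from heldA_fix _]
  refine ⟨φ, hφ, ?_, fun h hh => ?_, hkc⟩
  · -- the kernel has at most fourteen elements
    have hK : ∀ h : φ.ker, ((h : heldH) : Co0) ∈ N0 := fun h =>
      mem_N0_cls.2 (hker _ h.2 he0 (by decide))
    have hwN : ∀ w ∈ heldStabWords, hWord w ∈ N0 := fun w hw => by
      rw [mem_N0_cls, hWord_cls, hnd24.2.2 w hw]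
    let P : φ.ker × Fin 24 → ↥(heldH ⊓ N0) := fun p =>
      ⟨hWord (heldStabWords[p.2.val]'(by rw [hnd24.2.1]; exact p.2.2)) * ((p.1 : heldH) : Co0),
        Subgroup.mem_inf.2 ⟨Subgroup.mul_mem _ (hWord_mem _) (p.1 : heldH).2,
          Subgroup.mul_mem _ (hwN _ (List.getElem_mem _)) (hK p.1)⟩⟩
    have hP : Function.Injective P := by
      intro a b hab
      have h0 : (⟨hWord (heldStabWords[a.2.val]'(by rw [hnd24.2.1]; exact a.2.2)), hWord_mem _⟩ : heldH) * a.1 =
          (⟨hWord (heldStabWords[b.2.val]'(by rw [hnd24.2.1]; exact b.2.2)), hWord_mem _⟩ : heldH) * b.1 :=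
        Subtype.ext (congrArg (fun g : ↥(heldH ⊓ N0) => (g : Co0)) hab)
      have h1 := congrArg φ h0
      rw [map_mul, map_mul, MonoidHom.mem_ker.1 a.1.2, MonoidHom.mem_ker.1 b.1.2, mul_one, mul_one] at h1
      have h' : wm (heldStabWords[a.2.val]'(by rw [hnd24.2.1]; exact a.2.2)) =
          wm (heldStabWords[b.2.val]'(by rw [hnd24.2.1]; exact b.2.2)) := by
        funext i; rw [← hwm, ← hwm]
        exact congrArg (fun g : Matrix.SpecialLinearGroup (Fin 3) (ZMod 2) => (Subtype.val g) i) h1
      have h2 : a.2 = b.2 := Fin.ext ((hnd24.1.getElem_inj_iff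
        (hi := by rw [List.length_map, hnd24.2.1]; exact a.2.2)
        (hj := by rw [List.length_map, hnd24.2.1]; exact b.2.2)).1 (by simpa using h'))
      obtain ⟨a1, a2⟩ := a
      obtain ⟨b1, b2⟩ := b
      simp only at h2 h0
      subst h2
      rw [Subtype.ext (mul_left_cancel h0)]
    have hle : Nat.card φ.ker ≤ 14 := by
      have := (Nat.card_le_card_of_injective P hP).trans held_card_K0
      rw [Nat.card_prod, Nat.card_eq_fintype_card (α := Fin 24), Fintype.card_fin] at this
      omega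
    have hA : heldA ∈ heldH := mem_heldH.2 rfl
    have hN : negCo0 ∈ heldH := mem_heldH.2 (Subgroup.mem_center_iff.1 negCo0_central heldA).symm
    have hmemA : (⟨heldA, hA⟩ : heldH) ∈ φ.ker := hkc _ (Or.inr rfl)
    have hmemN : (⟨negCo0, hN⟩ : heldH) ∈ φ.ker := hkc _ (Or.inl rfl)
    let R : Fin 2 × Fin 7 → φ.ker := fun p =>
      ⟨⟨negCo0, hN⟩ ^ p.1.val * ⟨heldA, hA⟩ ^ p.2.val,
        Subgroup.mul_mem _ (Subgroup.pow_mem _ hmemN _) (Subgroup.pow_mem _ hmemA _)⟩
    have hR : Function.Injective R := by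
      rintro ⟨a, i⟩ ⟨b, j⟩ hab
      have h' : negCo0 ^ a.val * heldA ^ i.val = negCo0 ^ b.val * heldA ^ j.val :=
        congrArg (fun g : φ.ker => ((g : heldH) : Co0)) hab
      have hc : Commute negCo0 heldA := (Subgroup.mem_center_iff.1 negCo0_central heldA).symm
      have h7 := congrArg (· ^ 7) h'
      simp only [(hc.pow_pow _ _).mul_pow, ← pow_mul, Nat.mul_comm _ 7] at h7
      simp only [pow_mul, heldA_pow_seven, one_pow, mul_one] at h7
      have hab' : a = b := by
        have hn7 : negCo0 ^ 7 = negCo0 := by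
          simp [pow_succ, negCo0_sq]
        rw [hn7] at h7
        fin_cases a <;> fin_cases b <;> first | rfl | (exfalso; simp at h7; exact negCo0_ne_one (by simpa using h7.symm)) | (exfalso; simp at h7; exact negCo0_ne_one (by simpa using h7))
      subst hab'
      have h1 := mul_left_cancel h'
      rw [pow_eq_pow_iff_modEq, orderOf_heldA] at h1
      exact Prod.ext rfl (Fin.ext (by
        have := i.2; have := j.2
        unfold Nat.ModEq at h1
        rwa [Nat.mod_eq_of_lt i.2, Nat.mod_eq_of_lt j.2] at h1))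
    have hcard : Nat.card φ.ker ≤ Nat.card (Fin 2 × Fin 7) := hle.trans (by simp)
    have hs := (hR.bijective_of_nat_card_le hcard).2
    intro h hh
    obtain ⟨⟨a, i⟩, hai⟩ := hs ⟨h, hh⟩
    have he : negCo0 ^ a.val * heldA ^ i.val = (h : Co0) :=
      congrArg (fun g : φ.ker => ((g : heldH) : Co0)) hai
    refine ⟨i.val, i.2, ?_⟩
    fin_cases a
    · left; simpa using he.symm
    · right; simpa using he.symm
  · by_contra hall
    push Not at hall
    refine hh (Subtype.ext (huniq h 1 fun j => ?_))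
    have e : hComb (fun i => (1 : Matrix (Fin 3) (Fin 3) (ZMod 2)) i j) = hEmb j := by revert j; decide +kernel
    rw [e]
    exact hall (hEmb j)

/-- Some element of `Co0` maps the element of order seven to any given non-trivial power. -/
theorem held_conj_power (k : ℕ) (hk : k % 7 ≠ 0) : ∃ g : Co0, g * heldA * g⁻¹ = heldA ^ k := by
  set n := monoCo0 (nSev : M24) nSev.2 ∅ empty_code
  have h2 : SemiconjBy n heldA (heldA ^ 2) := by
    show n * heldA = heldA ^ 2 * n
    rw [pow_two]
    show n * monoCo0 sev sev.2 ∅ empty_code = monoCo0 sev sev.2 ∅ empty_code * monoCo0 sev sev.2 ∅ empty_code * n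
    simp only [monoCo0_mul, n]
    congr 1
    rw [nSev_conj, pow_two]
  have h4 : SemiconjBy (n * n) heldA (heldA ^ 4) := by
    have := (h2.pow_right 2).mul_left h2
    rwa [← pow_mul] at this
  have h6 : SemiconjBy heldE heldA (heldA ^ 6) := by
    show heldE * heldA = heldA ^ 6 * heldE
    rw [show heldA ^ 6 = heldA⁻¹ by rw [eq_inv_iff_mul_eq_one, ← pow_succ, heldA_pow_seven],
      ← heldE_inv, mul_assoc, heldE_sq, mul_one]
  have red : ∀ i, heldA ^ i = heldA ^ (i % 7) := fun i => by
    conv_lhs => rw [← Nat.mod_add_div i 7, pow_add, pow_mul, heldA_pow_seven, one_pow, mul_one]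
  have done : ∀ g i, SemiconjBy g heldA (heldA ^ i) → i % 7 = k % 7 → g * heldA * g⁻¹ = heldA ^ k :=
    fun g i hg hi => by rw [hg.eq, mul_inv_cancel_right, red i, hi, ← red k]
  have h12 : SemiconjBy (heldE * n) heldA (heldA ^ 12) := by
    have := (h6.pow_right 2).mul_left h2
    rwa [← pow_mul] at this
  have h24 : SemiconjBy (heldE * (n * n)) heldA (heldA ^ 24) := by
    have := (h6.pow_right 4).mul_left h4
    rwa [← pow_mul] at this
  have hlt := Nat.mod_lt k (show 7 > 0 by norm_num)
  interval_cases hj : k % 7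
  · exact absurd rfl hk
  · exact ⟨1, done 1 1 (by simp) (by norm_num)⟩
  · exact ⟨n, done _ 2 h2 (by norm_num)⟩
  · exact ⟨_, done _ 24 h24 (by norm_num)⟩
  · exact ⟨_, done _ 4 h4 (by norm_num)⟩
  · exact ⟨_, done _ 12 h12 (by norm_num)⟩
  · exact ⟨_, done _ 6 h6 (by norm_num)⟩

end CfsgLib.Trans3
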