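import Cfsg.Prelude.Def_MonsterType
import Cfsg.Agent.Lib.Comp.FStar
import Cfsg.Agent.Lib.Solvable.Fitting
import Cfsg.Agent.Lib.Solvable.Nilpotent
import Cfsg.Agent.Lib.Trans3.ExtraAbelian

/-!
# A group of Held type has trivial Fitting subgroup
-/

set_option autoImplicit false

namespace CfsgLib.Trans3

open Cfsg
open scoped commutatorElement

variable {X : Type*} [Group X] [Finite X]

/-- An abelian normal subgroup of a group of Held type is trivial. -/
theorem heldType_abelian_normal (hX : IsOfHeldType X) (A : Subgroup X) [A.Normal]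
    (hA : A ≤ Subgroup.centralizer (A : Set X)) : A = ⊥ := by
  obtain ⟨z, R, hRn, ⟨hz, hF, hE, hcard, g, ⟨hq, hqR⟩, hne⟩, -, h29⟩ := hX
  haveI := hRn
  have hz1 : z ≠ 1 := fun h => by rw [h, orderOf_one] at hz; omega
  have hzz : z * z = 1 := by rw [← pow_two, ← hz, pow_orderOf_eq_one]
  have hzD : z ∈ (Subgroup.centralizer ({z} : Set X)) := Subgroup.mem_centralizer_singleton_iff.2 rfl
  let zd : (Subgroup.centralizer ({z} : Set X)) := ⟨z, hzD⟩
  have hzc : zd ∈ Subgroup.center (Subgroup.centralizer ({z} : Set X)) := Subgroup.mem_center_iff.2 fun d =>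
    Subtype.ext (Subgroup.mem_centralizer_singleton_iff.1 d.2)
  -- normal abelian subgroups of `(Subgroup.centralizer ({z} : Set X))` lie in `R`
  have hab : ∀ B : Subgroup (Subgroup.centralizer ({z} : Set X)), B.Normal → B ≤ Subgroup.centralizer (B : Set (Subgroup.centralizer ({z} : Set X))) → B ≤ R := by
    intro B hB hBc
    rw [← hF]
    exact (CfsgLib.Comp.le_fittingSubgroup_of_abelian hB.isSubnormal hBc).trans le_sup_right
  have hzR : zd ∈ R :=
    hab (Subgroup.center (Subgroup.centralizer ({z} : Set X))) inferInstance (Subgroup.center_le_centralizer _) hzc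
  have hcen2 : Nat.card (Subgroup.center R) = 2 := hE.2
  have hzdR : (⟨zd, hzR⟩ : R) ∈ Subgroup.center R := Subgroup.mem_center_iff.2 fun r =>
    Subtype.ext (Subgroup.mem_center_iff.1 hzc (r : (Subgroup.centralizer ({z} : Set X))))
  have hcen : ∀ r : R, r ∈ Subgroup.center R → r = 1 ∨ r = ⟨zd, hzR⟩ := by
    intro r hr
    by_contra hc
    push Not at hc
    have h1 : (⟨zd, hzR⟩ : R) ≠ 1 := fun h => hz1 (congrArg (fun r : R => ((r : (Subgroup.centralizer ({z} : Set X))) : X)) h)
    obtain ⟨a, b, -, hall⟩ := Nat.card_eq_two_iff.1 hcen2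
    have hm : ∀ c : Subgroup.center R, c = a ∨ c = b := fun c => by
      have := hall ▸ Set.mem_univ c
      simpa using this
    rcases hm ⟨r, hr⟩ with e1 | e1 <;> rcases hm ⟨⟨zd, hzR⟩, hzdR⟩ with e2 | e2 <;>
      rcases hm 1 with e3 | e3 <;>
      first
        | exact hc.2 (congrArg Subtype.val (e1.trans e2.symm))
        | exact hc.1 (congrArg Subtype.val (e1.trans e3.symm))
        | exact h1 (congrArg Subtype.val (e2.trans e3.symm))
  -- the part of `A` in the centralizer
  set B := A.subgroupOf (Subgroup.centralizer ({z} : Set X))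
  have hBR : B ≤ R := hab B inferInstance fun a ha => Subgroup.mem_centralizer_iff.2 fun c hc =>
    Subtype.ext (Subgroup.mem_centralizer_iff.1 (hA ha) c hc)
  by_cases hB : B = ⊥
  · -- `z` inverts `A`
    have hinv : ∀ w : X, (∃ y, y * z * y⁻¹ = w) → ∀ a ∈ A, w * a * w⁻¹ = a⁻¹ := by
      rintro w ⟨y, rfl⟩ a ha
      set w := y * z * y⁻¹
      let φ : A →* A := MonoidHom.mk' (fun c => ⟨w * c * w⁻¹, (inferInstance : A.Normal).conj_mem _ c.2 w⟩)
        fun c d => Subtype.ext (by simp [mul_assoc])
      have hfpf : MonoidHom.FixedPointFree φ := fun c hc => by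
        have hc' : w * c * w⁻¹ = c := congrArg Subtype.val hc
        have hm : (⟨y⁻¹ * c * y, Subgroup.mem_centralizer_singleton_iff.2 (by
            calc y⁻¹ * c * y * z = y⁻¹ * ((c : X) * w) * y := by simp only [w]; group
              _ = y⁻¹ * (w * c) * y := by rw [mul_inv_eq_iff_eq_mul.1 hc']
              _ = z * (y⁻¹ * c * y) := by simp only [w]; group)⟩ : (Subgroup.centralizer ({z} : Set X))) ∈ B :=
          Subgroup.mem_subgroupOf.2 (by simpa using (inferInstance : A.Normal).conj_mem _ c.2 y⁻¹)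
        rw [hB, Subgroup.mem_bot] at hm
        have hm' : y⁻¹ * c * y = 1 := congrArg Subtype.val hm
        refine Subtype.ext ?_
        calc (c : X) = y * (y⁻¹ * c * y) * y⁻¹ := by group
          _ = 1 := by rw [hm']; group
      have hinvol : Function.Involutive φ := fun c => Subtype.ext (by
        show w * (w * c * w⁻¹) * w⁻¹ = c
        have hw : w * w = 1 := by
          calc y * z * y⁻¹ * (y * z * y⁻¹) = y * (z * z) * y⁻¹ := by group
            _ = 1 := by rw [hzz]; group
        calc w * (w * c * w⁻¹) * w⁻¹ = (w * w) * c * (w * w)⁻¹ := by group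
          _ = c := by rw [hw]; group)
      have := congrFun (hfpf.coe_eq_inv_of_involutive hinvol) ⟨a, ha⟩
      exact congrArg Subtype.val this
    -- a conjugate `s` and its product with `z`
    let sd : (Subgroup.centralizer ({z} : Set X)) := ⟨g * z * g⁻¹, hq⟩
    obtain ⟨q, hqs⟩ : ∃ q : R, q * ⟨sd, hqR⟩ ≠ ⟨sd, hqR⟩ * q := by
      by_contra hc
      push Not at hc
      rcases hcen _ (Subgroup.mem_center_iff.2 hc) with h | h
      · have h' : g * z * g⁻¹ = 1 := congrArg (fun r : R => ((r : (Subgroup.centralizer ({z} : Set X))) : X)) h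
        exact hz1 (conj_eq_one_iff.1 h')
      · exact hne (congrArg (fun r : R => ((r : (Subgroup.centralizer ({z} : Set X))) : X)) h)
    have hqv : ((q : (Subgroup.centralizer ({z} : Set X))) : X) * (g * z * g⁻¹) * ((q : (Subgroup.centralizer ({z} : Set X))) : X)⁻¹ = z * (g * z * g⁻¹) := by
      rcases hcen _ (CfsgLib.Transfer.special_commutatorElement_mem_center hE.1 q ⟨sd, hqR⟩) with h | h
      · exact absurd (commutatorElement_eq_one_iff_mul_comm.1 h) hqs
      · have h' : ((q : (Subgroup.centralizer ({z} : Set X))) : X) * (g * z * g⁻¹) * ((q : (Subgroup.centralizer ({z} : Set X))) : X)⁻¹ * (g * z * g⁻¹)⁻¹ = z :=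
          congrArg (fun r : R => ((r : (Subgroup.centralizer ({z} : Set X))) : X)) h
        exact mul_inv_eq_iff_eq_mul.1 h'
    rw [eq_bot_iff]
    intro a ha
    have h1 := hinv z ⟨1, by group⟩
    have h2 := hinv _ ⟨g, rfl⟩
    have h3 : z * (g * z * g⁻¹) * a * (z * (g * z * g⁻¹))⁻¹ = a⁻¹ := by
      refine hinv _ ⟨((q : (Subgroup.centralizer ({z} : Set X))) : X) * g, ?_⟩ a ha
      rw [← hqv]; group
    have h4 : z * (g * z * g⁻¹) * a * (z * (g * z * g⁻¹))⁻¹ = a := by
      calc _ = z * ((g * z * g⁻¹) * a * (g * z * g⁻¹)⁻¹) * z⁻¹ := by group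
        _ = a := by rw [h2 a ha, h1 _ (A.inv_mem ha), inv_inv]
    have h5 : a⁻¹ = a := h3.symm.trans h4
    have hm : (⟨a, Subgroup.mem_centralizer_singleton_iff.2 (by
      have := h1 a ha
      rw [h5] at this
      exact (mul_inv_eq_iff_eq_mul.1 this).symm)⟩ : (Subgroup.centralizer ({z} : Set X))) ∈ B := Subgroup.mem_subgroupOf.2 ha
    rw [hB, Subgroup.mem_bot] at hm
    exact Subgroup.mem_bot.2 (congrArg Subtype.val hm)
  · exfalso
    -- `A` contains `z`
    have hzA : z ∈ A := by
      haveI : Fact (Nat.Prime 2) := ⟨Nat.prime_two⟩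
      have hRp : IsPGroup 2 R := IsPGroup.of_card hcard
      have hnt : Nontrivial ↥(B.subgroupOf R) := by
        rw [Subgroup.nontrivial_iff_ne_bot, Ne, Subgroup.subgroupOf_eq_bot, disjoint_iff, inf_eq_left.2 hBR]
        exact hB
      haveI : Group.IsNilpotent R := hRp.isNilpotent
      obtain ⟨c, hc1, hc2⟩ : ∃ c ∈ B.subgroupOf R, c ∈ Subgroup.center R ∧ c ≠ 1 := by
        obtain ⟨c, hc⟩ := Subgroup.ne_bot_iff_exists_ne_one.1
          (CfsgLib.Solvable.normal_inf_center_ne_bot (B.subgroupOf R)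
            ((Subgroup.nontrivial_iff_ne_bot _).1 hnt))
        exact ⟨c, c.2.1, c.2.2, fun h => hc (Subtype.ext h)⟩
      rcases hcen c hc2.1 with h | h
      · exact absurd h hc2.2
      · rw [h] at hc1
        exact hc1
    have hsub : {x : (Subgroup.centralizer ({z} : Set X)) | x ∈ R ∧ IsConj z (x : X)} ⊆ (fun r : R => (r : (Subgroup.centralizer ({z} : Set X)))) '' (B.subgroupOf R : Set R) := by
      rintro x ⟨hx, hxc⟩
      refine ⟨⟨x, hx⟩, ?_, rfl⟩
      obtain ⟨y, hy⟩ := isConj_iff.1 hxc
      show (x : X) ∈ A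
      rw [← hy]
      exact (inferInstance : A.Normal).conj_mem _ hzA y
    have h1 := Set.ncard_le_ncard hsub (Set.toFinite _)
    rw [h29, Set.ncard_image_of_injective _ Subtype.val_injective, Nat.card_coe_set_eq (B.subgroupOf R : Set R) |>.symm] at h1
    have h2 := ex_abelian_sq_le hE (B.subgroupOf R) fun x hx y hy => Subtype.ext (Subtype.ext
      (Subgroup.mem_centralizer_iff.1 (hA hy) _ hx))
    rw [hcard] at h2
    have h3 := Nat.mul_le_mul h1 h1
    simp only [SetLike.coe_sort_coe] at h3
    rw [← pow_two, ← pow_two] at h3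
    norm_num at h2 h3
    omega

/-- A group of Held type has trivial Fitting subgroup. -/
theorem heldType_fitting (hX : IsOfHeldType X) : fittingSubgroup X = ⊥ := by
  haveI := CfsgLib.Comp.generalizedFittingSubgroup_normal X
  haveI hn : (fittingSubgroup X).Normal := CfsgLib.Solvable.fittingSubgroup_normal X
  haveI hnil := CfsgLib.Solvable.fittingSubgroup_isNilpotent (G := X)
  by_contra hne
  haveI := (Subgroup.nontrivial_iff_ne_bot _).2 hne
  haveI : Nontrivial (Subgroup.center (fittingSubgroup X)) :=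
    (Subgroup.nontrivial_iff_ne_bot _).2 (Group.IsNilpotent.center_ne_bot _)
  set A := (Subgroup.center (fittingSubgroup X)).map (fittingSubgroup X).subtype
  haveI : A.Normal := inferInstance
  have hA : A = ⊥ := heldType_abelian_normal hX A (by
    rintro _ ⟨a, ha, rfl⟩
    refine Subgroup.mem_centralizer_iff.2 ?_
    rintro _ ⟨c, hc, rfl⟩
    exact congrArg Subtype.val (Subgroup.mem_center_iff.1 ha c))
  obtain ⟨c, hc⟩ := Subgroup.ne_bot_iff_exists_ne_one.1
    (show Subgroup.center (fittingSubgroup X) ≠ ⊥ from (Subgroup.nontrivial_iff_ne_bot _).1 inferInstance)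
  apply hc
  have : ((c : fittingSubgroup X) : X) ∈ A := Subgroup.mem_map_of_mem _ c.2
  rw [hA, Subgroup.mem_bot] at this
  exact Subtype.ext (Subtype.ext this)

end CfsgLib.Trans3
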