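import Cfsg.Agent.Lib.Trans3.Structure

/-! A member of `D` normalising a Sylow 3-subgroup. -/

set_option autoImplicit false

namespace CfsgLib.Trans3

open Subgroup

/-- One step: an involution `d` normalising `A ⊔ P`, `A` elementary abelian, all of whose conjugates
in `dA` are `A`-conjugate to it, normalises an `A`-conjugate of the 3-group `P`. -/
theorem coset_fix {H : Type*} [Group H] [Finite H] (A : Subgroup H) [A.Normal]
    (hexp : ∀ x ∈ A, x * x = 1) (P : Subgroup H) (hP : IsPGroup 3 P) {d : H} (hd : d * d = 1)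
    (hnorm : d ∈ normalizer ((A ⊔ P : Subgroup H) : Set H))
    (hclass : ∀ h : H, h * d * h⁻¹ * d ∈ A → ∃ u ∈ A, h * d * h⁻¹ = u * d * u⁻¹) :
    ∃ b ∈ A, d ∈ normalizer ((P.map (MulAut.conj b).toMonoidHom : Subgroup H) : Set H) := by
  classical
  haveI : Fact (Nat.Prime 3) := ⟨Nat.prime_three⟩
  haveI : Fact (Nat.Prime 2) := ⟨Nat.prime_two⟩
  have hinv : ∀ x ∈ A, x⁻¹ = x := fun x hx => inv_eq_of_mul_eq_one_right (hexp x hx)
  have hcomm : ∀ x ∈ A, ∀ y ∈ A, x * y = y * x := fun x hx y hy => by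
    have := hinv _ (mul_mem hx hy)
    rw [mul_inv_rev, hinv x hx, hinv y hy] at this
    exact this.symm
  have hdinv : d⁻¹ = d := inv_eq_of_mul_eq_one_right hd
  have hA2 : IsPGroup 2 A := fun x => ⟨1, Subtype.ext (by simpa [pow_two] using hexp x x.2)⟩
  have hdA : ∀ x ∈ A, d * x * d ∈ A := fun x hx => by
    have := (inferInstance : A.Normal).conj_mem x hx d
    rwa [hdinv] at this
  have hdd : ∀ x, d * (d * x) = x := fun x => by rw [← mul_assoc, hd, one_mul]
  -- conjugacy of the two Sylow 3-subgroups of `A ⊔ P`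
  let S := A ⊔ P
  let P' := P.map (MulAut.conj d).toMonoidHom
  have hP'S : P' ≤ S := by
    rintro _ ⟨x, hx, rfl⟩
    exact (hnorm x).1 (mem_sup_right hx)
  have hnot : ∀ Q : Subgroup H, Q ≤ S → Nat.card Q = Nat.card P →
      ¬ 3 ∣ (Q.subgroupOf S).index := by
    intro Q hQ hcard h3
    have h1 : Nat.card S ∣ Nat.card A * Nat.card P := by
      have hn : P ≤ normalizer (A : Set H) := by
        rw [Subgroup.normalizer_eq_top A]; exact le_top
      exact CfsgLib.Comp.card_sup_dvd_mul hn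
    have h2 := (Q.subgroupOf S).card_mul_index
    rw [Nat.card_congr (Subgroup.subgroupOfEquivOfLe hQ).toEquiv, hcard] at h2
    have h4 : (Q.subgroupOf S).index ∣ Nat.card A := by
      have hpos : 0 < Nat.card P := Nat.card_pos
      refine Nat.dvd_of_mul_dvd_mul_left hpos ?_
      rw [h2, mul_comm]; exact h1
    obtain ⟨k, hk⟩ := IsPGroup.iff_card.1 hA2
    rw [hk] at h4
    exact absurd (Nat.prime_three.dvd_of_dvd_pow (h3.trans h4)) (by norm_num)
  have hcard' : Nat.card P' = Nat.card P :=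
    Nat.card_congr (P.equivMapOfInjective _ (MulAut.conj d).injective).toEquiv.symm
  have hPg : IsPGroup 3 (P.subgroupOf S) := hP.comap_subtype
  have hPg' : IsPGroup 3 (P'.subgroupOf S) := (hP.map _).comap_subtype
  let T := hPg.toSylow (hnot P le_sup_right rfl)
  let T' := hPg'.toSylow (hnot P' hP'S hcard')
  obtain ⟨⟨s, hs⟩, hsT⟩ := MulAction.exists_smul_eq S T T'
  obtain ⟨a, ha, q, hq, rfl⟩ := Subgroup.mem_sup_of_normal_left.1 hs
  have haP : ∀ x ∈ P, (a⁻¹ * d) * x * (a⁻¹ * d)⁻¹ ∈ P := by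
    intro x hx
    have hx' : (⟨d * x * d⁻¹, hP'S ⟨x, hx, rfl⟩⟩ : S) ∈ (T' : Subgroup S) := ⟨x, hx, rfl⟩
    rw [← hsT, Sylow.coe_subgroup_smul, Subgroup.mem_pointwise_smul_iff_inv_smul_mem] at hx'
    have h' : (a * q)⁻¹ * (d * x * d⁻¹) * (a * q) ∈ P := by
      have h0 : ((⟨a * q, hs⟩ : S)⁻¹ * ⟨d * x * d⁻¹, hP'S ⟨x, hx, rfl⟩⟩ * ⟨a * q, hs⟩ : S) ∈
          P.subgroupOf S := by
        have h1 := hx'
        simp only [MulAut.smul_def, MulAut.conj_inv_apply] at h1
        rw [show (T : Subgroup S) = P.subgroupOf S from rfl] at h1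
        simpa [mul_assoc] using h1
      exact h0
    have h'' := mul_mem (mul_mem hq h') (inv_mem hq)
    convert h'' using 1
    group
  set n := a⁻¹ * d with hn
  have hnP : n ∈ normalizer (P : Set H) := by
    rw [← CfsgLib.Comp.map_conj_eq_iff]
    refine eq_of_le_of_card_ge (by rintro _ ⟨x, hx, rfl⟩; exact haP x hx) ?_
    exact (Nat.card_congr (P.equivMapOfInjective _ (MulAut.conj n).injective).toEquiv).le
  -- `z = a * d a d` is central on `P`
  have hz : a * (d * a * d) ∈ A := mul_mem ha (hdA a ha)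
  have hdisj : ∀ x ∈ A, x ∈ P → x = 1 := by
    intro x hxA hxP
    obtain ⟨k, hk⟩ := hP ⟨x, hxP⟩
    have hk' : x ^ 3 ^ k = 1 := by simpa using congrArg Subtype.val hk
    have h2 : x ^ 2 = 1 := by rw [pow_two]; exact hexp x hxA
    exact orderOf_eq_one_iff.1 (Nat.eq_one_of_dvd_coprimes
      (Nat.Coprime.pow_left k (by norm_num : Nat.Coprime 3 2))
      (orderOf_dvd_of_pow_eq_one hk') (orderOf_dvd_of_pow_eq_one h2))
  have hn2 : n * n = a * (d * a * d) := by
    rw [hn, hinv a ha]; group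
  have hzP : ∀ g ∈ P, Commute (a * (d * a * d)) g := by
    intro g hg
    have hnn : a * (d * a * d) ∈ normalizer (P : Set H) := by rw [← hn2]; exact mul_mem hnP hnP
    have h1 : a * (d * a * d) * g * (a * (d * a * d))⁻¹ * g⁻¹ = 1 := by
      refine hdisj _ ?_ (mul_mem ((hnn g).1 hg) (inv_mem hg))
      rw [show a * (d * a * d) * g * (a * (d * a * d))⁻¹ * g⁻¹ =
        a * (d * a * d) * (g * (a * (d * a * d))⁻¹ * g⁻¹) by group]
      exact mul_mem hz ((inferInstance : A.Normal).conj_mem _ (inv_mem hz) g)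
    exact mul_inv_eq_iff_eq_mul.1 (mul_inv_eq_one.1 h1)
  letI : CommGroup A := { mul_comm := fun x y => Subtype.ext (hcomm x x.2 y y.2) }
  let ψ : A →* A := MonoidHom.mk' (fun u => ⟨u * (d * u * d), mul_mem u.2 (hdA u u.2)⟩)
    (fun u v => Subtype.ext (by
      show (u : H) * v * (d * (u * v) * d) = u * (d * u * d) * (v * (d * v * d))
      rw [show d * ((u : H) * v) * d = (d * u * d) * (d * v * d) by
        simp only [mul_assoc, hdd]]
      rw [mul_assoc, ← mul_assoc (v : H), hcomm v v.2 _ (hdA u u.2)]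
      group))
  let φ := QuotientGroup.mk' ψ.range
  let f : P → A := fun g => ⟨g * a * (g : H)⁻¹, (inferInstance : A.Normal).conj_mem a ha g⟩
  have hsq : ∀ x : A, φ x * φ x = 1 := fun x => by
    rw [← map_mul, show x * x = 1 from Subtype.ext (hexp x x.2), map_one]
  have hψ : ∀ u : A, φ (ψ u) = 1 := fun u => (QuotientGroup.eq_one_iff _).2 ⟨u, rfl⟩
  let τ : P → P := fun g => ⟨n * g * n⁻¹, (hnP g).1 g.2⟩
  have hτ : ∀ g, φ (f (τ g)) = φ (f g) := by
    intro g
    have e1 : f (τ g) = ⟨d * (f g * (a * (d * a * d))) * d, hdA _ (mul_mem (f g).2 hz)⟩ := by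
      apply Subtype.ext
      show n * g * n⁻¹ * a * (n * g * n⁻¹)⁻¹ = d * (g * a * (g : H)⁻¹ * (a * (d * a * d))) * d
      have e2 : n⁻¹ * a * n = d * a * d := by rw [hn, mul_inv_rev, inv_inv, hdinv]; group
      have e3 : d * a * d = a * (a * (d * a * d)) := by rw [← mul_assoc, hexp a ha, one_mul]
      calc n * g * n⁻¹ * a * (n * g * n⁻¹)⁻¹ = n * (g * (n⁻¹ * a * n) * (g : H)⁻¹) * n⁻¹ := by
            group
        _ = n * (g * a * (g : H)⁻¹ * (a * (d * a * d))) * n⁻¹ := by
            rw [e2]; conv_lhs => rw [e3]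
            rw [show (g : H) * (a * (a * (d * a * d))) * (g : H)⁻¹ =
              g * a * ((a * (d * a * d)) * (g : H)⁻¹) by group, (hzP _ g.2).inv_right.eq]
            group
        _ = a⁻¹ * (d * (g * a * (g : H)⁻¹ * (a * (d * a * d))) * d) * a := by
            rw [hn, mul_inv_rev, inv_inv, hdinv]; group
        _ = _ := by
            rw [hinv a ha, hcomm a ha _ (hdA _ (mul_mem (f g).2 hz)), mul_assoc, hexp a ha,
              mul_one]
    have e4 : ∀ x : A, φ ⟨d * x * d, hdA _ x.2⟩ = φ x := fun x => by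
      have h1 : φ (x * ⟨d * x * d, hdA _ x.2⟩) = 1 := hψ x
      rw [map_mul] at h1
      exact (eq_inv_of_mul_eq_one_right h1).trans (inv_eq_of_mul_eq_one_right (hsq x))
    rw [e1, show (⟨d * (f g * (a * (d * a * d))) * d, hdA _ (mul_mem (f g).2 hz)⟩ : A) =
      ⟨d * ((f g * ψ ⟨a, ha⟩ : A) : H) * d, hdA _ (f g * ψ ⟨a, ha⟩).2⟩ from rfl, e4, map_mul,
      hψ, mul_one]
  have hττ : ∀ g, τ (τ g) = g := fun g => Subtype.ext (by
    show n * (n * g * n⁻¹) * n⁻¹ = g
    rw [show n * (n * g * n⁻¹) * n⁻¹ = (n * n) * g * (n * n)⁻¹ by group, hn2,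
      (hzP g g.2).eq, mul_assoc, mul_inv_cancel, mul_one])
  -- fixed points give `a`
  have hfix : ∀ c, τ c = c → φ (f c) = φ ⟨a, ha⟩ := by
    intro c hc
    have hc' : n * c * n⁻¹ = c := congrArg Subtype.val hc
    have hdn : d = a * n := by rw [hn, mul_inv_cancel_left]
    have e1 : (c : H) * d * (c : H)⁻¹ * d = (c * a * (c : H)⁻¹) * a⁻¹ := by
      calc (c : H) * d * (c : H)⁻¹ * d = (c * a * n * (c : H)⁻¹) * d := by
            conv_lhs => arg 1; rw [hdn]
            group
        _ = (c * a * (c : H)⁻¹ * (c * n * (c : H)⁻¹)) * d := by group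
        _ = (c * a * (c : H)⁻¹ * n) * d := by
            have hnc : Commute n (c : H) := mul_inv_eq_iff_eq_mul.1 hc'
            rw [show (c : H) * n * (c : H)⁻¹ = n by
              rw [← hnc.eq, mul_assoc, mul_inv_cancel, mul_one]]
        _ = _ := by rw [hn]; simp only [mul_assoc]; rw [hd, mul_one]
    obtain ⟨u, hu, hcu⟩ := hclass c (by rw [e1]; exact mul_mem (f c).2 (inv_mem ha))
    have h2 : f c * ⟨a, ha⟩⁻¹ = ψ ⟨u, hu⟩ := Subtype.ext (by
      show (c : H) * a * (c : H)⁻¹ * a⁻¹ = u * (d * u * d)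
      rw [← e1, hcu, hinv u hu]; group)
    have h3 := congrArg φ h2
    rw [map_mul, map_inv, hψ, mul_inv_eq_one] at h3
    exact h3
  haveI := Fintype.ofFinite P
  let y : A := ∏ g : P, f g
  have hy : φ y = φ ⟨a, ha⟩ := by
    show φ (∏ g : P, f g) = _
    rw [map_prod, ← Finset.prod_filter_mul_prod_filter_not Finset.univ (fun g => τ g = g)]
    have h1 : ∏ g ∈ Finset.univ.filter (fun g => ¬ τ g = g), φ (f g) = 1 := by
      refine Finset.prod_involution (fun g _ => τ g) (fun g _ => by rw [hτ, hsq]) (fun g hg _ => ?_)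
        (fun g hg => ?_) (fun g _ => hττ g)
      · exact (Finset.mem_filter.1 hg).2
      · refine Finset.mem_filter.2 ⟨Finset.mem_univ _, fun h => (Finset.mem_filter.1 hg).2 ?_⟩
        rw [hττ] at h; exact h.symm
    rw [h1, mul_one, Finset.prod_congr rfl fun g hg => hfix g (Finset.mem_filter.1 hg).2,
      Finset.prod_const]
    let C : Subgroup P :=
      { carrier := {g | τ g = g}
        one_mem' := Subtype.ext (by show n * 1 * n⁻¹ = 1; group)
        mul_mem' := fun {g k} hg hk => Subtype.ext (by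
          show n * (g * k) * n⁻¹ = g * k
          have h1 : n * g * n⁻¹ = g := congrArg Subtype.val hg
          have h2 : n * k * n⁻¹ = k := congrArg Subtype.val hk
          conv_rhs => rw [← h1, ← h2]
          group)
        inv_mem' := fun {g} hg => Subtype.ext (by
          show n * (g : H)⁻¹ * n⁻¹ = (g : H)⁻¹
          have h1 : n * g * n⁻¹ = g := congrArg Subtype.val hg
          conv_rhs => rw [← h1]
          group) }
    have hodd : Odd (Finset.univ.filter (fun g => τ g = g)).card := by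
      have hC : Nat.card C = (Finset.univ.filter (fun g => τ g = g)).card := by
        rw [Nat.card_eq_fintype_card]
        exact Fintype.card_of_subtype _ fun g => by simp [C]
      obtain ⟨k, hk⟩ := IsPGroup.iff_card.1 (hP.to_subgroup C)
      rw [← hC, hk]
      exact Odd.pow (by decide)
    obtain ⟨k, hk⟩ := hodd
    rw [hk, pow_succ, pow_mul, pow_two, hsq, one_pow, one_mul]
  have hyP : ∀ g ∈ P, Commute (y : H) g := by
    intro g hg
    let Φ : A →* A := MonoidHom.mk'
      (fun u => ⟨g * u * g⁻¹, (inferInstance : A.Normal).conj_mem u u.2 g⟩)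
      (fun u v => Subtype.ext (by show g * ((u : H) * v) * g⁻¹ = g * u * g⁻¹ * (g * v * g⁻¹); group))
    have h1 : Φ y = y := by
      show Φ (∏ h : P, f h) = ∏ h : P, f h
      rw [map_prod, ← Equiv.prod_comp (Equiv.mulLeft (⟨g, hg⟩ : P)) f]
      refine Finset.prod_congr rfl fun h _ => Subtype.ext ?_
      show g * (h * a * (h : H)⁻¹) * g⁻¹ = g * h * a * (g * h)⁻¹
      group
    exact (mul_inv_eq_iff_eq_mul.1 (congrArg Subtype.val h1 : g * (y : H) * g⁻¹ = y)).symm
  obtain ⟨u, hu⟩ : (y⁻¹ * ⟨a, ha⟩ : A) ∈ ψ.range :=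
    QuotientGroup.eq.1 (show (y : A ⧸ ψ.range) = ((⟨a, ha⟩ : A) : A ⧸ ψ.range) from hy)
  refine ⟨u, u.2, ?_⟩
  have hu' : (u : H) * (d * u * d) = (y : H)⁻¹ * a := congrArg Subtype.val hu
  have hconj : (u : H) * d * u = (y : H) * n := by
    calc (u : H) * d * u = u * (d * u * d) * d := by simp only [mul_assoc]; rw [hd, mul_one]
      _ = _ := by rw [hu', hinv _ y.2, hn, hinv a ha]; group
  have hyN : (y : H) ∈ normalizer (P : Set H) := centralizer_le_normalizer P
    (mem_centralizer_iff.2 fun g hg => (hyP g hg).symm.eq)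
  have hm : (u : H) * d * u ∈ normalizer (P : Set H) := hconj ▸ mul_mem hyN hnP
  rw [← CfsgLib.Comp.map_conj_eq_iff] at hm ⊢
  have hui := hinv _ u.2
  rw [show d = u * (u * d * u) * u by
    rw [show (u : H) * (u * d * u) * u = (u * u) * d * (u * u) by group, hexp _ u.2, one_mul,
      mul_one]]
  rw [← CfsgLib.Comp.map_conj_mul, CfsgLib.Comp.map_conj_mul _ (u * (u * d * u) * u) u]
  have e5 : (u : H) * (u * d * u) * u * u = u * (u * d * u) := by
    rw [mul_assoc ((u : H) * (u * d * u)), hexp _ u.2, mul_one]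
  rw [← CfsgLib.Comp.map_conj_mul, e5, CfsgLib.Comp.map_conj_mul, hm]

theorem exists_lt_squares {G : Type*} [Group G] [Finite G] {A : Subgroup G}
    (hA : IsPGroup 2 A) (hne : A ≠ ⊥) :
    closure {z : G | ∃ x ∈ A, z = x * x} < A := by
  haveI : Fact (Nat.Prime 2) := ⟨Nat.prime_two⟩
  have hle : closure {z : G | ∃ x ∈ A, z = x * x} ≤ A := by
    rw [closure_le]; rintro _ ⟨x, hx, rfl⟩; exact mul_mem hx hx
  refine lt_of_le_of_ne hle fun heq => ?_
  haveI : Nontrivial A := (nontrivial_iff_ne_bot A).2 hne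
  haveI : Group.IsNilpotent A := hA.isNilpotent
  obtain ⟨M, hM, -⟩ := (eq_top_or_exists_le_coatom (⊥ : Subgroup A)).resolve_left bot_ne_top
  haveI hMn : M.Normal := NormalizerCondition.normal_of_coatom M
    Group.normalizerCondition_of_isNilpotent hM
  have hexp : ∀ x : A, x * x ∈ M := by
    have hq : IsPGroup 2 (A ⧸ M) := hA.to_quotient M
    haveI : Nontrivial (A ⧸ M) := QuotientGroup.nontrivial_iff.2 hM.1
    obtain ⟨k, hk⟩ := IsPGroup.iff_card.1 hq
    have h2 : 2 ∣ Nat.card (A ⧸ M) := by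
      rw [hk]
      refine dvd_pow_self 2 fun h0 => ?_
      have := Finite.one_lt_card (α := A ⧸ M)
      rw [hk, h0] at this; simp at this
    obtain ⟨q, hq2⟩ := exists_prime_orderOf_dvd_card' 2 h2
    obtain ⟨w, hw⟩ := QuotientGroup.mk_surjective q
    have hwM : w ∉ M := fun h => by
      rw [← hw, (QuotientGroup.eq_one_iff w).2 h, orderOf_one] at hq2
      exact absurd hq2 (by norm_num)
    have htop : M ⊔ zpowers w = ⊤ := hM.2 _ (lt_of_le_of_ne le_sup_left fun h =>
      hwM (h ▸ mem_sup_right (mem_zpowers w)))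
    intro x
    obtain ⟨m, hm, v, hv, rfl⟩ := mem_sup_of_normal_left.1
      (htop ▸ mem_top x : x ∈ M ⊔ zpowers w)
    obtain ⟨j, rfl⟩ := hv
    rw [← QuotientGroup.eq_one_iff]
    have hq1 : q * q = 1 := by rw [← pow_two, ← hq2]; exact pow_orderOf_eq_one q
    simp only [QuotientGroup.mk_mul, QuotientGroup.mk_zpow, (QuotientGroup.eq_one_iff m).2 hm,
      one_mul, hw]
    rw [← (Commute.refl q).mul_zpow, hq1, one_zpow]
  refine hM.1 (top_le_iff.1 fun x _ => ?_)
  have hx : (x : G) ∈ closure {z : G | ∃ x ∈ A, z = x * x} := heq.symm ▸ x.2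
  have hle' : closure {z : G | ∃ x ∈ A, z = x * x} ≤ M.map A.subtype := by
    rw [closure_le]; rintro _ ⟨u, hu, rfl⟩; exact ⟨_, hexp ⟨u, hu⟩, rfl⟩
  obtain ⟨m, hm, hmx⟩ := hle' hx
  exact (Subtype.ext hmx : m = x) ▸ hm

variable {G : Type*} [Group G] [Finite G] {D : Set G}

theorem exists_invariant_conj (hD : Cfsg.IsThreeTranspositionClass D)
    (hD2 : ∃ a ∈ D, ∃ b ∈ D, a ≠ b) {d : G} (hd : d ∈ D) (A : Subgroup G) :
    A.Normal → A ≤ Cfsg.pCore 2 G → ∀ P : Subgroup G, IsPGroup 3 P →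
      d ∈ normalizer ((A ⊔ P : Subgroup G) : Set G) →
      ∃ g ∈ A, d ∈ normalizer ((P.map (MulAut.conj g).toMonoidHom : Subgroup G) : Set G) := by
  induction A using WellFoundedLT.induction with
  | ind A ih =>
    intro hAn hA P hP hnorm
    by_cases hbot : A = ⊥
    · subst hbot
      rw [bot_sup_eq] at hnorm
      exact ⟨1, one_mem _, by rwa [CfsgLib.Comp.map_conj_one]⟩
    have hA2 : IsPGroup 2 A := CfsgLib.Amalgam.isPGroup_pCore.to_le hA
    let B := closure {z : G | ∃ x ∈ A, z = x * x}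
    have hlt : B < A := exists_lt_squares hA2 hbot
    haveI hBn : B.Normal := closure_normal_of_conj_mem (by
      rintro g _ ⟨x, hx, rfl⟩
      exact ⟨g * x * g⁻¹, hAn.conj_mem x hx g, by group⟩)
    have hG := class_isGroup hD
    let π := QuotientGroup.mk' B
    haveI : (A.map π).Normal := hAn.map π (QuotientGroup.mk'_surjective B)
    obtain ⟨e, he, hn⟩ := exists_noncomm hD hD2 hd
    obtain ⟨b, ⟨g, hg, hgb⟩, hnb⟩ := coset_fix (A.map π) (by
        rintro _ ⟨x, hx, rfl⟩
        rw [← map_mul]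
        exact (QuotientGroup.eq_one_iff _).2 (subset_closure ⟨x, hx, rfl⟩))
      (P.map π) (hP.map π) (d := π d) (by rw [← map_mul, sq_one hD.1 hd, map_one])
      (by rw [← Subgroup.map_sup]; exact le_normalizer_map π ⟨d, hnorm, rfl⟩)
      (by
        intro h hmem
        obtain ⟨h, rfl⟩ : ∃ x, π x = h := QuotientGroup.mk'_surjective B h
        simp only [← map_inv, ← map_mul] at hmem
        obtain ⟨x, hx, hxe⟩ := hmem
        have hmA : h * d * h⁻¹ * d ∈ A := by
          have : x⁻¹ * (h * d * h⁻¹ * d) ∈ B := QuotientGroup.eq.1 hxe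
          have := mul_mem hx (hlt.le this)
          rwa [mul_inv_cancel_left] at this
        have hv : d * (h * d * h⁻¹) ∈ A := by
          have := inv_mem hmA
          rwa [show (h * d * h⁻¹ * d)⁻¹ = d⁻¹ * (h * d⁻¹ * h⁻¹) by group, inv_eq hD.1 hd] at this
        have hrel : VRel D d (h * d * h⁻¹) :=
          (vRel_iff hG hd).2 ⟨class_conj_mem hD h hd, hA hv⟩
        refine ⟨π (e * (d * (h * d * h⁻¹)) * e), mem_map_of_mem π (by
          have := hAn.conj_mem _ hv e; rwa [inv_eq hD.1 he] at this), ?_⟩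
        simp only [← map_inv, ← map_mul]
        rw [conj_eq_of_vRel hG hrel he hn])
    have hgb' : π g = b := hgb
    subst hgb'
    have hnorm' : d ∈ normalizer ((B ⊔ P.map (MulAut.conj g).toMonoidHom : Subgroup G) : Set G) := by
      have he' : (P.map (MulAut.conj g).toMonoidHom).map π =
          (P.map π).map (MulAut.conj (π g)).toMonoidHom := by
        rw [map_map, map_map]; rfl
      rw [← he'] at hnb
      have he2 : B ⊔ P.map (MulAut.conj g).toMonoidHom =
          ((P.map (MulAut.conj g).toMonoidHom).map π).comap π := by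
        rw [comap_map_eq, QuotientGroup.ker_mk', sup_comm]
      rw [he2]
      intro y
      simp only [SetLike.mem_coe, mem_comap, map_mul, map_inv]
      exact hnb (π y)
    obtain ⟨k, hk, hkn⟩ := ih B hlt hBn (hlt.le.trans hA) _ (hP.map _) hnorm'
    exact ⟨k * g, mul_mem (hlt.le hk) hg, by rwa [CfsgLib.Comp.map_conj_mul]⟩

theorem exists_normalized_sylow (hD : Cfsg.IsThreeTranspositionClass D)
    (hD2 : ∃ a ∈ D, ∃ b ∈ D, a ≠ b) {d : G} (hd : d ∈ D)
    (hV : ∀ a ∈ D, ∀ b ∈ D, Commute a b → VRel D a b) :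
    ∃ P : Sylow 3 G, d ∈ normalizer (P : Set G) ∧
      zpowers d ⊔ (P : Subgroup G) ⊔ Cfsg.pCore 2 G = ⊤ := by
  haveI : Fact (Nat.Prime 3) := ⟨Nat.prime_three⟩
  have hG := class_isGroup hD
  let N := Cfsg.pCore 2 G
  haveI hNn : N.Normal := CfsgLib.Amalgam.normal_pCore
  let π := QuotientGroup.mk' N
  let O : Set (G ⧸ N) := π '' D
  let R := closure {x : G ⧸ N | ∃ a ∈ O, ∃ b ∈ O, x = a * b}
  have hR : IsPGroup 3 R := by
    refine isPGroup_products ?_ ?_ ?_
    · rintro _ ⟨a, ha, rfl⟩; rw [← map_mul, sq_one hD.1 ha, map_one]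
    · rintro _ ⟨a, ha, rfl⟩ _ ⟨b, hb, rfl⟩
      by_cases hc : Commute a b
      · have hab : π (a * b) = 1 :=
          (QuotientGroup.eq_one_iff _).2 ((vRel_iff hG ha).1 (hV a ha b hb hc)).2
        rw [← map_mul, hab, one_pow]
      · rw [← map_mul, ← map_pow, pow_three hD.1 ha hb hc, map_one]
    · rintro _ ⟨a, ha, rfl⟩ _ ⟨b, hb, rfl⟩
      exact ⟨a * b * a, self_conj_mem hG ha hb, by rw [map_mul, map_mul]⟩
  haveI hRn : R.Normal := closure_normal_of_conj_mem (by
    rintro g _ ⟨_, ⟨a, ha, rfl⟩, _, ⟨b, hb, rfl⟩, rfl⟩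
    obtain ⟨g, rfl⟩ : ∃ x, π x = g := QuotientGroup.mk'_surjective N g
    exact ⟨_, ⟨g * a * g⁻¹, class_conj_mem hD g ha, rfl⟩, _,
      ⟨g * b * g⁻¹, class_conj_mem hD g hb, rfl⟩, by simp [mul_assoc]⟩)
  obtain ⟨P₀⟩ := Sylow.nonempty (p := 3) (G := G)
  let M := R.comap π
  have hab : ∀ a ∈ D, ∀ b ∈ D, a⁻¹ * b ∈ M := fun a ha b hb => by
    rw [inv_eq hD.1 ha]
    exact subset_closure ⟨π a, ⟨a, ha, rfl⟩, π b, ⟨b, hb, rfl⟩, map_mul π a b⟩
  have hidx := (index_le_two_of_congr hD M hab).1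
  -- the image of `P₀` is `R`
  have hPR : (P₀ : Subgroup G).map π = R := by
    let P' := P₀.mapSurjective (QuotientGroup.mk'_surjective N)
    have h1 : R ≤ (P' : Subgroup (G ⧸ N)) := by
      obtain ⟨Q, hQ⟩ := hR.exists_le_sylow
      obtain ⟨g, hg⟩ := MulAction.exists_smul_eq (G ⧸ N) Q P'
      intro x hx
      rw [← hg, Sylow.coe_subgroup_smul, Subgroup.mem_pointwise_smul_iff_inv_smul_mem]
      refine hQ ?_
      simpa [MulAut.smul_def] using hRn.conj_mem x hx g⁻¹
    have h1' : R ≤ (P₀ : Subgroup G).map π := by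
      rw [Sylow.coe_mapSurjective] at h1; exact h1
    refine le_antisymm ?_ h1'
    rintro _ ⟨x, hx, rfl⟩
    obtain ⟨k, hk⟩ := P₀.2 ⟨x, hx⟩
    have hk' : x ^ 3 ^ k = 1 := by simpa using congrArg Subtype.val hk
    have hM : x ^ M.index ∈ M := pow_index_mem M x
    have hpos : 0 < M.index := Nat.pos_of_ne_zero index_ne_zero_of_finite
    show x ∈ M
    rcases (show M.index = 1 ∨ M.index = 2 by omega) with h | h
    · rwa [h, pow_one] at hM
    · rw [h] at hM
      obtain ⟨m, hm⟩ : Odd (3 ^ k) := Odd.pow (by decide)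
      have : x ^ (2 * (m + 1)) ∈ M := by rw [pow_mul]; exact pow_mem hM _
      rwa [show 2 * (m + 1) = 3 ^ k + 1 by omega, pow_succ, hk', one_mul] at this
  have hsup : N ⊔ (P₀ : Subgroup G) = M := by
    show _ = R.comap π
    rw [← hPR, comap_map_eq, QuotientGroup.ker_mk', sup_comm]
  haveI hMn : M.Normal := hRn.comap π
  obtain ⟨g, hg, hgn⟩ := exists_invariant_conj hD hD2 hd N hNn le_rfl P₀ P₀.2 (by
    rw [hsup, Subgroup.normalizer_eq_top M]; exact mem_top d)
  refine ⟨MulAut.conj g • P₀, by exact hgn, ?_⟩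
  refine top_le_iff.1 (hD.2.2 ▸ (closure_le _).2 fun x hx => ?_)
  have hdx : d * x ∈ N ⊔ (P₀ : Subgroup G) := by
    rw [hsup]; have := hab d hd x hx; rwa [inv_eq hD.1 hd] at this
  have hle : (P₀ : Subgroup G) ≤ ((MulAut.conj g • P₀ : Sylow 3 G) : Subgroup G) ⊔ N := by
    intro p hp
    have hq : g * p * g⁻¹ ∈ ((MulAut.conj g • P₀ : Sylow 3 G) : Subgroup G) := by
      exact ⟨p, hp, rfl⟩
    rw [show p = g⁻¹ * (g * p * g⁻¹) * g by group]
    exact mul_mem (mul_mem (mem_sup_right (inv_mem hg)) (mem_sup_left hq)) (mem_sup_right hg)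
  rw [show x = d * (d * x) from (invol_cancel (hD.1.1 d hd) x).symm, sup_assoc]
  exact mul_mem_sup (mem_zpowers d) (sup_le le_sup_right hle hdx)

end CfsgLib.Trans3
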