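import Mathlib
import Cfsg.Agent.Lib.Classical.SLOrder

/-!
# Perfect central extensions of `PSL₃(4)` with elementary abelian kernel of exponent two

Above each of the two elementary abelian subgroups of order 16 of the unitriangular group the preimage is
elementary abelian, as an element of that subgroup is moved to any other by conjugation. The derived
subgroup of the Sylow 2-preimage is then generated by four commutators, so it has order at most 16; as it
covers the centre of the unitriangular group and contains the kernel, the kernel has order at most 4.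
-/

set_option autoImplicit false

namespace CfsgLib.Trans3.L34

open scoped Matrix commutatorElement

section Generic

variable {E L : Type*} [Group E] [Group L]

/-- The preimage of a subgroup whose non-trivial elements are all conjugate is elementary abelian, if it has
a subgroup of order greater than four and the kernel is central of exponent two. -/
theorem preimage_elementary (p : E →* L) (hp : Function.Surjective p)
    (hZ : ∀ z ∈ p.ker, ∀ e : E, z * e = e * z) (hZ2 : ∀ z ∈ p.ker, z * z = 1) (A : Subgroup L) {a₀ : L}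
    (ha₀ : a₀ ∈ A) (hA2 : ∀ a ∈ A, a * a = 1)
    (htrans : ∀ a ∈ A, a ≠ 1 → ∃ g : L, g * a₀ * g⁻¹ = a)
    (hbig : ∀ a ∈ A, ∀ b ∈ A, ∃ c ∈ A, c ≠ 1 ∧ c ≠ a ∧ c ≠ b ∧ c ≠ a * b) :
    (∀ x ∈ A.comap p, x * x = 1) ∧ ∀ x ∈ A.comap p, ∀ y ∈ A.comap p, x * y = y * x := by
  obtain ⟨x₀, hx₀⟩ := hp a₀
  have hsqz : ∀ x ∈ A.comap p, x * x ∈ p.ker := fun x hx => by
    rw [MonoidHom.mem_ker, map_mul]; exact hA2 _ hx
  have hx₀A : x₀ ∈ A.comap p := by show p x₀ ∈ A; rw [hx₀]; exact ha₀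
  have hq : ∀ x ∈ A.comap p, p x ≠ 1 → x * x = x₀ * x₀ := fun x hx hx1 => by
    obtain ⟨g, hg⟩ := htrans _ hx hx1
    obtain ⟨e, rfl⟩ := hp g
    have hk : (e * x₀ * e⁻¹)⁻¹ * x ∈ p.ker := by
      rw [MonoidHom.mem_ker, map_mul, map_inv, map_mul, map_mul, map_inv, hx₀, hg, inv_mul_cancel]
    obtain ⟨z, hz⟩ : ∃ z, z = (e * x₀ * e⁻¹)⁻¹ * x := ⟨_, rfl⟩
    rw [← hz] at hk
    have ex : x = e * x₀ * e⁻¹ * z := by rw [hz, mul_inv_cancel_left]
    rw [ex]
    calc e * x₀ * e⁻¹ * z * (e * x₀ * e⁻¹ * z) = e * x₀ * e⁻¹ * (z * (e * x₀ * e⁻¹)) * z := by group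
      _ = e * (x₀ * x₀) * e⁻¹ * (z * z) := by rw [hZ z hk]; group
      _ = x₀ * x₀ := by rw [hZ2 z hk, mul_one, ← hZ _ (hsqz x₀ hx₀A), mul_inv_cancel_right]
  obtain ⟨c₀, hc₀⟩ : ∃ c₀, c₀ = x₀ * x₀ := ⟨_, rfl⟩
  rw [← hc₀] at hq
  have hc : c₀ ∈ p.ker := hc₀ ▸ hsqz x₀ hx₀A
  -- the commutator of two independent elements
  have hk : ∀ x ∈ A.comap p, ∀ y ∈ A.comap p, p x ≠ 1 → p y ≠ 1 → p (x * y) ≠ 1 →
      x * y = y * x * c₀ := by
    intro x hx y hy hx1 hy1 hxy
    have e1 : x * y * (x * y) = c₀ := hq _ (mul_mem hx hy) hxy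
    have e2 := hq x hx hx1
    have e3 := hq y hy hy1
    have hcc := hZ2 c₀ hc
    calc x * y = x⁻¹ * (x * x) * (y * y) * y⁻¹ := by group
      _ = x⁻¹ * (c₀ * c₀) * y⁻¹ := by rw [e2, e3]; group
      _ = (y * x)⁻¹ := by rw [hcc, mul_one, mul_inv_rev]
      _ = (y * x) * c₀ := by
        have e4 : y * x * (y * x) = c₀ := by
          calc y * x * (y * x) = x⁻¹ * (x * y * (x * y)) * x := by group
            _ = c₀ := by rw [e1, ← hZ c₀ hc x⁻¹, mul_assoc, inv_mul_cancel, mul_one]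
        refine inv_eq_of_mul_eq_one_right ?_
        rw [← mul_assoc, e4, hcc]
  -- the square is trivial
  have hc1 : c₀ = 1 := by
    by_cases h1 : a₀ = 1
    · rw [hc₀]
      exact hZ2 x₀ (by rw [MonoidHom.mem_ker, hx₀, h1])
    obtain ⟨b, hbA, hb1, hba, -, -⟩ := hbig a₀ ha₀ a₀ ha₀
    obtain ⟨d, hdA, hd1, hda, hdb, hdab⟩ := hbig a₀ ha₀ b hbA
    obtain ⟨y, rfl⟩ := hp b
    obtain ⟨w, rfl⟩ := hp d
    have hinv : ∀ {u v : L}, u ∈ A → u * v = 1 → v = u := fun {u v} hu h => by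
      calc v = u * u * v := by rw [hA2 u hu, one_mul]
        _ = u := by rw [mul_assoc, h, mul_one]
    have hyw : p (y * w) ≠ 1 := fun h => hdb (hinv hbA (by rw [← map_mul]; exact h))
    have hxy : p (x₀ * y) ≠ 1 := fun h => hba (hinv ha₀ (by rw [← hx₀, ← map_mul]; exact h))
    have hxw : p (x₀ * w) ≠ 1 := fun h => hda (hinv ha₀ (by rw [← hx₀, ← map_mul]; exact h))
    have hxyw : p (x₀ * (y * w)) ≠ 1 := fun h => hdab (by
      have h' : p w = (a₀ * p y)⁻¹ := by
        refine (inv_eq_of_mul_eq_one_right ?_).symm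
        rw [← hx₀, mul_assoc, ← map_mul, ← map_mul]; exact h
      rw [h']
      exact inv_eq_of_mul_eq_one_right (hA2 _ (mul_mem ha₀ hbA)))
    have hx1 : p x₀ ≠ 1 := by rwa [hx₀]
    have hyA : y ∈ A.comap p := hbA
    have hwA : w ∈ A.comap p := hdA
    have e1 := hk x₀ hx₀A (y * w) (mul_mem hyA hwA) hx1 hyw hxyw
    have e2 := hk x₀ hx₀A y hyA hx1 hb1 hxy
    have e3 := hk x₀ hx₀A w hwA hx1 hd1 hxw
    have e4 : x₀ * (y * w) = y * w * x₀ * (c₀ * c₀) := by
      calc x₀ * (y * w) = y * x₀ * (c₀ * w) := by rw [← mul_assoc, e2]; group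
        _ = y * (x₀ * w) * c₀ := by rw [hZ c₀ hc w]; group
        _ = y * w * x₀ * (c₀ * c₀) := by rw [e3]; group
    rw [e4, hZ2 c₀ hc, mul_right_inj] at e1
    exact e1.symm
  have h2 : ∀ x ∈ A.comap p, x * x = 1 := fun x hx => by
    by_cases h : p x = 1
    · exact hZ2 x (MonoidHom.mem_ker.2 h)
    · rw [hq x hx h, hc1]
  refine ⟨h2, fun x hx y hy => ?_⟩
  have h := h2 _ (mul_mem hx hy)
  calc x * y = (x * y)⁻¹ := (inv_eq_of_mul_eq_one_right h).symm
    _ = y * x := by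
      rw [mul_inv_rev, inv_eq_of_mul_eq_one_right (h2 y hy), inv_eq_of_mul_eq_one_right (h2 x hx)]

/-- A group generated by commuting elements of exponent two has order at most two to their number. -/
theorem card_closure_le [Finite E] (C : Subgroup E) (hC2 : ∀ x ∈ C, x * x = 1)
    (hCc : ∀ x ∈ C, ∀ y ∈ C, x * y = y * x) :
    ∀ l : List E, (∀ x ∈ l, x ∈ C) →
      Subgroup.closure {x | x ∈ l} ≤ C ∧ Nat.card (Subgroup.closure {x | x ∈ l}) ≤ 2 ^ l.length
  | [], _ => by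
    have e : Subgroup.closure {x : E | x ∈ ([] : List E)} = ⊥ := by simp
    rw [e]; simp
  | a :: l, hl => by
    classical
    obtain ⟨hle, hcard⟩ := card_closure_le C hC2 hCc l fun x hx => hl x (List.mem_cons_of_mem _ hx)
    set K := Subgroup.closure {x : E | x ∈ l} with hK
    have ha : a ∈ C := hl a (List.mem_cons_self ..)
    refine ⟨(Subgroup.closure_le _).2 fun x hx => hl x hx, ?_⟩
    let K' : Subgroup E :=
      { carrier := {x | x ∈ C ∧ (x ∈ K ∨ a * x ∈ K)}
        one_mem' := ⟨C.one_mem, Or.inl K.one_mem⟩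
        mul_mem' := fun {u v} hu hv => by
          refine ⟨C.mul_mem hu.1 hv.1, ?_⟩
          rcases hu.2 with h1 | h1 <;> rcases hv.2 with h2 | h2
          · exact Or.inl (K.mul_mem h1 h2)
          · refine Or.inr ?_
            rw [← mul_assoc, hCc a ha u hu.1, mul_assoc]
            exact K.mul_mem h1 h2
          · refine Or.inr ?_
            rw [← mul_assoc]
            exact K.mul_mem h1 h2
          · refine Or.inl ?_
            have e : a * u * (a * v) = u * v := by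
              rw [hCc a ha u hu.1, mul_assoc, ← mul_assoc a a, hC2 a ha, one_mul]
            rw [← e]
            exact K.mul_mem h1 h2
        inv_mem' := fun {u} hu => by rwa [inv_eq_of_mul_eq_one_right (hC2 u hu.1)] }
    have h1 : Subgroup.closure {x | x ∈ a :: l} ≤ K' := (Subgroup.closure_le _).2 fun x hx => by
      refine ⟨hl x hx, ?_⟩
      rcases List.mem_cons.1 (show x ∈ a :: l from hx) with rfl | h
      · exact Or.inr (by rw [hC2 x ha]; exact K.one_mem)
      · exact Or.inl (Subgroup.subset_closure h)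
    let f : Bool × K → E := fun q => if q.1 then a * q.2 else q.2
    have hsub : (K' : Set E) ⊆ Set.range f := by
      rintro x ⟨-, hx | hx⟩
      · exact ⟨(false, ⟨x, hx⟩), rfl⟩
      · refine ⟨(true, ⟨a * x, hx⟩), ?_⟩
        show a * (a * x) = x
        rw [← mul_assoc, hC2 a ha, one_mul]
    calc Nat.card (Subgroup.closure {x | x ∈ a :: l}) ≤ Nat.card K' :=
          Nat.le_of_dvd Nat.card_pos (Subgroup.card_dvd_of_le h1)
      _ ≤ Nat.card (Set.range f) := Nat.card_mono (Set.toFinite _) hsub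
      _ ≤ Nat.card (Bool × K) := Finite.card_range_le f
      _ ≤ 2 ^ (a :: l).length := by
        rw [Nat.card_prod, Nat.card_eq_fintype_card (α := Bool), Fintype.card_bool, List.length_cons, pow_succ,
          mul_comm (2 ^ l.length)]
        exact Nat.mul_le_mul_left 2 hcard

end Generic

section Matrices

variable (F : Type*) [Field F]

/-- An upper unitriangular matrix. -/
def uni (a b c : F) : Matrix.SpecialLinearGroup (Fin 3) F :=
  ⟨!![1, a, c; 0, 1, b; 0, 0, 1], by simp [Matrix.det_fin_three]⟩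

variable {F}

theorem uni_mul (a b c a' b' c' : F) :
    uni F a b c * uni F a' b' c' = uni F (a + a') (b + b') (c + c' + a * b') := by
  refine Subtype.ext ?_
  rw [Matrix.SpecialLinearGroup.coe_mul]
  ext i j
  fin_cases i <;> fin_cases j <;> simp [uni, Matrix.mul_apply, Fin.sum_univ_three] <;> ring

theorem uni_zero : uni F 0 0 0 = 1 := by
  refine Subtype.ext ?_
  ext i j
  fin_cases i <;> fin_cases j <;> simp [uni]

/-- An element of the projective group. -/
def pu (a b c : F) : Matrix.ProjectiveSpecialLinearGroup (Fin 3) F := QuotientGroup.mk (uni F a b c)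

theorem pu_mul (a b c a' b' c' : F) :
    pu a b c * pu a' b' c' = pu (a + a') (b + b') (c + c' + a * b') := by
  rw [pu, pu, pu, ← uni_mul, QuotientGroup.mk_mul]

theorem pu_zero : pu (0 : F) 0 0 = 1 := by rw [pu, uni_zero]; rfl

theorem pu_inj {a b c a' b' c' : F} (h : pu a b c = pu a' b' c') : a = a' ∧ b = b' ∧ c = c' := by
  have h' : (uni F a b c)⁻¹ * uni F a' b' c' ∈ Subgroup.center (Matrix.SpecialLinearGroup (Fin 3) F) :=
    QuotientGroup.eq.1 h
  obtain ⟨r, -, e⟩ := Matrix.SpecialLinearGroup.mem_center_iff.1 h'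
  have e' : (uni F a' b' c' : Matrix (Fin 3) (Fin 3) F) =
      (uni F a b c : Matrix (Fin 3) (Fin 3) F) * Matrix.scalar (Fin 3) r := by
    rw [e, ← Matrix.SpecialLinearGroup.coe_mul, mul_inv_cancel_left]
  have h00 := congrArg (fun m : Matrix (Fin 3) (Fin 3) F => m 0 0) e'
  have h01 := congrArg (fun m : Matrix (Fin 3) (Fin 3) F => m 0 1) e'
  have h12 := congrArg (fun m : Matrix (Fin 3) (Fin 3) F => m 1 2) e'
  have h02 := congrArg (fun m : Matrix (Fin 3) (Fin 3) F => m 0 2) e'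
  simp [uni, Matrix.mul_apply, Fin.sum_univ_three] at h00 h01 h12 h02
  subst h00
  simp at h01 h12 h02
  exact ⟨h01.symm, h12.symm, h02.symm⟩

theorem pu_inv (a b c : F) : (pu a b c)⁻¹ = pu (-a) (-b) (a * b - c) := by
  refine inv_eq_of_mul_eq_one_right ?_
  rw [pu_mul, ← pu_zero]; congr 1 <;> ring

/-- The unitriangular subgroup. -/
def uT : Subgroup (Matrix.ProjectiveSpecialLinearGroup (Fin 3) F) where
  carrier := {g | ∃ a b c, g = pu a b c}
  one_mem' := ⟨0, 0, 0, pu_zero.symm⟩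
  mul_mem' := by rintro _ _ ⟨a, b, c, rfl⟩ ⟨a', b', c', rfl⟩; exact ⟨_, _, _, pu_mul _ _ _ _ _ _⟩
  inv_mem' := by rintro _ ⟨a, b, c, rfl⟩; exact ⟨_, _, _, pu_inv _ _ _⟩

/-- The column subgroup. -/
def colT : Subgroup (Matrix.ProjectiveSpecialLinearGroup (Fin 3) F) where
  carrier := {g | ∃ b c, g = pu 0 b c}
  one_mem' := ⟨0, 0, pu_zero.symm⟩
  mul_mem' := by rintro _ _ ⟨b, c, rfl⟩ ⟨b', c', rfl⟩; exact ⟨b + b', c + c', by rw [pu_mul]; simp⟩
  inv_mem' := by rintro _ ⟨b, c, rfl⟩; exact ⟨-b, -c, by rw [pu_inv]; simp⟩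

/-- The row subgroup. -/
def rowT : Subgroup (Matrix.ProjectiveSpecialLinearGroup (Fin 3) F) where
  carrier := {g | ∃ a c, g = pu a 0 c}
  one_mem' := ⟨0, 0, pu_zero.symm⟩
  mul_mem' := by rintro _ _ ⟨a, c, rfl⟩ ⟨a', c', rfl⟩; exact ⟨a + a', c + c', by rw [pu_mul]; simp⟩
  inv_mem' := by rintro _ ⟨a, c, rfl⟩; exact ⟨-a, -c, by rw [pu_inv]; simp⟩

theorem conj_of_mul {g x y : Matrix.SpecialLinearGroup (Fin 3) F}
    (h : (g : Matrix (Fin 3) (Fin 3) F) * (x : Matrix (Fin 3) (Fin 3) F) = (y : Matrix (Fin 3) (Fin 3) F) * g) :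
    (QuotientGroup.mk g : Matrix.ProjectiveSpecialLinearGroup (Fin 3) F) * QuotientGroup.mk x *
      (QuotientGroup.mk g)⁻¹ = QuotientGroup.mk y := by
  rw [mul_inv_eq_iff_eq_mul, ← QuotientGroup.mk_mul, ← QuotientGroup.mk_mul,
    show g * x = y * g from Subtype.ext h]

theorem col_trans {b c : F} (h : pu (0 : F) b c ≠ 1) :
    ∃ g, g * pu (0 : F) 0 1 * g⁻¹ = pu 0 b c := by
  by_cases hc : c = 0
  · subst hc
    have hb : b ≠ 0 := fun hb => h (by rw [hb, pu_zero])
    refine ⟨QuotientGroup.mk (⟨!![0, -b⁻¹, 0; b, 0, 0; 0, 0, 1],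
      by simp [Matrix.det_fin_three, hb]⟩ : Matrix.SpecialLinearGroup (Fin 3) F), conj_of_mul ?_⟩
    ext i j
    fin_cases i <;> fin_cases j <;> simp [uni, Matrix.mul_apply, Fin.sum_univ_three]
  · refine ⟨QuotientGroup.mk (⟨!![c, 0, 0; b, c⁻¹, 0; 0, 0, 1],
      by simp [Matrix.det_fin_three, hc]⟩ : Matrix.SpecialLinearGroup (Fin 3) F), conj_of_mul ?_⟩
    ext i j
    fin_cases i <;> fin_cases j <;> simp [uni, Matrix.mul_apply, Fin.sum_univ_three]

theorem row_trans {a c : F} (h : pu a (0 : F) c ≠ 1) :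
    ∃ g, g * pu (1 : F) 0 0 * g⁻¹ = pu a 0 c := by
  suffices h' : ∃ k, k * pu a (0 : F) c * k⁻¹ = pu 1 0 0 by
    obtain ⟨k, hk⟩ := h'
    exact ⟨k⁻¹, by rw [← hk]; group⟩
  by_cases ha : a = 0
  · subst ha
    have hc : c ≠ 0 := fun hc => h (by rw [hc, pu_zero])
    refine ⟨QuotientGroup.mk (⟨!![1, 0, 0; 0, 0, c; 0, -c⁻¹, 0],
      by simp [Matrix.det_fin_three, hc]⟩ : Matrix.SpecialLinearGroup (Fin 3) F), conj_of_mul ?_⟩
    ext i j
    fin_cases i <;> fin_cases j <;> simp [uni, Matrix.mul_apply, Fin.sum_univ_three]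
  · refine ⟨QuotientGroup.mk (⟨!![1, 0, 0; 0, a, c; 0, 0, a⁻¹],
      by simp [Matrix.det_fin_three, ha]⟩ : Matrix.SpecialLinearGroup (Fin 3) F), conj_of_mul ?_⟩
    ext i j
    fin_cases i <;> fin_cases j <;> simp [uni, Matrix.mul_apply, Fin.sum_univ_three, ha]

end Matrices

section Main

variable {F : Type*} [Field F]

theorem f4_facts [Fintype F] (hF : Fintype.card F = 4) : (∀ x : F, x + x = 0) ∧
    ∃ w : F, w ≠ 0 ∧ w ≠ 1 ∧ ∀ x : F, x = 0 ∨ x = 1 ∨ x = w ∨ x = 1 + w := by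
  classical
  obtain ⟨p, hp⟩ := CharP.exists F
  haveI := hp
  obtain ⟨n, hpp, hn⟩ := FiniteField.card F p
  have hp2 : p = 2 := by
    have h2 : p ∣ 2 ^ 2 := by
      rw [show (2 : ℕ) ^ 2 = p ^ (n : ℕ) by rw [← hn, hF]; norm_num]; exact dvd_pow_self p n.ne_zero
    exact (Nat.prime_dvd_prime_iff_eq hpp Nat.prime_two).1 (hpp.dvd_of_dvd_pow h2)
  subst hp2
  obtain ⟨w, -, hw⟩ := Finset.exists_mem_notMem_of_card_lt_card
    (s := ({0, 1} : Finset F)) (t := Finset.univ) (by rw [Finset.card_univ, hF]; exact lt_of_le_of_lt Finset.card_le_two (by norm_num))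
  simp only [Finset.mem_insert, Finset.mem_singleton, not_or] at hw
  refine ⟨CharTwo.add_self_eq_zero, w, hw.1, hw.2, fun x => ?_⟩
  have h1 : (1 : F) + w ≠ 0 := fun h => hw.2 (CharTwo.add_eq_zero.1 h).symm
  have h2 : (1 : F) + w ≠ 1 := fun h => hw.1 (by simpa using h)
  have h3 : (1 : F) + w ≠ w := fun h => one_ne_zero (α := F) (by simpa using h)
  have : ({0, 1, w, 1 + w} : Finset F) = Finset.univ := Finset.eq_univ_of_card _ (by
    rw [hF, Finset.card_insert_of_notMem (by simp [Ne.symm hw.1, h1.symm]),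
      Finset.card_insert_of_notMem (by simp [Ne.symm hw.2, h2.symm]),
      Finset.card_insert_of_notMem (by simp [h3.symm]), Finset.card_singleton])
  have hx := Finset.mem_univ x
  rw [← this] at hx
  simpa using hx

theorem colT_big [Fintype F] (hF : Fintype.card F = 4) :
    ∀ a ∈ (colT : Subgroup (Matrix.ProjectiveSpecialLinearGroup (Fin 3) F)), ∀ b ∈ (colT : Subgroup _),
      ∃ c ∈ (colT : Subgroup _), c ≠ 1 ∧ c ≠ a ∧ c ≠ b ∧ c ≠ a * b := by
  classical
  intro a _ b _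
  let f : F × F → Matrix.ProjectiveSpecialLinearGroup (Fin 3) F := fun q => pu 0 q.1 q.2
  have hf : Function.Injective f := fun q r h => Prod.ext (pu_inj h).2.1 (pu_inj h).2.2
  have h16 : (Finset.univ.image f).card = 16 := by
    rw [Finset.card_image_of_injective _ hf, Finset.card_univ, Fintype.card_prod, hF]
  obtain ⟨c, hc, hc'⟩ := Finset.exists_mem_notMem_of_card_lt_card (s := {1, a, b, a * b})
    (t := Finset.univ.image f) (by rw [h16]; exact lt_of_le_of_lt Finset.card_le_four (by norm_num))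
  simp only [Finset.mem_insert, Finset.mem_singleton, not_or] at hc'
  obtain ⟨q, -, rfl⟩ := Finset.mem_image.1 hc
  exact ⟨_, ⟨q.1, q.2, rfl⟩, hc'.1, hc'.2.1, hc'.2.2.1, hc'.2.2.2⟩

theorem rowT_big [Fintype F] (hF : Fintype.card F = 4) :
    ∀ a ∈ (rowT : Subgroup (Matrix.ProjectiveSpecialLinearGroup (Fin 3) F)), ∀ b ∈ (rowT : Subgroup _),
      ∃ c ∈ (rowT : Subgroup _), c ≠ 1 ∧ c ≠ a ∧ c ≠ b ∧ c ≠ a * b := by
  classical
  intro a _ b _
  let f : F × F → Matrix.ProjectiveSpecialLinearGroup (Fin 3) F := fun q => pu q.1 0 q.2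
  have hf : Function.Injective f := fun q r h => Prod.ext (pu_inj h).1 (pu_inj h).2.2
  have h16 : (Finset.univ.image f).card = 16 := by
    rw [Finset.card_image_of_injective _ hf, Finset.card_univ, Fintype.card_prod, hF]
  obtain ⟨c, hc, hc'⟩ := Finset.exists_mem_notMem_of_card_lt_card (s := {1, a, b, a * b})
    (t := Finset.univ.image f) (by rw [h16]; exact lt_of_le_of_lt Finset.card_le_four (by norm_num))
  simp only [Finset.mem_insert, Finset.mem_singleton, not_or] at hc'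
  obtain ⟨q, -, rfl⟩ := Finset.mem_image.1 hc
  exact ⟨_, ⟨q.1, q.2, rfl⟩, hc'.1, hc'.2.1, hc'.2.2.1, hc'.2.2.2⟩

theorem uT_card [Fintype F] (hF : Fintype.card F = 4) :
    Nat.card (uT : Subgroup (Matrix.ProjectiveSpecialLinearGroup (Fin 3) F)) = 64 := by
  let f : F × F × F → (uT : Subgroup (Matrix.ProjectiveSpecialLinearGroup (Fin 3) F)) :=
    fun q => ⟨pu q.1 q.2.1 q.2.2, _, _, _, rfl⟩
  have hf : Function.Bijective f := by
    refine ⟨fun q r h => ?_, fun g => ?_⟩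
    · obtain ⟨h1, h2, h3⟩ := pu_inj (congrArg Subtype.val h)
      exact Prod.ext h1 (Prod.ext h2 h3)
    · obtain ⟨a, b, c, e⟩ := g.2
      exact ⟨(a, b, c), Subtype.ext e.symm⟩
  rw [← Nat.card_eq_of_bijective f hf, Nat.card_eq_fintype_card, Fintype.card_prod, Fintype.card_prod, hF]

/-- The kernel of a perfect central extension of exponent two of `PSL₃(4)` has order at most four. -/
theorem kernel_card_le [Fintype F] (hF : Fintype.card F = 4) {E : Type*} [Group E] [Finite E]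
    (hperf : commutator E = ⊤) (p : E →* Matrix.ProjectiveSpecialLinearGroup (Fin 3) F)
    (hp : Function.Surjective p) (hZ : ∀ z ∈ p.ker, ∀ e : E, z * e = e * z)
    (hZ2 : ∀ z ∈ p.ker, z * z = 1) : Nat.card p.ker ≤ 4 := by
  classical
  obtain ⟨hchar, w, hw0, hw1, hall⟩ := f4_facts hF
  obtain ⟨hA2, hAc⟩ := preimage_elementary p hp hZ hZ2 colT (a₀ := pu 0 0 1) ⟨0, 1, rfl⟩
    (by rintro _ ⟨b, c, rfl⟩; rw [pu_mul, ← pu_zero]; simp [hchar])
    (by rintro _ ⟨b, c, rfl⟩ h; exact col_trans h) (colT_big hF)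
  obtain ⟨hB2, hBc⟩ := preimage_elementary p hp hZ hZ2 rowT (a₀ := pu 1 0 0) ⟨1, 0, rfl⟩
    (by rintro _ ⟨a, c, rfl⟩; rw [pu_mul, ← pu_zero]; simp [hchar])
    (by rintro _ ⟨a, c, rfl⟩ h; exact row_trans h) (rowT_big hF)
  set A := (colT (F := F)).comap p with hAdef
  set B := (rowT (F := F)).comap p with hBdef
  set U := (uT (F := F)).comap p with hUdef
  have hAU : A ≤ U := fun x ⟨b, c, h⟩ => ⟨0, b, c, h⟩
  have hBU : B ≤ U := fun x ⟨a, c, h⟩ => ⟨a, 0, c, h⟩
  obtain ⟨x₁, hx₁⟩ := hp (pu 0 1 0)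
  obtain ⟨x₂, hx₂⟩ := hp (pu 0 w 0)
  obtain ⟨y₁, hy₁⟩ := hp (pu 1 0 0)
  obtain ⟨y₂, hy₂⟩ := hp (pu w 0 0)
  have hx₁A : x₁ ∈ A := ⟨1, 0, hx₁⟩
  have hx₂A : x₂ ∈ A := ⟨w, 0, hx₂⟩
  have hy₁B : y₁ ∈ B := ⟨1, 0, hy₁⟩
  have hy₂B : y₂ ∈ B := ⟨w, 0, hy₂⟩
  set C := A ⊓ B with hCdef
  -- the unitriangular preimage is generated by the four elements and the intersection
  set S : Set E := {x₁, x₂, y₁, y₂} ∪ (C : Set E) with hS
  have hUle : U ≤ Subgroup.closure S := by
    rintro u ⟨a, b, c, hu⟩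
    have hx : ∀ b : F, ∃ x ∈ Subgroup.closure S, p x = pu 0 b 0 := fun b => by
      rcases hall b with rfl | rfl | rfl | rfl
      · exact ⟨1, one_mem _, by rw [map_one, pu_zero]⟩
      · exact ⟨x₁, Subgroup.subset_closure (Or.inl (by simp)), hx₁⟩
      · exact ⟨x₂, Subgroup.subset_closure (Or.inl (by simp)), hx₂⟩
      · exact ⟨x₁ * x₂, mul_mem (Subgroup.subset_closure (Or.inl (by simp)))
          (Subgroup.subset_closure (Or.inl (by simp))), by rw [map_mul, hx₁, hx₂, pu_mul]; simp⟩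
    have hy : ∀ a : F, ∃ y ∈ Subgroup.closure S, p y = pu a 0 0 := fun a => by
      rcases hall a with rfl | rfl | rfl | rfl
      · exact ⟨1, one_mem _, by rw [map_one, pu_zero]⟩
      · exact ⟨y₁, Subgroup.subset_closure (Or.inl (by simp)), hy₁⟩
      · exact ⟨y₂, Subgroup.subset_closure (Or.inl (by simp)), hy₂⟩
      · exact ⟨y₁ * y₂, mul_mem (Subgroup.subset_closure (Or.inl (by simp)))
          (Subgroup.subset_closure (Or.inl (by simp))), by rw [map_mul, hy₁, hy₂, pu_mul]; simp⟩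
    obtain ⟨x, hxS, hxp⟩ := hx b
    obtain ⟨y, hyS, hyp⟩ := hy a
    have h : p ((y * x)⁻¹ * u) = pu 0 0 (c - a * b) := by
      rw [map_mul, map_inv, map_mul, hyp, hxp, hu, pu_mul, pu_inv, pu_mul]
      congr 1 <;> ring
    have hC : (y * x)⁻¹ * u ∈ C := ⟨⟨0, c - a * b, h⟩, ⟨0, c - a * b, h⟩⟩
    have := mul_mem (mul_mem hyS hxS) (Subgroup.subset_closure (k := S) (Or.inr hC))
    rwa [mul_inv_cancel_left] at this
  -- the four commutators
  let K := Subgroup.closure {k | k ∈ [⁅x₁, y₁⁆, ⁅x₁, y₂⁆, ⁅x₂, y₁⁆, ⁅x₂, y₂⁆]}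
  have hcomm : ∀ x ∈ A, ∀ y ∈ B, ⁅x, y⁆ ∈ C := by
    rintro x ⟨b, c, hx⟩ y ⟨a, c', hy⟩
    have h : ∃ d, p ⁅x, y⁆ = pu 0 0 d :=
      ⟨_, by rw [map_commutatorElement, hx, hy, commutatorElement_def, pu_inv, pu_inv, pu_mul, pu_mul,
        pu_mul]; congr 1 <;> ring⟩
    obtain ⟨d, hd⟩ := h
    exact ⟨⟨0, d, hd⟩, ⟨0, d, hd⟩⟩
  obtain ⟨hKC, hK16⟩ := card_closure_le C (fun x hx => hA2 x hx.1) (fun x hx y hy => hAc x hx.1 y hy.1)
    [⁅x₁, y₁⁆, ⁅x₁, y₂⁆, ⁅x₂, y₁⁆, ⁅x₂, y₂⁆] (by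
      intro k hk
      simp only [List.mem_cons, List.not_mem_nil, or_false] at hk
      rcases hk with rfl | rfl | rfl | rfl
      exacts [hcomm _ hx₁A _ hy₁B, hcomm _ hx₁A _ hy₂B, hcomm _ hx₂A _ hy₁B, hcomm _ hx₂A _ hy₂B])
  have hS' : S ⊆ (U : Set E) := by
    rintro s (hs | hs)
    · simp only [Set.mem_insert_iff, Set.mem_singleton_iff] at hs
      rcases hs with rfl | rfl | rfl | rfl
      exacts [hAU hx₁A, hAU hx₂A, hBU hy₁B, hBU hy₂B]
    · exact hAU hs.1
  have hCcent : ∀ c ∈ C, ∀ u ∈ U, c * u = u * c := fun c hc u hu => by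
    have hu' := hUle hu
    clear hu
    induction hu' using Subgroup.closure_induction with
    | mem v hv =>
      rcases hv with hv | hv
      · simp only [Set.mem_insert_iff, Set.mem_singleton_iff] at hv
        rcases hv with rfl | rfl | rfl | rfl
        exacts [hAc _ hc.1 _ hx₁A, hAc _ hc.1 _ hx₂A, hBc _ hc.2 _ hy₁B, hBc _ hc.2 _ hy₂B]
      · exact hAc _ hc.1 _ hv.1
    | one => simp
    | mul v v' _ _ h1 h2 => rw [← mul_assoc, h1, mul_assoc, h2, mul_assoc]
    | inv v _ h1 => exact (show Commute c v from h1).inv_right.eq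
  haveI hKn : (K.subgroupOf U).Normal := ⟨fun k hk g => by
    have h1 : ((g : E) * (k : E) * (g : E)⁻¹) = (k : E) := by
      rw [← hCcent (k : E) (hKC hk) (g : E) g.2, mul_inv_cancel_right]
    show ((g * k * g⁻¹ : U) : E) ∈ K
    rw [Subgroup.coe_mul, Subgroup.coe_mul, Subgroup.coe_inv, h1]
    exact hk⟩
  have hgen : ∀ s ∈ S, ∀ t ∈ S, ⁅s, t⁆ ∈ K := by
    have hone : ∀ {a b : E}, a * b = b * a → ⁅a, b⁆ ∈ K := fun {a b} h => by
      rw [commutatorElement_eq_one_iff_mul_comm.2 h]; exact one_mem _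
    have hin : ∀ {k : E}, k ∈ [⁅x₁, y₁⁆, ⁅x₁, y₂⁆, ⁅x₂, y₁⁆, ⁅x₂, y₂⁆] → k ∈ K := fun h => Subgroup.subset_closure h
    have hin' : ∀ {a b : E}, ⁅a, b⁆ ∈ [⁅x₁, y₁⁆, ⁅x₁, y₂⁆, ⁅x₂, y₁⁆, ⁅x₂, y₂⁆] → ⁅b, a⁆ ∈ K := fun {a b} h => by
      rw [← commutatorElement_inv a b]; exact inv_mem (hin h)
    intro s hs t ht
    rcases hs with hs | hs
    · rcases ht with ht | ht
      · simp only [Set.mem_insert_iff, Set.mem_singleton_iff] at hs ht
        rcases hs with rfl | rfl | rfl | rfl <;> rcases ht with rfl | rfl | rfl | rfl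
        exacts [hone rfl, hone (hAc _ hx₁A _ hx₂A), hin (by simp), hin (by simp),
          hone (hAc _ hx₂A _ hx₁A), hone rfl, hin (by simp), hin (by simp),
          hin' (by simp), hin' (by simp), hone rfl, hone (hBc _ hy₁B _ hy₂B),
          hin' (by simp), hin' (by simp), hone (hBc _ hy₂B _ hy₁B), hone rfl]
      · exact hone (hCcent t ht s (hS' (Or.inl hs))).symm
    · exact hone (hCcent s hs t (hS' ht))
  have hder : ⁅U, U⁆ ≤ K := by
    rw [Subgroup.commutator_le]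
    let q := QuotientGroup.mk' (K.subgroupOf U)
    have hq : ∀ g h : U, Commute (q g) (q h) ↔ ⁅(g : E), (h : E)⁆ ∈ K := fun g h => by
      rw [← commutatorElement_eq_one_iff_commute, ← map_commutatorElement, QuotientGroup.mk'_apply,
        QuotientGroup.eq_one_iff]
      rfl
    have h1 : ∀ (s : E) (hs : s ∈ S) (u : E) (hu : u ∈ U), Commute (q ⟨s, hS' hs⟩) (q ⟨u, hu⟩) := by
      intro s hs u hu
      have hgoal : ∀ v, v ∈ Subgroup.closure S → ∀ hv : v ∈ U, Commute (q ⟨s, hS' hs⟩) (q ⟨v, hv⟩) := by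
        intro v hv
        induction hv using Subgroup.closure_induction with
        | mem t ht => exact fun _ => (hq _ _).2 (hgen s hs t ht)
        | one => exact fun _ => by rw [show (⟨1, _⟩ : U) = 1 from rfl, map_one]; exact Commute.one_right _
        | mul v v' hv hv' i1 i2 =>
          intro _
          have a1 : v ∈ U := (Subgroup.closure_le U).2 hS' hv
          have a2 : v' ∈ U := (Subgroup.closure_le U).2 hS' hv'
          rw [show (⟨v * v', _⟩ : U) = ⟨v, a1⟩ * ⟨v', a2⟩ from rfl, map_mul]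
          exact (i1 a1).mul_right (i2 a2)
        | inv v hv i1 =>
          intro _
          have a1 : v ∈ U := (Subgroup.closure_le U).2 hS' hv
          rw [show (⟨v⁻¹, _⟩ : U) = ⟨v, a1⟩⁻¹ from rfl, map_inv]
          exact (i1 a1).inv_right
      exact hgoal u (hUle hu) hu
    intro g hg h hh
    refine (hq ⟨g, hg⟩ ⟨h, hh⟩).1 ?_
    have hgoal : ∀ v, v ∈ Subgroup.closure S → ∀ hv : v ∈ U, Commute (q ⟨v, hv⟩) (q ⟨h, hh⟩) := by
      intro v hv
      induction hv using Subgroup.closure_induction with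
      | mem t ht => exact fun _ => h1 t ht h hh
      | one => exact fun _ => by rw [show (⟨1, _⟩ : U) = 1 from rfl, map_one]; exact Commute.one_left _
      | mul v v' hv hv' i1 i2 =>
        intro _
        have a1 : v ∈ U := (Subgroup.closure_le U).2 hS' hv
        have a2 : v' ∈ U := (Subgroup.closure_le U).2 hS' hv'
        rw [show (⟨v * v', _⟩ : U) = ⟨v, a1⟩ * ⟨v', a2⟩ from rfl, map_mul]
        exact (i1 a1).mul_left (i2 a2)
      | inv v hv i1 =>
        intro _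
        have a1 : v ∈ U := (Subgroup.closure_le U).2 hS' hv
        rw [show (⟨v⁻¹, _⟩ : U) = ⟨v, a1⟩⁻¹ from rfl, map_inv]
        exact (i1 a1).inv_left
    exact hgoal g (hUle hg) hg
  -- transfer
  have hZU : p.ker ≤ U := fun z hz => ⟨0, 0, 0, by rw [MonoidHom.mem_ker.1 hz, pu_zero]⟩
  have hodd : U.index % 2 = 1 := by
    rw [hUdef, Subgroup.index_comap, MonoidHom.range_eq_top.2 hp, Subgroup.relIndex_top_right]
    have h1 := (uT (F := F)).card_mul_index
    rw [uT_card hF] at h1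
    have h2 := CfsgLib.Classical.card_psl_mul (F := F) (n := 3) (by norm_num)
    rw [hF] at h2
    norm_num [Fin.prod_univ_three] at h2
    clear hK16 hKC
    rw [← Nat.card_eq_fintype_card] at h2
    omega
  have hker : p.ker ≤ ⁅U, U⁆ := fun z hz => by
    have hkey : ∀ (k : ℕ) (g : E), g⁻¹ * z ^ k * g ∈ U → g⁻¹ * z ^ k * g = z ^ k := fun k g _ => by
      rw [mul_assoc, ((show Commute z g from hZ z hz g).pow_left k).eq, inv_mul_cancel_left]
    let φ : U →* Abelianization U := Abelianization.of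
    have h1 := MonoidHom.transfer_eq_pow φ z hkey
    have h2 : MonoidHom.transfer φ z = 1 := by
      have : commutator E ≤ (MonoidHom.transfer φ).ker := Abelianization.commutator_subset_ker _
      exact MonoidHom.mem_ker.1 (this (by rw [hperf]; trivial))
    rw [h2, eq_comm] at h1
    have h3 : (⟨z ^ U.index, MonoidHom.transfer_eq_pow_aux z hkey⟩ : U) ∈ commutator U := by
      rw [← Abelianization.ker_of]; exact MonoidHom.mem_ker.2 h1
    have h4 : z ^ U.index ∈ ⁅U, U⁆ := by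
      rw [← Subgroup.map_subtype_commutator]; exact ⟨_, h3, rfl⟩
    have e : z ^ U.index = z := by
      obtain ⟨r, hr⟩ : ∃ r, U.index = 2 * r + 1 := ⟨U.index / 2, by omega⟩
      rw [hr, pow_succ, pow_mul, pow_two, hZ2 z hz, one_pow, one_mul]
    rwa [e] at h4
  -- count
  have h1 := (p.comp (⁅U, U⁆ : Subgroup E).subtype).ker.card_mul_index
  rw [Subgroup.index_ker] at h1
  have h2 : 4 ≤ Nat.card (p.comp (⁅U, U⁆ : Subgroup E).subtype).range := by
    have hsub : ∀ d : F, pu 0 0 d ∈ (p.comp (⁅U, U⁆ : Subgroup E).subtype).range := fun d => by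
      obtain ⟨y, hy⟩ := hp (pu d 0 0)
      obtain ⟨x, hx⟩ := hp (pu 0 1 0)
      refine ⟨⟨⁅y, x⁆, Subgroup.commutator_mem_commutator (hBU ⟨d, 0, hy⟩) (hAU ⟨1, 0, hx⟩)⟩, ?_⟩
      show p ⁅y, x⁆ = _
      rw [map_commutatorElement, hy, hx, commutatorElement_def, pu_inv, pu_inv, pu_mul, pu_mul, pu_mul]
      congr 1 <;> ring
    have := Nat.card_le_card_of_injective (fun d : F => (⟨_, hsub d⟩ :
      (p.comp (⁅U, U⁆ : Subgroup E).subtype).range)) fun d d' h => (pu_inj (congrArg Subtype.val h)).2.2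
    rwa [Nat.card_eq_fintype_card, hF] at this
  have h3 : Nat.card p.ker ≤ Nat.card (p.comp (⁅U, U⁆ : Subgroup E).subtype).ker :=
    Nat.card_le_card_of_injective (fun z => ⟨⟨z.1, hker z.2⟩, z.2⟩) fun z z' h =>
      Subtype.ext (congrArg (fun v : (p.comp (⁅U, U⁆ : Subgroup E).subtype).ker => ((v : (⁅U, U⁆ : Subgroup E)) : E)) h)
  have h4 : Nat.card (⁅U, U⁆ : Subgroup E) ≤ 2 ^ 4 :=
    (Nat.le_of_dvd Nat.card_pos (Subgroup.card_dvd_of_le hder)).trans hK16
  by_contra hgt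
  have h5 := Nat.mul_le_mul ((Nat.succ_le_of_lt (not_le.1 hgt)).trans h3) h2
  rw [h1] at h5
  omega

end Main

end CfsgLib.Trans3.L34
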