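import Cfsg.Agent.Lib.Trans3.LargeLinear

/-!
Point stabilisers in affine form: `V ⋊ GL(V)_e` gives a centraliser `2^{1+2n} : GL_n(2)`.
-/

set_option autoImplicit false

namespace CfsgLib.Trans3.LargeAffine

open Matrix CfsgLib.Trans3.ExtraTwo CfsgLib.Trans3.LargeLinear

variable {n : ℕ}

/-- the first coordinate vector -/
def e0 (n : ℕ) : Fin (n + 1) → ZMod 2 := Fin.cons 1 0

/-- block matrices fixing the first coordinate vector -/
def blk (ψ : Fin n → ZMod 2) (B : Matrix (Fin n) (Fin n) (ZMod 2)) : Matrix (Fin (n + 1)) (Fin (n + 1)) (ZMod 2) :=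
  Matrix.of (Fin.cons (Fin.cons 1 ψ : Fin (n + 1) → ZMod 2) fun i => Fin.cons 0 (B i))

theorem blk_mulVec (ψ : Fin n → ZMod 2) (B : Matrix (Fin n) (Fin n) (ZMod 2)) (a : ZMod 2) (v : Fin n → ZMod 2) :
    blk ψ B *ᵥ Fin.cons a v = Fin.cons (a + ψ ⬝ᵥ v) (B *ᵥ v) := by
  funext i
  refine Fin.cases ?_ (fun j => ?_) i <;> simp [blk, mulVec, dotProduct, Fin.sum_univ_succ]

theorem ext_cons {A A' : Matrix (Fin (n + 1)) (Fin (n + 1)) (ZMod 2)}
    (h : ∀ a v, A *ᵥ Fin.cons a v = A' *ᵥ Fin.cons a v) : A = A' :=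
  Matrix.ext_iff_mulVec.2 fun x => by
    have := h (x 0) (Fin.tail x)
    rwa [Fin.cons_self_tail] at this

theorem blk_mul (ψ ψ' : Fin n → ZMod 2) (B B' : Matrix (Fin n) (Fin n) (ZMod 2)) :
    blk ψ B * blk ψ' B' = blk (ψ' + ψ ᵥ* B') (B * B') := by
  refine ext_cons fun a v => ?_
  rw [← mulVec_mulVec, blk_mulVec, blk_mulVec, blk_mulVec, ← mulVec_mulVec, add_dotProduct, ← dotProduct_mulVec,
    add_assoc]

theorem blk_one : blk (0 : Fin n → ZMod 2) 1 = 1 :=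
  ext_cons fun a v => by rw [blk_mulVec, one_mulVec, one_mulVec, zero_dotProduct, add_zero]

theorem blk_e0 (ψ : Fin n → ZMod 2) (B : Matrix (Fin n) (Fin n) (ZMod 2)) : blk ψ B *ᵥ e0 n = e0 n := by
  rw [e0, blk_mulVec, dotProduct_zero, mulVec_zero, add_zero]

/-- the invertible block matrices -/
def blkGL (ψ : Fin n → ZMod 2) (B : GL (Fin n) (ZMod 2)) : GL (Fin (n + 1)) (ZMod 2) where
  val := blk ψ B
  inv := blk (-(ψ ᵥ* ((B⁻¹ : GL (Fin n) (ZMod 2)) : Matrix (Fin n) (Fin n) (ZMod 2)))) ((B⁻¹ : GL (Fin n) (ZMod 2)) : Matrix (Fin n) (Fin n) (ZMod 2))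
  val_inv := by rw [blk_mul, ← Units.val_mul, mul_inv_cancel, Units.val_one, neg_add_cancel, blk_one]
  inv_val := by
    rw [blk_mul, ← Units.val_mul, inv_mul_cancel, Units.val_one, neg_vecMul, vecMul_vecMul, ← Units.val_mul,
      inv_mul_cancel, Units.val_one, vecMul_one, add_neg_cancel, blk_one]

theorem blkGL_mul (ψ ψ' : Fin n → ZMod 2) (B B' : GL (Fin n) (ZMod 2)) :
    blkGL ψ B * blkGL ψ' B' = blkGL (ψ' + ψ ᵥ* (B' : Matrix (Fin n) (Fin n) (ZMod 2))) (B * B') :=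
  Units.ext (blk_mul ψ ψ' _ _)

theorem exists_blk_of_fix (A : Matrix (Fin (n + 1)) (Fin (n + 1)) (ZMod 2)) (h : A *ᵥ e0 n = e0 n) :
    ∃ ψ B, A = blk ψ B := by
  have h0 : ∀ i, A i 0 = e0 n i := fun i => by
    rw [← h]
    simp [e0, mulVec, dotProduct, Fin.sum_univ_succ]
  refine ⟨fun j => A 0 j.succ, fun i j => A i.succ j.succ, ?_⟩
  ext i j
  refine Fin.cases ?_ (fun i' => ?_) i <;> refine Fin.cases ?_ (fun j' => ?_) j <;> simp [blk, h0, e0]

theorem exists_blkGL_of_fix (A : GL (Fin (n + 1)) (ZMod 2))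
    (h : (A : Matrix (Fin (n + 1)) (Fin (n + 1)) (ZMod 2)) *ᵥ e0 n = e0 n) : ∃ ψ B, A = blkGL ψ B := by
  obtain ⟨ψ, B, e⟩ := exists_blk_of_fix _ h
  have h' : ((A⁻¹ : GL (Fin (n + 1)) (ZMod 2)) : Matrix (Fin (n + 1)) (Fin (n + 1)) (ZMod 2)) *ᵥ e0 n = e0 n := by
    conv_lhs => rw [← h]
    rw [mulVec_mulVec, ← Units.val_mul, inv_mul_cancel, Units.val_one, one_mulVec]
  obtain ⟨ψ', B', e'⟩ := exists_blk_of_fix _ h'
  have hone : ∀ ψ₁ B₁, blk ψ₁ B₁ = (1 : Matrix (Fin (n + 1)) (Fin (n + 1)) (ZMod 2)) → B₁ = 1 := fun ψ₁ B₁ h1 => by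
    refine Matrix.ext fun i j => ?_
    have := congrFun (congrFun h1 i.succ) j.succ
    simpa [blk, Matrix.one_apply] using this
  have h1 : B * B' = 1 := hone _ _ (by rw [← blk_mul, ← e, ← e', ← Units.val_mul, mul_inv_cancel, Units.val_one])
  have h2 : B' * B = 1 := hone _ _ (by rw [← blk_mul, ← e, ← e', ← Units.val_mul, inv_mul_cancel, Units.val_one])
  exact ⟨ψ, ⟨B, B', h1, h2⟩, Units.ext e⟩

variable {G : Type*} [Group G] [Finite G] (z : G)

/-- The affine criterion. -/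
theorem structure_affine (hn : 1 ≤ n) (ε : Multiplicative (Fin (n + 1) → ZMod 2) →* G) (hεi : Function.Injective ε)
    (μ : GL (Fin (n + 1)) (ZMod 2) → G)
    (hμmul : ∀ A A' : GL (Fin (n + 1)) (ZMod 2), (A : Matrix _ _ (ZMod 2)) *ᵥ e0 n = e0 n →
      (A' : Matrix _ _ (ZMod 2)) *ᵥ e0 n = e0 n → μ (A * A') = μ A * μ A')
    (hεμ : ∀ A : GL (Fin (n + 1)) (ZMod 2), (A : Matrix _ _ (ZMod 2)) *ᵥ e0 n = e0 n → ∀ w,
      μ A * ε (Multiplicative.ofAdd w) * (μ A)⁻¹ = ε (Multiplicative.ofAdd ((A : Matrix _ _ (ZMod 2)) *ᵥ w)))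
    (hεz : ε (Multiplicative.ofAdd (e0 n)) = z)
    (hC : ∀ g : G, g ∈ Subgroup.centralizer ({z} : Set G) ↔
      ∃ (w : Fin (n + 1) → ZMod 2) (A : GL (Fin (n + 1)) (ZMod 2)), (A : Matrix _ _ (ZMod 2)) *ᵥ e0 n = e0 n ∧ g = ε (Multiplicative.ofAdd w) * μ A)
    (hAn : ∀ a ∈ ε.range, a ≠ 1 → Subgroup.centralizer ({a} : Set G) ≤ Subgroup.normalizer (ε.range : Set G))
    (Q : Subgroup G) (hQ : Q = (Cfsg.pCore 2 ↥(Subgroup.centralizer ({z} : Set G))).map
      (Subgroup.centralizer ({z} : Set G)).subtype) :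
    Cfsg.IsExtraspecial 2 ↥Q ∧ Nat.card ↥Q = 2 ^ (2 * n + 1) ∧
      (∃ E : Subgroup G, E ≤ Q ∧ Cfsg.IsElementaryAbelian 2 E ∧ Nat.card ↥E = 2 ^ (n + 1)) ∧
      Cfsg.IsLargeExtraspecial Q ∧
      ∃ K : Subgroup G, K ≤ Subgroup.centralizer ({z} : Set G) ∧ Q ⊓ K = ⊥ ∧
        Q ⊔ K = Subgroup.centralizer ({z} : Set G) ∧ Nonempty (↥K ≃* GL (Fin n) (ZMod 2)) := by
  classical
  have hfix : ∀ ψ B, ((blkGL ψ B : GL (Fin (n + 1)) (ZMod 2)) : Matrix _ _ (ZMod 2)) *ᵥ e0 n = e0 n :=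
    fun ψ B => blk_e0 ψ _
  have hμ1 : μ 1 = 1 := by
    have := hμmul 1 1 (by simp) (by simp)
    rw [mul_one] at this
    exact left_eq_mul.1 this
  have hfaith : ∀ A : GL (Fin (n + 1)) (ZMod 2), (A : Matrix _ _ (ZMod 2)) *ᵥ e0 n = e0 n →
      (∀ w, μ A * ε (Multiplicative.ofAdd w) * (μ A)⁻¹ = ε (Multiplicative.ofAdd w)) → A = 1 := by
    intro A hA h
    refine Units.ext (Matrix.ext_iff_mulVec.2 fun w => ?_)
    have := hεi ((hεμ A hA w).symm.trans (h w))
    rw [Units.val_one, one_mulVec]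
    exact Multiplicative.ofAdd.injective this
  have hab : ∀ a b, ε (Multiplicative.ofAdd a) * ε (Multiplicative.ofAdd b) = ε (Multiplicative.ofAdd (a + b)) :=
    fun a b => (map_mul ε _ _).symm
  have hμinj : ∀ (w : Fin (n + 1) → ZMod 2) (A : GL (Fin (n + 1)) (ZMod 2)), (A : Matrix _ _ (ZMod 2)) *ᵥ e0 n = e0 n → ε (Multiplicative.ofAdd w) * μ A = 1 →
      w = 0 ∧ A = 1 := by
    intro w A hA h
    have hA1 : A = 1 := hfaith A hA fun u => by
      rw [eq_inv_of_mul_eq_one_right h, inv_inv, ← map_inv, ← map_mul, ← map_mul]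
      congr 1
      rw [mul_right_comm, inv_mul_cancel, one_mul]
    rw [hA1, hμ1, mul_one] at h
    exact ⟨Multiplicative.ofAdd.injective ((hεi (h.trans (map_one ε).symm)).trans rfl), hA1⟩
  let qf : ES n (T0 n) → G := fun x =>
    ε (Multiplicative.ofAdd (Fin.cons x.c (colPart x.v))) * μ (blkGL (rowPart x.v) 1)
  let q : ES n (T0 n) →* G := MonoidHom.mk' qf fun x y => by
    show qf (x * y) = qf x * qf y
    simp only [qf]
    rw [show ε (Multiplicative.ofAdd (Fin.cons x.c (colPart x.v))) * μ (blkGL (rowPart x.v) 1) *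
        (ε (Multiplicative.ofAdd (Fin.cons y.c (colPart y.v))) * μ (blkGL (rowPart y.v) 1)) =
        ε (Multiplicative.ofAdd (Fin.cons x.c (colPart x.v))) * (μ (blkGL (rowPart x.v) 1) *
          ε (Multiplicative.ofAdd (Fin.cons y.c (colPart y.v))) * (μ (blkGL (rowPart x.v) 1))⁻¹) *
        (μ (blkGL (rowPart x.v) 1) * μ (blkGL (rowPart y.v) 1)) by group,
      hεμ _ (hfix _ _), hab, ← hμmul _ _ (hfix _ _) (hfix _ _), blkGL_mul, mul_one, Units.val_one, vecMul_one]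
    congr 2
    · congr 1
      show _ = _ + blk (rowPart x.v) ((1 : GL (Fin n) (ZMod 2)) : Matrix (Fin n) (Fin n) (ZMod 2)) *ᵥ _
      rw [blk_mulVec, Units.val_one, one_mulVec]
      funext i
      refine Fin.cases ?_ (fun j => ?_) i
      · simp only [Fin.cons_zero, Pi.add_apply, mul_c, beta_eq]
        ring
      · simp [colPart, mul_v]
    · congr 1
      funext i
      simp [rowPart, mul_v, add_comm]
  let k : GL (Fin n) (ZMod 2) →* G := MonoidHom.mk' (fun B => μ (blkGL 0 B)) fun B B' => by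
    show μ _ = μ _ * μ _
    rw [← hμmul _ _ (hfix _ _) (hfix _ _), blkGL_mul, zero_vecMul, add_zero]
  have hqi : Function.Injective q := by
    refine (injective_iff_map_eq_one q).2 fun x hx => ?_
    obtain ⟨h1, h2⟩ := hμinj _ _ (hfix _ _) hx
    refine ES.ext (funext fun i => Prod.ext ?_ ?_) ?_
    · have h3 : blk (rowPart x.v) ((1 : GL (Fin n) (ZMod 2)) : Matrix (Fin n) (Fin n) (ZMod 2)) = 1 :=
        Units.ext_iff.1 h2
      have := congrFun (congrFun h3 0) i.succ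
      simpa [blkGL, blk, rowPart, one_v, Matrix.one_apply, (Fin.succ_ne_zero i).symm] using this
    · have := congrFun h1 i.succ
      simpa [colPart, one_v] using this
    · have := congrFun h1 0
      simpa [one_c] using this
  have hki : Function.Injective k := by
    refine (injective_iff_map_eq_one k).2 fun B hB => ?_
    obtain ⟨-, h2⟩ := hμinj 0 _ (hfix 0 B) (by rw [show Multiplicative.ofAdd (0 : Fin (n + 1) → ZMod 2) = 1 from rfl, map_one, one_mul]; exact hB)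
    refine Units.ext (Matrix.ext fun i j => ?_)
    have h3 : blk 0 (B : Matrix (Fin n) (Fin n) (ZMod 2)) = 1 := Units.ext_iff.1 h2
    have := congrFun (congrFun h3 i.succ) j.succ
    simpa [blkGL, blk, Matrix.one_apply] using this
  have hqz : q ⟨0, 1⟩ = z := by
    show ε _ * μ _ = z
    have e1 : blkGL (rowPart (0 : Sp n)) (1 : GL (Fin n) (ZMod 2)) = 1 := Units.ext blk_one
    rw [e1, hμ1, mul_one]
    exact hεz
  have hrange : ε.range ≤ q.range := by
    rintro _ ⟨w, rfl⟩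
    refine ⟨⟨fun i => (0, Multiplicative.toAdd w i.succ), Multiplicative.toAdd w 0⟩, ?_⟩
    show ε _ * μ _ = _
    have e1 : blkGL (rowPart (fun i => (0, Multiplicative.toAdd w i.succ) : Sp n)) (1 : GL (Fin n) (ZMod 2)) = 1 :=
      Units.ext (by
        show blk _ _ = _
        rw [Units.val_one]
        exact blk_one)
    rw [e1, hμ1, mul_one]
    congr 1
    show Multiplicative.ofAdd (Fin.cons _ _) = Multiplicative.ofAdd (Multiplicative.toAdd w)
    congr 1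
    exact Fin.cons_self_tail _
  refine structure_of z q k hn hqi hki hqz (fun g => ?_) (fun B x => ?_) ε.range hrange ⟨?_, ?_⟩ ?_ ?_ hAn Q hQ
  · rw [hC]
    constructor
    · rintro ⟨w, A, hA, rfl⟩
      obtain ⟨ψ, B, rfl⟩ := exists_blkGL_of_fix A hA
      refine ⟨⟨fun i => ((ψ ᵥ* ((B⁻¹ : GL (Fin n) (ZMod 2)) : Matrix (Fin n) (Fin n) (ZMod 2))) i, w i.succ), w 0⟩,
        B, ?_⟩
      show _ = ε _ * μ _ * μ _
      rw [mul_assoc, ← hμmul _ _ (hfix _ _) (hfix _ _), blkGL_mul, one_mul, zero_add]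
      congr 2
      · congr 1
        exact (Fin.cons_self_tail w).symm
      · congr 1
        show ψ = (ψ ᵥ* _) ᵥ* _
        rw [vecMul_vecMul, ← Units.val_mul, inv_mul_cancel, Units.val_one, vecMul_one]
    · rintro ⟨x, B, rfl⟩
      refine ⟨Fin.cons x.c (colPart x.v), blkGL (rowPart x.v) 1 * blkGL 0 B, ?_, ?_⟩
      · rw [Units.val_mul, ← mulVec_mulVec, hfix, hfix]
      · show ε _ * μ _ * μ _ = _
        rw [mul_assoc, hμmul _ _ (hfix _ _) (hfix _ _)]
  · show μ _ * (ε _ * μ _) * (μ _)⁻¹ = ε _ * μ _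
    have hinv : (μ (blkGL 0 B))⁻¹ = μ (blkGL 0 B⁻¹) := (map_inv k B).symm
    rw [show μ (blkGL 0 B) * (ε (Multiplicative.ofAdd (Fin.cons x.c (colPart x.v))) * μ (blkGL (rowPart x.v) 1)) *
        (μ (blkGL 0 B))⁻¹ = (μ (blkGL 0 B) * ε (Multiplicative.ofAdd (Fin.cons x.c (colPart x.v))) *
        (μ (blkGL 0 B))⁻¹) * (μ (blkGL 0 B) * μ (blkGL (rowPart x.v) 1) * (μ (blkGL 0 B))⁻¹) by group,
      hεμ _ (hfix _ _), hinv, ← hμmul _ _ (hfix _ _) (hfix _ _), blkGL_mul,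
      ← hμmul _ _ (hfix _ _) (hfix _ _), blkGL_mul]
    congr 2
    · congr 1
      show blk 0 _ *ᵥ _ = _
      rw [blk_mulVec, zero_dotProduct, add_zero]
      rfl
    · congr 1
      · simp only [zero_vecMul, add_zero, zero_add]
        rfl
      · rw [mul_one, mul_inv_cancel]
  · exact ⟨⟨fun ⟨_, a, ha⟩ ⟨_, b, hb⟩ => Subtype.ext (by
      subst ha hb
      show ε a * ε b = ε b * ε a
      rw [← map_mul, ← map_mul, mul_comm])⟩⟩
  · rintro _ ⟨a, rfl⟩
    rw [← map_pow, pow_two]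
    have : a * a = 1 := congrArg Multiplicative.ofAdd (funext fun i => z2_add_self (Multiplicative.toAdd a i))
    rw [this, map_one]
  · rw [← Nat.card_congr (MonoidHom.ofInjective hεi).toEquiv, Nat.card_eq_fintype_card]
    simp only [Fintype.card_multiplicative, Fintype.card_fun, ZMod.card, Fintype.card_fin]
    calc 4 = 2 ^ 2 := rfl
      _ ≤ _ := Nat.pow_le_pow_right two_pos (by omega)
  · intro g hg
    have hgC : g ∈ Subgroup.centralizer ({z} : Set G) := Subgroup.mem_centralizer_singleton_iff.2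
      (Subgroup.mem_centralizer_iff.1 hg z ⟨_, hεz⟩).symm
    obtain ⟨w, A, hA, rfl⟩ := (hC g).1 hgC
    have hA1 : A = 1 := hfaith A hA fun u => by
      have h1 := Subgroup.mem_centralizer_iff.1 hg (ε (Multiplicative.ofAdd u)) ⟨_, rfl⟩
      have h2 : ε (Multiplicative.ofAdd u) * ε (Multiplicative.ofAdd w) = ε (Multiplicative.ofAdd w) * ε (Multiplicative.ofAdd u) := by
        exact ((map_mul ε _ _).symm.trans (congrArg ε (mul_comm _ _))).trans (map_mul ε _ _)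
      rw [← mul_assoc, h2, mul_assoc, mul_assoc] at h1
      rw [← mul_left_cancel h1, mul_inv_cancel_right]
    rw [hA1, hμ1, mul_one]
    exact ⟨_, rfl⟩

end CfsgLib.Trans3.LargeAffine
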