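import Cfsg.Agent.Lib.Trans3.LargeSymm

/-!
A conjugate of the centre inside an extraspecial subgroup: the four-group they generate.
-/

set_option autoImplicit false
set_option linter.style.haveILetI false

namespace CfsgLib.Trans3.LargeSymm

open Subgroup

variable {G : Type*} [Group G] [Finite G]

theorem four_main (Q : Subgroup G) (hL1 : Cfsg.IsExtraspecial 2 ↥Q)
    (hL2 : centralizer (Q : Set G) = ((center ↥Q).map Q.subtype))
    (hL3 : centralizer (((center ↥Q).map Q.subtype) : Set G) ≤ normalizer (Q : Set G))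
    (g : G) (hg : g ∉ normalizer (((center ↥Q).map Q.subtype) : Set G))
    (hZg : (((center ↥Q).map Q.subtype)).map (MulAut.conj g).toMonoidHom ≤ Q) :
    ((center ↥Q).map Q.subtype) ≤ Q.map (MulAut.conj g).toMonoidHom ∧
    (centralizer ((((center ↥Q).map Q.subtype) ⊔
      (((center ↥Q).map Q.subtype)).map (MulAut.conj g).toMonoidHom : Subgroup G) : Set G)).relIndex
      (normalizer ((((center ↥Q).map Q.subtype) ⊔
        (((center ↥Q).map Q.subtype)).map (MulAut.conj g).toMonoidHom : Subgroup G) : Set G)) = 6 ∧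
    Cfsg.IsLargeExtraspecial Q := by
  obtain ⟨z, hz, hzQ, hzc, hZ⟩ := exists_centre_gen hL1
  have hL2' := hL2
  have hL3' := hL3
  rw [hZ] at hL2 hL3 hg hZg ⊢
  rw [centralizer_zpowers] at hL3
  obtain ⟨x, hx⟩ : ∃ x, x = g * z * g⁻¹ := ⟨_, rfl⟩
  have hZx : (zpowers z).map (MulAut.conj g).toMonoidHom = zpowers x := by
    rw [MonoidHom.map_zpowers, hx]; rfl
  rw [hZx] at hZg ⊢
  have hxQ : x ∈ Q := hZg (mem_zpowers x)
  have hxz : x ≠ z := by
    intro h
    apply hg
    rw [mem_normalizer_iff]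
    intro y
    have e : g * z * g⁻¹ = z := hx ▸ h
    have e' : ∀ k : ℤ, g * z ^ k * g⁻¹ = z ^ k := fun k => by
      rw [← MulAut.conj_apply, map_zpow, MulAut.conj_apply, e]
    constructor
    · intro hy
      obtain ⟨k, rfl⟩ := mem_zpowers_iff.1 hy
      rw [e']; exact hy
    · intro hy
      obtain ⟨k, hk⟩ := mem_zpowers_iff.1 hy
      have : y = z ^ k := by
        rw [← e'] at hk
        exact (mul_left_cancel (mul_right_cancel hk)).symm
      rw [this]; exact zpow_mem (mem_zpowers z) k
  have hQle : Q ≤ centralizer ({z} : Set G) := fun q hq => mem_centralizer_singleton_iff.2 (hzc q hq)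
  have hQn : ∀ c ∈ centralizer ({z} : Set G), ∀ a ∈ Q, c * a * c⁻¹ ∈ Q :=
    fun c hc a ha => (mem_normalizer_iff.1 (hL3 hc) a).1 ha
  have hC : centralizer (Q : Set G) ≤ Q := by rw [hL2]; exact zpowers_le.2 hzQ
  have hzR : z ∈ Q.map (MulAut.conj g).toMonoidHom :=
    symm_gen hz hzQ hQle hQn hL1 hC g (hx ▸ hxQ)
  refine ⟨zpowers_le.2 hzR, ?_, ?_⟩
  · -- the automizer of `V`
    classical
    have hz2 : z * z = 1 := by rw [← pow_two, ← hz, pow_orderOf_eq_one]
    have hxo : orderOf x = 2 := by rw [hx, ← MulAut.conj_apply, MulEquiv.orderOf_eq, hz]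
    have hxx : x * x = 1 := by rw [← pow_two, ← hxo, pow_orderOf_eq_one]
    have hzx : x * z = z * x := hzc x hxQ
    set V := zpowers z ⊔ zpowers x with hVdef
    have hzV : z ∈ V := mem_sup_left (mem_zpowers z)
    have hxV : x ∈ V := mem_sup_right (mem_zpowers x)
    have hVmem : ∀ v ∈ V, v = 1 ∨ v = z ∨ v = x ∨ v = z * x := by
      intro v hv
      rw [hVdef, zpowers_eq_closure, zpowers_eq_closure, ← Subgroup.closure_union] at hv
      have e1 : z * (z * x) = x := by rw [← mul_assoc, hz2, one_mul]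
      have e2 : x * (z * x) = z := by rw [← mul_assoc, hzx, mul_assoc, hxx, mul_one]
      have e3 : z * x * z = x := by rw [mul_assoc, hzx, e1]
      have e4 : z * x * x = z := by rw [mul_assoc, hxx, mul_one]
      have e5 : z * x * (z * x) = 1 := by rw [← mul_assoc, e3, hxx]
      have e6 : (z * x)⁻¹ = z * x := inv_eq_of_mul_eq_one_right e5
      induction hv using closure_induction with
      | mem t ht => rcases ht with rfl | rfl <;> simp
      | one => simp
      | mul a b _ _ iha ihb =>
        rcases iha with rfl | rfl | rfl | rfl <;> rcases ihb with rfl | rfl | rfl | rfl <;>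
          simp only [one_mul, mul_one, hz2, hxx, e1, e2, e3, e4, e5, hzx, true_or, or_true]
      | inv a _ iha =>
        rcases iha with rfl | rfl | rfl | rfl <;>
          simp [inv_eq_of_mul_eq_one_right hz2, inv_eq_of_mul_eq_one_right hxx, e6]
    have hnorm : ∀ q : G, q * z * q⁻¹ ∈ V → q * x * q⁻¹ ∈ V → q ∈ normalizer (V : Set G) := by
      intro q h1 h2
      have hle : V ≤ V.comap (MulAut.conj q).toMonoidHom :=
        sup_le (zpowers_le.2 h1) (zpowers_le.2 h2)
      have hmap : V.map (MulAut.conj q).toMonoidHom = V :=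
        eq_of_le_of_card_ge (map_le_iff_le_comap.2 hle)
          (Nat.card_congr (V.equivMapOfInjective _ (MulAut.conj q).injective).toEquiv).le
      rw [mem_normalizer_iff]
      refine fun y => ⟨fun hy => hle hy, fun hy => ?_⟩
      obtain ⟨w, hw, e⟩ := hmap.symm ▸ hy
      exact (MulAut.conj q).injective e ▸ hw
    obtain ⟨q0, hq0, hq0x⟩ : ∃ q ∈ Q, q * x * q⁻¹ = z * x := by
      by_contra! hall
      have hm : x ∈ zpowers z := hZ ▸ ⟨⟨x, hxQ⟩, mem_center_iff.2 fun q => Subtype.ext (by
        rcases comm_cases hL1 hz hZ q.2 hxQ with h | h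
        · exact mul_inv_eq_iff_eq_mul.1 h
        · exact absurd h (hall q q.2)), rfl⟩
      rcases mem_zpowers_invol hz hm with h | h
      · exact invol_ne_one hxo h
      · exact hxz h
    obtain ⟨q1, hq1, hq1z⟩ : ∃ q : G, q * x * q⁻¹ = x ∧ q * z * q⁻¹ = x * z := by
      obtain ⟨w, hw, hwz⟩ := hzR
      have hwz' : g * w * g⁻¹ = z := hwz
      obtain ⟨q, hq, hqw⟩ : ∃ q ∈ Q, q * w * q⁻¹ = z * w := by
        by_contra! hall
        have hm : w ∈ zpowers z := hZ ▸ ⟨⟨w, hw⟩, mem_center_iff.2 fun q => Subtype.ext (by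
          rcases comm_cases hL1 hz hZ q.2 hw with h | h
          · exact mul_inv_eq_iff_eq_mul.1 h
          · exact absurd h (hall q q.2)), rfl⟩
        rcases mem_zpowers_invol hz hm with h | h
        · rw [h] at hwz'; exact invol_ne_one hz (by rw [← hwz']; group)
        · rw [h] at hwz'; exact hxz (hx.trans hwz')
      refine ⟨g * q * g⁻¹, ?_, ?_⟩
      · rw [hx]
        calc g * q * g⁻¹ * (g * z * g⁻¹) * (g * q * g⁻¹)⁻¹ = g * (q * z * q⁻¹) * g⁻¹ := by group
          _ = g * z * g⁻¹ := by rw [hzc q hq, mul_inv_cancel_right]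
      · calc g * q * g⁻¹ * z * (g * q * g⁻¹)⁻¹ = g * q * g⁻¹ * (g * w * g⁻¹) * (g * q * g⁻¹)⁻¹ := by
              rw [hwz']
          _ = g * (q * w * q⁻¹) * g⁻¹ := by group
          _ = (g * z * g⁻¹) * (g * w * g⁻¹) := by rw [hqw]; group
          _ = x * z := by rw [hwz', ← hx]
    have hq0z : q0 * z * q0⁻¹ = z := by rw [hzc q0 hq0, mul_inv_cancel_right]
    have hq0N : q0 ∈ normalizer (V : Set G) :=
      hnorm q0 (by rw [hq0z]; exact hzV) (by rw [hq0x]; exact mul_mem hzV hxV)
    have hq1N : q1 ∈ normalizer (V : Set G) :=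
      hnorm q1 (by rw [hq1z]; exact mul_mem hxV hzV) (by rw [hq1]; exact hxV)
    let X := {v : G // v ∈ V ∧ v ≠ 1}
    let f : normalizer (V : Set G) →* Equiv.Perm X :=
      { toFun := fun q => Equiv.Perm.subtypePerm (MulAut.conj (q : G)).toEquiv (fun v => by
          show (q : G) * v * (q : G)⁻¹ ∈ V ∧ _ ↔ v ∈ V ∧ v ≠ 1
          rw [← mem_normalizer_iff.1 q.2 v]
          exact and_congr_right fun _ => not_congr conj_eq_one_iff)
        map_one' := Equiv.ext fun v => Subtype.ext (by simp)
        map_mul' := fun a b => Equiv.ext fun v => Subtype.ext (by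
          show ((a : G) * b) * v * ((a : G) * b)⁻¹ = (a : G) * ((b : G) * v * (b : G)⁻¹) * (a : G)⁻¹
          group) }
    have hf : ∀ (q : normalizer (V : Set G)) (v : X),
        ((f q v : X) : G) = (q : G) * v * (q : G)⁻¹ := fun q v => rfl
    have hker : (centralizer (V : Set G)).subgroupOf (normalizer (V : Set G)) = f.ker := by
      ext q
      rw [mem_subgroupOf, MonoidHom.mem_ker]
      constructor
      · intro hq
        refine Equiv.ext fun v => Subtype.ext ?_
        rw [hf, ← hq v v.2.1, mul_inv_cancel_right]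
        rfl
      · intro hq v hv
        by_cases hv1 : v = 1
        · simp [hv1]
        have h := congrArg (fun p : Equiv.Perm X => ((p ⟨v, hv, hv1⟩ : X) : G)) hq
        have h' : (q : G) * v * (q : G)⁻¹ = v := h
        exact (mul_inv_eq_iff_eq_mul.1 h').symm
    have hX : Nat.card X ≤ 3 := by
      have hsub : {v : G | v ∈ V ∧ v ≠ 1} ⊆ {z, x, z * x} := by
        rintro v ⟨hv, hv1⟩
        rcases hVmem v hv with h | h | h | h <;> simp_all
      refine le_trans (le_of_eq (Nat.card_coe_set_eq _)) ((Set.ncard_le_ncard hsub).trans ?_)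
      exact (Set.ncard_insert_le _ _).trans (by
        have := Set.ncard_insert_le x ({z * x} : Set G); simp at this; omega)
    have hdvd : Nat.card f.range ∣ 6 := by
      refine (card_subgroup_dvd_card f.range).trans ?_
      rw [Nat.card_perm]
      exact (Nat.factorial_dvd_factorial hX).trans (by decide)
    have hzX : z ∈ V ∧ z ≠ 1 := ⟨hzV, invol_ne_one hz⟩
    set p0 : f.range := ⟨f ⟨q0, hq0N⟩, ⟨_, rfl⟩⟩
    set p1 : f.range := ⟨f ⟨q1, hq1N⟩, ⟨_, rfl⟩⟩
    have hp0z : ((((p0 : Equiv.Perm X)) ⟨z, hzX⟩ : X) : G) = z := hq0z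
    have hp1z : ((((p1 : Equiv.Perm X)) ⟨z, hzX⟩ : X) : G) = x * z := hq1z
    have hxX : x ∈ V ∧ x ≠ 1 := ⟨hxV, invol_ne_one hxo⟩
    have hp0x : ((((p0 : Equiv.Perm X)) ⟨x, hxX⟩ : X) : G) = z * x := hq0x
    have hp1x : ((((p1 : Equiv.Perm X)) ⟨x, hxX⟩ : X) : G) = x := hq1
    have h6 : Nat.card f.range = 6 := by
      have hzne : z ≠ x * z := fun h => invol_ne_one hxo (mul_eq_right.1 h.symm)
      have hxne : z * x ≠ x := fun h => invol_ne_one hz (mul_eq_right.1 h)
      have hne : p0 ≠ p1 := fun h => hzne (by rw [← hp1z, ← h, hp0z])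
      have h01 : p0 ≠ 1 := fun h => hxne (by rw [← hp0x, h]; rfl)
      have h11 : p1 ≠ 1 := fun h => hzne (by rw [← hp1z, h]; rfl)
      have h3 : 3 ≤ Nat.card f.range := by
        have hs : ({1, p0, p1} : Finset f.range).card = 3 := by simp [hne, h01.symm, h11.symm]
        haveI := Fintype.ofFinite f.range
        have := Finset.card_le_univ ({1, p0, p1} : Finset f.range)
        rw [hs, ← Nat.card_eq_fintype_card] at this
        exact this
      have h2 : 2 ∣ Nat.card f.range := by
        have : p0 * p0 = 1 := by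
          refine Subtype.ext ?_
          show f ⟨q0, hq0N⟩ * f ⟨q0, hq0N⟩ = 1
          refine Equiv.ext fun v => Subtype.ext ?_
          show q0 * (q0 * (v : G) * q0⁻¹) * q0⁻¹ = (v : G)
          have e1 : q0 * (z * x) * q0⁻¹ = x := by
            calc q0 * (z * x) * q0⁻¹ = (q0 * z * q0⁻¹) * (q0 * x * q0⁻¹) := by group
              _ = x := by rw [hq0z, hq0x, ← mul_assoc, hz2, one_mul]
          rcases hVmem v v.2.1 with h | h | h | h
          · exact absurd h v.2.2
          · rw [h, hq0z, hq0z]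
          · rw [h, hq0x, e1]
          · rw [h, e1, hq0x]
        haveI hF2 : Fact (Nat.Prime 2) := ⟨Nat.prime_two⟩
        rw [← orderOf_eq_prime (p := 2) (by rw [pow_two]; exact this) h01]
        exact orderOf_dvd_natCard p0
      have hle := Nat.le_of_dvd (by norm_num) hdvd
      interval_cases h : Nat.card f.range <;> simp_all
    rw [relIndex, hker, index_ker, h6]
  · have hzc' : z ∈ centralizer ({x} : Set G) := mem_centralizer_singleton_iff.2 (hzc x hxQ).symm
    set R := Q.map (MulAut.conj g).toMonoidHom with hR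
    have hRle : R ≤ centralizer ({x} : Set G) := by
      rintro _ ⟨a, ha, rfl⟩
      rw [mem_centralizer_singleton_iff, hx]
      show g * a * g⁻¹ * (g * z * g⁻¹) = g * z * g⁻¹ * (g * a * g⁻¹)
      calc g * a * g⁻¹ * (g * z * g⁻¹) = g * (a * z) * g⁻¹ := by group
        _ = g * (z * a) * g⁻¹ := by rw [hzc a ha]
        _ = _ := by group
    have hRn : (R.subgroupOf (centralizer ({x} : Set G))).Normal := by
      refine ⟨fun b hb c => ?_⟩
      rw [mem_subgroupOf] at hb ⊢
      obtain ⟨a, ha, hab⟩ := hb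
      have hab' : g * a * g⁻¹ = (b : G) := hab
      have hc : g⁻¹ * (c : G) * g ∈ centralizer ({z} : Set G) := by
        have h := mem_centralizer_singleton_iff.1 c.2
        rw [mem_centralizer_singleton_iff]
        calc g⁻¹ * (c : G) * g * z = g⁻¹ * ((c : G) * (g * z * g⁻¹)) * g := by group
          _ = g⁻¹ * (g * z * g⁻¹ * c) * g := by
            have h' : (c : G) * (g * z * g⁻¹) = g * z * g⁻¹ * c :=
              (congrArg (fun t => (c : G) * t) hx).symm.trans (h.trans (congrArg (fun t => t * (c : G)) hx))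
            rw [h']
          _ = z * (g⁻¹ * c * g) := by group
      refine ⟨_, hQn _ hc a ha, ?_⟩
      show g * (g⁻¹ * (c : G) * g * a * (g⁻¹ * (c : G) * g)⁻¹) * g⁻¹ = (c : G) * b * (c : G)⁻¹
      rw [← hab']; group
    have hRp : IsPGroup 2 (R.subgroupOf (centralizer ({x} : Set G))) :=
      (hL1.1.1.map _).of_equiv (subgroupOfEquivOfLe hRle).symm
    refine large_of_invol hL1 hL2' hL3' x hxQ ?_
      (by rw [hx, ← MulAut.conj_apply, MulEquiv.orderOf_eq, hz]) ?_
    · rw [hZ]
      intro h
      rcases mem_zpowers_invol hz h with h | h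
      · exact invol_ne_one hz (conj_eq_one_iff.1 (hx ▸ h))
      · exact hxz h
    · rw [hZ, zpowers_le]
      exact ⟨⟨z, hzc'⟩, Amalgam.le_pCore hRn hRp (mem_subgroupOf.2 hzR), rfl⟩

end CfsgLib.Trans3.LargeSymm
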