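import Cfsg.Agent.Lib.Trans3.LargeSymm
import Cfsg.Agent.Lib.Trans3.LargeLinear

/-!
Two orthogonal singular elements of a large extraspecial subgroup: the subgroups `V`, `E`, `R`, `X`.
-/

set_option autoImplicit false
set_option linter.style.haveILetI false

namespace CfsgLib.Trans3.LargeSymm

open Subgroup
open scoped commutatorElement

variable {G : Type*} [Group G] [Finite G]

/-- `Q` is extraspecial with centre `⟨z⟩`, self-centralizing, normal in `C(z)`; `x = g z g⁻¹` is in
`Q` and is different from `z`. -/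
structure Pair (Q : Subgroup G) (z g x : G) : Prop where
  es : Cfsg.IsExtraspecial 2 Q
  centre : (center Q).map Q.subtype = zpowers z
  invol : orderOf z = 2
  self : centralizer (Q : Set G) ≤ Q
  norm : ∀ c ∈ centralizer ({z} : Set G), ∀ a ∈ Q, c * a * c⁻¹ ∈ Q
  hx : x = g * z * g⁻¹
  mem : x ∈ Q
  ne : x ≠ z

theorem pair_of_large {Q : Subgroup G} (hQ : Cfsg.IsLargeExtraspecial Q) {z g : G}
    (hz : ((center ↥Q).map Q.subtype) = zpowers z) (hz2 : orderOf z = 2)
    (hgH : g ∉ centralizer ({z} : Set G)) (hgQ : g * z * g⁻¹ ∈ Q) :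
    Pair Q z g (g * z * g⁻¹) where
  es := hQ.1
  centre := hz
  invol := hz2
  self := by rw [hQ.2.1]; exact map_subtype_le _
  norm c hc a ha := by
    have h := hQ.2.2.1
    rw [hz, centralizer_zpowers] at h
    exact (mem_normalizer_iff.1 (h hc) a).1 ha
  hx := rfl
  mem := hgQ
  ne h := hgH (mem_centralizer_singleton_iff.2 (mul_inv_eq_iff_eq_mul.1 h))

namespace Pair

variable {Q : Subgroup G} {z g x : G} (P : Pair Q z g x)
include P

theorem zc {q : G} (hq : q ∈ Q) : q * z = z * q := by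
  obtain ⟨c, hc, e⟩ := P.centre.symm ▸ mem_zpowers z
  have h := congrArg Subtype.val (mem_center_iff.1 hc ⟨q, hq⟩)
  rw [← e]; exact h

theorem z_mem : z ∈ Q := by
  obtain ⟨c, -, e⟩ := P.centre.symm ▸ mem_zpowers z
  exact e ▸ c.2

theorem x_invol : orderOf x = 2 := by
  rw [P.hx, ← MulAut.conj_apply, MulEquiv.orderOf_eq, P.invol]

theorem zz : z * z = 1 := by rw [← pow_two, ← P.invol, pow_orderOf_eq_one]

theorem xx : x * x = 1 := by rw [← pow_two, ← P.x_invol, pow_orderOf_eq_one]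

theorem xz : x * z = z * x := P.zc P.mem

theorem cases {a b : G} (ha : a ∈ Q) (hb : b ∈ Q) :
    a * b * a⁻¹ = b ∨ a * b * a⁻¹ = z * b := comm_cases P.es P.invol P.centre ha hb

theorem comm_mem {a b : G} (ha : a ∈ Q) (hb : b ∈ Q) : a * b * a⁻¹ * b⁻¹ ∈ zpowers z := by
  rcases P.cases ha hb with h | h <;> rw [h]
  · rw [mul_inv_cancel]; exact one_mem _
  · rw [mul_inv_cancel_right]; exact mem_zpowers z

theorem sq_mem {a : G} (ha : a ∈ Q) : a * a ∈ zpowers z := by
  haveI : Fact (Nat.Prime 2) := ⟨Nat.prime_two⟩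
  rw [← P.centre]
  refine ⟨⟨a, ha⟩ * ⟨a, ha⟩, ?_, rfl⟩
  have := Transfer.pow_mem_frattini P.es.1.1 (⟨a, ha⟩ : Q)
  rw [P.es.1.2.1] at this
  rw [← pow_two]
  exact this

omit P in
theorem zpowers_inf {a b : G} (ha : orderOf a = 2) (hb : orderOf b = 2) (hne : a ≠ b) {y : G}
    (h1 : y ∈ zpowers a) (h2 : y ∈ zpowers b) : y = 1 := by
  rcases mem_zpowers_invol ha h1 with h | h
  · exact h
  rcases mem_zpowers_invol hb h2 with h' | h'
  · exact h'
  exact absurd (h.symm.trans h') hne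

theorem exists_move : ∃ q ∈ Q, q * x * q⁻¹ = z * x := by
  by_contra! hall
  have hm : x ∈ zpowers z := P.centre ▸ ⟨⟨x, P.mem⟩, mem_center_iff.2 fun q => Subtype.ext (by
    rcases P.cases q.2 P.mem with h | h
    · exact mul_inv_eq_iff_eq_mul.1 h
    · exact absurd h (hall q q.2)), rfl⟩
  rcases mem_zpowers_invol P.invol hm with h | h
  · exact invol_ne_one P.x_invol h
  · exact P.ne h

/-- Membership modulo `C_Q(x)`. -/
theorem split {q0 : G} (hq0x : q0 * x * q0⁻¹ = z * x) {q : G} (hq : q ∈ Q) :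
    q * x = x * q ∨ q0⁻¹ * q * x = x * (q0⁻¹ * q) := by
  rcases P.cases hq P.mem with h | h
  · exact Or.inl (mul_inv_eq_iff_eq_mul.1 h)
  · right
    rw [← mul_inv_eq_iff_eq_mul]
    calc q0⁻¹ * q * x * (q0⁻¹ * q)⁻¹ = q0⁻¹ * (q * x * q⁻¹) * q0 := by group
      _ = q0⁻¹ * (q0 * x * q0⁻¹) * q0 := by rw [h, hq0x]
      _ = x := by group

/-- The conjugate subgroup. -/
theorem symm_mem : z ∈ Q.map (MulAut.conj g).toMonoidHom :=
  symm_gen P.invol P.z_mem (fun q hq => mem_centralizer_singleton_iff.2 (P.zc hq)) P.norm P.es P.self g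
    (P.hx ▸ P.mem)

/-- The conjugates of `Q` are determined by the conjugates of `z`. -/
theorem conj_eq {a b : G} (h : a * z * a⁻¹ = b * z * b⁻¹) :
    Q.map (MulAut.conj a).toMonoidHom = Q.map (MulAut.conj b).toMonoidHom := by
  have key : ∀ a b : G, a * z * a⁻¹ = b * z * b⁻¹ →
      Q.map (MulAut.conj a).toMonoidHom ≤ Q.map (MulAut.conj b).toMonoidHom := by
    intro a b h
    rintro _ ⟨q, hq, rfl⟩
    have hc : b⁻¹ * a ∈ centralizer ({z} : Set G) := by
      rw [mem_centralizer_singleton_iff]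
      calc b⁻¹ * a * z = b⁻¹ * (a * z * a⁻¹) * a := by group
        _ = z * (b⁻¹ * a) := by rw [h]; group
    refine ⟨_, P.norm _ hc q hq, ?_⟩
    show b * (b⁻¹ * a * q * (b⁻¹ * a)⁻¹) * b⁻¹ = a * q * a⁻¹
    group
  exact le_antisymm (key a b h) (key b a h.symm)

/-- The reversed pair. -/
theorem swap : ∃ g', g' * x * g'⁻¹ = z ∧
    Pair (Q.map (MulAut.conj g).toMonoidHom) x g' z ∧
    (Q.map (MulAut.conj g).toMonoidHom).map (MulAut.conj g').toMonoidHom = Q := by
  -- an element moving `x` to `z`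
  obtain ⟨q0, hq0, hq0x⟩ := P.exists_move
  obtain ⟨w, hw, hwz⟩ := P.symm_mem
  have hwz' : g * w * g⁻¹ = z := hwz
  obtain ⟨q, hq, hqw⟩ : ∃ q ∈ Q, q * w * q⁻¹ = z * w := by
    by_contra! hall
    have hm : w ∈ zpowers z := P.centre ▸ ⟨⟨w, hw⟩, mem_center_iff.2 fun q => Subtype.ext (by
      rcases P.cases q.2 hw with h | h
      · exact mul_inv_eq_iff_eq_mul.1 h
      · exact absurd h (hall q q.2)), rfl⟩
    rcases mem_zpowers_invol P.invol hm with h | h
    · rw [h] at hwz'; exact invol_ne_one P.invol (by rw [← hwz']; group)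
    · rw [h] at hwz'; exact P.ne (P.hx.trans hwz')
  set q1 := g * q * g⁻¹ with hq1
  have hq1x : q1 * x * q1⁻¹ = x := by
    rw [P.hx, hq1]
    calc g * q * g⁻¹ * (g * z * g⁻¹) * (g * q * g⁻¹)⁻¹ = g * (q * z * q⁻¹) * g⁻¹ := by group
      _ = g * z * g⁻¹ := by rw [P.zc hq, mul_inv_cancel_right]
  have hq1z : q1 * z * q1⁻¹ = x * z := by
    calc q1 * z * q1⁻¹ = g * q * g⁻¹ * (g * w * g⁻¹) * (g * q * g⁻¹)⁻¹ := by rw [hwz', hq1]
      _ = g * (q * w * q⁻¹) * g⁻¹ := by group
      _ = (g * z * g⁻¹) * (g * w * g⁻¹) := by rw [hqw]; group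
      _ = x * z := by rw [hwz', ← P.hx]
  have hq0z : q0 * z * q0⁻¹ = z := by rw [P.zc hq0, mul_inv_cancel_right]
  set g' := q0 * q1 * q0 with hg'
  have hg'x : g' * x * g'⁻¹ = z := by
    calc g' * x * g'⁻¹ = q0 * (q1 * (q0 * x * q0⁻¹) * q1⁻¹) * q0⁻¹ := by rw [hg']; group
      _ = q0 * ((q1 * z * q1⁻¹) * (q1 * x * q1⁻¹)) * q0⁻¹ := by rw [hq0x]; group
      _ = q0 * z * q0⁻¹ := by
        rw [hq1z, hq1x, show x * z * x = z by rw [P.xz, mul_assoc, P.xx, mul_one]]
      _ = z := hq0z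
  refine ⟨g', hg'x, ?_, ?_⟩
  · refine ⟨?_, ?_, P.x_invol, ?_, ?_, hg'x.symm, P.symm_mem, fun h => P.ne h.symm⟩
    · exact LargeLinear.isExtraspecial_of_equiv (Q.equivMapOfInjective _ (MulAut.conj g).injective) P.es
    · ext y
      constructor
      · rintro ⟨⟨_, a, ha, rfl⟩, hc, rfl⟩
        have ha' : a ∈ zpowers z := by
          refine P.centre ▸ ⟨⟨a, ha⟩, mem_center_iff.2 fun b => Subtype.ext ?_, rfl⟩
          have h := congrArg Subtype.val (mem_center_iff.1 hc ⟨_, b, b.2, rfl⟩)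
          have h' : g * b * g⁻¹ * (g * a * g⁻¹) = g * a * g⁻¹ * (g * b * g⁻¹) := h
          show (b : G) * a = a * b
          calc (b : G) * a = g⁻¹ * (g * b * g⁻¹ * (g * a * g⁻¹)) * g := by group
            _ = g⁻¹ * (g * a * g⁻¹ * (g * b * g⁻¹)) * g := by rw [h']
            _ = a * b := by group
        rcases mem_zpowers_invol P.invol ha' with h | h
        · show g * a * g⁻¹ ∈ zpowers x
          rw [h, mul_one, mul_inv_cancel]; exact one_mem _
        · show g * a * g⁻¹ ∈ zpowers x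
          rw [h, ← P.hx]; exact mem_zpowers x
      · intro hy
        have hxR : x ∈ Q.map (MulAut.conj g).toMonoidHom := ⟨z, P.z_mem, P.hx.symm⟩
        have hxc : (⟨x, hxR⟩ : Q.map (MulAut.conj g).toMonoidHom) ∈
            center (Q.map (MulAut.conj g).toMonoidHom) := by
          refine mem_center_iff.2 ?_
          rintro ⟨_, b, hb, rfl⟩
          apply Subtype.ext
          show g * b * g⁻¹ * x = x * (g * b * g⁻¹)
          rw [P.hx]
          calc g * b * g⁻¹ * (g * z * g⁻¹) = g * (b * z) * g⁻¹ := by group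
            _ = g * (z * b) * g⁻¹ := by rw [P.zc hb]
            _ = _ := by group
        have hle : zpowers x ≤ (center (Q.map (MulAut.conj g).toMonoidHom)).map
            (Q.map (MulAut.conj g).toMonoidHom).subtype := zpowers_le.2 ⟨_, hxc, rfl⟩
        exact hle hy
    · intro y hy
      refine ⟨g⁻¹ * y * g, P.self fun b hb => ?_, by show g * (g⁻¹ * y * g) * g⁻¹ = y; group⟩
      have h' : g * b * g⁻¹ * y = y * (g * b * g⁻¹) := hy _ ⟨b, hb, rfl⟩
      calc b * (g⁻¹ * y * g) = g⁻¹ * (g * b * g⁻¹ * y) * g := by group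
        _ = g⁻¹ * (y * (g * b * g⁻¹)) * g := by rw [h']
        _ = g⁻¹ * y * g * b := by group
    · rintro c hc _ ⟨a, ha, rfl⟩
      have hc' : g⁻¹ * c * g ∈ centralizer ({z} : Set G) := by
        have h := mem_centralizer_singleton_iff.1 hc
        rw [mem_centralizer_singleton_iff]
        calc g⁻¹ * c * g * z = g⁻¹ * (c * (g * z * g⁻¹)) * g := by group
          _ = g⁻¹ * (g * z * g⁻¹ * c) * g := by rw [← P.hx, h]
          _ = z * (g⁻¹ * c * g) := by group
      refine ⟨_, P.norm _ hc' a ha, ?_⟩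
      show g * (g⁻¹ * c * g * a * (g⁻¹ * c * g)⁻¹) * g⁻¹ = c * (g * a * g⁻¹) * c⁻¹
      group
  · rw [map_map]
    have : ((MulAut.conj g').toMonoidHom).comp (MulAut.conj g).toMonoidHom =
        (MulAut.conj (g' * g)).toMonoidHom := by ext y; simp
    rw [this, P.conj_eq (a := g' * g) (b := 1) (by
      calc g' * g * z * (g' * g)⁻¹ = g' * (g * z * g⁻¹) * g'⁻¹ := by group
        _ = 1 * z * 1⁻¹ := by rw [← P.hx, hg'x]; group)]
    ext y; simp

/-- `C_Q(x)`. -/
theorem fix_mem {y : G} (hy : y ∈ Q ⊓ centralizer ({x} : Set G)) :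
    y ∈ Q ∧ y * x = x * y := ⟨hy.1, mem_centralizer_singleton_iff.1 hy.2⟩

/-- The centre of `C_Q(x)`, and the action of its centralizer. -/
theorem centralizes_fix {y : G} (hyz : y * z = z * y) (hyx : y * x = x * y)
    (hy : ∀ p ∈ Q, p * x = x * p → p * y = y * p) :
    y = 1 ∨ y = z ∨ y = x ∨ y = z * x := by
  obtain ⟨q0, hq0, hq0x⟩ := P.exists_move
  have hyC : y ∈ centralizer ({z} : Set G) := mem_centralizer_singleton_iff.2 hyz
  obtain ⟨d, hd⟩ : ∃ d, d = y * q0 * y⁻¹ * q0⁻¹ := ⟨_, rfl⟩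
  have hdQ : d ∈ Q := hd ▸ mul_mem (P.norm y hyC q0 hq0) (inv_mem hq0)
  have hdc : ∀ p ∈ Q, p * x = x * p → p * d = d * p := by
    intro p hp hpx
    have hyp : y * p * y⁻¹ = p := by rw [← hy p hp hpx, mul_inv_cancel_right]
    have e : (y * q0 * y⁻¹) * p * (y * q0 * y⁻¹)⁻¹ = q0 * p * q0⁻¹ := by
      have hpy : y⁻¹ * p * y = p := by rw [mul_assoc, hy p hp hpx, inv_mul_cancel_left]
      calc (y * q0 * y⁻¹) * p * (y * q0 * y⁻¹)⁻¹ = y * (q0 * (y⁻¹ * p * y) * q0⁻¹) * y⁻¹ := by group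
        _ = y * (q0 * p * q0⁻¹) * y⁻¹ := by rw [hpy]
        _ = q0 * p * q0⁻¹ := by
          rcases P.cases hq0 hp with h | h <;> rw [h]
          · exact hyp
          · calc y * (z * p) * y⁻¹ = y * z * (y⁻¹ * (y * p * y⁻¹)) := by group
              _ = z * p := by rw [hyp, hyz]; group
    have e2 : d * (q0 * p * q0⁻¹) * d⁻¹ = q0 * p * q0⁻¹ := by
      calc d * (q0 * p * q0⁻¹) * d⁻¹ = (y * q0 * y⁻¹) * p * (y * q0 * y⁻¹)⁻¹ := by rw [hd]; group
        _ = _ := e
    rcases P.cases hq0 hp with h | h <;> rw [h] at e2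
    · exact (mul_inv_eq_iff_eq_mul.1 e2).symm
    · have e3 : d * p * d⁻¹ = p := by
        refine mul_left_cancel (a := z) ?_
        calc z * (d * p * d⁻¹) = (z * d) * p * d⁻¹ := by group
          _ = d * (z * p) * d⁻¹ := by rw [← P.zc hdQ]; group
          _ = z * p := e2
      exact (mul_inv_eq_iff_eq_mul.1 e3).symm
  have hcentral : ∀ e ∈ Q, (∀ p ∈ Q, p * x = x * p → p * e = e * p) → q0 * e = e * q0 →
      e = 1 ∨ e = z := by
    intro e he hec hq0e
    refine mem_zpowers_invol P.invol (P.centre ▸ ⟨⟨e, he⟩, mem_center_iff.2 fun q => Subtype.ext ?_, rfl⟩)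
    show (q : G) * e = e * q
    rcases P.split hq0x q.2 with h | h
    · exact hec q q.2 h
    · have h' := hec _ (mul_mem (inv_mem hq0) q.2) h
      calc (q : G) * e = q0 * (q0⁻¹ * q * e) := by group
        _ = q0 * (e * (q0⁻¹ * q)) := by rw [h']
        _ = (q0 * e) * q0⁻¹ * q := by group
        _ = e * q := by rw [hq0e]; group
  have hsqne : (x * q0) * (x * q0) = z * (q0 * q0) := by
    calc (x * q0) * (x * q0) = x * (q0 * x * q0⁻¹) * (q0 * q0) := by group
      _ = (x * z) * x * (q0 * q0) := by rw [hq0x]; group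
      _ = z * (x * x) * (q0 * q0) := by rw [P.xz]; group
      _ = z * (q0 * q0) := by rw [P.xx, mul_one]
  have hysq : y * (q0 * q0) * y⁻¹ = q0 * q0 := by
    rcases mem_zpowers_invol P.invol (P.sq_mem hq0) with h | h <;> rw [h]
    · group
    · rw [hyz, mul_inv_cancel_right]
  have hyq : y * q0 * y⁻¹ = d * q0 := by rw [hd]; group
  have hd4 : d = 1 ∨ d = z := by
    rcases P.cases hq0 hdQ with h | h
    · exact hcentral d hdQ hdc (mul_inv_eq_iff_eq_mul.1 h)
    · exfalso
      have hxd : q0 * (x * d) = x * d * q0 := by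
        rw [← mul_inv_eq_iff_eq_mul]
        calc q0 * (x * d) * q0⁻¹ = (q0 * x * q0⁻¹) * (q0 * d * q0⁻¹) := by group
          _ = z * (x * z) * d := by rw [hq0x, h]; group
          _ = (z * z) * (x * d) := by rw [P.xz]; group
          _ = x * d := by rw [P.zz, one_mul]
      have hor := hcentral (x * d) (mul_mem P.mem hdQ) (fun p hp hpx => by
        calc p * (x * d) = (p * x) * d := (mul_assoc _ _ _).symm
          _ = x * (p * d) := by rw [hpx, mul_assoc]
          _ = x * d * p := by rw [hdc p hp hpx, mul_assoc]) hxd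
      have e : y * (q0 * q0) * y⁻¹ = (d * q0) * (d * q0) := by rw [← hyq]; group
      rcases hor with h1 | h1
      · have : d = x := by
          calc d = x * x * d := by rw [P.xx, one_mul]
            _ = x := by rw [mul_assoc, h1, mul_one]
        rw [this, hysq, hsqne] at e
        exact invol_ne_one P.invol (mul_eq_right.1 e.symm)
      · have : d = z * x := by
          calc d = x * x * d := by rw [P.xx, one_mul]
            _ = z * x := by rw [mul_assoc, h1, P.xz]
        have e2 : (z * x * q0) * (z * x * q0) = (x * q0) * (x * q0) := by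
          calc (z * x * q0) * (z * x * q0) = z * ((x * q0) * z) * (x * q0) := by group
            _ = (z * z) * ((x * q0) * (x * q0)) := by rw [P.zc (mul_mem P.mem hq0)]; group
            _ = _ := by rw [P.zz, one_mul]
        rw [this, hysq, e2, hsqne] at e
        exact invol_ne_one P.invol (mul_eq_right.1 e.symm)
  have hfix : ∀ u : G, u * z = z * u → u * x = x * u →
      (∀ p ∈ Q, p * x = x * p → p * u = u * p) → u * q0 = q0 * u → u = 1 ∨ u = z := by
    intro u _ _ hu huq
    have huC : u ∈ centralizer (Q : Set G) := by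
      intro q hq
      rcases P.split hq0x hq with h | h
      · exact hu q hq h
      · have h' := hu _ (mul_mem (inv_mem hq0) hq) h
        calc q * u = q0 * (q0⁻¹ * q * u) := by group
          _ = (q0 * u) * q0⁻¹ * q := by rw [h']; group
          _ = u * q := by rw [← huq]; group
    exact mem_zpowers_invol P.invol (P.centre ▸ ⟨⟨u, P.self huC⟩, mem_center_iff.2 fun q =>
      Subtype.ext (huC q q.2), rfl⟩)
  rcases hd4 with h | h
  · rw [h, one_mul, mul_inv_eq_iff_eq_mul] at hyq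
    rcases hfix y hyz hyx hy hyq with e | e
    · exact Or.inl e
    · exact Or.inr (Or.inl e)
  · rw [h] at hyq
    have hq' : (x * y) * q0 = q0 * (x * y) := by
      rw [← mul_inv_eq_iff_eq_mul]
      calc x * y * q0 * (x * y)⁻¹ = x * (y * q0 * y⁻¹) * x⁻¹ := by group
        _ = x * (z * q0) * x := by rw [hyq, inv_eq_of_mul_eq_one_right P.xx]
        _ = (x * z) * (q0 * x * q0⁻¹) * q0 := by group
        _ = (x * (z * z)) * x * q0 := by rw [hq0x]; group
        _ = q0 := by rw [P.zz, mul_one, P.xx, one_mul]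
    rcases hfix (x * y) (by rw [mul_assoc, hyz, ← mul_assoc, P.xz, mul_assoc]) (by rw [mul_assoc, hyx])
      (fun p hp hpx => by rw [← mul_assoc, hpx, mul_assoc, hy p hp hpx, mul_assoc]) hq' with e | e
    · refine Or.inr (Or.inr (Or.inl ?_))
      calc y = x * (x * y) := by rw [← mul_assoc, P.xx, one_mul]
        _ = x := by rw [e, mul_one]
    · refine Or.inr (Or.inr (Or.inr ?_))
      calc y = x * (x * y) := by rw [← mul_assoc, P.xx, one_mul]
        _ = z * x := by rw [e, P.xz]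

end Pair

end CfsgLib.Trans3.LargeSymm
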