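import Cfsg.Agent.Lib.Trans3.LargeSymm
import Cfsg.Agent.Lib.Trans3.LargeLinear

/-!
Singular subgroups with respect to a large extraspecial 2-subgroup: the subgroups `QU` and `LU`.
-/

set_option autoImplicit false
set_option linter.style.haveILetI false

namespace CfsgLib.Trans3.LargeSymm

open Subgroup
open scoped commutatorElement

variable {G : Type*} [Group G] [Finite G]

/-- `z` has an extraspecial, self-centralizing core. -/
structure Setting (z : G) : Prop where
  invol : orderOf z = 2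
  es : Cfsg.IsExtraspecial 2 ↥(core z)
  self : centralizer ((core z : Subgroup G) : Set G) ≤ core z

theorem Setting.conj {z : G} (h : Setting z) (g : G) : Setting (g * z * g⁻¹) where
  invol := by rw [← MulAut.conj_apply, MulEquiv.orderOf_eq, h.invol]
  es := by
    rw [← core_conj]
    exact LargeLinear.isExtraspecial_of_equiv ((core z).equivMapOfInjective _ (MulAut.conj g).injective) h.es
  self := by
    rw [← core_conj]
    intro y hy
    refine ⟨g⁻¹ * y * g, h.self fun q hq => ?_, by show g * (g⁻¹ * y * g) * g⁻¹ = y; group⟩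
    have h' : g * q * g⁻¹ * y = y * (g * q * g⁻¹) := hy _ ⟨q, hq, rfl⟩
    calc q * (g⁻¹ * y * g) = g⁻¹ * (g * q * g⁻¹ * y) * g := by group
      _ = g⁻¹ * (y * (g * q * g⁻¹)) * g := by rw [h']
      _ = g⁻¹ * y * g * q := by group

theorem Setting.centre_eq {u : G} (h : Setting u) :
    (center (core u)).map (core u).subtype = zpowers u := by
  obtain ⟨w, hw, -, -, hZ⟩ := exists_centre_gen h.es
  have h' : u ∈ (center (core u)).map (core u).subtype :=
    ⟨⟨u, self_mem_core h.invol⟩, mem_center_iff.2 fun q => Subtype.ext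
      (mem_centralizer_singleton_iff.1 (core_le u q.2)), rfl⟩
  rw [hZ] at h'
  rw [hZ, (mem_zpowers_invol hw h').resolve_left (invol_ne_one h.invol)]

theorem Setting.cases {u : G} (h : Setting u) {a b : G} (ha : a ∈ core u) (hb : b ∈ core u) :
    a * b * a⁻¹ = b ∨ a * b * a⁻¹ = u * b :=
  comm_cases h.es h.invol h.centre_eq ha hb

/-- A noncentral element outside a subgroup containing the centre is moved by an element
centralizing the subgroup. -/
theorem Setting.exists_mover {u : G} (h : Setting u) {W : Subgroup G} (hWQ : W ≤ core u)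
    (huW : u ∈ W) {x : G} (hx : x ∈ core u) (hxW : x ∉ W) :
    ∃ q ∈ core u, (∀ w ∈ W, q * w = w * q) ∧ q * x * q⁻¹ = u * x := by
  haveI : Fact (Nat.Prime 2) := ⟨Nat.prime_two⟩
  set Q := core u
  set W' : Subgroup Q := W.subgroupOf Q
  have hx' : (⟨x, hx⟩ : Q) ∉ W' := fun h' => hxW (mem_subgroupOf.1 h')
  obtain ⟨M, hMW, hM⟩ := Finite.exists_le_maximal
    (p := fun M : Subgroup Q => W' ≤ M ∧ (⟨x, hx⟩ : Q) ∉ M) (a := W') ⟨le_rfl, hx'⟩
  obtain ⟨hWM, hxM⟩ := hM.prop
  have hcenW : center Q ≤ M := by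
    intro c hc
    have : (c : G) ∈ zpowers u := h.centre_eq ▸ ⟨c, hc, rfl⟩
    exact hWM (mem_subgroupOf.2 ((zpowers_le.2 huW) this))
  have hsq : ∀ a : Q, a * a ∈ M := fun a => hcenW (by
    have := Transfer.pow_mem_frattini h.es.1.1 a
    rw [h.es.1.2.1] at this
    rw [← pow_two]
    exact this)
  haveI hMn : M.Normal := ⟨fun m hm a => by
    have e : a * m * a⁻¹ = ⁅a, m⁆ * m := by simp only [commutatorElement_def]; group
    rw [e]
    exact mul_mem (hcenW (Transfer.special_commutatorElement_mem_center h.es.1 a m)) hm⟩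
  have hkey : ∀ a : Q, a ∉ M → a⁻¹ * ⟨x, hx⟩ ∈ M := by
    intro a ha
    by_contra hn
    have hlt : (⟨x, hx⟩ : Q) ∈ M ⊔ zpowers a := by
      by_contra hnot
      have := hM.le_of_ge ⟨hWM.trans le_sup_left, hnot⟩ le_sup_left
      exact ha (this (mem_sup_right (mem_zpowers a)))
    obtain ⟨m, hm, c, hc, hmc⟩ := mem_sup_of_normal_left.1 hlt
    obtain ⟨k, rfl⟩ := mem_zpowers_iff.1 hc
    rcases Int.even_or_odd' k with ⟨i, rfl | rfl⟩
    · refine hxM (hmc ▸ mul_mem hm ?_)
      rw [zpow_mul, show a ^ (2 : ℤ) = a * a from zpow_two a]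
      exact zpow_mem (hsq a) i
    · apply hn
      rw [← hmc, zpow_add_one, zpow_mul, show a ^ (2 : ℤ) = a * a from zpow_two a]
      have hmi : m * (a * a) ^ i ∈ M := mul_mem hm (zpow_mem (hsq a) i)
      have := hMn.conj_mem _ hmi a⁻¹
      rw [inv_inv] at this
      convert this using 1
      group
  have huC : (⟨u, self_mem_core h.invol⟩ : Q) ∈ center Q :=
    mem_center_iff.2 fun q => Subtype.ext (mem_centralizer_singleton_iff.1 (core_le u q.2))
  set uc : center Q := ⟨_, huC⟩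
  have huu : uc * uc = 1 := Subtype.ext (Subtype.ext (by
    show u * u = 1; rw [← pow_two, ← h.invol, pow_orderOf_eq_one]))
  classical
  let c : Q →* center Q := MonoidHom.mk' (fun a => if a ∈ M then 1 else uc) (fun a b => by
    by_cases ha : a ∈ M <;> by_cases hb : b ∈ M
    · simp [ha, hb, mul_mem ha hb]
    · simp [ha, hb, show a * b ∉ M from fun hab => hb ((M.mul_mem_cancel_left ha).1 hab)]
    · simp [ha, hb, show a * b ∉ M from fun hab => ha ((M.mul_mem_cancel_right hb).1 hab)]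
    · have hab : a * b ∈ M := by
        have h1 : a⁻¹ * b ∈ M := by
          have := mul_mem (hkey a ha) (inv_mem (hkey b hb))
          simpa [mul_assoc] using this
        have h2 := mul_mem (hsq a) h1
        simpa [mul_assoc] using h2
      simp [ha, hb, hab, huu])
  obtain ⟨e, he⟩ := Transfer.extraspecial_exists_commutator_eq h.es c
    (fun a ha => MonoidHom.mem_ker.2 (if_pos (hcenW ha)))
  refine ⟨e, e.2, fun w hw => ?_, ?_⟩
  · have h1 := he ⟨w, hWQ hw⟩
    rw [show c ⟨w, hWQ hw⟩ = 1 from if_pos (hWM (mem_subgroupOf.2 hw))] at h1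
    exact congrArg Subtype.val (commutatorElement_eq_one_iff_mul_comm.1 h1.symm)
  · have h1 := he ⟨x, hx⟩
    rw [show c ⟨x, hx⟩ = uc from if_neg hxM] at h1
    have h2 : u = (e : G) * x * (e : G)⁻¹ * x⁻¹ := congrArg Subtype.val h1
    exact (mul_inv_eq_iff_eq_mul.1 h2.symm)

variable {z : G}

/-- A singular subgroup. -/
structure Singular (z : G) (U : Subgroup G) : Prop where
  base : Setting z
  sq : ∀ u ∈ U, u * u = 1
  sing : ∀ u ∈ U, u ≠ 1 → ∃ g : G, g * z * g⁻¹ = u
  orth : ∀ u ∈ U, ∀ v ∈ U, u ≠ 1 → v ≠ 1 → v ∈ core u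

namespace Singular

variable {U : Subgroup G} (hU : Singular z U)
include hU

theorem setting {u : G} (hu : u ∈ U) (hu1 : u ≠ 1) : Setting u := by
  obtain ⟨g, rfl⟩ := hU.sing u hu hu1
  exact hU.base.conj g

theorem le_core {u : G} (hu : u ∈ U) (hu1 : u ≠ 1) : U ≤ core u := fun v hv => by
  by_cases h : v = 1
  · rw [h]; exact one_mem _
  · exact hU.orth u hu v hv hu1 h

theorem comm {u v : G} (hu : u ∈ U) (hv : v ∈ U) : u * v = v * u := by
  calc u * v = (u * v)⁻¹ := (inv_eq_of_mul_eq_one_right (hU.sq _ (mul_mem hu hv))).symm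
    _ = v * u := by
      rw [_root_.mul_inv_rev, inv_eq_of_mul_eq_one_right (hU.sq _ hu),
        inv_eq_of_mul_eq_one_right (hU.sq _ hv)]

theorem inv_eq {u : G} (hu : u ∈ U) : u⁻¹ = u := inv_eq_of_mul_eq_one_right (hU.sq u hu)

theorem mem_mul {u v y : G} (hu : u ∈ U) (hu1 : u ≠ 1) (hv : v ∈ U) (hv1 : v ≠ 1)
    (huv : u * v ≠ 1) (hyu : y ∈ core u) (hyv : y ∈ core v) : y ∈ core (u * v) := by
  have hne : v ∉ zpowers u := fun h => by
    rcases mem_zpowers_invol (hU.setting hu hu1).invol h with h | h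
    · exact hv1 h
    · exact huv (by rw [h]; exact hU.sq u hu)
  obtain ⟨q, hq, hqv⟩ : ∃ q ∈ core u, q * v * q⁻¹ = u * v := by
    obtain ⟨q, hq, -, h⟩ := (hU.setting hu hu1).exists_mover
      (zpowers_le.2 (self_mem_core (hU.setting hu hu1).invol)) (mem_zpowers u)
      (hU.le_core hu hu1 hv) hne
    exact ⟨q, hq, h⟩
  have h1 : q * y * q⁻¹ ∈ core (u * v) := hqv ▸ core_conj_le q v ⟨y, hyv, rfl⟩
  rcases (hU.setting hu hu1).cases hq hyu with h | h
  · rwa [h] at h1
  · rw [h] at h1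
    have h2 := mul_mem (inv_mem (hU.le_core (mul_mem hu hv) huv hu)) h1
    rwa [← mul_assoc, inv_mul_cancel, one_mul] at h2

/-- The intersection over a generating set. -/
theorem iInf_gen (T : Set G) (hT : closure T = U) (hT1 : (1 : G) ∉ T) :
    (⨅ u ∈ ((U : Set G) \ {1}), core u) = ⨅ t ∈ T, core t := by
  refine le_antisymm (le_iInf₂ fun t ht => iInf₂_le t ⟨hT ▸ subset_closure ht, fun h => hT1 (h ▸ ht)⟩)
    (le_iInf₂ fun u hu => ?_)
  intro y hy
  simp only [mem_iInf] at hy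
  have key : ∀ w ∈ closure T, w ≠ 1 → y ∈ core w := by
    intro w hw
    induction hw using closure_induction with
    | mem t ht => exact fun _ => hy t ht
    | one => exact fun h => absurd rfl h
    | mul a b ha hb iha ihb =>
      rw [hT] at ha hb
      intro hab
      by_cases ha1 : a = 1
      · rw [ha1, one_mul] at hab ⊢; exact ihb hab
      by_cases hb1 : b = 1
      · rw [hb1, mul_one] at hab ⊢; exact iha hab
      exact hU.mem_mul ha ha1 hb hb1 hab (iha ha1) (ihb hb1)
    | inv a ha iha =>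
      rw [hT] at ha
      rw [hU.inv_eq ha]; exact iha
  exact key u (hT ▸ hu.1) hu.2

/-- `LU`. -/
theorem normalizer_le : (⨆ u ∈ ((U : Set G) \ {1}), core u) ≤ normalizer (U : Set G) := by
  refine iSup₂_le fun u hu => ?_
  have key : ∀ q ∈ core u, ∀ v ∈ U, q * v * q⁻¹ ∈ U := by
    intro q hq v hv
    rcases (hU.setting hu.1 hu.2).cases hq (hU.le_core hu.1 hu.2 hv) with h | h <;> rw [h]
    exacts [hv, mul_mem hu.1 hv]
  intro q hq
  rw [mem_normalizer_iff]
  refine fun v => ⟨key q hq v, fun h => ?_⟩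
  have h' := key q⁻¹ (inv_mem hq) _ h
  rwa [show q⁻¹ * (q * v * q⁻¹) * q⁻¹⁻¹ = v by group] at h'

theorem le_QU : U ≤ ⨅ u ∈ ((U : Set G) \ {1}), core u := le_iInf₂ fun _ hu => hU.le_core hu.1 hu.2

/-- `LU` acts trivially on `QU / U`. -/
theorem commutator_mem {g : G} (hg : g ∈ ⨆ u ∈ ((U : Set G) \ {1}), core u) :
    ∀ x ∈ (⨅ u ∈ ((U : Set G) \ {1}), core u), g * x * g⁻¹ * x⁻¹ ∈ U := by
  let S : Subgroup G :=
    { carrier := {g | g ∈ normalizer (U : Set G) ∧
        ∀ x ∈ (⨅ u ∈ ((U : Set G) \ {1}), core u), g * x * g⁻¹ * x⁻¹ ∈ U}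
      one_mem' := ⟨one_mem _, fun x _ => by simp [one_mem]⟩
      mul_mem' := fun {a b} ha hb => ⟨mul_mem ha.1 hb.1, fun x hx => by
        rw [show a * b * x * (a * b)⁻¹ * x⁻¹ =
          (a * (b * x * b⁻¹ * x⁻¹) * a⁻¹) * (a * x * a⁻¹ * x⁻¹) by group]
        exact mul_mem ((mem_normalizer_iff.1 ha.1 _).1 (hb.2 x hx)) (ha.2 x hx)⟩
      inv_mem' := fun {a} ha => ⟨inv_mem ha.1, fun x hx => by
        rw [show a⁻¹ * x * a⁻¹⁻¹ * x⁻¹ = a⁻¹ * (a * x * a⁻¹ * x⁻¹)⁻¹ * a⁻¹⁻¹ by group]
        exact (mem_normalizer_iff.1 (inv_mem ha.1) _).1 (inv_mem (ha.2 x hx))⟩ }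
  have hle : (⨆ u ∈ ((U : Set G) \ {1}), core u) ≤ S := by
    refine iSup₂_le fun u hu q hq => ⟨hU.normalizer_le ((le_iSup₂ (f := fun u (_ : u ∈ (U : Set G) \ {1}) =>
      core u) u hu) hq), fun x hx => ?_⟩
    simp only [mem_iInf] at hx
    rcases (hU.setting hu.1 hu.2).cases hq (hx u hu) with h | h <;> rw [h]
    · simp [one_mem]
    · rw [mul_inv_cancel_right]; exact hu.1
  exact (hle hg).2

/-- Transitivity on a coset. -/
theorem coset_transitive {x : G} (hx : x ∈ ⨅ u ∈ ((U : Set G) \ {1}), core u) (hxU : x ∉ U)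
    {u : G} (hu : u ∈ U) :
    ∃ g ∈ (⨆ u ∈ ((U : Set G) \ {1}), core u) ⊓ centralizer (U : Set G),
      g * x * g⁻¹ = x * u := by
  by_cases hu1 : u = 1
  · exact ⟨1, one_mem _, by simp [hu1]⟩
  simp only [mem_iInf] at hx
  have hxu := hx u ⟨hu, hu1⟩
  obtain ⟨q, hq, hqU, hqx⟩ := (hU.setting hu hu1).exists_mover (hU.le_core hu hu1) hu hxu hxU
  refine ⟨q, ⟨(le_iSup₂ (f := fun u (_ : u ∈ (U : Set G) \ {1}) => core u) u ⟨hu, hu1⟩) hq,
    fun w hw => (hqU w hw).symm⟩, ?_⟩
  rw [hqx]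
  exact (mem_centralizer_singleton_iff.1 (core_le u hxu)).symm

/-- `LU` induces every automorphism of `U`. -/
theorem aut_induced (φ : ↥U ≃* ↥U) : ∃ g ∈ (⨆ u ∈ ((U : Set G) \ {1}), core u),
    ∀ u : ↥U, g * (u : G) * g⁻¹ = ((φ u : ↥U) : G) := by
  set L := ⨆ u ∈ ((U : Set G) \ {1}), core u
  suffices H : ∀ m : ℕ, ∀ ψ : ↥U ≃* ↥U, Nat.card {u : U // ψ u ≠ u} ≤ m →
      ∃ g ∈ L, ∀ u : ↥U, g * (u : G) * g⁻¹ = ((ψ u : ↥U) : G) from H _ φ le_rfl
  intro m
  induction m with
  | zero =>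
    intro ψ hψ
    refine ⟨1, one_mem _, fun u => ?_⟩
    by_cases hu : ψ u = u
    · rw [hu]; simp
    · haveI : Nonempty {u : U // ψ u ≠ u} := ⟨⟨u, hu⟩⟩
      have := Nat.card_pos (α := {u : U // ψ u ≠ u})
      omega
  | succ m ih =>
    intro ψ hψ
    by_cases hall : ∀ u, ψ u = u
    · exact ⟨1, one_mem _, fun u => by rw [hall u]; simp⟩
    push Not at hall
    obtain ⟨v, hv⟩ := hall
    set w := ψ v with hw
    set a : U := v * w with ha
    let F : Subgroup U :=
      { carrier := {u | ψ u = u}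
        one_mem' := map_one ψ
        mul_mem' := fun {x y} hx hy => by show ψ (x * y) = x * y; rw [map_mul, hx, hy]
        inv_mem' := fun {x} hx => by show ψ x⁻¹ = x⁻¹; rw [map_inv, hx] }
    have hsqU : ∀ y : U, y * y = 1 := fun y => Subtype.ext (hU.sq y y.2)
    have hcU : ∀ x y : U, x * y = y * x := fun x y => Subtype.ext (hU.comm x.2 y.2)
    have hwF : w ∉ F := fun h => hv (ψ.injective h)
    have ha1 : (a : G) ≠ 1 := fun h => hv (by
      have h' : v * w = 1 := Subtype.ext h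
      calc ψ v = w := rfl
        _ = v * (v * w) := by rw [← mul_assoc, hsqU, one_mul]
        _ = v := by rw [h', mul_one])
    let W0 : Subgroup U := F ⊔ zpowers a
    have hwW : w ∉ W0 := by
      intro h
      haveI : IsMulCommutative U := ⟨⟨hcU⟩⟩
      obtain ⟨f, hf, c, hc, hfc⟩ := mem_sup_of_normal_left.1 h
      obtain ⟨k, rfl⟩ := mem_zpowers_iff.1 hc
      rcases Int.even_or_odd' k with ⟨i, rfl | rfl⟩
      · rw [zpow_mul, show a ^ (2 : ℤ) = a * a from zpow_two a, hsqU, one_zpow, mul_one] at hfc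
        exact hwF (hfc ▸ hf)
      · rw [zpow_add_one, zpow_mul, show a ^ (2 : ℤ) = a * a from zpow_two a, hsqU, one_zpow,
          one_mul, ha, ← mul_assoc] at hfc
        have hfv : f * v = 1 := mul_eq_right.1 hfc
        refine hv ?_
        show ψ v = v
        have : v = f := by
          calc v = f * f * v := by rw [hsqU, one_mul]
            _ = f := by rw [mul_assoc, hfv, mul_one]
        rw [this]; exact hf
    have haU : (a : G) ∈ U := a.2
    have hst := hU.setting haU ha1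
    obtain ⟨q, hq, hqW, hqw⟩ := hst.exists_mover (W := W0.map U.subtype)
      (fun y hy => by
        obtain ⟨y, -, rfl⟩ := hy
        exact hU.le_core haU ha1 y.2)
      ⟨a, mem_sup_right (mem_zpowers a), rfl⟩ (hU.le_core haU ha1 w.2) (fun h => by
        obtain ⟨y, hy, e⟩ := h
        exact hwW ((Subtype.ext e : y = w) ▸ hy))
    have hqw' : q * (w : G) * q⁻¹ = v := by
      rw [hqw, ha]
      show (v : G) * w * w = v
      rw [mul_assoc, hU.sq w w.2, mul_one]
    have hqL : q ∈ L := (le_iSup₂ (f := fun u (_ : u ∈ (U : Set G) \ {1}) => core u) (a : G)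
      ⟨haU, ha1⟩) hq
    have hqN : q ∈ normalizer (U : Set G) := hU.normalizer_le hqL
    let t : ↥U ≃* ↥U :=
      { toFun := fun u => ⟨q * u * q⁻¹, (mem_normalizer_iff.1 hqN u).1 u.2⟩
        invFun := fun u => ⟨q⁻¹ * u * q, by
          simpa using (mem_normalizer_iff.1 (inv_mem hqN) u).1 u.2⟩
        left_inv := fun u => Subtype.ext (by show q⁻¹ * (q * u * q⁻¹) * q = u; group)
        right_inv := fun u => Subtype.ext (by show q * (q⁻¹ * u * q) * q⁻¹ = u; group)
        map_mul' := fun x y => Subtype.ext (by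
          show q * ((x : G) * y) * q⁻¹ = q * x * q⁻¹ * (q * y * q⁻¹); group) }
    have htfix : ∀ u : U, ψ u = u → t u = u := fun u hu => Subtype.ext (by
      show q * (u : G) * q⁻¹ = u
      rw [hqW u ⟨u, mem_sup_left hu, rfl⟩, mul_inv_cancel_right])
    obtain ⟨g, hg, hgψ⟩ := ih (ψ.trans t) (by
      have hlt : ({u : U | (ψ.trans t) u ≠ u}).ncard < ({u : U | ψ u ≠ u}).ncard := by
        refine Set.ncard_lt_ncard ⟨fun u hu hu' => hu ?_, fun h => ?_⟩ (Set.toFinite _)
        · show t (ψ u) = u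
          rw [hu', htfix u hu']
        · exact h hv (Subtype.ext hqw')
      rw [← Nat.card_coe_set_eq, ← Nat.card_coe_set_eq] at hlt
      change Nat.card {u : U // (ψ.trans t) u ≠ u} < Nat.card {u : U // ψ u ≠ u} at hlt
      omega)
    refine ⟨q⁻¹ * g, mul_mem (inv_mem hqL) hg, fun u => ?_⟩
    have h := hgψ u
    have h' : g * (u : G) * g⁻¹ = q * ((ψ u : U) : G) * q⁻¹ := h
    calc q⁻¹ * g * u * (q⁻¹ * g)⁻¹ = q⁻¹ * (g * u * g⁻¹) * q := by group
      _ = q⁻¹ * (q * ((ψ u : U) : G) * q⁻¹) * q := by rw [h']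
      _ = _ := by group

end Singular

end CfsgLib.Trans3.LargeSymm
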