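import Cfsg.Prelude.Def_MonsterType
import Cfsg.Agent.Lib.Trans3.Large
import Cfsg.Agent.Lib.Comp.Subnormal
import Cfsg.Agent.Lib.Amalgam.PCore
import Cfsg.Agent.Lib.Coprime.Generation
import Cfsg.Agent.Lib.Transfer.Extraspecial

/-!
Large extraspecial 2-subgroups: a criterion, and the symmetry of orthogonality of singular
elements.
-/

set_option autoImplicit false
set_option linter.style.haveILetI false

namespace CfsgLib.Trans3.LargeSymm

open Subgroup
open scoped commutatorElement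

variable {G : Type*} [Group G] [Finite G]

theorem eq_one_of_two_odd {a : G} {n : ℕ} {K : Subgroup G} (hK : Odd (Nat.card K)) (ha : a ∈ K)
    (h : a ^ 2 ^ n = 1) : a = 1 :=
  orderOf_eq_one_iff.1 (Nat.eq_one_of_dvd_coprimes ((Nat.coprime_two_left.2 hK).pow_left n)
    (orderOf_dvd_of_pow_eq_one h) (Subgroup.orderOf_dvd_natCard K ha))

theorem exists_pow_two {P : Subgroup G} (hP : IsPGroup 2 P) {a : G} (ha : a ∈ P) :
    ∃ n : ℕ, a ^ 2 ^ n = 1 := by
  obtain ⟨n, hn⟩ := hP ⟨a, ha⟩
  exact ⟨n, by simpa using congrArg Subtype.val hn⟩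

/-- The largest normal 2-subgroup of the centralizer, inside the group. -/
def core (x : G) : Subgroup G :=
  (Cfsg.pCore 2 ↥(centralizer ({x} : Set G))).map (centralizer ({x} : Set G)).subtype

omit [Finite G] in
theorem core_le (x : G) : core x ≤ centralizer ({x} : Set G) := by
  rintro _ ⟨a, -, rfl⟩; exact a.2

omit [Finite G] in
theorem core_normal {x c a : G} (hc : c ∈ centralizer ({x} : Set G)) (ha : a ∈ core x) :
    c * a * c⁻¹ ∈ core x := by
  obtain ⟨a, ha, rfl⟩ := ha
  exact ⟨⟨c, hc⟩ * a * ⟨c, hc⟩⁻¹, Amalgam.normal_pCore.conj_mem a ha _, rfl⟩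

theorem core_pGroup (x : G) : IsPGroup 2 (core x) := by
  haveI : Fact (Nat.Prime 2) := ⟨Nat.prime_two⟩
  exact Amalgam.isPGroup_pCore.map _

theorem self_mem_core {x : G} (hx : orderOf x = 2) : x ∈ core x := by
  have hxC : x ∈ centralizer ({x} : Set G) := mem_centralizer_singleton_iff.2 rfl
  have hn : (zpowers (⟨x, hxC⟩ : centralizer ({x} : Set G))).Normal := by
    refine ⟨fun a ha g => ?_⟩
    obtain ⟨k, rfl⟩ := mem_zpowers_iff.1 ha
    have hcomm : g * ⟨x, hxC⟩ * g⁻¹ = (⟨x, hxC⟩ : centralizer ({x} : Set G)) := by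
      rw [mul_inv_eq_iff_eq_mul]
      exact Subtype.ext (mem_centralizer_singleton_iff.1 g.2)
    rw [← MulAut.conj_apply, map_zpow, MulAut.conj_apply, hcomm]
    exact zpow_mem (mem_zpowers _) k
  have hp : IsPGroup 2 (zpowers (⟨x, hxC⟩ : centralizer ({x} : Set G))) :=
    IsPGroup.of_card (n := 1) (by rw [Nat.card_zpowers, pow_one, ← Subgroup.orderOf_coe]; exact hx)
  exact ⟨⟨x, hxC⟩, Amalgam.le_pCore hn hp (mem_zpowers _), rfl⟩

theorem core_conj_le (g x : G) :
    (core x).map (MulAut.conj g).toMonoidHom ≤ core (g * x * g⁻¹) := by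
  haveI : Fact (Nat.Prime 2) := ⟨Nat.prime_two⟩
  have hmem : ∀ a ∈ centralizer ({x} : Set G), g * a * g⁻¹ ∈ centralizer ({g * x * g⁻¹} : Set G) := by
    intro a ha
    rw [mem_centralizer_singleton_iff] at ha ⊢
    calc g * a * g⁻¹ * (g * x * g⁻¹) = g * (a * x) * g⁻¹ := by group
      _ = g * (x * a) * g⁻¹ := by rw [ha]
      _ = g * x * g⁻¹ * (g * a * g⁻¹) := by group
  have hle : (core x).map (MulAut.conj g).toMonoidHom ≤ centralizer ({g * x * g⁻¹} : Set G) := by
    rintro _ ⟨a, ha, rfl⟩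
    exact hmem a (core_le x ha)
  have hn : (((core x).map (MulAut.conj g).toMonoidHom).subgroupOf
      (centralizer ({g * x * g⁻¹} : Set G))).Normal := by
    refine ⟨fun b hb c => ?_⟩
    rw [mem_subgroupOf] at hb ⊢
    obtain ⟨a, ha, hab⟩ := hb
    have hc : g⁻¹ * (c : G) * g ∈ centralizer ({x} : Set G) := by
      have h := mem_centralizer_singleton_iff.1 c.2
      rw [mem_centralizer_singleton_iff]
      calc g⁻¹ * (c : G) * g * x = g⁻¹ * ((c : G) * (g * x * g⁻¹)) * g := by group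
        _ = g⁻¹ * (g * x * g⁻¹ * c) * g := by rw [h]
        _ = x * (g⁻¹ * c * g) := by group
    refine ⟨_, core_normal hc ha, ?_⟩
    show g * (g⁻¹ * (c : G) * g * a * (g⁻¹ * (c : G) * g)⁻¹) * g⁻¹ = _
    rw [Subgroup.coe_mul, Subgroup.coe_mul, InvMemClass.coe_inv, ← hab]
    show _ = (c : G) * (g * a * g⁻¹) * (c : G)⁻¹
    group
  have hp : IsPGroup 2 (((core x).map (MulAut.conj g).toMonoidHom).subgroupOf
      (centralizer ({g * x * g⁻¹} : Set G))) :=
    ((core_pGroup x).map _).of_equiv (subgroupOfEquivOfLe hle).symm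
  intro b hb
  exact ⟨⟨b, hle hb⟩, Amalgam.le_pCore hn hp (mem_subgroupOf.2 hb), rfl⟩

theorem core_conj (g x : G) :
    (core x).map (MulAut.conj g).toMonoidHom = core (g * x * g⁻¹) := by
  refine le_antisymm (core_conj_le g x) fun b hb => ?_
  have h := core_conj_le g⁻¹ (g * x * g⁻¹) ⟨b, hb, rfl⟩
  rw [show g⁻¹ * (g * x * g⁻¹) * g⁻¹⁻¹ = x by group] at h
  refine ⟨_, h, ?_⟩
  show g * (g⁻¹ * b * g⁻¹⁻¹) * g⁻¹ = b
  group

/-- In an extraspecial 2-subgroup the commutators lie in `⟨z⟩`. -/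
theorem comm_cases {Q : Subgroup G} (hE : Cfsg.IsExtraspecial 2 Q) {z : G} (hz : orderOf z = 2)
    (hZ : (center Q).map Q.subtype = zpowers z) {a b : G} (ha : a ∈ Q) (hb : b ∈ Q) :
    a * b * a⁻¹ = b ∨ a * b * a⁻¹ = z * b := by
  haveI : Fact (Nat.Prime 2) := ⟨Nat.prime_two⟩
  have h : (⁅(⟨a, ha⟩ : Q), ⟨b, hb⟩⁆ : Q).val ∈ zpowers z :=
    hZ ▸ ⟨_, Transfer.special_commutatorElement_mem_center hE.1 _ _, rfl⟩
  have hv : (⁅(⟨a, ha⟩ : Q), ⟨b, hb⟩⁆ : Q).val = a * b * a⁻¹ * b⁻¹ := rfl
  rw [hv] at h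
  rcases mem_zpowers_invol hz h with h | h
  · exact Or.inl (mul_inv_eq_one.1 h)
  · exact Or.inr (mul_inv_eq_iff_eq_mul.1 h)

/-- A criterion for a large extraspecial subgroup. -/
theorem large_of_invol {Q : Subgroup G} (hL1 : Cfsg.IsExtraspecial 2 ↥Q)
    (hL2 : centralizer (Q : Set G) = ((center ↥Q).map Q.subtype))
    (hL3 : centralizer (((center ↥Q).map Q.subtype) : Set G) ≤ normalizer (Q : Set G))
    (b : G) (hbQ : b ∈ Q) (hbZ : b ∉ ((center ↥Q).map Q.subtype)) (hb : orderOf b = 2)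
    (hZb : ((center ↥Q).map Q.subtype) ≤ core b) : Cfsg.IsLargeExtraspecial Q := by
  refine ⟨hL1, hL2, hL3, fun K hK hQK => ?_⟩
  obtain ⟨z, hz, hzQ, hzc, hZ⟩ := exists_centre_gen hL1
  rw [hZ] at hL3 hL2 hbZ hZb
  rw [centralizer_zpowers] at hL3
  have hzb : z ∈ core b := hZb (mem_zpowers z)
  have hb2 : b * b = 1 := by rw [← pow_two, ← hb, pow_orderOf_eq_one]
  have hz2 : z * z = 1 := by rw [← pow_two, ← hz, pow_orderOf_eq_one]
  have hcb : ∀ k ∈ K, k * b = b * k → k * z = z * k := by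
    intro k hk hkb
    have hkC : k ∈ centralizer ({b} : Set G) := mem_centralizer_singleton_iff.2 hkb
    have h1 : z * k * z⁻¹ * k⁻¹ ∈ K := mul_mem ((hQK hzQ k).1 hk) (inv_mem hk)
    have h2 : z * k * z⁻¹ * k⁻¹ ∈ core b := by
      rw [show z * k * z⁻¹ * k⁻¹ = z * (k * z⁻¹ * k⁻¹) by group]
      exact mul_mem hzb (core_normal hkC (inv_mem hzb))
    obtain ⟨n, hn⟩ := exists_pow_two (core_pGroup b) h2
    have := eq_one_of_two_odd hK h1 hn
    rw [mul_inv_eq_one, mul_inv_eq_iff_eq_mul] at this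
    exact this.symm
  have hcbz : ∀ k ∈ K, k * (z * b) = z * b * k → k * z = z * k := by
    intro k hk hkb
    obtain ⟨q, hq, hqb⟩ : ∃ q ∈ Q, q * b * q⁻¹ = z * b := by
      by_contra! hall
      refine hbZ (hZ ▸ ⟨⟨b, hbQ⟩, mem_center_iff.2 fun q => ?_, rfl⟩)
      rcases comm_cases hL1 hz hZ q.2 hbQ with h | h
      · exact Subtype.ext (mul_inv_eq_iff_eq_mul.1 h)
      · exact absurd h (hall q q.2)
    have hk' : q⁻¹ * k * q⁻¹⁻¹ ∈ K := (hQK (inv_mem hq) k).1 hk
    rw [inv_inv] at hk'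
    have h := hcb _ hk' (by
      calc q⁻¹ * k * q * b = q⁻¹ * (k * (q * b * q⁻¹)) * q := by group
        _ = q⁻¹ * (z * b * k) * q := by rw [hqb, hkb]
        _ = q⁻¹ * (q * b * q⁻¹ * k) * q := by rw [hqb]
        _ = b * (q⁻¹ * k * q) := by group)
    have hqz := hzc q hq
    calc k * z = q * (q⁻¹ * k * q * (q⁻¹ * (z * q))) * q⁻¹ := by group
      _ = q * (q⁻¹ * k * q * z) * q⁻¹ := by rw [← hqz]; group
      _ = q * (z * (q⁻¹ * k * q)) * q⁻¹ := by rw [h]
      _ = (q * z) * q⁻¹ * k := by group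
      _ = z * k := by rw [hqz]; group
  have hcomm : b * z = z * b := hzc b hbQ
  let A : Subgroup G :=
    { carrier := {1, z, b, z * b}
      one_mem' := by simp
      mul_mem' := by
        have e1 : b * (z * b) = z := by rw [← mul_assoc, hcomm, mul_assoc, hb2, mul_one]
        have e2 : z * (z * b) = b := by rw [← mul_assoc, hz2, one_mul]
        have e3 : (z * b) * z = b := by rw [mul_assoc, hcomm, e2]
        have e4 : (z * b) * b = z := by rw [mul_assoc, hb2, mul_one]
        have e5 : (z * b) * (z * b) = 1 := by rw [← mul_assoc, e3, hb2]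
        intro x y hx hy
        simp only [Set.mem_insert_iff, Set.mem_singleton_iff] at hx hy ⊢
        rcases hx with rfl | rfl | rfl | rfl <;> rcases hy with rfl | rfl | rfl | rfl <;>
          simp only [one_mul, mul_one, hz2, hb2, e1, e2, e3, e4, e5, hcomm, true_or, or_true]
      inv_mem' := by
        intro x hx
        simp only [Set.mem_insert_iff, Set.mem_singleton_iff] at hx ⊢
        rcases hx with rfl | rfl | rfl | rfl
        · simp
        · simp [inv_eq_of_mul_eq_one_right hz2]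
        · simp [inv_eq_of_mul_eq_one_right hb2]
        · have : (z * b)⁻¹ = z * b := by
            rw [_root_.mul_inv_rev, inv_eq_of_mul_eq_one_right hz2, inv_eq_of_mul_eq_one_right hb2, hcomm]
          simp [this] }
  have hAmem : ∀ x, x ∈ A ↔ x = 1 ∨ x = z ∨ x = b ∨ x = z * b := fun x => Iff.rfl
  have hAQ : A ≤ Q := by
    intro x hx
    rcases (hAmem x).1 hx with rfl | rfl | rfl | rfl
    exacts [one_mem _, hzQ, hbQ, mul_mem hzQ hbQ]
  have hA2 : ∀ x ∈ A, x * x = 1 := by
    intro x hx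
    rcases (hAmem x).1 hx with rfl | rfl | rfl | rfl
    · exact one_mul 1
    · exact hz2
    · exact hb2
    · calc z * b * (z * b) = z * (b * z) * b := by group
        _ = (z * z) * (b * b) := by rw [hcomm]; group
        _ = 1 := by rw [hz2, hb2, one_mul]
  have hAab : IsMulCommutative A := ⟨⟨fun x y => by
    apply Subtype.ext
    have h := hA2 _ (mul_mem x.2 y.2)
    show (x : G) * y = y * x
    calc (x : G) * y = ((x : G) * y)⁻¹ := (inv_eq_of_mul_eq_one_right h).symm
      _ = y * x := by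
        rw [_root_.mul_inv_rev, inv_eq_of_mul_eq_one_right (hA2 _ x.2),
          inv_eq_of_mul_eq_one_right (hA2 _ y.2)]⟩⟩
  have hAp : IsPGroup 2 A := fun x => ⟨1, Subtype.ext (by simpa [pow_two] using hA2 _ x.2)⟩
  have hnc : ¬ IsCyclic A := by
    intro hc
    obtain ⟨g, hg⟩ := IsCyclic.exists_generator (α := A)
    have hg2 : g ^ (2 : ℤ) = 1 := by
      rw [show (2 : ℤ) = ((2 : ℕ) : ℤ) from rfl, zpow_natCast, pow_two]
      exact Subtype.ext (hA2 _ g.2)
    have hall : ∀ x : A, x = 1 ∨ x = g := fun x => by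
      obtain ⟨k, rfl⟩ := mem_zpowers_iff.1 (hg x)
      rcases Int.even_or_odd' k with ⟨m, rfl | rfl⟩
      · left; rw [zpow_mul, hg2, one_zpow]
      · right; rw [zpow_add_one, zpow_mul, hg2, one_zpow, one_mul]
    have h1 := hall ⟨z, (hAmem z).2 (Or.inr (Or.inl rfl))⟩
    have h2 := hall ⟨b, (hAmem b).2 (Or.inr (Or.inr (Or.inl rfl)))⟩
    have hz1 : z ≠ 1 := invol_ne_one hz
    have hb1 : b ≠ 1 := invol_ne_one hb
    rcases h1 with h1 | h1
    · exact hz1 (congrArg Subtype.val h1)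
    rcases h2 with h2 | h2
    · exact hb1 (congrArg Subtype.val h2)
    refine hbZ ?_
    rw [show b = z from (congrArg Subtype.val h2).trans (congrArg Subtype.val h1).symm]
    exact mem_zpowers z
  have hcop : (Nat.card A).Coprime (Nat.card K) := by
    haveI : Fact (Nat.Prime 2) := ⟨Nat.prime_two⟩
    obtain ⟨n, hn⟩ := (IsPGroup.iff_card).1 hAp
    rw [hn]
    exact (Nat.coprime_two_left.2 hK).pow_left n
  have hKz : K ≤ centralizer ({z} : Set G) := by
    rw [← Coprime.iSup_centralizer_eq hAab hnc (hAQ.trans hQK) hcop]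
    refine iSup_le fun a => ?_
    intro k hk
    have hka := mem_centralizer_singleton_iff.1 hk.2
    rw [mem_centralizer_singleton_iff]
    rcases (hAmem _).1 a.2.1 with h | h | h | h
    · exact absurd h a.2.2
    · rwa [h] at hka
    · exact hcb k hk.1 (by rwa [h] at hka)
    · exact hcbz k hk.1 (by rwa [h] at hka)
  rw [eq_bot_iff_forall]
  intro k hk
  have hkQ : k ∈ centralizer (Q : Set G) := by
    intro q hq
    have h1 : q * k * q⁻¹ * k⁻¹ ∈ K := mul_mem ((hQK hq k).1 hk) (inv_mem hk)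
    have h4 : q * k * q⁻¹ * k⁻¹ ∈ Q := by
      rw [show q * k * q⁻¹ * k⁻¹ = q * (k * q⁻¹ * k⁻¹) by group]
      exact mul_mem hq ((hL3 (hKz hk) q⁻¹).1 (inv_mem hq))
    obtain ⟨n, hn⟩ := exists_pow_two hL1.1.1 h4
    have h5 := eq_one_of_two_odd hK h1 hn
    rw [mul_inv_eq_one, mul_inv_eq_iff_eq_mul] at h5
    exact h5
  rw [hL2] at hkQ
  rcases mem_zpowers_invol hz hkQ with h | h
  · exact h
  · exact eq_one_of_two_odd hK hk (n := 1) (by rw [h, pow_one, pow_two, hz2])

/-- Orthogonality of singular elements is symmetric. -/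
theorem symm_gen {Q : Subgroup G} {z : G} (hz : orderOf z = 2) (hzQ : z ∈ Q)
    (hQle : Q ≤ centralizer ({z} : Set G))
    (hQn : ∀ c ∈ centralizer ({z} : Set G), ∀ a ∈ Q, c * a * c⁻¹ ∈ Q)
    (hE : Cfsg.IsExtraspecial 2 ↥Q) (hC : centralizer (Q : Set G) ≤ Q)
    (g : G) (hx : g * z * g⁻¹ ∈ Q) : z ∈ Q.map (MulAut.conj g).toMonoidHom := by
  haveI : Fact (Nat.Prime 2) := ⟨Nat.prime_two⟩
  obtain ⟨x, hxdef⟩ : ∃ x, x = g * z * g⁻¹ := ⟨_, rfl⟩
  rw [← hxdef] at hx
  set R := Q.map (MulAut.conj g).toMonoidHom with hQx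
  by_cases hxz : x = z
  · rw [hQx]; exact ⟨z, hzQ, by show g * z * g⁻¹ = z; rw [← hxdef, hxz]⟩
  have hzc : ∀ q ∈ Q, q * z = z * q := fun q hq =>
    mem_centralizer_singleton_iff.1 (hQle hq)
  obtain ⟨w, hw, hwQ, -, hZ'⟩ := exists_centre_gen hE
  have hwz : z = w := by
    have h : z ∈ (center (Q)).map (Q).subtype :=
      ⟨⟨z, hzQ⟩, mem_center_iff.2 fun q => Subtype.ext (hzc q q.2), rfl⟩
    rw [hZ'] at h
    exact (mem_zpowers_invol hw h).resolve_left (invol_ne_one hz)
  have hZ : (center (Q)).map (Q).subtype = zpowers z := hwz ▸ hZ'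
  have hx2 : orderOf x = 2 := by
    rw [hxdef, ← MulAut.conj_apply, MulEquiv.orderOf_eq, hz]
  have hz2 : z * z = 1 := by rw [← pow_two, ← hz, pow_orderOf_eq_one]
  have hxx : x * x = 1 := by rw [← pow_two, ← hx2, pow_orderOf_eq_one]
  have hzx : x * z = z * x := hzc x hx
  -- facts transported to `x`
  have hRle : R ≤ centralizer ({x} : Set G) := by
    rintro _ ⟨a, ha, rfl⟩
    rw [mem_centralizer_singleton_iff, hxdef]
    show g * a * g⁻¹ * (g * z * g⁻¹) = g * z * g⁻¹ * (g * a * g⁻¹)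
    calc g * a * g⁻¹ * (g * z * g⁻¹) = g * (a * z) * g⁻¹ := by group
      _ = g * (z * a) * g⁻¹ := by rw [hzc a ha]
      _ = _ := by group
  have hRn : ∀ c ∈ centralizer ({x} : Set G), ∀ a ∈ R, c * a * c⁻¹ ∈ R := by
    rintro c hc _ ⟨a, ha, rfl⟩
    have hc' : g⁻¹ * c * g ∈ centralizer ({z} : Set G) := by
      have h := mem_centralizer_singleton_iff.1 hc
      rw [hxdef] at h
      rw [mem_centralizer_singleton_iff]
      calc g⁻¹ * c * g * z = g⁻¹ * (c * (g * z * g⁻¹)) * g := by group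
        _ = g⁻¹ * (g * z * g⁻¹ * c) * g := by rw [h]
        _ = z * (g⁻¹ * c * g) := by group
    refine ⟨_, hQn _ hc' a ha, ?_⟩
    show g * (g⁻¹ * c * g * a * (g⁻¹ * c * g)⁻¹) * g⁻¹ = c * (g * a * g⁻¹) * c⁻¹
    group
  have hxc : ∀ a ∈ R, a * x = x * a := fun a ha =>
    mem_centralizer_singleton_iff.1 (hRle ha)
  have hxQx : x ∈ R := ⟨z, hzQ, hxdef.symm⟩
  have hxcases : ∀ a ∈ R, ∀ b ∈ R, a * b * a⁻¹ = b ∨ a * b * a⁻¹ = x * b := by
    rw [hQx]
    rintro _ ⟨a, ha, rfl⟩ _ ⟨b, hb, rfl⟩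
    rw [hxdef]
    show g * a * g⁻¹ * (g * b * g⁻¹) * (g * a * g⁻¹)⁻¹ = g * b * g⁻¹ ∨
      g * a * g⁻¹ * (g * b * g⁻¹) * (g * a * g⁻¹)⁻¹ = g * z * g⁻¹ * (g * b * g⁻¹)
    have e : g * a * g⁻¹ * (g * b * g⁻¹) * (g * a * g⁻¹)⁻¹ = g * (a * b * a⁻¹) * g⁻¹ := by group
    rcases comm_cases hE hz hZ ha hb with h | h
    · left; rw [e, h]
    · right; rw [e, h]; group
  have hxnZ : x ∉ zpowers z := fun h =>
    (mem_zpowers_invol hz h).elim (invol_ne_one hx2) hxz
  obtain ⟨q0, hq0, hq0x⟩ : ∃ q ∈ Q, q * x * q⁻¹ = z * x := by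
    by_contra! hall
    refine hxnZ (hZ ▸ ⟨⟨x, hx⟩, mem_center_iff.2 fun q => ?_, rfl⟩)
    rcases comm_cases hE hz hZ q.2 hx with h | h
    · exact Subtype.ext (mul_inv_eq_iff_eq_mul.1 h)
    · exact absurd h (hall q q.2)
  have hq0z : q0 * z * q0⁻¹ = z := by rw [hzc q0 hq0, mul_inv_cancel_right]
  by_cases hswap : ∃ a ∈ R, a * z * a⁻¹ = x * z
  · -- a swap of `x` and `z`
    obtain ⟨a, ha, haz⟩ := hswap
    have hax : a * x * a⁻¹ = x := by rw [hxc a ha, mul_inv_cancel_right]
    set s := q0 * a * q0 with hs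
    have hsz : s * z * s⁻¹ = x := by
      calc s * z * s⁻¹ = q0 * (a * (q0 * z * q0⁻¹) * a⁻¹) * q0⁻¹ := by rw [hs]; group
        _ = q0 * (x * z) * q0⁻¹ := by rw [hq0z, haz]
        _ = (q0 * x * q0⁻¹) * (q0 * z * q0⁻¹) := by group
        _ = x := by rw [hq0x, hq0z, mul_assoc, hzx, ← mul_assoc, hz2, one_mul]
    have hsx : s * x * s⁻¹ = z := by
      calc s * x * s⁻¹ = q0 * (a * (q0 * x * q0⁻¹) * a⁻¹) * q0⁻¹ := by rw [hs]; group
        _ = q0 * ((a * z * a⁻¹) * (a * x * a⁻¹)) * q0⁻¹ := by rw [hq0x]; group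
        _ = q0 * z * q0⁻¹ := by
          rw [haz, hax, show x * z * x = z by rw [hzx, mul_assoc, hxx, mul_one]]
        _ = z := hq0z
    have hc : g⁻¹ * s ∈ centralizer ({z} : Set G) := by
      rw [mem_centralizer_singleton_iff]
      calc g⁻¹ * s * z = g⁻¹ * (s * z * s⁻¹) * s := by group
        _ = z * (g⁻¹ * s) := by rw [hsz, hxdef]; group
    refine ⟨_, hQn _ hc x hx, ?_⟩
    show g * (g⁻¹ * s * x * (g⁻¹ * s)⁻¹) * g⁻¹ = z
    calc g * (g⁻¹ * s * x * (g⁻¹ * s)⁻¹) * g⁻¹ = s * x * s⁻¹ := by group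
      _ = z := hsx
  by_contra hzn
  have hzCx : z ∈ centralizer ({x} : Set G) := mem_centralizer_singleton_iff.2 hzx.symm
  -- elements of `R` commuting with `z` modulo `x` commute with `z`
  have hlift : ∀ a ∈ R, a * z * a⁻¹ = z ∨ a * z * a⁻¹ = x * z → a * z = z * a := by
    intro a ha h
    rcases h with h | h
    · exact mul_inv_eq_iff_eq_mul.1 h
    · exact absurd ⟨a, ha, h⟩ hswap
  -- `P = C_Q(x)` centralizes the part commuting with `z` modulo `x`
  have hP : ∀ p ∈ Q, p * x = x * p → ∀ r ∈ R, r * z = z * r →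
      p * r * p⁻¹ = r ∨ p * r * p⁻¹ = x * r := by
    intro p hp hpx r hr hrz
    have hrC : r ∈ centralizer ({z} : Set G) := mem_centralizer_singleton_iff.2 hrz
    have hpC : p ∈ centralizer ({x} : Set G) := mem_centralizer_singleton_iff.2 hpx
    set d := p * r * p⁻¹ * r⁻¹ with hd
    have hdz : d ∈ Q := by
      rw [hd, show p * r * p⁻¹ * r⁻¹ = p * (r * p⁻¹ * r⁻¹) by group]
      exact mul_mem hp (hQn _ hrC _ (inv_mem hp))
    have hdx : d ∈ R := mul_mem (hRn _ hpC _ hr) (inv_mem hr)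
    -- `d` commutes with all of `C_Q(x)`
    have hdc : ∀ q ∈ Q, q * x = x * q → q * d = d * q := by
      intro q hq hqx
      rcases comm_cases hE hz hZ hq hdz with h | h
      · exact mul_inv_eq_iff_eq_mul.1 h
      · exfalso
        apply hzn
        have hqC : q ∈ centralizer ({x} : Set G) := mem_centralizer_singleton_iff.2 hqx
        rw [show z = q * d * q⁻¹ * d⁻¹ by rw [h]; group]
        exact mul_mem (hRn _ hqC _ hdx) (inv_mem hdx)
    have hq0cases : ∀ q ∈ Q, q * x = x * q ∨ (q0⁻¹ * q) * x = x * (q0⁻¹ * q) := by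
      intro q hq
      rcases comm_cases hE hz hZ hq hx with h | h
      · exact Or.inl (mul_inv_eq_iff_eq_mul.1 h)
      · right
        rw [← mul_inv_eq_iff_eq_mul]
        calc q0⁻¹ * q * x * (q0⁻¹ * q)⁻¹ = q0⁻¹ * ((q : G) * x * (q : G)⁻¹) * q0 := by group
          _ = q0⁻¹ * (q0 * x * q0⁻¹) * q0 := by rw [h, hq0x]
          _ = x := by group
    have key : ∀ e ∈ Q, (∀ q ∈ Q, q * x = x * q → q * e = e * q) → q0 * e = e * q0 →
        e = 1 ∨ e = z := by
      intro e he hec hq0e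
      refine mem_zpowers_invol hz (hZ ▸ ⟨⟨e, he⟩, mem_center_iff.2 fun q => Subtype.ext ?_, rfl⟩)
      show (q : G) * e = e * q
      rcases hq0cases q q.2 with h | h
      · exact hec q q.2 h
      · have h' := hec _ (mul_mem (inv_mem hq0) q.2) h
        calc (q : G) * e = q0 * (q0⁻¹ * q * e) := by group
          _ = q0 * (e * (q0⁻¹ * q)) := by rw [h']
          _ = (q0 * e) * q0⁻¹ * q := by group
          _ = e * q := by rw [hq0e]; group
    rcases comm_cases hE hz hZ hq0 hdz with h | h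
    · rcases key d hdz hdc (mul_inv_eq_iff_eq_mul.1 h) with h1 | h1
      · left; rwa [hd, mul_inv_eq_one] at h1
      · exact absurd (h1 ▸ hdx) hzn
    · have hxd : q0 * (x * d) = x * d * q0 := by
        rw [← mul_inv_eq_iff_eq_mul]
        calc q0 * (x * d) * q0⁻¹ = (q0 * x * q0⁻¹) * (q0 * d * q0⁻¹) := by group
          _ = (z * x) * (z * d) := by rw [hq0x, h]
          _ = z * (x * z) * d := by group
          _ = (z * z) * (x * d) := by rw [hzx]; group
          _ = x * d := by rw [hz2, one_mul]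
      rcases key (x * d) (mul_mem hx hdz) (fun q hq hqx =>
        calc q * (x * d) = q * x * d := (mul_assoc q x d).symm
          _ = x * (q * d) := by rw [hqx]; exact mul_assoc x q d
          _ = x * (d * q) := congrArg (x * ·) (hdc q hq hqx)
          _ = x * d * q := (mul_assoc x d q).symm) hxd with h1 | h1
      · right
        have : d = x := by
          calc d = x * x * d := by rw [hxx, one_mul]
            _ = x := by rw [mul_assoc, h1, mul_one]
        rwa [hd, mul_inv_eq_iff_eq_mul] at this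
      · exact absurd (h1 ▸ mul_mem hxQx hdx) hzn
  -- the differences `[p, a]` commute with `z`
  have hdiff : ∀ p ∈ Q, p * x = x * p → ∀ a ∈ R,
      (p * a * p⁻¹ * a⁻¹) * z = z * (p * a * p⁻¹ * a⁻¹) := by
    intro p hp hpx a ha
    have hpC : p ∈ centralizer ({x} : Set G) := mem_centralizer_singleton_iff.2 hpx
    have hr : z * a * z⁻¹ * a⁻¹ ∈ R := mul_mem (hRn _ hzCx _ ha) (inv_mem ha)
    -- `z` is an involution, so `[z, a]` commutes with `z` modulo `x`
    have hrz : (z * a * z⁻¹ * a⁻¹) * z = z * (z * a * z⁻¹ * a⁻¹) := by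
      refine hlift _ hr ?_
      set r := z * a * z⁻¹ * a⁻¹ with hrdef
      have hzi : z⁻¹ = z := inv_eq_of_mul_eq_one_right hz2
      have hinv : z * r * z⁻¹ = r⁻¹ := by
        rw [hrdef, hzi]
        calc z * (z * a * z * a⁻¹) * z = (z * z) * (a * z * a⁻¹ * z) := by group
          _ = (z * a * z * a⁻¹)⁻¹ := by
            rw [hz2, one_mul, _root_.mul_inv_rev, _root_.mul_inv_rev, _root_.mul_inv_rev, inv_inv, hzi]
            group
      have hsq : r * r = 1 ∨ r * r = x := by
        have : ∀ u ∈ R, u * u = 1 ∨ u * u = x := by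
          rw [hQx]
          rintro _ ⟨u, hu, rfl⟩
          rw [hxdef]
          show g * u * g⁻¹ * (g * u * g⁻¹) = 1 ∨ g * u * g⁻¹ * (g * u * g⁻¹) = g * z * g⁻¹
          have hm : u * u ∈ zpowers z := by
            rw [← hZ]
            refine ⟨⟨u, hu⟩ * ⟨u, hu⟩, ?_, rfl⟩
            have := Transfer.pow_mem_frattini hE.1.1 (⟨u, hu⟩ : Q)
            rw [hE.1.2.1] at this
            rw [← pow_two]
            exact this
          rw [show g * u * g⁻¹ * (g * u * g⁻¹) = g * (u * u) * g⁻¹ by group]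
          rcases mem_zpowers_invol hz hm with h | h
          · left; rw [h]; group
          · right; rw [h]
        exact this r hr
      have e : r * z * r⁻¹ = (r * r) * z := by
        have h3 : z * r⁻¹ = r * z := by rw [← hinv]; simp [hzi, ← mul_assoc, hz2]
        calc r * z * r⁻¹ = r * (z * r⁻¹) := by group
          _ = r * (r * z) := by rw [h3]
          _ = (r * r) * z := by group
      rcases hsq with h | h
      · left; rw [e, h, one_mul]
      · right; rw [e, h]
    refine hlift _ (mul_mem (hRn _ hpC _ ha) (inv_mem ha)) ?_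
    set r := z * a * z⁻¹ * a⁻¹ with hrdef
    set u := p * a * p⁻¹ * a⁻¹ with hudef
    have hpz : z * p = p * z := (hzc p hp).symm
    -- compute `z u z⁻¹`
    have hzu : z * u * z⁻¹ = p * r * p⁻¹ * u * r⁻¹ := by
      have hza : z * a * z⁻¹ = r * a := by rw [hrdef]; group
      calc z * u * z⁻¹ = (z * p) * a * (p⁻¹ * z⁻¹) * (z * a⁻¹ * z⁻¹) := by rw [hudef]; group
        _ = (p * z) * a * (z⁻¹ * p⁻¹) * (z * a * z⁻¹)⁻¹ := by
          rw [hpz, show p⁻¹ * z⁻¹ = z⁻¹ * p⁻¹ by
            rw [← _root_.mul_inv_rev, hpz, _root_.mul_inv_rev]]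
          group
        _ = p * (z * a * z⁻¹) * p⁻¹ * (z * a * z⁻¹)⁻¹ := by group
        _ = p * r * p⁻¹ * u * r⁻¹ := by rw [hza, hudef]; group
    have huQ : u ∈ R := mul_mem (hRn _ hpC _ ha) (inv_mem ha)
    have hru := hxcases u huQ r hr
    have hpr := hP p hp hpx r hr hrz
    have hxu : u * x = x * u := hxc u huQ
    have hzuz : z * u * z⁻¹ = u ∨ z * u * z⁻¹ = x * u := by
      rw [hzu]
      have e1 : r * u * r⁻¹ = u ∨ r * u * r⁻¹ = x * u := hxcases r hr u huQ
      rcases hpr with h | h <;> rw [h] <;> rcases e1 with h' | h'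
      · left; exact h'
      · right; exact h'
      · right; rw [mul_assoc x r, mul_assoc x, h']
      · left; rw [mul_assoc x r, mul_assoc x, h', ← mul_assoc, hxx, one_mul]
    have hxz' : z * x * z⁻¹ = x := by rw [← hzx, mul_inv_cancel_right]
    rcases hzuz with h | h
    · left
      have h' := mul_inv_eq_iff_eq_mul.1 h
      rw [← h', mul_inv_cancel_right]
    · right
      have h' : z * u = x * u * z := mul_inv_eq_iff_eq_mul.1 h
      calc u * z * u⁻¹ = x * (x * u * z) * u⁻¹ := by rw [← mul_assoc, ← mul_assoc, hxx, one_mul]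
        _ = x * (z * u) * u⁻¹ := by rw [h']
        _ = x * z := by group
  -- so `z` centralizes `R` modulo `x`
  have hact : ∀ a ∈ R, z * a * z⁻¹ = a ∨ z * a * z⁻¹ = x * a := by
    intro a ha
    by_cases hcom : ∀ p ∈ Q, p * x = x * p → ∀ q ∈ Q, q * x = x * q → p * q = q * p
    · -- `C_Q(x)` is abelian, so it is `⟨z, x⟩` and `R` centralizes it
      have hPsmall : ∀ p ∈ Q, p * x = x * p → p = 1 ∨ p = z ∨ p = x ∨ p = z * x := by
        intro p hp hpx
        rcases comm_cases hE hz hZ hq0 hp with h | h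
        · have : p ∈ zpowers z := hZ ▸ ⟨⟨p, hp⟩, mem_center_iff.2 fun q => Subtype.ext (by
            show (q : G) * p = p * q
            rcases comm_cases hE hz hZ q.2 hx with h1 | h1
            · exact hcom q q.2 (mul_inv_eq_iff_eq_mul.1 h1) p hp hpx
            · have hq' : q0⁻¹ * q * x = x * (q0⁻¹ * q) := by
                rw [← mul_inv_eq_iff_eq_mul]
                calc q0⁻¹ * q * x * (q0⁻¹ * q)⁻¹ = q0⁻¹ * ((q : G) * x * (q : G)⁻¹) * q0 := by group
                  _ = q0⁻¹ * (q0 * x * q0⁻¹) * q0 := by rw [h1, hq0x]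
                  _ = x := by group
              have h' := hcom _ (mul_mem (inv_mem hq0) q.2) hq' p hp hpx
              calc (q : G) * p = q0 * (q0⁻¹ * q * p) := by group
                _ = (q0 * p * q0⁻¹) * q := by rw [h']; group
                _ = p * q := by rw [h]), rfl⟩
          rcases mem_zpowers_invol hz this with h | h
          · exact Or.inl h
          · exact Or.inr (Or.inl h)
        · have hxp : x * p ∈ zpowers z := hZ ▸ ⟨⟨x * p, mul_mem hx hp⟩, mem_center_iff.2 fun q =>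
            Subtype.ext (by
            show (q : G) * (x * p) = x * p * q
            have hcx : ∀ t ∈ Q, t * x = x * t → t * (x * p) = x * p * t := fun t ht htx => by
              rw [← mul_assoc, htx, mul_assoc, hcom t ht htx p hp hpx, mul_assoc]
            rcases comm_cases hE hz hZ q.2 hx with h1 | h1
            · exact hcx q q.2 (mul_inv_eq_iff_eq_mul.1 h1)
            · have hq' : q0⁻¹ * q * x = x * (q0⁻¹ * q) := by
                rw [← mul_inv_eq_iff_eq_mul]
                calc q0⁻¹ * q * x * (q0⁻¹ * q)⁻¹ = q0⁻¹ * ((q : G) * x * (q : G)⁻¹) * q0 := by group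
                  _ = q0⁻¹ * (q0 * x * q0⁻¹) * q0 := by rw [h1, hq0x]
                  _ = x := by group
              have h' := hcx _ (mul_mem (inv_mem hq0) q.2) hq'
              calc (q : G) * (x * p) = q0 * (q0⁻¹ * q * (x * p)) := by group
                _ = ((q0 * x * q0⁻¹) * (q0 * p * q0⁻¹)) * q := by rw [h']; group
                _ = (z * (x * z)) * p * q := by rw [hq0x, h]; group
                _ = (z * z) * (x * p) * q := by rw [hzx]; group
                _ = x * p * q := by rw [hz2, one_mul]), rfl⟩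
          have hp' : p = x * (x * p) := by rw [← mul_assoc, hxx, one_mul]
          rcases mem_zpowers_invol hz hxp with h2 | h2 <;> rw [h2] at hp'
          · exact Or.inr (Or.inr (Or.inl (by rw [hp', mul_one])))
          · exact Or.inr (Or.inr (Or.inr (by rw [hp', hzx])))
      -- then `R ∩ C(z) = {1, x}`, and `z` acts trivially
      have hsmall : ∀ r ∈ R, r * z = z * r → r = 1 ∨ r = x := by
        intro r hr hrz
        have hrC : r ∈ centralizer ({z} : Set G) := mem_centralizer_singleton_iff.2 hrz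
        have hrx := hxc r hr
        have hd : r * q0 * r⁻¹ * q0⁻¹ ∈ Q := mul_mem (hQn _ hrC _ hq0) (inv_mem hq0)
        have hdx : (r * q0 * r⁻¹ * q0⁻¹) * x = x * (r * q0 * r⁻¹ * q0⁻¹) := by
          rw [← mul_inv_eq_iff_eq_mul]
          have hr' : r⁻¹ * x * r = x := by rw [mul_assoc, ← hrx, inv_mul_cancel_left]
          have hrz' : r * z * r⁻¹ = z := by rw [hrz, mul_inv_cancel_right]
          have hrx' : r * x * r⁻¹ = x := by rw [hrx, mul_inv_cancel_right]
          have hq0' : q0⁻¹ * x * q0 = z * x := by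
            calc q0⁻¹ * x * q0 = q0⁻¹ * (z * (z * x)) * q0 := by rw [← mul_assoc z, hz2, one_mul]
              _ = (q0⁻¹ * (z * q0)) * (q0⁻¹ * (q0 * x * q0⁻¹) * q0) := by rw [hq0x]; group
              _ = z * x := by rw [← hzc q0 hq0]; group
          calc r * q0 * r⁻¹ * q0⁻¹ * x * (r * q0 * r⁻¹ * q0⁻¹)⁻¹
              = r * q0 * r⁻¹ * (q0⁻¹ * x * q0) * (r * q0⁻¹ * r⁻¹) := by group
            _ = r * q0 * ((r⁻¹ * z * r) * (r⁻¹ * x * r)) * q0⁻¹ * r⁻¹ := by rw [hq0']; group
            _ = r * ((q0 * z * q0⁻¹) * (q0 * x * q0⁻¹)) * r⁻¹ := by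
              rw [hr', mul_assoc r⁻¹, ← hrz, inv_mul_cancel_left]; group
            _ = r * (z * (z * x)) * r⁻¹ := by rw [hq0z, hq0x]
            _ = x := by rw [← mul_assoc z, hz2, one_mul, hrx']
        -- the squares of `q0 x` and `q0` differ
        have hsqne : (x * q0) * (x * q0) = z * (q0 * q0) := by
          calc (x * q0) * (x * q0) = x * (q0 * x * q0⁻¹) * (q0 * q0) := by group
            _ = (x * z) * x * (q0 * q0) := by rw [hq0x]; group
            _ = z * (x * x) * (q0 * q0) := by rw [hzx]; group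
            _ = z * (q0 * q0) := by rw [hxx, mul_one]
        have hrq : r * (q0 * q0) * r⁻¹ = q0 * q0 := by
          have hm : q0 * q0 ∈ zpowers z := by
            rw [← hZ]
            refine ⟨⟨q0, hq0⟩ * ⟨q0, hq0⟩, ?_, rfl⟩
            have := Transfer.pow_mem_frattini hE.1.1 (⟨q0, hq0⟩ : Q)
            rw [hE.1.2.1] at this
            rw [← pow_two]
            exact this
          rcases mem_zpowers_invol hz hm with h | h <;> rw [h]
          · group
          · rw [hrz, mul_inv_cancel_right]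
        obtain ⟨t, ht, htq⟩ : ∃ t, (t = 1 ∨ t = z) ∧ r * q0 * r⁻¹ = t * q0 := by
          refine ⟨r * q0 * r⁻¹ * q0⁻¹, ?_, by group⟩
          rcases hPsmall _ hd hdx with h | h | h | h
          · exact Or.inl h
          · exact Or.inr h
          · exfalso
            rw [mul_inv_eq_iff_eq_mul] at h
            have e : r * (q0 * q0) * r⁻¹ = (x * q0) * (x * q0) := by rw [← h]; group
            rw [hrq, hsqne] at e
            exact invol_ne_one hz (mul_eq_right.1 e.symm)
          · exfalso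
            rw [mul_inv_eq_iff_eq_mul] at h
            have e : r * (q0 * q0) * r⁻¹ = (z * x * q0) * (z * x * q0) := by rw [← h]; group
            have e2 : (z * x * q0) * (z * x * q0) = (x * q0) * (x * q0) := by
              calc (z * x * q0) * (z * x * q0) = z * ((x * q0) * z) * (x * q0) := by group
                _ = (z * z) * ((x * q0) * (x * q0)) := by rw [hzc _ (mul_mem hx hq0)]; group
                _ = _ := by rw [hz2, one_mul]
            rw [e2, hrq, hsqne] at e
            exact invol_ne_one hz (mul_eq_right.1 e.symm)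
        have hcent : ∀ y : G, y * x = x * y → y * z = z * y → y * q0 = q0 * y →
            y = 1 ∨ y = z := by
          intro y hyx hyz hyq
          have hy : y ∈ centralizer ((Q : Subgroup G) : Set G) := by
            intro q hq
            have hP4 : ∀ p ∈ Q, p * x = x * p → p * y = y * p := by
              intro p hp hpx
              rcases hPsmall p hp hpx with rfl | rfl | rfl | rfl
              · rw [one_mul, mul_one]
              · exact hyz.symm
              · exact hyx.symm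
              · rw [mul_assoc, ← hyx, ← mul_assoc, ← hyz, mul_assoc]
            rcases comm_cases hE hz hZ hq hx with h1 | h1
            · exact hP4 q hq (mul_inv_eq_iff_eq_mul.1 h1)
            · have hq' : q0⁻¹ * q * x = x * (q0⁻¹ * q) := by
                rw [← mul_inv_eq_iff_eq_mul]
                calc q0⁻¹ * q * x * (q0⁻¹ * q)⁻¹ = q0⁻¹ * ((q : G) * x * (q : G)⁻¹) * q0 := by group
                  _ = q0⁻¹ * (q0 * x * q0⁻¹) * q0 := by rw [h1, hq0x]
                  _ = x := by group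
              have h' := hP4 _ (mul_mem (inv_mem hq0) hq) hq'
              calc q * y = q0 * (q0⁻¹ * q * y) := by group
                _ = (q0 * y) * q0⁻¹ * q := by rw [h']; group
                _ = y * q := by rw [← hyq]; group
          have hym : y ∈ (center (Q)).map (Q).subtype :=
            ⟨⟨y, hC hy⟩, mem_center_iff.2 fun q => Subtype.ext (hy q q.2), rfl⟩
          exact mem_zpowers_invol hz (hZ ▸ hym)
        rcases ht with ht1 | ht1 <;> rw [ht1] at htq
        · rcases hcent r hrx hrz (mul_inv_eq_iff_eq_mul.1 (by rw [htq, one_mul])) with h | h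
          · exact Or.inl h
          · exact absurd (h ▸ hr) hzn
        · have hxr : (x * r) * q0 = q0 * (x * r) := by
            rw [← mul_inv_eq_iff_eq_mul]
            calc x * r * q0 * (x * r)⁻¹ = x * (r * q0 * r⁻¹) * x⁻¹ := by group
              _ = x * (z * q0) * x := by rw [htq, inv_eq_of_mul_eq_one_right hxx]
              _ = (x * z) * (q0 * x * q0⁻¹) * q0 := by group
              _ = (x * (z * z)) * x * q0 := by rw [hq0x]; group
              _ = q0 := by rw [hz2, mul_one, hxx, one_mul]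
          rcases hcent (x * r) (by rw [mul_assoc, hrx]) (by rw [mul_assoc, hrz, ← mul_assoc, hzx,
            mul_assoc]) hxr with h | h
          · right
            calc r = x * (x * r) := by rw [← mul_assoc, hxx, one_mul]
              _ = x := by rw [h, mul_one]
          · exact absurd (h ▸ mul_mem hxQx hr) hzn
      have hr := mul_mem (hRn _ hzCx _ ha) (inv_mem ha)
      have hzi : z⁻¹ = z := inv_eq_of_mul_eq_one_right hz2
      have hrz : (z * a * z⁻¹ * a⁻¹) * z = z * (z * a * z⁻¹ * a⁻¹) := by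
        have := hdiff z hzQ hzx.symm a ha
        exact this
      rcases hsmall _ hr hrz with h | h
      · exact Or.inl (mul_inv_eq_one.1 h)
      · exact Or.inr (mul_inv_eq_iff_eq_mul.1 h)
    · push Not at hcom
      obtain ⟨p, hp, hpx, q, hq, hqx, hpq⟩ := hcom
      have hz' : z = p * q * p⁻¹ * q⁻¹ := by
        rcases comm_cases hE hz hZ hp hq with h | h
        · exact absurd (mul_inv_eq_iff_eq_mul.1 h) hpq
        · rw [h]; group
      have hpC : p ∈ centralizer ({x} : Set G) := mem_centralizer_singleton_iff.2 hpx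
      have hqC : q ∈ centralizer ({x} : Set G) := mem_centralizer_singleton_iff.2 hqx
      set u := p * a * p⁻¹ * a⁻¹ with hu
      set v := q * a * q⁻¹ * a⁻¹ with hv
      have huQ : u ∈ R := mul_mem (hRn _ hpC _ ha) (inv_mem ha)
      have hvQ : v ∈ R := mul_mem (hRn _ hqC _ ha) (inv_mem ha)
      have hpv := hP p hp hpx v hvQ (hdiff q hq hqx a ha)
      have hqu := hP q hq hqx u huQ (hdiff p hp hpx a ha)
      have huv := hxcases u huQ v hvQ
      have hpqa : (p * q) * a * (p * q)⁻¹ = (p * v * p⁻¹) * (u * a) := by rw [hu, hv]; group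
      have hqpa : (q * p) * a * (q * p)⁻¹ = (q * u * q⁻¹) * (v * a) := by rw [hu, hv]; group
      have hxin : ∀ w ∈ R, x * w = w * x := fun w hw => (hxc w hw).symm
      -- both are `v u a` modulo `x`
      obtain ⟨s, hs, es⟩ : ∃ s, (s = 1 ∨ s = x) ∧
          (p * q) * a * (p * q)⁻¹ = s * (v * u * a) := by
        rcases hpv with h | h
        · exact ⟨1, Or.inl rfl, by rw [hpqa, h, one_mul, ← mul_assoc]⟩
        · exact ⟨x, Or.inr rfl, by rw [hpqa, h, mul_assoc x, ← mul_assoc v]⟩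
      obtain ⟨t, ht, et⟩ : ∃ t, (t = 1 ∨ t = x) ∧
          (q * p) * a * (q * p)⁻¹ = t * (v * u * a) := by
        have e1 : u * (v * a) = v * u * a ∨ u * (v * a) = x * (v * u * a) := by
          rcases huv with h | h
          · left; rw [← mul_assoc, mul_inv_eq_iff_eq_mul.1 h]
          · right; rw [← mul_assoc, mul_inv_eq_iff_eq_mul.1 h, mul_assoc x, mul_assoc x]
        rcases hqu with h | h <;> rcases e1 with h' | h'
        · exact ⟨1, Or.inl rfl, by rw [hqpa, h, h', one_mul]⟩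
        · exact ⟨x, Or.inr rfl, by rw [hqpa, h, h']⟩
        · exact ⟨x, Or.inr rfl, by rw [hqpa, h, mul_assoc x, h']⟩
        · exact ⟨1, Or.inl rfl, by rw [hqpa, h, mul_assoc x, h', ← mul_assoc, hxx]⟩
      have hz'' : p * q = z * (q * p) := by rw [hz']; group
      have ew : z * (t * (v * u * a)) * z⁻¹ = s * (v * u * a) := by
        rw [← et, ← es, hz'']
        group
      -- conjugate back to `a`
      have htc : z * t * z⁻¹ = t := by
        rcases ht with rfl | rfl
        · group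
        · rw [← hzx, mul_inv_cancel_right]
      have ew' : z * (v * u * a) * z⁻¹ = t⁻¹ * s * (v * u * a) := by
        calc z * (v * u * a) * z⁻¹ = (z * t * z⁻¹)⁻¹ * (z * (t * (v * u * a)) * z⁻¹) := by group
          _ = t⁻¹ * s * (v * u * a) := by rw [ew, htc]; group
      have hu' : z * u * z⁻¹ = u := by
        rw [← hdiff p hp hpx a ha, mul_inv_cancel_right]
      have hv' : z * v * z⁻¹ = v := by
        rw [← hdiff q hq hqx a ha, mul_inv_cancel_right]
      have ea : v * u * (z * a * z⁻¹) = t⁻¹ * s * (v * u * a) := by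
        rw [← ew']
        calc v * u * (z * a * z⁻¹) = (z * v * z⁻¹) * (z * u * z⁻¹) * (z * a * z⁻¹) := by
              rw [hu', hv']
          _ = _ := by group
      have hts : t⁻¹ * s = 1 ∨ t⁻¹ * s = x := by
        have hxi : x⁻¹ = x := inv_eq_of_mul_eq_one_right hxx
        rcases hs with rfl | rfl <;> rcases ht with rfl | rfl <;> simp [hxi, hxx]
      rcases hts with h | h <;> rw [h] at ea
      · left; rw [one_mul] at ea; exact mul_left_cancel ea
      · right
        refine mul_left_cancel (a := v * u) (ea.trans ?_)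
        calc x * (v * u * a) = x * (v * u) * a := (mul_assoc x (v * u) a).symm
          _ = v * u * x * a := by rw [hxin _ (mul_mem hvQ huQ)]
          _ = v * u * (x * a) := mul_assoc (v * u) x a
  -- conclude
  have hzn' : ∀ a ∈ R, z * a * z⁻¹ = a ∨ z * a * z⁻¹ = x * a := hact
  have hE' : Cfsg.IsExtraspecial 2 (Q) := hE
  let zc : Q →* Q :=
    MonoidHom.mk' (fun c => ⟨g⁻¹ * z * g * c * (g⁻¹ * z * g)⁻¹ * (c : G)⁻¹, by
      have hgc : g * c * g⁻¹ ∈ R := hQx ▸ ⟨c, c.2, rfl⟩
      rcases hact _ hgc with h | h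
      · rw [show g⁻¹ * z * g * c * (g⁻¹ * z * g)⁻¹ * (c : G)⁻¹ =
          g⁻¹ * (z * (g * c * g⁻¹) * z⁻¹) * g * (c : G)⁻¹ by group, h]
        simp [mul_assoc]
      · rw [show g⁻¹ * z * g * c * (g⁻¹ * z * g)⁻¹ * (c : G)⁻¹ =
          g⁻¹ * (z * (g * c * g⁻¹) * z⁻¹) * g * (c : G)⁻¹ by group, h, hxdef]
        simp only [mul_assoc, inv_mul_cancel_left, inv_mul_cancel, mul_one, mul_inv_cancel]
        exact hzQ⟩) (fun c d => Subtype.ext (by
        have hgc : g * c * g⁻¹ ∈ R := hQx ▸ ⟨c, c.2, rfl⟩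
        show g⁻¹ * z * g * ((c : G) * d) * (g⁻¹ * z * g)⁻¹ * ((c : G) * d)⁻¹ =
          g⁻¹ * z * g * c * (g⁻¹ * z * g)⁻¹ * (c : G)⁻¹ *
            (g⁻¹ * z * g * d * (g⁻¹ * z * g)⁻¹ * (d : G)⁻¹)
        have hgd : g * d * g⁻¹ ∈ R := hQx ▸ ⟨d, d.2, rfl⟩
        have hdz : g⁻¹ * z * g * d * (g⁻¹ * z * g)⁻¹ * (d : G)⁻¹ = 1 ∨
            g⁻¹ * z * g * d * (g⁻¹ * z * g)⁻¹ * (d : G)⁻¹ = z := by
          rw [show g⁻¹ * z * g * d * (g⁻¹ * z * g)⁻¹ * (d : G)⁻¹ =
            g⁻¹ * (z * (g * d * g⁻¹) * z⁻¹) * g * (d : G)⁻¹ by group]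
          rcases hact _ hgd with h | h <;> rw [h]
          · left; group
          · right; rw [hxdef]; group
        rw [show g⁻¹ * z * g * ((c : G) * d) * (g⁻¹ * z * g)⁻¹ * ((c : G) * d)⁻¹ =
          (g⁻¹ * z * g * c * (g⁻¹ * z * g)⁻¹) *
            (g⁻¹ * z * g * d * (g⁻¹ * z * g)⁻¹ * (d : G)⁻¹) * (c : G)⁻¹ by group]
        generalize g⁻¹ * z * g * d * (g⁻¹ * z * g)⁻¹ * (d : G)⁻¹ = D at hdz ⊢
        rcases hdz with rfl | rfl
        · simp
        · rw [mul_assoc _ D, show D * (c : G)⁻¹ = (c : G)⁻¹ * D from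
            ((Commute.inv_left (hzc c c.2 : Commute (c : G) D)).eq).symm]
          simp only [mul_assoc]))
  have hrange : ∀ c, zc c ∈ center (Q) := by
    intro c
    refine mem_center_iff.2 fun d => Subtype.ext ?_
    have hgc : g * c * g⁻¹ ∈ R := hQx ▸ ⟨c, c.2, rfl⟩
    show (d : G) * (g⁻¹ * z * g * c * (g⁻¹ * z * g)⁻¹ * (c : G)⁻¹) =
      (g⁻¹ * z * g * c * (g⁻¹ * z * g)⁻¹ * (c : G)⁻¹) * d
    rw [show g⁻¹ * z * g * c * (g⁻¹ * z * g)⁻¹ * (c : G)⁻¹ =
      g⁻¹ * (z * (g * c * g⁻¹) * z⁻¹) * g * (c : G)⁻¹ by group]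
    rcases hact _ hgc with h | h <;> rw [h]
    · rw [show g⁻¹ * (g * c * g⁻¹) * g * (c : G)⁻¹ = 1 by group, mul_one, one_mul]
    · rw [show g⁻¹ * (x * (g * c * g⁻¹)) * g * (c : G)⁻¹ = z by rw [hxdef]; group]
      exact hzc d d.2
  obtain ⟨e, he⟩ := Transfer.extraspecial_exists_commutator_eq hE'
    (zc.codRestrict (center (Q)) hrange) (fun c hc => by
      refine MonoidHom.mem_ker.2 (Subtype.ext (Subtype.ext ?_))
      show g⁻¹ * z * g * c * (g⁻¹ * z * g)⁻¹ * (c : G)⁻¹ = 1
      have hc' : (c : G) ∈ zpowers z := hZ ▸ ⟨c, hc, rfl⟩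
      have hzi : z⁻¹ = z := inv_eq_of_mul_eq_one_right hz2
      rcases mem_zpowers_invol hz hc' with h | h <;> rw [h]
      · simp [mul_assoc]
      · have : g * z * g⁻¹ * z = z * (g * z * g⁻¹) := by rw [← hxdef]; exact hzx
        calc g⁻¹ * z * g * z * (g⁻¹ * z * g)⁻¹ * z⁻¹
            = g⁻¹ * (z * (g * z * g⁻¹)) * z⁻¹ * g * z⁻¹ := by group
          _ = g⁻¹ * (g * z * g⁻¹ * z) * z⁻¹ * g * z⁻¹ := by rw [this]
          _ = 1 := by group)
  apply hzn
  set y := (e : G)⁻¹ * (g⁻¹ * z * g) with hy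
  have hyC : y ∈ centralizer ((Q : Subgroup G) : Set G) := by
    intro c hc
    have h : g⁻¹ * z * g * c * (g⁻¹ * z * g)⁻¹ * c⁻¹ = (e : G) * c * (e : G)⁻¹ * c⁻¹ :=
      congrArg Subtype.val (he ⟨c, hc⟩)
    have h2 := mul_right_cancel h
    calc c * y = (e : G)⁻¹ * ((e : G) * c * (e : G)⁻¹) * (g⁻¹ * z * g) := by rw [hy]; group
      _ = (e : G)⁻¹ * (g⁻¹ * z * g * c * (g⁻¹ * z * g)⁻¹) * (g⁻¹ * z * g) := by rw [h2]
      _ = y * c := by rw [hy]; group
  have hmem : g⁻¹ * z * g ∈ Q := by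
    have := mul_mem e.2 (hC hyC)
    rwa [hy, mul_inv_cancel_left] at this
  exact ⟨_, hmem, by show g * (g⁻¹ * z * g) * g⁻¹ = z; group⟩

/-- The symmetric relation for the largest normal 2-subgroups. -/
theorem symm (z : G) (hz : orderOf z = 2) (hE : Cfsg.IsExtraspecial 2 ↥(core z))
    (hC : centralizer ((core z : Subgroup G) : Set G) ≤ core z)
    (g : G) (hx : g * z * g⁻¹ ∈ core z) : z ∈ core (g * z * g⁻¹) :=
  core_conj g z ▸ symm_gen hz (self_mem_core hz) (core_le z) (fun _ hc _ ha => core_normal hc ha)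
    hE hC g hx

end CfsgLib.Trans3.LargeSymm
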