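import Cfsg.Agent.Lib.Trans3.LargeAffine

/-!
The centraliser of a transvection in `SL_{n+2}(2)`.
-/

set_option autoImplicit false

set_option linter.unusedVariables false

namespace CfsgLib.Trans3.LargeTransvection

open Matrix CfsgLib.Trans3.ExtraTwo CfsgLib.Trans3.LargeAffine

variable {m : ℕ}

theorem det_eq_one (B : GL (Fin m) (ZMod 2)) : (B : Matrix (Fin m) (Fin m) (ZMod 2)).det = 1 := by
  have h : ∀ a : ZMod 2, a ≠ 0 → a = 1 := by decide
  exact h _ (Matrix.GeneralLinearGroup.det_ne_zero B)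

/-- over two elements everything invertible has determinant one -/
def glEquivSL (m : ℕ) : GL (Fin m) (ZMod 2) ≃* Matrix.SpecialLinearGroup (Fin m) (ZMod 2) where
  toFun B := ⟨B, det_eq_one B⟩
  invFun B := Matrix.SpecialLinearGroup.toGL B
  left_inv B := Units.ext rfl
  right_inv B := Subtype.ext rfl
  map_mul' B B' := Subtype.ext rfl

/-- inverse transpose -/
def invTr : GL (Fin m) (ZMod 2) →* GL (Fin m) (ZMod 2) where
  toFun A :=
    ⟨((A⁻¹ : GL (Fin m) (ZMod 2)) : Matrix (Fin m) (Fin m) (ZMod 2))ᵀ, (A : Matrix (Fin m) (Fin m) (ZMod 2))ᵀ,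
      by rw [← transpose_mul, ← Units.val_mul, mul_inv_cancel, Units.val_one, transpose_one],
      by rw [← transpose_mul, ← Units.val_mul, inv_mul_cancel, Units.val_one, transpose_one]⟩
  map_one' := Units.ext (by simp)
  map_mul' A A' := Units.ext (by
    show ((A * A')⁻¹ : GL (Fin m) (ZMod 2)).valᵀ = _ * _
    rw [_root_.mul_inv_rev, Units.val_mul, transpose_mul])

theorem fix_of_commute {φ : Fin m → ZMod 2} (hφ : φ ≠ 0) (g : GL (Fin (m + 1)) (ZMod 2))
    (h : (g : Matrix (Fin (m + 1)) (Fin (m + 1)) (ZMod 2)) * blk φ 1 = blk φ 1 * g) :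
    (g : Matrix (Fin (m + 1)) (Fin (m + 1)) (ZMod 2)) *ᵥ e0 m = e0 m := by
  obtain ⟨j, hj⟩ := Function.ne_iff.1 hφ
  have hj1 : φ j = 1 := (z2_cases _).resolve_left hj
  set M := (g : Matrix (Fin (m + 1)) (Fin (m + 1)) (ZMod 2)) with hM
  set x : Fin (m + 1) → ZMod 2 := Fin.cons 0 (Pi.single j 1) with hx
  have h1 : blk φ 1 *ᵥ x = x + e0 m := by
    rw [hx, blk_mulVec, one_mulVec, dotProduct_single, hj1, mul_one, zero_add, e0]
    funext i
    refine Fin.cases ?_ (fun k => ?_) i <;> simp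
  obtain ⟨c, hc⟩ : ∃ c : ZMod 2, blk φ 1 *ᵥ (M *ᵥ x) = M *ᵥ x + c • e0 m := by
    refine ⟨φ ⬝ᵥ Fin.tail (M *ᵥ x), ?_⟩
    generalize M *ᵥ x = y
    conv_lhs => rw [← Fin.cons_self_tail y]
    rw [blk_mulVec, one_mulVec, e0]
    funext i
    refine Fin.cases ?_ (fun k => ?_) i <;> simp [Fin.tail]
  rw [mulVec_mulVec, ← h, ← mulVec_mulVec, h1, mulVec_add, add_right_inj] at hc
  rcases z2_cases c with e | e
  · exfalso
    rw [e, zero_smul] at hc
    have h2 := congrArg (fun v => ((g⁻¹ : GL (Fin (m + 1)) (ZMod 2)) : Matrix (Fin (m + 1)) (Fin (m + 1)) (ZMod 2)) *ᵥ v) hc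
    simp only [hM, mulVec_mulVec, ← Units.val_mul, inv_mul_cancel, Units.val_one, one_mulVec, mulVec_zero] at h2
    exact one_ne_zero (congrFun h2 0 : (1 : ZMod 2) = 0)
  · rw [e, one_smul] at hc
    exact hc

theorem conj_blk (ψ u : Fin m → ZMod 2) (R : GL (Fin m) (ZMod 2)) :
    blkGL ψ R * blkGL u 1 =
      blkGL (u ᵥ* ((R⁻¹ : GL (Fin m) (ZMod 2)) : Matrix (Fin m) (Fin m) (ZMod 2))) 1 * blkGL ψ R := by
  rw [blkGL_mul, blkGL_mul, mul_one, one_mul, Units.val_one, vecMul_one, vecMul_vecMul, ← Units.val_mul,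
    inv_mul_cancel, Units.val_one, vecMul_one, add_comm u ψ]

theorem invTr_inv_vec (A : GL (Fin m) (ZMod 2)) (w : Fin m → ZMod 2) :
    w ᵥ* (((invTr A)⁻¹ : GL (Fin m) (ZMod 2)) : Matrix (Fin m) (Fin m) (ZMod 2)) =
      (A : Matrix (Fin m) (Fin m) (ZMod 2)) *ᵥ w :=
  vecMul_transpose _ _

theorem transvection_eq (n : ℕ) :
    Matrix.transvection (0 : Fin (n + 1 + 1)) 1 (1 : ZMod 2) = blk (e0 n) 1 := by
  ext i j
  rw [transvection, Matrix.add_apply, Matrix.single_apply, Matrix.one_apply]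
  refine Fin.cases ?_ (fun i' => ?_) i <;> refine Fin.cases ?_ (fun j' => ?_) j
  · simp [blk]
  · refine Fin.cases ?_ (fun k => ?_) j'
    · simp [blk, e0]
    · simp [blk, e0, (Fin.succ_ne_zero _).symm, Fin.ext_iff]
  · simp [blk, (Fin.succ_ne_zero i').symm]
  · simp [blk, Matrix.one_apply, (Fin.succ_ne_zero i').symm]

theorem structure_transvection (n : ℕ) (hn : 1 ≤ n) (z : Matrix.SpecialLinearGroup (Fin (n + 2)) (ZMod 2))
    (hz : (z : Matrix (Fin (n + 2)) (Fin (n + 2)) (ZMod 2)) = Matrix.transvection 0 1 1)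
    (Q : Subgroup (Matrix.SpecialLinearGroup (Fin (n + 2)) (ZMod 2)))
    (hQ : Q = (Cfsg.pCore 2 ↥(Subgroup.centralizer ({z} : Set (Matrix.SpecialLinearGroup (Fin (n + 2)) (ZMod 2))))).map
      (Subgroup.centralizer ({z} : Set (Matrix.SpecialLinearGroup (Fin (n + 2)) (ZMod 2)))).subtype) :
    Cfsg.IsExtraspecial 2 ↥Q ∧ Nat.card ↥Q = 2 ^ (2 * n + 1) ∧
      (∃ E : Subgroup (Matrix.SpecialLinearGroup (Fin (n + 2)) (ZMod 2)),
        E ≤ Q ∧ Cfsg.IsElementaryAbelian 2 E ∧ Nat.card ↥E = 2 ^ (n + 1)) ∧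
      Cfsg.IsLargeExtraspecial Q ∧
      ∃ K : Subgroup (Matrix.SpecialLinearGroup (Fin (n + 2)) (ZMod 2)),
        K ≤ Subgroup.centralizer ({z} : Set (Matrix.SpecialLinearGroup (Fin (n + 2)) (ZMod 2))) ∧ Q ⊓ K = ⊥ ∧
        Q ⊔ K = Subgroup.centralizer ({z} : Set (Matrix.SpecialLinearGroup (Fin (n + 2)) (ZMod 2))) ∧
        Nonempty (↥K ≃* GL (Fin n) (ZMod 2)) := by
  let S := glEquivSL (n + 1 + 1)
  let ε : Multiplicative (Fin (n + 1) → ZMod 2) →* Matrix.SpecialLinearGroup (Fin (n + 1 + 1)) (ZMod 2) :=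
    MonoidHom.mk' (fun w => S (blkGL (Multiplicative.toAdd w) 1)) fun w w' => by
      rw [← map_mul, blkGL_mul, mul_one, Units.val_one, vecMul_one, add_comm (Multiplicative.toAdd w')]
      rfl
  let μ : GL (Fin (n + 1)) (ZMod 2) → Matrix.SpecialLinearGroup (Fin (n + 1 + 1)) (ZMod 2) :=
    fun A => S (blkGL 0 (invTr A))
  have hεμ : ∀ (A : GL (Fin (n + 1)) (ZMod 2)) (w : Fin (n + 1) → ZMod 2),
      μ A * ε (Multiplicative.ofAdd w) * (μ A)⁻¹ = ε (Multiplicative.ofAdd ((A : Matrix _ _ (ZMod 2)) *ᵥ w)) := by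
    intro A w
    rw [mul_inv_eq_iff_eq_mul, ← invTr_inv_vec]
    exact ((map_mul S _ _).symm.trans (congrArg S (conj_blk 0 w (invTr A)))).trans (map_mul S _ _)
  have hεz : ε (Multiplicative.ofAdd (e0 n)) = z := Subtype.ext (by rw [hz, transvection_eq n]; rfl)
  -- elements commuting with a nontrivial transvection of the family
  have hshape : ∀ (w : Fin (n + 1) → ZMod 2), w ≠ 0 → ∀ g, g * ε (Multiplicative.ofAdd w) = ε (Multiplicative.ofAdd w) * g →
      ∃ (ψ : Fin (n + 1) → ZMod 2) (R : GL (Fin (n + 1)) (ZMod 2)), g = S (blkGL ψ R) ∧ w ᵥ* (R : Matrix (Fin (n + 1)) (Fin (n + 1)) (ZMod 2)) = w := by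
    intro w hw g hg
    obtain ⟨g, rfl⟩ := S.surjective g
    have hg' : g * blkGL w 1 = blkGL w 1 * g := S.injective (by rw [map_mul, map_mul]; exact hg)
    have hfix := fix_of_commute hw g (congrArg Units.val hg')
    obtain ⟨ψ, R, rfl⟩ := exists_blkGL_of_fix g hfix
    rw [blkGL_mul, blkGL_mul, mul_one, one_mul] at hg'
    refine ⟨ψ, R, rfl, ?_⟩
    have h1 : blk (w + ψ ᵥ* ((1 : GL (Fin (n + 1)) (ZMod 2)) : Matrix _ _ (ZMod 2))) (R : Matrix _ _ (ZMod 2)) =
        blk (ψ + w ᵥ* (R : Matrix _ _ (ZMod 2))) (R : Matrix _ _ (ZMod 2)) := congrArg Units.val hg'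
    rw [Units.val_one, vecMul_one] at h1
    funext j
    have h2 := congrFun (congrFun h1 0) j.succ
    simp only [blk, of_apply, Fin.cons_zero, Fin.cons_succ, Pi.add_apply] at h2
    rw [add_comm] at h2
    exact (add_left_cancel h2).symm
  refine structure_affine z hn ε ?_ μ (fun A A' _ _ => ?_) (fun A _ w => hεμ A w) hεz (fun g => ?_) ?_ Q hQ
  · intro w w' h
    have h1 : blk (Multiplicative.toAdd w) ((1 : GL (Fin (n + 1)) (ZMod 2)) : Matrix _ _ (ZMod 2)) =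
        blk (Multiplicative.toAdd w') ((1 : GL (Fin (n + 1)) (ZMod 2)) : Matrix _ _ (ZMod 2)) :=
      congrArg Units.val (S.injective h)
    refine Multiplicative.toAdd.injective (funext fun j => ?_)
    simpa [blk] using congrFun (congrFun h1 0) j.succ
  · show S _ = S _ * S _
    rw [← map_mul, blkGL_mul, map_mul invTr, zero_vecMul, add_zero]
  · constructor
    · intro hg
      have hg' : g * ε (Multiplicative.ofAdd (e0 n)) = ε (Multiplicative.ofAdd (e0 n)) * g := by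
        rw [hεz]; exact Subgroup.mem_centralizer_singleton_iff.1 hg
      obtain ⟨ψ, R, rfl, hR⟩ := hshape _ (fun e => one_ne_zero (congrFun e 0 : (1 : ZMod 2) = 0)) g hg'
      refine ⟨ψ ᵥ* ((R⁻¹ : GL (Fin (n + 1)) (ZMod 2)) : Matrix _ _ (ZMod 2)), invTr R, ?_, ?_⟩
      · show ((R⁻¹ : GL (Fin (n + 1)) (ZMod 2)) : Matrix _ _ (ZMod 2))ᵀ *ᵥ e0 n = e0 n
        rw [mulVec_transpose]
        conv_lhs => rw [← hR]
        rw [vecMul_vecMul, ← Units.val_mul, mul_inv_cancel, Units.val_one, vecMul_one]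
      · show S _ = S _ * S _
        rw [← map_mul, blkGL_mul, one_mul]
        have hinv : invTr (invTr R) = R := Units.ext (by
          show (Units.val R)ᵀᵀ = Units.val R
          rw [transpose_transpose])
        show S _ = S (blkGL (0 + (ψ ᵥ* _) ᵥ* _) _)
        rw [hinv, zero_add, vecMul_vecMul, ← Units.val_mul, inv_mul_cancel, Units.val_one, vecMul_one]
    · rintro ⟨w, A, hA, rfl⟩
      refine Subgroup.mem_centralizer_singleton_iff.2 ?_
      have h1 := hεμ A (e0 n)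
      rw [hA, hεz, mul_inv_eq_iff_eq_mul] at h1
      have h2 : ε (Multiplicative.ofAdd w) * z = z * ε (Multiplicative.ofAdd w) := by
        rw [← hεz]
        exact ((map_mul ε _ _).symm.trans (congrArg ε (mul_comm _ _))).trans (map_mul ε _ _)
      rw [mul_assoc, h1, ← mul_assoc, h2, mul_assoc]
  · rintro _ ⟨w, rfl⟩ hw g hg
    have hw0 : Multiplicative.toAdd w ≠ 0 := fun e => hw (by
      rw [show w = 1 from Multiplicative.toAdd.injective e, map_one])
    obtain ⟨ψ, R, rfl, -⟩ := hshape _ hw0 g (Subgroup.mem_centralizer_singleton_iff.1 hg)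
    have hconj : ∀ u : Multiplicative (Fin (n + 1) → ZMod 2), ∀ ψ R, S (blkGL ψ R) * ε u * (S (blkGL ψ R))⁻¹ ∈ ε.range := by
      intro u ψ R
      refine ⟨Multiplicative.ofAdd (Multiplicative.toAdd u ᵥ* ((R⁻¹ : GL (Fin (n + 1)) (ZMod 2)) : Matrix _ _ (ZMod 2))), ?_⟩
      rw [eq_mul_inv_iff_mul_eq]
      exact ((map_mul S _ _).symm.trans (congrArg S (conj_blk ψ (Multiplicative.toAdd u) R).symm)).trans (map_mul S _ _)
    refine Subgroup.mem_normalizer_iff.2 fun y => ⟨?_, fun hy => ?_⟩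
    · rintro ⟨u, rfl⟩; exact hconj u ψ R
    · obtain ⟨u, hu⟩ := hy
      have h := hconj u (-(ψ ᵥ* ((R⁻¹ : GL (Fin (n + 1)) (ZMod 2)) : Matrix _ _ (ZMod 2)))) R⁻¹
      have hinv : blkGL (-(ψ ᵥ* ((R⁻¹ : GL (Fin (n + 1)) (ZMod 2)) : Matrix _ _ (ZMod 2)))) R⁻¹ = (blkGL ψ R)⁻¹ :=
        Units.ext rfl
      rw [hinv, map_inv, hu] at h
      simpa [mul_assoc] using h

end CfsgLib.Trans3.LargeTransvection
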