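import Cfsg.Agent.Lib.Trans3.LeechMod2
import Cfsg.Agent.Lib.Golay.LeechIndex

/-!
# A totally singular half of the Leech lattice modulo two
-/

set_option autoImplicit false

namespace CfsgLib.Trans3

open Cfsg CfsgLib.Golay

/-- Integer vectors all of whose entries have the same parity. -/
def constParity : AddSubgroup (GolayPt → ℤ) where
  carrier := {a | ∀ i j, (a i - a j) % 2 = 0}
  zero_mem' := fun i j => by simp
  add_mem' := fun {a b} ha hb i j => by
    have := ha i j
    have := hb i j
    simp only [Pi.add_apply]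
    omega
  neg_mem' := fun {a} ha i j => by
    have := ha i j
    simp only [Pi.neg_apply]
    omega

theorem mem_constParity {a : GolayPt → ℤ} : a ∈ constParity ↔ ∀ i j, (a i - a j) % 2 = 0 := Iff.rfl

/-- The preimage of the totally singular half. -/
def singHalf : AddSubgroup (GolayPt → ℤ) where
  carrier := {a | (∀ i j, (a i - a j) % 2 = 0) ∧ (4 : ℤ) ∣ ∑ i, a i}
  zero_mem' := ⟨fun i j => by simp, by simp⟩
  add_mem' := fun {a b} ha hb => ⟨constParity.add_mem ha.1 hb.1, by
    simp only [Pi.add_apply, Finset.sum_add_distrib]; exact dvd_add ha.2 hb.2⟩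
  neg_mem' := fun {a} ha => ⟨constParity.neg_mem ha.1, by
    simp only [Pi.neg_apply, Finset.sum_neg_distrib]; exact ha.2.neg_right⟩

/-- The totally singular half. -/
def singA : AddSubgroup (GolayPt → ℤ) := singHalf.map dblHom

theorem constParity_index : constParity.index = 2 ^ 23 := by
  classical
  let φ : (GolayPt → ℤ) →+ (GolayPt → ZMod 2) :=
    { toFun := fun a i => mod2 a i - mod2 a pinf
      map_zero' := funext fun i => by simp [mod2]
      map_add' := fun a b => funext fun i => by simp [mod2]; ring }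
  have hk : φ.ker = constParity := by
    ext a
    simp only [AddMonoidHom.mem_ker, mem_constParity]
    constructor
    · intro h i j
      have hi : (mod2 a i) - (mod2 a pinf) = 0 := congrFun h i
      have hj : (mod2 a j) - (mod2 a pinf) = 0 := congrFun h j
      have hij : (mod2 a i) - (mod2 a j) = 0 := by linear_combination hi - hj
      simp only [mod2] at hij
      rw [← Int.cast_sub, ZMod.intCast_zmod_eq_zero_iff_dvd] at hij
      omega
    · intro h
      funext i
      show (mod2 a i) - (mod2 a pinf) = 0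
      simp only [mod2]
      rw [← Int.cast_sub, ZMod.intCast_zmod_eq_zero_iff_dvd]
      have := h i pinf
      omega
  have hr : φ.range = (Pi.evalAddMonoidHom (fun _ : GolayPt => ZMod 2) pinf).ker := by
    ext w
    simp only [AddMonoidHom.mem_range, AddMonoidHom.mem_ker, Pi.evalAddMonoidHom_apply]
    constructor
    · rintro ⟨a, rfl⟩; exact sub_self _
    · intro h
      obtain ⟨a, ha⟩ := mod2Hom_surjective w
      refine ⟨a, funext fun i => ?_⟩
      show (mod2 a i) - (mod2 a pinf) = w i
      rw [show mod2 a = w from ha, h, sub_zero]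
  have h1 := (Pi.evalAddMonoidHom (fun _ : GolayPt => ZMod 2) pinf).ker.card_mul_index
  rw [AddSubgroup.index_ker,
    AddMonoidHom.range_eq_top.2 (fun x => ⟨fun _ => x, rfl⟩), AddSubgroup.card_top, ← hr] at h1
  rw [← hk, AddSubgroup.index_ker]
  simp [Nat.card_eq_fintype_card, -Fintype.sum_option] at h1 ⊢
  omega

theorem singHalf_index : singHalf.index = 2 ^ 24 := by
  classical
  have hle : singHalf ≤ constParity := fun a h => h.1
  have h2 : singHalf.relIndex constParity = 2 := by
    rw [AddSubgroup.relIndex, AddSubgroup.index_eq_two_iff]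
    have he : (Pi.single pinf 2 : GolayPt → ℤ) ∈ constParity := fun i j => by
      simp only [Pi.single_apply]; split_ifs <;> omega
    refine ⟨⟨_, he⟩, fun ⟨b, hb⟩ => ?_⟩
    simp only [AddSubgroup.mem_addSubgroupOf, AddSubgroup.coe_add]
    have e3 : ∑ i, (b + Pi.single pinf 2 : GolayPt → ℤ) i = (∑ i, b i) + 2 := by
      simp [Finset.sum_add_distrib, -Fintype.sum_option]
    have hs : (2 : ℤ) ∣ ∑ i, b i := by
      have e : ∑ i, b i = ∑ i, (b i - b pinf) + 24 * b pinf := by
        simp [Finset.sum_sub_distrib, -Fintype.sum_option]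
      rw [e]
      exact dvd_add (Finset.dvd_sum fun i _ => Int.dvd_of_emod_eq_zero (hb i pinf))
        (dvd_mul_of_dvd_left (by norm_num) _)
    show Xor' ((∀ i j, ((b + Pi.single pinf 2 : GolayPt → ℤ) i -
      (b + Pi.single pinf 2 : GolayPt → ℤ) j) % 2 = 0) ∧ _) ((∀ i j, (b i - b j) % 2 = 0) ∧ _)
    rw [e3]
    by_cases h : (4 : ℤ) ∣ ∑ i, b i
    · exact Or.inr ⟨⟨hb, h⟩, fun h' => by have := h'.2; omega⟩
    · exact Or.inl ⟨⟨constParity.add_mem hb he, by omega⟩, fun h' => h h'.2⟩
  rw [← AddSubgroup.relIndex_mul_index hle, h2, constParity_index]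
  norm_num

theorem singA_le : singA ≤ leechLattice := by
  rintro x ⟨a, ⟨ha, hs⟩, rfl⟩
  show a ∈ evenHalf
  refine mem_evenHalf.2 ⟨?_, hs⟩
  have : mod2 a = ((a pinf : ℤ) : ZMod 2) • 1 := funext fun i => by
    simp only [mod2, Pi.smul_apply, Pi.one_apply, smul_eq_mul, mul_one]
    rw [← sub_eq_zero, ← Int.cast_sub, ZMod.intCast_zmod_eq_zero_iff_dvd]
    have := ha i pinf
    omega
  rw [this]
  exact Submodule.smul_mem _ _ (Submodule.subset_span (Set.mem_union_right _ rfl))

theorem singA_double {v : GolayPt → ℤ} (hv : v ∈ leechLattice) : (2 : ℤ) • v ∈ singA := by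
  refine ⟨v, ⟨fun i j => ?_, ?_⟩, funext fun i => rfl⟩
  · rcases parity_cases hv with e | e <;> have := e i <;> have := e j <;> omega
  · obtain ⟨m, a, h1, -, h3⟩ := mem_leechLattice_iff.1 hv
    rw [sum_rep h1]
    omega

theorem singA_relIndex : (singA.addSubgroupOf leechLattice).index = 2 ^ 12 := by
  have h := AddSubgroup.relIndex_mul_index singA_le
  have h' : singA.index = 2 ^ 48 := by
    rw [singA, AddSubgroup.index_map_of_injective _ dblHom_injective, singHalf_index,
      range_dblHom_index]
    norm_num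
  rw [leech_index, h'] at h
  rw [← AddSubgroup.relIndex]
  exact Nat.eq_of_mul_eq_mul_right (Nat.pow_pos (by norm_num)) (h.trans (pow_add 2 12 36))

theorem singA_norm {v : GolayPt → ℤ} (hv : v ∈ singA) : (32 : ℤ) ∣ sqNorm v := by
  obtain ⟨a, ⟨ha, hs⟩, rfl⟩ := hv
  have e : sqNorm (dblHom a) = 4 * ∑ i, a i ^ 2 := by
    rw [sqNorm, Finset.mul_sum]
    exact Finset.sum_congr rfl fun i _ => by show (2 * a i) ^ 2 = _; ring
  rw [e]
  suffices (8 : ℤ) ∣ ∑ i, a i ^ 2 by omega
  by_cases h : a pinf % 2 = 0
  · choose b hb using fun i => Int.dvd_of_emod_eq_zero (show a i % 2 = 0 by have := ha i pinf; omega)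
    have e1 : ∑ i, a i = 2 * ∑ i, b i := by
      rw [Finset.mul_sum]; exact Finset.sum_congr rfl fun i _ => hb i
    have e2 : ∑ i, a i ^ 2 = 4 * ∑ i, b i ^ 2 := by
      rw [Finset.mul_sum]; exact Finset.sum_congr rfl fun i _ => by rw [hb i]; ring
    have e3 : (2 : ℤ) ∣ ∑ i, b i ^ 2 - ∑ i, b i := by
      rw [← Finset.sum_sub_distrib]
      exact Finset.dvd_sum fun i _ => by
        rw [show b i ^ 2 - b i = b i * (b i - 1) by ring]
        exact (Int.even_mul_pred_self _).two_dvd
    rw [e1] at hs
    rw [e2]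
    omega
  · have e3 : (8 : ℤ) ∣ ∑ i, (a i ^ 2 - 1) := Finset.dvd_sum fun i _ => by
      have hodd : Odd (a i) := Int.odd_iff.2 (by have := ha i pinf; omega)
      exact Int.eight_dvd_sq_sub_one_of_odd hodd
    rw [Finset.sum_sub_distrib, Finset.sum_const, Finset.card_univ] at e3
    simp [-Fintype.sum_option] at e3 ⊢
    omega

end CfsgLib.Trans3
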