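import Cfsg.Agent.Lib.Trans3.LeechQuad
import Cfsg.Agent.Lib.Trans3.LeechSingular
import Cfsg.Agent.Lib.Golay.Co0Normal
import Cfsg.Agent.Lib.Golay.Co0Mono

/-!
# Totally singular subspaces invariant under sign changes contain minimal classes
-/

set_option autoImplicit false
set_option maxRecDepth 100000

namespace CfsgLib.Trans3

open Cfsg CfsgLib.Golay

theorem code_meet_check : (codeList.all fun m => Nat.beq m 0 || Nat.beq m 16777215 ||
    octList.any fun o => Nat.beq (pop (m &&& o)) 2 || Nat.beq (pop (m &&& o)) 6) = true := by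
  decide +kernel

/-- A word other than the two constants meets some octad in two or six points. -/
theorem code_meet {w : Finset GolayPt} (hw : w ∈ supports (golayCode : Set (GolayPt → ZMod 2)))
    (h0 : w ≠ ∅) (h1 : w ≠ Finset.univ) :
    ∃ c ∈ octads, (w ∩ c).card = 2 ∨ (w ∩ c).card = 6 := by
  obtain ⟨m, hm, rfl⟩ := mem_supports_iff.1 hw
  have h := List.all_eq_true.1 code_meet_check m (mem_codeList.2 hm)
  simp only [Bool.or_eq_true, List.any_eq_true, Nat.beq_eq] at h
  rcases h with (rfl | rfl) | ⟨o, ho, h⟩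
  · exact absurd mset_zero h0
  · exact absurd (by decide +kernel) h1
  · exact ⟨mset o, mem_octads_iff.2 ⟨o, ho, rfl⟩, by rw [← mset_and, card_mset]; exact h⟩

theorem leechF_add (x y : leechLattice) :
    leechF (x + y) = leechF x + leechF y + (leechR.b x y : ZMod 2) := by
  obtain ⟨k, hk⟩ := leechR.even x
  obtain ⟨l, hl⟩ := leechR.even y
  have hk' : leechR.q x = 2 * k := hk
  have hl' : leechR.q y = 2 * l := hl
  rw [leechF_of_q hk', leechF_of_q hl', leechF_of_q (k := k + l + leechR.b x y) (by
    rw [Rootless.q_add, hk', hl']; ring)]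
  push_cast
  rfl

theorem sign_diff_coe (c : Finset GolayPt) (hc : c ∈ supports (golayCode : Set (GolayPt → ZMod 2)))
    (d : leechLattice) (i : GolayPt) :
    ((d - sign0 c hc • d : leechLattice) : GolayPt → ℤ) i =
      if i ∈ c then 2 * (d : GolayPt → ℤ) i else 0 := by
  rw [AddSubgroup.coe_sub, Pi.sub_apply, sign0, monoCo0_smul]
  simp only [signedPerm, OneMemClass.coe_one, Equiv.Perm.one_symm, Equiv.Perm.one_apply]
  split_ifs <;> ring

/-- An invariant totally singular half contains the class of a minimal vector. -/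
theorem exists_minimal_mem (S : AddSubgroup leechLattice) (h2 : ∀ x : leechLattice, x + x ∈ S)
    (hsing : ∀ x ∈ S, leechF x = 0)
    (hsign : ∀ (c : Finset GolayPt) (hc : c ∈ supports (golayCode : Set (GolayPt → ZMod 2))),
      ∀ x ∈ S, sign0 c hc • x ∈ S)
    (hv : vec8 pinf ∈ S) (hidx : S.index = 2 ^ 12) : ∃ r ∈ S, leechR.q r = 4 := by
  classical
  have hb : ∀ x ∈ S, ∀ y ∈ S, (2 : ℤ) ∣ leechR.b x y := fun x hx y hy => by
    have h := leechF_add x y
    rw [hsing _ (S.add_mem hx hy), hsing x hx, hsing y hy, add_zero, zero_add] at h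
    exact (ZMod.intCast_zmod_eq_zero_iff_dvd _ 2).1 h.symm
  have hsame : ∀ {x y : leechLattice}, leechR.cls x = leechR.cls y → y ∈ S → x ∈ S := fun h hy => by
    obtain ⟨u, rfl⟩ := leechR.cls_eq_iff.1 h
    exact S.add_mem hy (h2 u)
  have h8 : ∀ p : GolayPt, vec8 p ∈ S := fun p => hsame (vec8_cls p pinf) hv
  have h8k : ∀ k : GolayPt → ℤ, ∃ u ∈ S, ∀ i, (u : GolayPt → ℤ) i = 8 * k i := fun k => by
    refine ⟨∑ p, k p • vec8 p, S.sum_mem fun p _ => S.zsmul_mem (h8 p) _, fun i => ?_⟩
    rw [AddSubgroup.val_finset_sum, Finset.sum_apply,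
      Finset.sum_eq_single i (fun j _ hji => by simp [vec8, Pi.single_apply, hji.symm]) (by simp)]
    simp [vec8]
    ring
  by_cases hodd : ∃ d ∈ S, ∀ i, (d : GolayPt → ℤ) i % 2 = 1
  · exfalso
    obtain ⟨d, hd, hod⟩ := hodd
    obtain ⟨o, ho, hop, hoz⟩ := exists_octad_two
    obtain ⟨o', ho', hinter⟩ := code_meet ho.1 (fun h => by rw [h] at hop; simp at hop)
      (fun h => by have := ho.2; rw [h, Finset.card_univ] at this; simp at this)
    set x₁ := d - sign0 o ho.1 • d
    set x₂ := d - sign0 o' ho'.1 • d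
    have hev := hb x₁ (S.sub_mem hd (hsign _ _ d hd)) x₂ (S.sub_mem hd (hsign _ _ d hd))
    have hm := leechB_mul x₁ x₂
    have hdot : dotInt (x₁ : GolayPt → ℤ) (x₂ : GolayPt → ℤ) =
        4 * ∑ i ∈ o ∩ o', (d : GolayPt → ℤ) i ^ 2 := by
      rw [dotInt, Finset.mul_sum, ← Finset.sum_subset (Finset.subset_univ (o ∩ o'))]
      · refine Finset.sum_congr rfl fun i hi => ?_
        rw [Finset.mem_inter] at hi
        rw [sign_diff_coe, sign_diff_coe, if_pos hi.1, if_pos hi.2]
        ring
      · intro i _ hi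
        rw [Finset.mem_inter, not_and_or] at hi
        rw [sign_diff_coe, sign_diff_coe]
        rcases hi with hi | hi <;> simp [hi]
    have h88 : (8 : ℤ) ∣ ∑ i ∈ o ∩ o', ((d : GolayPt → ℤ) i ^ 2 - 1) :=
      Finset.dvd_sum fun i _ => Int.eight_dvd_sq_sub_one_of_odd (Int.odd_iff.2 (hod i))
    rw [Finset.sum_sub_distrib, Finset.sum_const, nsmul_eq_mul, mul_one] at h88
    rcases hinter with h | h <;> rw [h] at h88 <;> push_cast at h88 <;> omega
  · simp only [not_exists, not_and] at hodd
    have hev : ∀ d ∈ S, ∀ i, (d : GolayPt → ℤ) i % 2 = 0 := fun d hd => by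
      rcases parity_cases d.2 with e | e
      · exact e
      · exact absurd e (hodd d hd)
    let half : leechLattice → GolayPt → ℤ := fun d i => (d : GolayPt → ℤ) i / 2
    have hhalf : ∀ d ∈ S, half d ∈ evenHalf := fun d hd => by
      show dblHom (half d) ∈ leechLattice
      rw [show dblHom (half d) = (d : GolayPt → ℤ) from funext fun i => by
        show 2 * ((d : GolayPt → ℤ) i / 2) = _
        have := hev d hd i
        omega]
      exact d.2
    by_cases hconst : ∀ d ∈ S, ∀ i j, (half d i - half d j) % 2 = 0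
    · have hle : S ≤ singA.addSubgroupOf leechLattice := fun d hd =>
        ⟨half d, ⟨hconst d hd, (mem_evenHalf.1 (hhalf d hd)).2⟩, funext fun i => by
          show 2 * ((d : GolayPt → ℤ) i / 2) = (d : GolayPt → ℤ) i
          have := hev d hd i
          omega⟩
      have h1 := AddSubgroup.relIndex_mul_index hle
      rw [singA_relIndex, hidx] at h1
      have hge : singA.addSubgroupOf leechLattice ≤ S :=
        AddSubgroup.relIndex_eq_one.1 (Nat.eq_of_mul_eq_mul_right (by norm_num) (h1.trans (one_mul _).symm))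
      obtain ⟨hp, hpn⟩ := pair4_mem pinf_ne_pz (a := 4) (b := 4) (Or.inl rfl) (Or.inl rfl)
      refine ⟨⟨_, hp⟩, hge ⟨Pi.single pinf 2 + Pi.single pz 2, ⟨fun i j => ?_, ?_⟩, funext fun i => ?_⟩,
        (leech_q_iff _ 4).2 hpn⟩
      · simp only [Pi.add_apply, Pi.single_apply]; split_ifs <;> omega
      · simp [Finset.sum_add_distrib, -Fintype.sum_option]
      · show 2 * ((Pi.single pinf 2 + Pi.single pz 2 : GolayPt → ℤ) i) =
          (Pi.single pinf 4 + Pi.single pz 4 : GolayPt → ℤ) i
        simp only [Pi.add_apply, Pi.single_apply]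
        split_ifs <;> rfl
    · simp only [not_forall] at hconst
      obtain ⟨d, hd, i₀, j₀, hij⟩ := hconst
      set a := half d
      set w := support₂ (mod2 a)
      have hw : w ∈ supports (golayCode : Set (GolayPt → ZMod 2)) :=
        mem_supports_word.2 (mem_evenHalf.1 (hhalf d hd)).1
      have hmem : ∀ i, i ∈ w ↔ a i % 2 = 1 := fun i => mem_support_mod2
      obtain ⟨c, hc, hcard⟩ := code_meet hw
        (fun h => hij (by
          have h1 := mt (hmem i₀).2 (by rw [h]; simp)
          have h2 := mt (hmem j₀).2 (by rw [h]; simp)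
          omega))
        (fun h => hij (by
          have h1 := (hmem i₀).1 (by rw [h]; simp)
          have h2 := (hmem j₀).1 (by rw [h]; simp)
          omega))
      -- the two points and the correcting word
      obtain ⟨U, ε, hUc, hU2, hε⟩ : ∃ (U : Finset GolayPt) (ε : ℤ), U ⊆ c ∧ U.card = 2 ∧
          ∀ i ∈ c, (a i + ε - if i ∈ U then 1 else 0) % 2 = 0 := by
        rcases hcard with h | h
        · refine ⟨w ∩ c, 0, Finset.inter_subset_right, h, fun i hi => ?_⟩
          by_cases hiw : i ∈ w
          · rw [if_pos (Finset.mem_inter.2 ⟨hiw, hi⟩)]; have := (hmem i).1 hiw; omega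
          · rw [if_neg (fun h' => hiw (Finset.mem_inter.1 h').1)]; have := mt (hmem i).2 hiw; omega
        · refine ⟨c \ w, 1, Finset.sdiff_subset, ?_, fun i hi => ?_⟩
          · have := Finset.card_sdiff_add_card_inter c w
            rw [Finset.inter_comm, h, hc.2] at this
            omega
          · by_cases hiw : i ∈ w
            · rw [if_neg (fun h' => (Finset.mem_sdiff.1 h').2 hiw)]; have := (hmem i).1 hiw; omega
            · rw [if_pos (Finset.mem_sdiff.2 ⟨hi, hiw⟩)]; have := mt (hmem i).2 hiw; omega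
      obtain ⟨p, q, hpq, rfl⟩ := Finset.card_eq_two.1 hU2
      obtain ⟨hp, hpn⟩ := pair4_mem hpq (a := 4) (b := 4) (Or.inl rfl) (Or.inl rfl)
      let oc : leechLattice := ⟨octP c, octP_mem hc⟩
      have hocS : ε • (oc + oc) ∈ S := S.zsmul_mem (h2 oc) _
      let k : GolayPt → ℤ := fun i => if i ∈ c then (a i + ε - if i ∈ ({p, q} : Finset GolayPt) then 1 else 0) / 2
        else 0
      obtain ⟨u, hu, huk⟩ := h8k k
      refine ⟨⟨_, hp⟩, ?_, (leech_q_iff _ 4).2 hpn⟩
      have hval : (⟨_, hp⟩ : leechLattice) = (d - sign0 c hc.1 • d) + ε • (oc + oc) - u := by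
        refine Subtype.ext (funext fun i => ?_)
        rw [AddSubgroup.coe_sub, AddSubgroup.coe_add, AddSubgroupClass.coe_zsmul, AddSubgroup.coe_add,
          Pi.sub_apply, Pi.add_apply, Pi.smul_apply, Pi.add_apply, sign_diff_coe, huk]
        show (Pi.single p 4 + Pi.single q 4 : GolayPt → ℤ) i = _
        have hd2 : (d : GolayPt → ℤ) i = 2 * a i := by
          show _ = 2 * ((d : GolayPt → ℤ) i / 2)
          have := hev d hd i
          omega
        by_cases hi : i ∈ c
        · have hk := hε i hi
          simp only [oc, octP, k, if_pos hi, smul_eq_mul, hd2, Pi.add_apply, Pi.single_apply]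
          by_cases hip : i = p
          · subst hip
            simp [hpq] at hk ⊢
            omega
          · by_cases hiq : i = q
            · subst hiq
              simp [hip] at hk ⊢
              omega
            · simp [hip, hiq] at hk ⊢
              omega
        · have hip : i ≠ p := fun h => hi (hUc (by simp [h]))
          have hiq : i ≠ q := fun h => hi (hUc (by simp [h]))
          simp [oc, octP, k, hi, hip, hiq]
      rw [hval]
      exact S.sub_mem (S.add_mem (S.sub_mem hd (hsign _ _ d hd)) hocS) hu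

end CfsgLib.Trans3
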