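import Cfsg.Agent.Lib.Trans3.LeechMod2
import Cfsg.Agent.Lib.Golay.Co0Stab
import Cfsg.Agent.Lib.Golay.LeechIndex

/-!
# Short representatives of the classes modulo twice the Leech lattice
-/

set_option autoImplicit false

namespace CfsgLib.Trans3

open Cfsg CfsgLib.Golay

/-- `Co0` is transitive on each of the first three shells. -/
theorem co0_shell_trans {v w : leechLattice} (hv : v ≠ 0) (h : leechR.q v ≤ 8)
    (e : leechR.q w = leechR.q v) : ∃ g : Co0, g • v = w := by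
  have h4 := leechR.q_ge_four hv
  obtain ⟨k, hk⟩ := leechR.even v
  have hk' : leechR.q v = 2 * k := hk
  obtain h' | h' | h' : leechR.q v = 4 ∨ leechR.q v = 6 ∨ leechR.q v = 8 := by omega
  · exact co0_trans32 ((leech_q_iff v 4).1 h') ((leech_q_iff w 4).1 (e.trans h'))
  · exact co0_trans48 ((leech_q_iff v 6).1 h') ((leech_q_iff w 6).1 (e.trans h'))
  · exact co0_trans8 h' (e.trans h')

/-- Every class has a short representative. -/
theorem leech_short_rep (x : leechLattice) :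
    ∃ r : leechLattice, leechR.cls r = leechR.cls x ∧ leechR.q r ≤ 8 :=
  leech_counts.structure.1 _

/-- A minimal vector is a difference of two vectors in each shell. -/
theorem shell_diff {n : ℤ} (hn : n = 4 ∨ n = 6 ∨ n = 8) :
    ∃ a b : leechLattice, leechR.q a = n ∧ (n = 4 ∨ leechR.q b = n ∧ leechR.q (a - b) = 4) := by
  have P : ∀ i j : GolayPt, i ≠ j → ∀ a b : ℤ, (a = 4 ∨ a = -4) → (b = 4 ∨ b = -4) →
      ∃ v : leechLattice, (v : GolayPt → ℤ) = Pi.single i a + Pi.single j b := fun i j hij a b ha hb =>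
    ⟨⟨_, (pair4_mem hij ha hb).1⟩, rfl⟩
  rcases hn with rfl | rfl | rfl
  · obtain ⟨v, hv⟩ := P none (some 0) (by decide) 4 4 (Or.inl rfl) (Or.inl rfl)
    exact ⟨v, 0, (leech_q_iff v 4).2 (by rw [hv]; decide +kernel), Or.inl rfl⟩
  · obtain ⟨d, hd⟩ := P none (some 0) (by decide) 4 (-4) (Or.inl rfl) (Or.inr rfl)
    refine ⟨fiveV, fiveV - d, (leech_q_iff _ 6).2 (by rw [fiveV_norm]; rfl),
      Or.inr ⟨(leech_q_iff _ 6).2 ?_, (leech_q_iff _ 4).2 ?_⟩⟩
    · rw [AddSubgroup.coe_sub, hd]; decide +kernel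
    · rw [sub_sub_cancel, hd]; decide +kernel
  · obtain ⟨p, hp⟩ := P none (some 0) (by decide) 4 4 (Or.inl rfl) (Or.inl rfl)
    obtain ⟨s, hs⟩ := P (some 1) (some 2) (by decide) 4 4 (Or.inl rfl) (Or.inl rfl)
    obtain ⟨t, ht⟩ := P (some 1) (some 3) (by decide) 4 4 (Or.inl rfl) (Or.inl rfl)
    refine ⟨p + s, p + t, (leech_q_iff _ 8).2 ?_,
      Or.inr ⟨(leech_q_iff _ 8).2 ?_, (leech_q_iff _ 4).2 ?_⟩⟩
    · rw [AddSubgroup.coe_add, hp, hs]; decide +kernel
    · rw [AddSubgroup.coe_add, hp, ht]; decide +kernel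
    · rw [add_sub_add_left_eq_sub, AddSubgroup.coe_sub, hs, ht]; decide +kernel

end CfsgLib.Trans3
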