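import Cfsg.Agent.Lib.Trans3.LeechModule
import Cfsg.Agent.Lib.Golay.Co0Co2
import Cfsg.Agent.Lib.Golay.Steiner22Aut
import Cfsg.Agent.Lib.Golay.HSGraph

/-!
# The invariant quadratic functions on the Leech lattice modulo two
-/

set_option autoImplicit false

namespace CfsgLib.Trans3

open Cfsg CfsgLib.Golay

/-- Half the norm modulo two. -/
def leechF (v : leechLattice) : ZMod 2 := ((sqNorm (v : GolayPt → ℤ) / 16 : ℤ) : ZMod 2)

theorem leechF_of_q {v : leechLattice} {k : ℤ} (h : leechR.q v = 2 * k) : leechF v = (k : ZMod 2) := by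
  have := (leech_q_iff v (2 * k)).1 h
  rw [leechF, this, show 8 * (2 * k) / 16 = k by omega]

theorem leechF_cls {v w : leechLattice} (h : leechR.cls v = leechR.cls w) : leechF v = leechF w := by
  obtain ⟨z, rfl⟩ := leechR.cls_eq_iff.1 h
  obtain ⟨k, hk⟩ := leechR.even w
  obtain ⟨l, hl⟩ := leechR.even (z + z)
  have hk' : leechR.q w = 2 * k := hk
  have hb : leechR.b w (z + z) = 2 * leechR.b w z := by rw [map_add]; ring
  rw [leechF_of_q hk', leechF_of_q (k := k + 2 * (leechR.b w z + leechR.q z)) (by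
    rw [Rootless.q_add, hb, Rootless.q_two, hk']; ring)]
  push_cast
  rw [show (2 : ZMod 2) = 0 from rfl, zero_mul, add_zero]

/-- A vector given by two entries. -/
def pairV (i j : GolayPt) (a b : ℤ) (hij : i ≠ j) (ha : a = 4 ∨ a = -4) (hb : b = 4 ∨ b = -4) :
    leechLattice := ⟨_, (pair4_mem hij ha hb).1⟩

theorem quad_witness :
    (∃ u v w : leechLattice, leechR.q u = 4 ∧ leechR.q v = 4 ∧ leechR.q w = 4 ∧
      leechR.q (u + v) = 6 ∧ leechR.q (u + w) = 6 ∧ leechR.q (v + w) = 6 ∧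
      leechR.q (u + v + w) = 6) ∧
    (∃ u v w : leechLattice, leechR.q u = 4 ∧ leechR.q v = 4 ∧ leechR.q w = 4 ∧
      leechR.q (u + v) = 4 ∧ leechR.q (u + w) = 8 ∧ leechR.q (v + w) = 8 ∧
      leechR.q (u + v + w) = 8) := by
  refine ⟨?_, ?_⟩
  · have hO := oneMask_octad
    refine ⟨pairV (pt 23) (pt 0) 4 4 (by decide +kernel) (Or.inl rfl) (Or.inl rfl),
      -⟨octP (mset oneMask), octP_mem hO.1⟩, x31, ?_⟩
    simp only [leech_q_iff, AddSubgroup.coe_add, AddSubgroup.coe_neg, pairV, x31, octP, pinf]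
    refine ⟨?_, ?_, ?_, ?_, ?_, ?_, ?_⟩ <;> decide +kernel
  · refine ⟨pairV (pt 0) (pt 1) 4 4 (by decide +kernel) (Or.inl rfl) (Or.inl rfl),
      pairV (pt 0) (pt 2) (-4) 4 (by decide +kernel) (Or.inr rfl) (Or.inl rfl),
      pairV (pt 3) (pt 4) 4 4 (by decide +kernel) (Or.inl rfl) (Or.inl rfl), ?_⟩
    simp only [leech_q_iff, AddSubgroup.coe_add, pairV]
    refine ⟨?_, ?_, ?_, ?_, ?_, ?_, ?_⟩ <;> decide +kernel

/-- An invariant quadratic function is a multiple of half the norm. -/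
theorem invariant_quad (Q : leechLattice → ZMod 2)
    (hcoset : ∀ v w : leechLattice, Q (v + (w + w)) = Q v)
    (hquad : ∀ u v w : leechLattice,
      Q (u + v + w) + Q u + Q v + Q w = Q (u + v) + Q (u + w) + Q (v + w))
    (hinv : ∀ (g : Co0) (v : leechLattice), Q (g • v) = Q v)
    (hne : ∃ v : leechLattice, Q v ≠ 0) (v : leechLattice) : Q v = leechF v := by
  have h0 : Q 0 = 0 := by
    have h := hquad 0 0 0
    simp only [add_zero] at h
    revert h
    generalize Q 0 = x
    revert x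
    decide
  have hsame : ∀ a b : leechLattice, a ≠ 0 → leechR.q a ≤ 8 → leechR.q b = leechR.q a →
      Q b = Q a := fun a b ha ha8 e => by
    obtain ⟨g, rfl⟩ := co0_shell_trans ha ha8 e
    exact hinv g a
  have nz : ∀ {a : leechLattice} {n : ℤ}, leechR.q a = n → n ≠ 0 → a ≠ 0 := fun h hn e =>
    hn (by rw [← h, e, Rootless.q_zero])
  have d4 : ∀ a b : ZMod 2, b + a + a + a = b + b + b → a = 0 := by decide
  have d8 : ∀ a c : ZMod 2, c + a + a + a = a + c + c → c = 0 := by decide
  obtain ⟨⟨u, x, w, hu, hx, hw, hux, huw, hxw, huxw⟩, u', x', w', hu', hx', hw', hux', huw', hxw',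
    huxw'⟩ := quad_witness
  have s := fun {a b : leechLattice} {n : ℤ} (ha : leechR.q a = n) (hn : n ≠ 0) (hn8 : n ≤ 8)
      (hb : leechR.q b = n) => hsame a b (nz ha hn) (ha ▸ hn8) (hb.trans ha.symm)
  have hA : Q u = 0 := by
    have h := hquad u x w
    rw [s hu (by norm_num) (by norm_num) hx, s hu (by norm_num) (by norm_num) hw,
      s huxw (by norm_num) (by norm_num) hux, s huxw (by norm_num) (by norm_num) huw,
      s huxw (by norm_num) (by norm_num) hxw] at h
    exact d4 _ _ h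
  have hC : Q (u' + x' + w') = 0 := by
    have h := hquad u' x' w'
    rw [s hu (by norm_num) (by norm_num) hu', s hu (by norm_num) (by norm_num) hx',
      s hu (by norm_num) (by norm_num) hw', s hu (by norm_num) (by norm_num) hux',
      s huxw' (by norm_num) (by norm_num) huw', s huxw' (by norm_num) (by norm_num) hxw', hA] at h
    simpa using h
  have hval : ∀ a : leechLattice, leechR.q a ≤ 8 → Q a = if leechR.q a = 6 then Q (u + x + w) else 0 := by
    intro a ha
    by_cases ha0 : a = 0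
    · subst ha0; rw [h0, Rootless.q_zero]; rfl
    have h4 := leechR.q_ge_four ha0
    obtain ⟨k, hk⟩ := leechR.even a
    have hk' : leechR.q a = 2 * k := hk
    obtain h | h | h : leechR.q a = 4 ∨ leechR.q a = 6 ∨ leechR.q a = 8 := by omega
    · rw [if_neg (by omega), s hu (by norm_num) (by norm_num) h, hA]
    · rw [if_pos h, s huxw (by norm_num) (by norm_num) h]
    · rw [if_neg (by omega), s huxw' (by norm_num) (by norm_num) h, hC]
  have hcls : ∀ a : leechLattice, ∃ r, leechR.q r ≤ 8 ∧ leechR.cls r = leechR.cls a ∧ Q a = Q r :=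
    fun a => by
      obtain ⟨r, hr, hr8⟩ := leech_short_rep a
      obtain ⟨z, rfl⟩ := leechR.cls_eq_iff.1 hr.symm
      exact ⟨r, hr8, hr, hcoset r z⟩
  have hb : Q (u + x + w) = 1 := by
    obtain ⟨v₀, hv₀⟩ := hne
    obtain ⟨r, hr8, -, e⟩ := hcls v₀
    rw [e, hval r hr8] at hv₀
    split_ifs at hv₀
    · revert hv₀; generalize Q (u + x + w) = t; revert t; decide
    · exact absurd rfl hv₀
  obtain ⟨r, hr8, hr, e⟩ := hcls v
  rw [e, hval r hr8, hb, ← leechF_cls hr]
  obtain ⟨k, hk⟩ := leechR.even r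
  have hk' : leechR.q r = 2 * k := hk
  rw [leechF_of_q hk']
  by_cases h0' : r = 0
  · subst h0'
    rw [Rootless.q_zero] at hk' ⊢
    rw [show k = 0 by omega]
    rfl
  have h4 := leechR.q_ge_four h0'
  obtain rfl | rfl | rfl : k = 2 ∨ k = 3 ∨ k = 4 := by omega
  all_goals rw [hk']; rfl

end CfsgLib.Trans3
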