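import Cfsg.Prelude.Def_FischerSpaces
import Mathlib.GroupTheory.OrderOfElement
import Mathlib.Tactic

/-! The involutions `t(x)` of a Fischer space. -/

set_option autoImplicit false

namespace CfsgLib.Trans3

open Cfsg Cfsg.LineSystem

variable {X : Type*} {L : Set (Set X)}

theorem three_point (h3 : ∀ l ∈ L, l.ncard = 3) {l : Set X} (hl : l ∈ L) {x y : X} (hxy : x ≠ y)
    (hx : x ∈ l) (hy : y ∈ l) : ∃ z, z ≠ x ∧ z ≠ y ∧ l = {x, y, z} := by
  have hfin : l.Finite := Set.finite_of_ncard_ne_zero (by rw [h3 l hl]; norm_num)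
  obtain ⟨z, hz, hnot⟩ := Set.exists_mem_notMem_of_ncard_lt_ncard
    (s := ({x, y} : Set X)) (t := l) (by rw [Set.ncard_pair hxy, h3 l hl]; norm_num) (Set.toFinite _)
  simp only [Set.mem_insert_iff, Set.mem_singleton_iff, not_or] at hnot
  refine ⟨z, hnot.1, hnot.2, (Set.eq_of_subset_of_ncard_le ?_ ?_ hfin).symm⟩
  · exact Set.insert_subset hx (Set.insert_subset hy (Set.singleton_subset_iff.2 hz))
  · rw [h3 l hl, Set.ncard_eq_three.2 ⟨x, y, z, hxy, Ne.symm hnot.1, Ne.symm hnot.2, rfl⟩]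

variable (hpl : IsPartialLinear L)
include hpl

theorem lineMap_eq {x y z : X} (hxy : x ≠ y) (hzx : z ≠ x) (hzy : z ≠ y)
    (h : ({x, y, z} : Set X) ∈ L) : lineMap L x y = z := by
  have hex : ∃ w : X, w ≠ x ∧ w ≠ y ∧ x ≠ y ∧ ({x, y, w} : Set X) ∈ L :=
    ⟨z, hzx, hzy, hxy, h⟩
  rw [lineMap, dif_pos hex]
  obtain ⟨h1, h2, -, h4⟩ := hex.choose_spec
  have := hpl _ h4 _ h x y hxy (by simp) (by simp) (by simp) (by simp)
  have hmem : hex.choose ∈ ({x, y, z} : Set X) := this ▸ by simp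
  rcases hmem with h' | h' | h'
  exacts [absurd h' h1, absurd h' h2, h']

omit hpl in
theorem lineMap_fixed {x y : X} (h : ¬ Collinear L x y) : lineMap L x y = y := by
  rw [lineMap, dif_neg]
  rintro ⟨z, -, -, hxy, hl⟩
  exact h ⟨hxy, _, hl, by simp, by simp⟩

omit hpl in
theorem lineMap_self (x : X) : lineMap L x x = x := lineMap_fixed fun h => h.1 rfl

theorem lineMap_involutive (h3 : ∀ l ∈ L, l.ncard = 3) (x : X) :
    Function.Involutive (lineMap L x) := by
  intro y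
  by_cases h : Collinear L x y
  · obtain ⟨hne, l, hl, hx, hy⟩ := h
    obtain ⟨z, hzx, hzy, rfl⟩ := three_point h3 hl hne hx hy
    rw [lineMap_eq hpl hne hzx hzy hl, lineMap_eq hpl hzx.symm hne.symm hzy.symm]
    rwa [Set.pair_comm z y]
  · rw [lineMap_fixed h, lineMap_fixed h]

omit hpl in
theorem subspace_span' (S : Set X) : IsSubspace L (span L S) :=
  fun l hl x hx y hy hne hxl hyl z hz T hT =>
    hT.2 l hl x (hx T hT) y (hy T hT) hne hxl hyl hz

/-- Transfer of `t(x)` preserving lines from a model plane. -/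
theorem image_line_of_model {P : Type*} (M : Set (Set P)) (T : P → P → P)
    (hTself : ∀ p, T p p = p)
    (hT : ∀ p q, p ≠ q → (T p q ≠ p ∧ T p q ≠ q ∧ ({p, q, T p q} : Set P) ∈ M) ∨
      ((∀ m ∈ M, ¬ (p ∈ m ∧ q ∈ m)) ∧ T p q = q))
    (hTM : ∀ p, ∀ m ∈ M, T p '' m ∈ M) {S : Set X}
    (hiso : Isomorphic (restrict L (span L S)) M) {x : X} (hx : x ∈ span L S) {l : Set X}
    (hl : l ∈ L) (hls : l ⊆ span L S) : lineMap L x '' l ∈ L := by
  obtain ⟨e, he⟩ := hiso
  have hback : ∀ m ∈ M, Subtype.val '' (e ⁻¹' m) ∈ L := by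
    intro m hm
    have h1 : e ⁻¹' m ∈ restrict L (span L S) := (he _).2 (by rwa [Equiv.image_preimage])
    obtain ⟨k, hk, hks, hkeq⟩ := h1
    convert hk using 1
    rw [hkeq]
    ext z
    exact ⟨fun ⟨w, hw, hwz⟩ => hwz ▸ hw, fun hz => ⟨⟨z, hks hz⟩, hz, rfl⟩⟩
  have hfor : ∀ k ∈ L, k ⊆ span L S → e '' {z : span L S | (z : X) ∈ k} ∈ M :=
    fun k hk hks => (he _).1 ⟨k, hk, hks, rfl⟩
  have key : ∀ s : span L S, lineMap L x s = e.symm (T (e ⟨x, hx⟩) (e s)) := by
    intro s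
    by_cases hs : (⟨x, hx⟩ : span L S) = s
    · subst hs
      rw [hTself, Equiv.symm_apply_apply, lineMap_self]
    rcases hT (e ⟨x, hx⟩) (e s) (fun h => hs (e.injective h)) with ⟨h1, h2, h4⟩ | ⟨h1, h2⟩
    · refine lineMap_eq hpl (fun h => hs (Subtype.ext h)) (fun h => h1 ?_) (fun h => h2 ?_) ?_
      · exact (e.apply_symm_apply _).symm.trans (congrArg e (Subtype.ext h : e.symm (T (e ⟨x, hx⟩) (e s)) = ⟨x, hx⟩))
      · calc T (e ⟨x, hx⟩) (e s) = e (e.symm (T (e ⟨x, hx⟩) (e s))) := (e.apply_symm_apply _).symm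
          _ = e s := by rw [show e.symm (T (e ⟨x, hx⟩) (e s)) = s from Subtype.ext h]
      · convert hback _ h4 using 1
        rw [← e.image_symm_eq_preimage, Set.image_image, Set.image_insert_eq, Set.image_pair]
        simp
    · rw [h2, Equiv.symm_apply_apply, lineMap_fixed]
      rintro ⟨hne, k, hk, hxk, hsk⟩
      exact h1 _ (hfor k hk (subspace_span' S k hk x hx s s.2 hne hxk hsk))
        ⟨⟨_, hxk, rfl⟩, ⟨_, hsk, rfl⟩⟩
  convert hback _ (hTM (e ⟨x, hx⟩) _ (hfor l hl hls)) using 1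
  rw [← e.image_symm_eq_preimage, Set.image_image, Set.image_image, Set.image_image]
  ext z
  constructor
  · rintro ⟨w, hw, rfl⟩
    exact ⟨⟨w, hls hw⟩, hw, (key ⟨w, hls hw⟩).symm⟩
  · rintro ⟨w, hw, rfl⟩
    exact ⟨w, hw, key w⟩

/-- Third point in the dual affine plane. -/
def dualThird (s t : DualAffinePoint) : DualAffinePoint :=
  if h : (s.val \ t.val ∪ t.val \ s.val).card = 2 then ⟨_, h⟩ else t

omit hpl in
theorem dualThird_self : ∀ p, dualThird p p = p := by decide +kernel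

omit hpl in
theorem dualThird_line : ∀ p q, p ≠ q →
    (dualThird p q ≠ p ∧ dualThird p q ≠ q ∧ ∃ i : Fin 4, ∀ r : DualAffinePoint,
      (i ∉ r.val → (r = p ∨ r = q ∨ r = dualThird p q)) ∧
      ((r = p ∨ r = q ∨ r = dualThird p q) → i ∉ r.val)) ∨
    ((∀ i : Fin 4, i ∉ p.val → i ∈ q.val) ∧ dualThird p q = q) := by decide +kernel

omit hpl in
theorem dualThird_map : ∀ p, ∀ i : Fin 4, ∃ j : Fin 4, ∀ r : DualAffinePoint,
    (j ∈ r.val ↔ i ∈ (dualThird p r).val) := by decide +kernel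

omit hpl in
theorem dualThird_inv : ∀ p r, dualThird p (dualThird p r) = r := by decide +kernel

theorem image_line (hF : ∀ l ∈ L, ∀ m ∈ L, l ≠ m → (l ∩ m).Nonempty →
      Isomorphic (restrict L (span L (l ∪ m))) dualAffinePlaneTwo ∨
        Isomorphic (restrict L (span L (l ∪ m))) affinePlaneThree)
    (h3 : ∀ l ∈ L, l.ncard = 3) (x : X) {l : Set X} (hl : l ∈ L) : lineMap L x '' l ∈ L := by
  have hinv := lineMap_involutive hpl h3 x
  by_cases hcol : ∀ y ∈ l, ¬ Collinear L x y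
  · convert hl using 1
    ext y
    exact ⟨fun ⟨w, hw, h⟩ => by rw [← h, lineMap_fixed (hcol w hw)]; exact hw,
      fun hy => ⟨y, hy, lineMap_fixed (hcol y hy)⟩⟩
  simp only [not_forall, not_not, exists_prop] at hcol
  obtain ⟨u, hu, hne, m, hm, hxm, hum⟩ := hcol
  by_cases hlm : l = m
  · subst hlm
    obtain ⟨z, hzx, hzu, rfl⟩ := three_point h3 hl hne hxm hum
    convert hl using 1
    rw [Set.image_insert_eq, Set.image_pair, lineMap_self, lineMap_eq hpl hne hzx hzu hl,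
      lineMap_eq hpl hzx.symm hne.symm hzu.symm (by rwa [Set.pair_comm z u]), Set.pair_comm]
  have hx : x ∈ span L (l ∪ m) := fun T hT => hT.1 (Or.inr hxm)
  have hls : l ⊆ span L (l ∪ m) := fun y hy T hT => hT.1 (Or.inl hy)
  rcases hF l hl m hm hlm ⟨u, hu, hum⟩ with hiso | hiso
  · refine image_line_of_model hpl dualAffinePlaneTwo dualThird dualThird_self (fun p q hpq => ?_) ?_ hiso hx
      hl hls
    · rcases dualThird_line p q hpq with ⟨a, b, i, hi⟩ | ⟨a, b⟩
      · exact Or.inl ⟨a, b, i, Set.ext fun r => ⟨(hi r).2, (hi r).1⟩⟩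
      · refine Or.inr ⟨?_, b⟩
        rintro _ ⟨i, rfl⟩
        exact fun h => h.2 (a i h.1)
    · rintro p _ ⟨i, rfl⟩
      obtain ⟨j, hj⟩ := dualThird_map p i
      refine ⟨j, Set.ext fun r => ?_⟩
      show r ∈ dualThird p '' {s | i ∉ s.val} ↔ j ∉ r.val
      rw [hj r]
      exact ⟨fun ⟨s, hs, h⟩ => by rw [← h, dualThird_inv]; exact hs,
        fun h => ⟨dualThird p r, h, dualThird_inv p r⟩⟩
  · refine image_line_of_model hpl affinePlaneThree (fun p q => -(p + q))
      (fun p => ?_) (fun p q hpq => Or.inl ?_) ?_ hiso hx hl hls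
    · ext i; show -(p i + p i) = p i; generalize p i = a; revert a; decide
    · have key : ∀ a b : ZMod 3, (-(a + b) = a → a = b) ∧ (-(a + b) = b → a = b) ∧
          -(a + b) = a + 2 * (b - a) := by decide
      refine ⟨fun h => hpq (funext fun i => (key (p i) (q i)).1 (congrFun h i)),
        fun h => hpq (funext fun i => (key (p i) (q i)).2.1 (congrFun h i)),
        p, q - p, sub_ne_zero.2 hpq.symm, Set.ext fun r => ?_⟩
      constructor
      · rintro (rfl | rfl | rfl)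
        exacts [⟨0, by simp⟩, ⟨1, by simp⟩, ⟨2, funext fun i => (key (p i) (q i)).2.2⟩]
      · rintro ⟨k, rfl⟩
        rcases (show ∀ k : ZMod 3, k = 0 ∨ k = 1 ∨ k = 2 by decide) k with rfl | rfl | rfl
        · simp
        · simp
        · exact Or.inr (Or.inr (funext fun i => ((key (p i) (q i)).2.2).symm))
    · rintro p _ ⟨v, w, hw, rfl⟩
      refine ⟨-(p + v), -w, neg_ne_zero.2 hw, Set.ext fun r => ?_⟩
      constructor
      · rintro ⟨_, ⟨k, rfl⟩, rfl⟩
        exact ⟨k, funext fun i => by simp; ring⟩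
      · rintro ⟨k, rfl⟩
        exact ⟨v + k • w, ⟨k, rfl⟩, funext fun i => by simp; ring⟩

theorem lineMap_conj {σ : X → X} (hσ : Function.Involutive σ) (hauto : ∀ l ∈ L, σ '' l ∈ L)
    (h3 : ∀ l ∈ L, l.ncard = 3) (y z : X) :
    σ (lineMap L y (σ z)) = lineMap L (σ y) z := by
  by_cases h : Collinear L y (σ z)
  · obtain ⟨hne, l, hl, hy, hz⟩ := h
    obtain ⟨w, hwy, hwz, rfl⟩ := three_point h3 hl hne hy hz
    rw [lineMap_eq hpl hne hwy hwz hl]
    refine (lineMap_eq hpl (fun h => hne (by rw [← h, hσ y])) (fun h => hwy (hσ.injective h))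
      (fun h => hwz (by rw [← h, hσ w])) ?_).symm
    have := hauto _ hl
    rwa [Set.image_insert_eq, Set.image_pair, hσ z] at this
  · rw [lineMap_fixed h, hσ z, lineMap_fixed]
    rintro ⟨hne, l, hl, hy, hz⟩
    exact h ⟨fun e => hne (by rw [e, hσ z]), σ '' l, hauto l hl, ⟨σ y, hy, hσ y⟩, ⟨z, hz, rfl⟩⟩

omit hpl in
theorem lineMaps_three_transpositions (hF : IsFischerSpace L) (hnd : IsNondegenerate L) :
    (∀ x : X, ∃ σ : Equiv.Perm X, ⇑σ = lineMap L x ∧ orderOf σ = 2 ∧ IsIso L L σ) ∧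
      IsThreeTranspositionSet {σ : Equiv.Perm X | ∃ x : X, ⇑σ = lineMap L x} := by
  obtain ⟨hpl, h3, hpl3⟩ := hF
  let t : X → Equiv.Perm X := fun x => (lineMap_involutive hpl h3 x).toPerm _
  have hsq : ∀ x, t x * t x = 1 := fun x => Equiv.ext fun y => lineMap_involutive hpl h3 x y
  have hord : ∀ x, orderOf (t x) = 2 := by
    intro x
    haveI : Fact (Nat.Prime 2) := ⟨Nat.prime_two⟩
    refine orderOf_eq_prime (by rw [pow_two, hsq]) fun h => ?_
    obtain ⟨l, hl, hx⟩ := hnd x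
    obtain ⟨y, hy, hyx⟩ := Set.exists_ne_of_one_lt_ncard (s := l) (by rw [h3 l hl]; norm_num) x
    obtain ⟨z, hzx, hzy, rfl⟩ := three_point h3 hl hyx.symm hx hy
    exact hzy ((lineMap_eq hpl hyx.symm hzx hzy hl).symm.trans
      (congrArg (fun p : Equiv.Perm X => p y) h))
  have hauto : ∀ x, ∀ l ∈ L, lineMap L x '' l ∈ L := fun x l hl => image_line hpl hpl3 h3 x hl
  have heq : ∀ σ : Equiv.Perm X, ∀ x, ⇑σ = lineMap L x → σ = t x :=
    fun σ x h => Equiv.ext fun y => congrFun h y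
  have hconj : ∀ x y, t x * t y * t x = t (lineMap L x y) := fun x y => Equiv.ext fun z =>
    lineMap_conj hpl (lineMap_involutive hpl h3 x) (hauto x) h3 y z
  refine ⟨fun x => ⟨t x, rfl, hord x, fun l => ⟨fun h => hauto x l h, fun h => ?_⟩⟩, ?_, ?_⟩
  · have := hauto x _ h
    rwa [Set.image_image, show (fun y => lineMap L x (t x y)) = id from
      funext (lineMap_involutive hpl h3 x), Set.image_id] at this
  · rintro σ ⟨x, hx⟩; rw [heq σ x hx]; exact hord x
  · rintro σ ⟨x, hx⟩ τ ⟨y, hy⟩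
    rw [heq σ x hx, heq τ y hy]
    by_cases h : Collinear L x y
    · right
      obtain ⟨hne, l, hl, hxl, hyl⟩ := h
      obtain ⟨z, hzx, hzy, rfl⟩ := three_point h3 hl hne hxl hyl
      have h1 : t x * t y * t x = t z := by rw [hconj, lineMap_eq hpl hne hzx hzy hl]
      have h2 : t y * t x * t y = t z := by
        rw [hconj, lineMap_eq hpl hne.symm hzy hzx (by rwa [Set.insert_comm])]
      calc (t x * t y) ^ 3 = t x * t y * t x * (t y * t x * t y) := by
            simp only [pow_succ, pow_zero, one_mul, mul_assoc]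
        _ = 1 := by rw [h1, h2, hsq]
    · left
      rw [pow_two, ← mul_assoc, hconj, lineMap_fixed h, hsq]

end CfsgLib.Trans3
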