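import Mathlib.Data.Int.Basic

/-!
# Certificates for centralisers in `Co0` of elements of odd prime order fixing a sublattice of rank 8
-/

set_option autoImplicit false

namespace CfsgLib.Trans3

/-- The certificate data: a permutation of the 24 points, a basis of its fixed lattice in cycle
coordinates, short representatives of the 256 classes, generators of the centraliser with their
matrices on the fixed lattice, invariant blocks of classes and words. -/
structure LocalData where
  /-- the prime -/
  p : ℕ
  /-- the permutation -/
  sigma : ℕ
  /-- cycle of each point -/
  cyc : List ℕ
  /-- one point of each cycle -/
  reps : List ℕ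
  /-- basis of the fixed lattice -/
  basis : List (List ℤ)
  /-- `bden` times the inverse of the basis -/
  binv : List (List ℤ)
  /-- denominator -/
  bden : ℤ
  /-- a fixed vector with odd coordinates -/
  oddVec : List ℤ
  /-- fixed code words -/
  codes : List ℕ
  /-- lifts of fixed code words -/
  patVec : List (ℕ × List ℤ)
  /-- the vectors `4 (e₀ + eᵢ)` -/
  pairVec : List (List ℤ)
  /-- short representatives -/
  lows : List (List ℤ)
  /-- monomial generators -/
  monos : List (ℕ × ℕ × List (List ℤ))
  /-- other generators -/
  mats : List (List (List ℤ) × List (List ℤ))
  /-- the centraliser in the permutation group -/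
  elts : List ℕ
  /-- each element as a generator times an earlier element -/
  eltTree : List (ℕ × ℕ)
  /-- number of blocks -/
  numBlocks : ℕ
  /-- blocks of classes as masks -/
  blocks : List ℕ
  /-- action of the generators on the blocks -/
  blockPerms : List (List ℕ)
  /-- the class of the standard frame -/
  e0 : ℕ
  /-- words reaching the classes of norm 8 -/
  reach : List (ℕ × List ℕ)

end CfsgLib.Trans3
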