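import Cfsg.Agent.Lib.Trans3.LocalData

/-! Generated: data for the centraliser in `Co0` of an element of order 5 fixing a rank 8 sublattice. -/

set_option autoImplicit false
set_option maxRecDepth 100000

namespace CfsgLib.Trans3

/-- Part of the data. -/
def fiveLow0 : List (List ℤ) := [[0, 0, 0, 0, 0, 0, 0, 0, 0, 0, 0, 0, 0, 0, 0, 0, 0, 0, 0, 0, 0, 0, 0, 0],
  [-1, 1, -1, -1, -1, -5, 1, 1, -1, -1, 1, -1, -3, 1, -1, -1, -1, 1, -1, -3, -1, -1, -1, -1],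
  [-2, 0, 0, 0, -2, -6, 0, 0, 0, -2, 2, 0, -2, 0, 0, -2, 0, 0, 0, 0, 0, -2, 0, 0],
  [-1, -1, 1, 1, -1, -1, -1, -1, 1, -1, 1, 1, 1, -1, 1, -1, 1, -1, 1, 3, 1, -1, 1, 1],
  [-2, -2, 0, 0, -2, 2, -2, -2, 0, -2, -4, 0, 0, -2, 0, -2, 0, -2, 0, -2, 0, -2, 0, 0],
  [-1, 1, 1, 1, -1, -1, 1, 1, 1, -1, -1, 1, -1, 1, 1, -1, 1, 1, 1, 5, 1, -1, 1, 1],
  [0, -2, 0, 0, 0, 0, -2, -2, 0, 0, 2, 0, 2, -2, 0, 0, 0, -2, 0, -2, 0, 0, 0, 0],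
  [-1, -1, -1, -1, -1, 3, -1, -1, -1, -1, 3, -1, -1, -1, -1, -1, -1, -1, -1, 3, -1, -1, -1, -1],
  [0, 0, 0, -2, 0, 2, 0, 0, 0, 0, 4, 0, -2, 0, -2, 0, 0, 0, 0, -2, -2, 0, -2, -2],
  [-1, 1, -1, 1, -1, 1, 1, 1, -1, -1, 5, -1, -1, 1, 1, -1, -1, 1, -1, -1, 1, -1, 1, 1],
  [0, -2, -2, 0, 0, 2, -2, -2, -2, 0, 0, -2, 2, -2, 0, 0, -2, -2, -2, 0, 0, 0, 0, 0],
  [-1, -1, 1, -1, -1, 1, -1, -1, 1, -1, 5, 1, -1, -1, -1, -1, 1, -1, 1, 1, -1, -1, -1, -1],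
  [0, 0, -2, 0, 0, 2, 0, 0, -2, 0, -2, -2, 0, 0, 0, 0, -2, 0, -2, 2, 0, 0, 0, 0],
  [-1, 1, 1, -1, -1, 1, 1, 1, 1, -1, 3, 1, -3, 1, -1, -1, 1, 1, 1, 3, -1, -1, -1, -1],
  [-2, 0, -2, 0, -2, -4, 0, 0, -2, -2, 0, -2, -2, 0, 0, -2, -2, 0, -2, 2, 0, -2, 0, 0],
  [-1, -1, -1, 1, -1, 1, -1, -1, -1, -1, -1, -1, 1, -1, 1, -1, -1, -1, -1, 5, 1, -1, 1, 1]]

/-- Part of the data. -/
def fiveLow1 : List (List ℤ) := [[0, 0, 0, 0, 0, -4, 0, 0, 0, 0, 0, 0, 4, 0, 0, 0, 0, 0, 0, 0, 0, 0, 0, 0],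
  [-1, 1, -1, -1, -1, -1, 1, 1, -1, -1, 1, -1, 1, 1, -1, -1, -1, 1, -1, 5, -1, -1, -1, -1],
  [-2, 0, 0, 0, -2, -2, 0, 0, 0, -2, -6, 0, 2, 0, 0, -2, 0, 0, 0, 0, 0, -2, 0, 0],
  [-1, -1, 1, 1, -1, 3, -1, -1, 1, -1, 1, 1, -3, -1, 1, -1, 1, -1, 1, 3, 1, -1, 1, 1],
  [0, 0, -2, -2, 0, 0, 0, 0, -2, 0, 2, -2, 2, 0, -2, 0, -2, 0, -2, 0, -2, 0, -2, -2],
  [-1, 1, 1, 1, -1, 3, 1, 1, 1, -1, -1, 1, 3, 1, 1, -1, 1, 1, 1, -3, 1, -1, 1, 1],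
  [0, -2, 0, 0, 0, 4, -2, -2, 0, 0, 2, 0, -2, -2, 0, 0, 0, -2, 0, -2, 0, 0, 0, 0],
  [-1, -1, -1, -1, -1, -1, -1, -1, -1, -1, 3, -1, 3, -1, -1, -1, -1, -1, -1, 3, -1, -1, -1, -1],
  [0, 0, 0, -2, 0, -2, 0, 0, 0, 0, 4, 0, 2, 0, -2, 0, 0, 0, 0, -2, -2, 0, -2, -2],
  [-3, -1, 1, -1, -3, -1, -1, -1, 1, -3, -1, 1, 1, -1, -1, -3, 1, -1, 1, 1, -1, -3, -1, -1],
  [-2, 0, 0, -2, -2, 0, 0, 0, 0, -2, -2, 0, 0, 0, -2, -2, 0, 0, 0, -2, -2, -2, -2, -2],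
  [-3, 1, -1, 1, -3, -1, 1, 1, -1, -3, -1, -1, 1, 1, 1, -3, -1, 1, -1, -1, 1, -3, 1, 1],
  [0, 0, -2, 0, 0, -2, 0, 0, -2, 0, -2, -2, 4, 0, 0, 0, -2, 0, -2, 2, 0, 0, 0, 0],
  [-1, 1, 1, -1, -1, -3, 1, 1, 1, -1, 3, 1, 1, 1, -1, -1, 1, 1, 1, 3, -1, -1, -1, -1],
  [0, -2, 0, 2, 0, 2, -2, -2, 0, 0, -2, 0, 0, -2, 2, 0, 0, -2, 0, 0, 2, 0, 2, 2],
  [-1, -1, -1, 1, -1, -3, -1, -1, -1, -1, -1, -1, -3, -1, 1, -1, -1, -1, -1, -3, 1, -1, 1, 1]]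

/-- Part of the data. -/
def fiveLow2 : List (List ℤ) := [[0, 0, 0, 0, 0, 0, 0, 0, 0, 0, -4, 0, 0, 0, 0, 0, 0, 0, 0, 4, 0, 0, 0, 0],
  [-3, -1, 1, 1, -3, 1, -1, -1, 1, -3, -1, 1, -1, -1, 1, -3, 1, -1, 1, -1, 1, -3, 1, 1],
  [-2, 0, 0, 0, -2, 2, 0, 0, 0, -2, -2, 0, -2, 0, 0, -2, 0, 0, 0, -4, 0, -2, 0, 0],
  [-1, -1, 1, 1, -1, -1, -1, -1, 1, -1, 5, 1, 1, -1, 1, -1, 1, -1, 1, -1, 1, -1, 1, 1],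
  [0, 0, -2, 2, 0, 0, 0, 0, -2, 0, -2, -2, 2, 0, 2, 0, -2, 0, -2, 0, 2, 0, 2, 2],
  [-1, 1, 1, 1, -1, -1, 1, 1, 1, -1, 3, 1, -1, 1, 1, -1, 1, 1, 1, 1, 1, -1, 1, 1],
  [0, -2, 0, 0, 0, 0, -2, -2, 0, 0, -2, 0, 2, -2, 0, 0, 0, -2, 0, 2, 0, 0, 0, 0],
  [-1, -1, -1, -1, -1, -5, -1, -1, -1, -1, -1, -1, -1, -1, -1, -1, -1, -1, -1, -1, -1, -1, -1, -1],
  [0, 0, 0, -2, 0, 2, 0, 0, 0, 0, 0, 0, -2, 0, -2, 0, 0, 0, 0, 2, -2, 0, -2, -2],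
  [-1, 1, -1, 1, -1, 1, 1, 1, -1, -1, 1, -1, -1, 1, 1, -1, -1, 1, -1, 3, 1, -1, 1, 1],
  [0, -2, 2, 0, 0, -2, -2, -2, 2, 0, 0, 2, 2, -2, 0, 0, 2, -2, 2, 0, 0, 0, 0, 0],
  [-1, -1, 1, -1, -1, 1, -1, -1, 1, -1, 1, 1, -1, -1, -1, -1, 1, -1, 1, 5, -1, -1, -1, -1],
  [0, 0, -2, 0, 0, 2, 0, 0, -2, 0, 2, -2, 0, 0, 0, 0, -2, 0, -2, -2, 0, 0, 0, 0],
  [-1, 1, 1, -1, -1, 1, 1, 1, 1, -1, -1, 1, 5, 1, -1, -1, 1, 1, 1, -1, -1, -1, -1, -1],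
  [0, -2, 0, -2, 0, 2, -2, -2, 0, 0, 2, 0, 0, -2, -2, 0, 0, -2, 0, 0, -2, 0, -2, -2],
  [-1, -1, -1, 1, -1, 1, -1, -1, -1, -1, 3, -1, 1, -1, 1, -1, -1, -1, -1, 1, 1, -1, 1, 1]]

/-- Part of the data. -/
def fiveLow3 : List (List ℤ) := [[0, 0, 0, 0, 0, -4, 0, 0, 0, 0, -4, 0, -4, 0, 0, 0, 0, 0, 0, -4, 0, 0, 0, 0],
  [-1, 1, -1, -1, -1, -1, 1, 1, -1, -1, 5, -1, 1, 1, -1, -1, -1, 1, -1, 1, -1, -1, -1, -1],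
  [-2, 0, 0, 0, -2, -2, 0, 0, 0, -2, -2, 0, 2, 0, 0, -2, 0, 0, 0, -4, 0, -2, 0, 0],
  [-3, 1, -1, -1, -3, 1, 1, 1, -1, -3, -1, -1, -1, 1, -1, -3, -1, 1, -1, 1, -1, -3, -1, -1],
  [-2, -2, 0, 0, -2, -2, -2, -2, 0, -2, 0, 0, -4, -2, 0, -2, 0, -2, 0, 2, 0, -2, 0, 0],
  [-3, -1, -1, -1, -3, 1, -1, -1, -1, -3, 1, -1, 1, -1, -1, -3, -1, -1, -1, -1, -1, -3, -1, -1],
  [0, -2, 0, 0, 0, 4, -2, -2, 0, 0, -2, 0, -2, -2, 0, 0, 0, -2, 0, 2, 0, 0, 0, 0],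
  [-1, -1, -1, -1, -1, -1, -1, -1, -1, -1, -1, -1, -5, -1, -1, -1, -1, -1, -1, -1, -1, -1, -1, -1],
  [0, 0, 0, -2, 0, -2, 0, 0, 0, 0, 0, 0, 2, 0, -2, 0, 0, 0, 0, 2, -2, 0, -2, -2],
  [-1, 1, -1, 1, -1, -3, 1, 1, -1, -1, 1, -1, 3, 1, 1, -1, -1, 1, -1, 3, 1, -1, 1, 1],
  [0, -2, 2, 0, 0, 2, -2, -2, 2, 0, 0, 2, -2, -2, 0, 0, 2, -2, 2, 0, 0, 0, 0, 0],
  [-1, -1, 1, -1, -1, -3, -1, -1, 1, -1, 1, 1, -5, -1, -1, -1, 1, -1, 1, -3, -1, -1, -1, -1],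
  [0, 0, -2, 0, 0, -2, 0, 0, -2, 0, 2, -2, 4, 0, 0, 0, -2, 0, -2, -2, 0, 0, 0, 0],
  [-1, 1, 1, -1, -1, 5, 1, 1, 1, -1, -1, 1, 1, 1, -1, -1, 1, 1, 1, -1, -1, -1, -1, -1],
  [-2, 0, -2, 0, -2, 0, 0, 0, -2, -2, -4, -2, 2, 0, 0, -2, -2, 0, -2, -2, 0, -2, 0, 0],
  [-3, 1, 1, -1, -3, -1, 1, 1, 1, -3, 1, 1, -1, 1, -1, -3, 1, 1, 1, -1, -1, -3, -1, -1]]

/-- Part of the data. -/
def fiveLow4 : List (List ℤ) := [[0, 0, 0, 0, 0, 0, 0, 0, 0, 0, 0, 0, -4, 0, 0, 0, 0, 0, 0, -4, 0, 0, 0, 0],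
  [-1, 1, -1, -1, -1, -5, 1, 1, -1, -1, 1, -1, 1, 1, -1, -1, -1, 1, -1, 1, -1, -1, -1, -1],
  [-2, 0, 0, 0, -2, 2, 0, 0, 0, -2, 2, 0, 2, 0, 0, -2, 0, 0, 0, -4, 0, -2, 0, 0],
  [-1, -1, 1, 1, -1, -1, -1, -1, 1, -1, 1, 1, -3, -1, 1, -1, 1, -1, 1, -1, 1, -1, 1, 1],
  [-2, 2, 0, 0, -2, 2, 2, 2, 0, -2, 0, 0, 0, 2, 0, -2, 0, 2, 0, -2, 0, -2, 0, 0],
  [-1, 1, 1, 1, -1, -1, 1, 1, 1, -1, -1, 1, -5, 1, 1, -1, 1, 1, 1, 1, 1, -1, 1, 1],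
  [-2, 0, 2, -2, -2, 2, 0, 0, 2, -2, 0, 2, 0, 0, -2, -2, 2, 0, 2, 0, -2, -2, -2, -2],
  [-3, 1, 1, 1, -3, 1, 1, 1, 1, -3, 1, 1, 1, 1, 1, -3, 1, 1, 1, 1, 1, -3, 1, 1],
  [0, 0, 0, -2, 0, 2, 0, 0, 0, 0, 4, 0, 2, 0, -2, 0, 0, 0, 0, 2, -2, 0, -2, -2],
  [-1, -3, -1, 1, -1, 1, -3, -3, -1, -1, 1, -1, -1, -3, 1, -1, -1, -3, -1, -1, 1, -1, 1, 1],
  [-2, 0, 0, -2, -2, 4, 0, 0, 0, -2, -2, 0, 0, 0, -2, -2, 0, 0, 0, 2, -2, -2, -2, -2],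
  [-1, -1, 1, -1, -1, 1, -1, -1, 1, -1, -3, 1, 3, -1, -1, -1, 1, -1, 1, -3, -1, -1, -1, -1],
  [0, 0, -2, 0, 0, 2, 0, 0, -2, 0, -2, -2, -4, 0, 0, 0, -2, 0, -2, -2, 0, 0, 0, 0],
  [-1, 1, 1, -1, -1, 1, 1, 1, 1, -1, -5, 1, 1, 1, -1, -1, 1, 1, 1, -1, -1, -1, -1, -1],
  [-2, 0, -2, 0, -2, 4, 0, 0, -2, -2, 0, -2, 2, 0, 0, -2, -2, 0, -2, -2, 0, -2, 0, 0],
  [-1, -1, -1, 1, -1, 1, -1, -1, -1, -1, -1, -1, -3, -1, 1, -1, -1, -1, -1, 1, 1, -1, 1, 1]]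

/-- Part of the data. -/
def fiveLow5 : List (List ℤ) := [[0, 0, 0, 0, 0, -4, 0, 0, 0, 0, 0, 0, 0, 0, 0, 0, 0, 0, 0, -4, 0, 0, 0, 0],
  [-1, 1, -1, -1, -1, -1, 1, 1, -1, -1, 1, -1, -3, 1, -1, -1, -1, 1, -1, 1, -1, -1, -1, -1],
  [-2, 0, 0, 0, -2, -2, 0, 0, 0, -2, 2, 0, -2, 0, 0, -2, 0, 0, 0, 4, 0, -2, 0, 0],
  [-1, -1, 1, 1, -1, -5, -1, -1, 1, -1, 1, 1, 1, -1, 1, -1, 1, -1, 1, -1, 1, -1, 1, 1],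
  [-2, -2, 0, 0, -2, -2, -2, -2, 0, -2, 4, 0, 0, -2, 0, -2, 0, -2, 0, 2, 0, -2, 0, 0],
  [-1, 1, 1, 1, -1, -5, 1, 1, 1, -1, -1, 1, -1, 1, 1, -1, 1, 1, 1, 1, 1, -1, 1, 1],
  [0, -2, 0, 0, 0, 4, -2, -2, 0, 0, 2, 0, 2, -2, 0, 0, 0, -2, 0, 2, 0, 0, 0, 0],
  [-1, -1, -1, -1, -1, -1, -1, -1, -1, -1, 3, -1, -1, -1, -1, -1, -1, -1, -1, -1, -1, -1, -1, -1],
  [0, 0, 0, -2, 0, -2, 0, 0, 0, 0, -4, 0, -2, 0, -2, 0, 0, 0, 0, 2, -2, 0, -2, -2],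
  [-1, 1, -1, 1, -1, -3, 1, 1, -1, -1, -3, -1, -1, 1, 1, -1, -1, 1, -1, 3, 1, -1, 1, 1],
  [-2, 0, 0, -2, -2, 0, 0, 0, 0, -2, -2, 0, 4, 0, -2, -2, 0, 0, 0, 2, -2, -2, -2, -2],
  [-1, -1, -3, -1, -1, 1, -1, -1, -3, -1, 1, -3, -1, -1, -1, -1, -3, -1, -3, 1, -1, -1, -1, -1],
  [0, 0, -2, 0, 0, -2, 0, 0, -2, 0, -2, -2, 0, 0, 0, 0, -2, 0, -2, -2, 0, 0, 0, 0],
  [-1, 1, 1, -1, -1, -3, 1, 1, 1, -1, 3, 1, -3, 1, -1, -1, 1, 1, 1, -1, -1, -1, -1, -1],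
  [0, -2, 0, -2, 0, -2, -2, -2, 0, 0, -2, 0, 0, -2, -2, 0, 0, -2, 0, 0, -2, 0, -2, -2],
  [-1, -1, -1, 1, -1, -3, -1, -1, -1, -1, -1, -1, 1, -1, 1, -1, -1, -1, -1, 1, 1, -1, 1, 1]]

/-- Part of the data. -/
def fiveLow6 : List (List ℤ) := [[0, 0, 0, 0, 0, 0, 0, 0, 0, 0, -4, 0, -4, 0, 0, 0, 0, 0, 0, 0, 0, 0, 0, 0],
  [-1, 1, -1, -1, -1, 3, 1, 1, -1, -1, -3, -1, 1, 1, -1, -1, -1, 1, -1, -3, -1, -1, -1, -1],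
  [-2, 0, 0, 0, -2, 2, 0, 0, 0, -2, -2, 0, 2, 0, 0, -2, 0, 0, 0, 0, 0, -2, 0, 0],
  [-1, -1, 1, 1, -1, -1, -1, -1, 1, -1, -3, 1, -3, -1, 1, -1, 1, -1, 1, 3, 1, -1, 1, 1],
  [-2, -2, 0, 0, -2, 2, -2, -2, 0, -2, 0, 0, 4, -2, 0, -2, 0, -2, 0, -2, 0, -2, 0, 0],
  [-1, -3, 1, 1, -1, -1, -3, -3, 1, -1, -1, 1, -1, -3, 1, -1, 1, -3, 1, 1, 1, -1, 1, 1],
  [0, -2, 0, 0, 0, 0, -2, -2, 0, 0, -2, 0, -2, -2, 0, 0, 0, -2, 0, -2, 0, 0, 0, 0],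
  [-1, -1, -1, -1, -1, -5, -1, -1, -1, -1, -1, -1, 3, -1, -1, -1, -1, -1, -1, 3, -1, -1, -1, -1],
  [-2, 2, 2, 0, -2, 0, 2, 2, 2, -2, -2, 2, 0, 2, 0, -2, 2, 2, 2, 0, 0, -2, 0, 0],
  [-1, 1, -1, 1, -1, 1, 1, 1, -1, -1, 1, -1, -5, 1, 1, -1, -1, 1, -1, -1, 1, -1, 1, 1],
  [-2, 0, 0, -2, -2, 4, 0, 0, 0, -2, 2, 0, 0, 0, -2, -2, 0, 0, 0, -2, -2, -2, -2, -2],
  [-1, -1, 1, -1, -1, 1, -1, -1, 1, -1, 1, 1, -5, -1, -1, -1, 1, -1, 1, 1, -1, -1, -1, -1],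
  [0, 0, -2, 0, 0, 2, 0, 0, -2, 0, 2, -2, 4, 0, 0, 0, -2, 0, -2, 2, 0, 0, 0, 0],
  [-1, 1, 1, -1, -1, 1, 1, 1, 1, -1, -1, 1, 1, 1, -1, -1, 1, 1, 1, -5, -1, -1, -1, -1],
  [-2, 0, 2, 0, -2, 0, 0, 0, 2, -2, 0, 2, 2, 0, 0, -2, 2, 0, 2, -2, 0, -2, 0, 0],
  [-1, -1, -1, 1, -1, 1, -1, -1, -1, -1, 3, -1, -3, -1, 1, -1, -1, -1, -1, -3, 1, -1, 1, 1]]

/-- Part of the data. -/
def fiveLow7 : List (List ℤ) := [[0, 0, 0, 0, 0, -4, 0, 0, 0, 0, -4, 0, 0, 0, 0, 0, 0, 0, 0, 0, 0, 0, 0, 0],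
  [-1, -3, -1, -1, -1, -1, -3, -3, -1, -1, 1, -1, 1, -3, -1, -1, -1, -3, -1, 1, -1, -1, -1, -1],
  [-2, 0, 0, 0, -2, -2, 0, 0, 0, -2, -2, 0, 6, 0, 0, -2, 0, 0, 0, 0, 0, -2, 0, 0],
  [-1, -1, -3, 1, -1, -1, -1, -1, -3, -1, 1, -3, 1, -1, 1, -1, -3, -1, -3, -1, 1, -1, 1, 1],
  [0, 0, -2, -2, 0, 0, 0, 0, -2, 0, -2, -2, -2, 0, -2, 0, -2, 0, -2, 0, -2, 0, -2, -2],
  [-1, 1, -3, 1, -1, -1, 1, 1, -3, -1, -1, -3, -1, 1, 1, -1, -3, 1, -3, 1, 1, -1, 1, 1],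
  [0, -2, 0, 0, 0, -4, -2, -2, 0, 0, -2, 0, 2, -2, 0, 0, 0, -2, 0, -2, 0, 0, 0, 0],
  [-1, -1, -1, -1, -1, -1, -1, -1, -1, -1, -1, -1, -1, -1, -1, -1, -1, -1, -1, 3, -1, -1, -1, -1],
  [0, 0, 0, -2, 0, -2, 0, 0, 0, 0, 0, 0, -2, 0, -2, 0, 0, 0, 0, -2, -2, 0, -2, -2],
  [-1, 1, -1, 1, -1, -3, 1, 1, -1, -1, 1, -1, -1, 1, 1, -1, -1, 1, -1, -1, 1, -1, 1, 1],
  [-2, 0, 0, -2, -2, 0, 0, 0, 0, -2, 2, 0, 4, 0, -2, -2, 0, 0, 0, -2, -2, -2, -2, -2],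
  [-1, -1, 1, -1, -1, -3, -1, -1, 1, -1, 1, 1, -1, -1, -1, -1, 1, -1, 1, 1, -1, -1, -1, -1],
  [-2, 2, 0, -2, -2, 0, 2, 2, 0, -2, 0, 0, 2, 2, -2, -2, 0, 2, 0, 0, -2, -2, -2, -2],
  [-1, 1, 1, -1, -1, -3, 1, 1, 1, -1, -1, 1, -3, 1, -1, -1, 1, 1, 1, 3, -1, -1, -1, -1],
  [-2, 0, -2, 0, -2, 0, 0, 0, -2, -2, 4, -2, -2, 0, 0, -2, -2, 0, -2, 2, 0, -2, 0, 0],
  [-1, -1, -1, 1, -1, -3, -1, -1, -1, -1, 3, -1, 1, -1, 1, -1, -1, -1, -1, -3, 1, -1, 1, 1]]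

/-- Part of the data. -/
def fiveLow8 : List (List ℤ) := [[0, 0, 0, 0, 0, -8, 0, 0, 0, 0, 0, 0, 0, 0, 0, 0, 0, 0, 0, 0, 0, 0, 0, 0],
  [-1, 1, -1, -1, -1, 3, 1, 1, -1, -1, 1, -1, -3, 1, -1, -1, -1, 1, -1, -3, -1, -1, -1, -1],
  [-2, 0, 0, 0, -2, 2, 0, 0, 0, -2, 2, 0, -2, 0, 0, -2, 0, 0, 0, 0, 0, -2, 0, 0],
  [-1, -1, 1, 1, -1, -1, -1, -1, 1, -1, 1, 1, 1, -1, 1, -1, 1, -1, 1, -5, 1, -1, 1, 1],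
  [-2, -2, 0, 0, -2, 2, -2, -2, 0, -2, 4, 0, 0, -2, 0, -2, 0, -2, 0, -2, 0, -2, 0, 0],
  [-1, 1, 1, 1, -1, -1, 1, 1, 1, -1, -1, 1, -1, 1, 1, -1, 1, 1, 1, -3, 1, -1, 1, 1],
  [-2, 0, 2, 2, -2, -2, 0, 0, 2, -2, 0, 2, 0, 0, 2, -2, 2, 0, 2, 0, 2, -2, 2, 2],
  [-1, -1, -1, -1, -1, -5, -1, -1, -1, -1, 3, -1, -1, -1, -1, -1, -1, -1, -1, 3, -1, -1, -1, -1],
  [0, 0, 0, -2, 0, 2, 0, 0, 0, 0, -4, 0, -2, 0, -2, 0, 0, 0, 0, -2, -2, 0, -2, -2],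
  [-1, 1, -1, 1, -1, 1, 1, 1, -1, -1, -3, -1, -1, 1, 1, -1, -1, 1, -1, -1, 1, -1, 1, 1],
  [-2, 0, 0, 2, -2, 0, 0, 0, 0, -2, -2, 0, 0, 0, 2, -2, 0, 0, 0, 2, 2, -2, 2, 2],
  [-1, -1, 1, -1, -1, 1, -1, -1, 1, -1, -3, 1, -1, -1, -1, -1, 1, -1, 1, 1, -1, -1, -1, -1],
  [-2, -2, 0, 2, -2, 0, -2, -2, 0, -2, 0, 0, 2, -2, 2, -2, 0, -2, 0, 0, 2, -2, 2, 2],
  [-1, -3, 1, -1, -1, 1, -3, -3, 1, -1, -1, 1, 1, -3, -1, -1, 1, -3, 1, -1, -1, -1, -1, -1],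
  [-2, 0, -2, 0, -2, 4, 0, 0, -2, -2, 0, -2, -2, 0, 0, -2, -2, 0, -2, 2, 0, -2, 0, 0],
  [-1, -1, -1, 1, -1, 1, -1, -1, -1, -1, -1, -1, 1, -1, 1, -1, -1, -1, -1, -3, 1, -1, 1, 1]]

/-- Part of the data. -/
def fiveLow9 : List (List ℤ) := [[0, 0, 0, 0, 0, -4, 0, 0, 0, 0, 0, 0, -4, 0, 0, 0, 0, 0, 0, 0, 0, 0, 0, 0],
  [-1, 1, -1, -1, -1, -1, 1, 1, -1, -1, 1, -1, 1, 1, -1, -1, -1, 1, -1, -3, -1, -1, -1, -1],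
  [-2, 0, 0, 0, -2, -2, 0, 0, 0, -2, 2, 0, 2, 0, 0, -2, 0, 0, 0, 0, 0, -2, 0, 0],
  [-1, -1, 1, -3, -1, -1, -1, -1, 1, -1, 1, 1, 1, -1, -3, -1, 1, -1, 1, -1, -3, -1, -3, -3],
  [-2, 2, 0, 0, -2, -2, 2, 2, 0, -2, 0, 0, 0, 2, 0, -2, 0, 2, 0, 2, 0, -2, 0, 0],
  [-1, 1, 1, -3, -1, -1, 1, 1, 1, -1, -1, 1, -1, 1, -3, -1, 1, 1, 1, 1, -3, -1, -3, -3],
  [0, -2, 0, 0, 0, -4, -2, -2, 0, 0, 2, 0, -2, -2, 0, 0, 0, -2, 0, -2, 0, 0, 0, 0],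
  [-1, -1, -1, -1, -1, -1, -1, -1, -1, -1, -5, -1, 3, -1, -1, -1, -1, -1, -1, 3, -1, -1, -1, -1],
  [0, 0, 0, -2, 0, -2, 0, 0, 0, 0, -4, 0, 2, 0, -2, 0, 0, 0, 0, -2, -2, 0, -2, -2],
  [-1, 1, -1, 1, -1, -3, 1, 1, -1, -1, -3, -1, 3, 1, 1, -1, -1, 1, -1, -1, 1, -1, 1, 1],
  [0, -2, -2, 0, 0, -2, -2, -2, -2, 0, 0, -2, -2, -2, 0, 0, -2, -2, -2, 0, 0, 0, 0, 0],
  [-1, -1, 1, -1, -1, -3, -1, -1, 1, -1, -3, 1, 3, -1, -1, -1, 1, -1, 1, 1, -1, -1, -1, -1],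
  [0, 0, -2, 0, 0, -2, 0, 0, -2, 0, -2, -2, -4, 0, 0, 0, -2, 0, -2, 2, 0, 0, 0, 0],
  [-1, 1, -3, -1, -1, 1, 1, 1, -3, -1, -1, -3, 1, 1, -1, -1, -3, 1, -3, -1, -1, -1, -1, -1],
  [-2, 0, -2, 0, -2, 0, 0, 0, -2, -2, 0, -2, 2, 0, 0, -2, -2, 0, -2, 2, 0, -2, 0, 0],
  [-1, -1, -1, -3, -1, 1, -1, -1, -1, -1, -1, -1, 1, -1, -3, -1, -1, -1, -1, 1, -3, -1, -3, -3]]

/-- Part of the data. -/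
def fiveLow10 : List (List ℤ) := [[0, 0, 0, 0, 0, 0, 0, 0, 0, 0, -4, 0, 0, 0, 0, 0, 0, 0, 0, -4, 0, 0, 0, 0],
  [-1, 1, -1, -1, -1, 3, 1, 1, -1, -1, -3, -1, -3, 1, -1, -1, -1, 1, -1, 1, -1, -1, -1, -1],
  [-2, 0, 0, 0, -2, 2, 0, 0, 0, -2, -2, 0, -2, 0, 0, -2, 0, 0, 0, 4, 0, -2, 0, 0],
  [-1, -1, 1, 1, -1, -1, -1, -1, 1, -1, -3, 1, 1, -1, 1, -1, 1, -1, 1, -1, 1, -1, 1, 1],
  [-2, -2, 0, 0, -2, 2, -2, -2, 0, -2, 0, 0, 0, -2, 0, -2, 0, -2, 0, 2, 0, -2, 0, 0],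
  [-1, 1, 1, 1, -1, -1, 1, 1, 1, -1, -5, 1, -1, 1, 1, -1, 1, 1, 1, 1, 1, -1, 1, 1],
  [-2, 0, -2, 2, -2, 2, 0, 0, -2, -2, 0, -2, 0, 0, 2, -2, -2, 0, -2, 0, 2, -2, 2, 2],
  [-1, -1, -1, -1, -1, 3, -1, -1, -1, -1, -1, -1, -1, -1, -1, -1, -1, -1, -1, -1, -1, -1, -1, -1],
  [-2, -2, 2, 0, -2, 0, -2, -2, 2, -2, 2, 2, 0, -2, 0, -2, 2, -2, 2, 0, 0, -2, 0, 0],
  [-1, 1, -1, 1, -1, 1, 1, 1, -1, -1, 1, -1, -1, 1, 1, -1, -1, 1, -1, -5, 1, -1, 1, 1],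
  [-2, 0, 0, 2, -2, 0, 0, 0, 0, -2, 2, 0, 0, 0, 2, -2, 0, 0, 0, -2, 2, -2, 2, 2],
  [-1, -1, 1, -1, -1, 1, -1, -1, 1, -1, 1, 1, -1, -1, -1, -1, 1, -1, 1, -3, -1, -1, -1, -1],
  [-2, 2, 0, 2, -2, 0, 2, 2, 0, -2, 0, 0, -2, 2, 2, -2, 0, 2, 0, 0, 2, -2, 2, 2],
  [-1, 1, 1, -1, -1, 1, 1, 1, 1, -1, -1, 1, -3, 1, -1, -1, 1, 1, 1, -1, -1, -1, -1, -1],
  [-2, 0, 2, 0, -2, 0, 0, 0, 2, -2, 0, 2, -2, 0, 0, -2, 2, 0, 2, 2, 0, -2, 0, 0],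
  [-1, -1, -1, 1, -1, 1, -1, -1, -1, -1, -5, -1, 1, -1, 1, -1, -1, -1, -1, 1, 1, -1, 1, 1]]

/-- Part of the data. -/
def fiveLow11 : List (List ℤ) := [[0, 0, 0, 0, 0, -4, 0, 0, 0, 0, -4, 0, -4, 0, 0, 0, 0, 0, 0, 4, 0, 0, 0, 0],
  [-1, 1, -1, -1, -1, -1, 1, 1, -1, -1, -3, -1, 1, 1, -1, -1, -1, 1, -1, 1, -1, -1, -1, -1],
  [-2, 0, 0, 0, -2, -2, 0, 0, 0, -2, -2, 0, 2, 0, 0, -2, 0, 0, 0, 4, 0, -2, 0, 0],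
  [-1, -1, 1, 1, -1, 3, -1, -1, 1, -1, -3, 1, -3, -1, 1, -1, 1, -1, 1, -1, 1, -1, 1, 1],
  [-2, -2, 0, 0, -2, -2, -2, -2, 0, -2, 0, 0, 4, -2, 0, -2, 0, -2, 0, 2, 0, -2, 0, 0],
  [-1, 1, 1, 1, -1, 3, 1, 1, 1, -1, 3, 1, 3, 1, 1, -1, 1, 1, 1, 1, 1, -1, 1, 1],
  [0, -2, 0, 0, 0, -4, -2, -2, 0, 0, -2, 0, -2, -2, 0, 0, 0, -2, 0, 2, 0, 0, 0, 0],
  [-1, -1, -1, -1, -1, -1, -1, -1, -1, -1, -1, -1, 3, -1, -1, -1, -1, -1, -1, -1, -1, -1, -1, -1],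
  [-2, 2, -2, 0, -2, 0, 2, 2, -2, -2, 2, -2, 0, 2, 0, -2, -2, 2, -2, 0, 0, -2, 0, 0],
  [-1, 1, -1, -3, -1, 1, 1, 1, -1, -1, 1, -1, -1, 1, -3, -1, -1, 1, -1, -1, -3, -1, -3, -3],
  [-2, 0, 0, -2, -2, 0, 0, 0, 0, -2, 2, 0, 0, 0, -2, -2, 0, 0, 0, 2, -2, -2, -2, -2],
  [-1, -1, 1, -1, -1, -3, -1, -1, 1, -1, 1, 1, 3, -1, -1, -1, 1, -1, 1, -3, -1, -1, -1, -1],
  [0, 0, -2, 0, 0, -2, 0, 0, -2, 0, 2, -2, -4, 0, 0, 0, -2, 0, -2, -2, 0, 0, 0, 0],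
  [-1, 1, 1, -1, -1, -3, 1, 1, 1, -1, -1, 1, 1, 1, -1, -1, 1, 1, 1, -1, -1, -1, -1, -1],
  [-2, 0, -2, 0, -2, 0, 0, 0, -2, -2, 4, -2, 2, 0, 0, -2, -2, 0, -2, -2, 0, -2, 0, 0],
  [-1, -1, -1, 1, -1, -3, -1, -1, -1, -1, 3, -1, -3, -1, 1, -1, -1, -1, -1, 1, 1, -1, 1, 1]]

/-- Part of the data. -/
def fiveLow12 : List (List ℤ) := [[0, 0, 0, 0, 0, 0, 0, 0, 0, 0, 0, 0, -4, 0, 0, 0, 0, 0, 0, 4, 0, 0, 0, 0],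
  [-1, 1, -1, -1, -1, 3, 1, 1, -1, -1, 1, -1, 1, 1, -1, -1, -1, 1, -1, 1, -1, -1, -1, -1],
  [-2, 0, 0, 0, -2, 2, 0, 0, 0, -2, 2, 0, 2, 0, 0, -2, 0, 0, 0, 4, 0, -2, 0, 0],
  [-1, -1, 1, 1, -1, -1, -1, -1, 1, -1, 1, 1, 5, -1, 1, -1, 1, -1, 1, -1, 1, -1, 1, 1],
  [0, 0, -2, 2, 0, 0, 0, 0, -2, 0, 2, -2, -2, 0, 2, 0, -2, 0, -2, 0, 2, 0, 2, 2],
  [-1, 1, 1, 1, -1, -1, 1, 1, 1, -1, -1, 1, 3, 1, 1, -1, 1, 1, 1, 1, 1, -1, 1, 1],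
  [0, -2, 0, 0, 0, 0, -2, -2, 0, 0, 2, 0, -2, -2, 0, 0, 0, -2, 0, 2, 0, 0, 0, 0],
  [-1, -1, -1, -1, -1, 3, -1, -1, -1, -1, 3, -1, 3, -1, -1, -1, -1, -1, -1, -1, -1, -1, -1, -1],
  [0, 0, 0, -2, 0, 2, 0, 0, 0, 0, -4, 0, 2, 0, -2, 0, 0, 0, 0, 2, -2, 0, -2, -2],
  [-1, 1, -1, 1, -1, 1, 1, 1, -1, -1, -3, -1, 3, 1, 1, -1, -1, 1, -1, 3, 1, -1, 1, 1],
  [-2, 0, 0, -2, -2, -4, 0, 0, 0, -2, -2, 0, 0, 0, -2, -2, 0, 0, 0, 2, -2, -2, -2, -2],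
  [-1, -1, 1, -1, -1, 1, -1, -1, 1, -1, -3, 1, -5, -1, -1, -1, 1, -1, 1, -3, -1, -1, -1, -1],
  [0, 0, -2, 0, 0, 2, 0, 0, -2, 0, -2, -2, 4, 0, 0, 0, -2, 0, -2, -2, 0, 0, 0, 0],
  [-1, 1, 1, -1, -1, 1, 1, 1, 1, -1, 3, 1, 1, 1, -1, -1, 1, 1, 1, -1, -1, -1, -1, -1],
  [-2, 0, -2, 0, -2, -4, 0, 0, -2, -2, 0, -2, 2, 0, 0, -2, -2, 0, -2, -2, 0, -2, 0, 0],
  [-1, -1, -1, 1, -1, 1, -1, -1, -1, -1, -1, -1, 5, -1, 1, -1, -1, -1, -1, 1, 1, -1, 1, 1]]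

/-- Part of the data. -/
def fiveLow13 : List (List ℤ) := [[0, 0, 0, 0, 0, -4, 0, 0, 0, 0, 0, 0, 0, 0, 0, 0, 0, 0, 0, 4, 0, 0, 0, 0],
  [-1, 1, -1, -1, -1, -1, 1, 1, -1, -1, 1, -1, 5, 1, -1, -1, -1, 1, -1, 1, -1, -1, -1, -1],
  [-2, 0, 0, 0, -2, -2, 0, 0, 0, -2, 2, 0, -2, 0, 0, -2, 0, 0, 0, -4, 0, -2, 0, 0],
  [-1, -1, 1, 1, -1, 3, -1, -1, 1, -1, 1, 1, 1, -1, 1, -1, 1, -1, 1, -1, 1, -1, 1, 1],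
  [-2, -2, 0, 0, -2, -2, -2, -2, 0, -2, -4, 0, 0, -2, 0, -2, 0, -2, 0, 2, 0, -2, 0, 0],
  [-1, 1, 1, 1, -1, 3, 1, 1, 1, -1, -1, 1, -1, 1, 1, -1, 1, 1, 1, 1, 1, -1, 1, 1],
  [0, -2, 0, 0, 0, -4, -2, -2, 0, 0, 2, 0, 2, -2, 0, 0, 0, -2, 0, 2, 0, 0, 0, 0],
  [-1, -1, -1, -1, -1, -1, -1, -1, -1, -1, -5, -1, -1, -1, -1, -1, -1, -1, -1, -1, -1, -1, -1, -1],
  [0, 0, 0, -2, 0, -2, 0, 0, 0, 0, 4, 0, -2, 0, -2, 0, 0, 0, 0, 2, -2, 0, -2, -2],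
  [-1, 1, -1, 1, -1, -3, 1, 1, -1, -1, -3, -1, -1, 1, 1, -1, -1, 1, -1, -5, 1, -1, 1, 1],
  [-2, 0, 0, -2, -2, 0, 0, 0, 0, -2, -2, 0, -4, 0, -2, -2, 0, 0, 0, 2, -2, -2, -2, -2],
  [-1, -1, 1, -1, -1, -3, -1, -1, 1, -1, -3, 1, -1, -1, -1, -1, 1, -1, 1, -3, -1, -1, -1, -1],
  [-2, -2, 0, -2, -2, 0, -2, -2, 0, -2, 0, 0, -2, -2, -2, -2, 0, -2, 0, 0, -2, -2, -2, -2],
  [-3, -1, -1, 1, -3, -1, -1, -1, -1, -3, 1, -1, -1, -1, 1, -3, -1, -1, -1, 1, 1, -3, 1, 1],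
  [-2, 0, -2, 0, -2, 0, 0, 0, -2, -2, 0, -2, -2, 0, 0, -2, -2, 0, -2, -2, 0, -2, 0, 0],
  [-1, -1, -1, 1, -1, 5, -1, -1, -1, -1, -1, -1, 1, -1, 1, -1, -1, -1, -1, 1, 1, -1, 1, 1]]

/-- Part of the data. -/
def fiveLow14 : List (List ℤ) := [[0, 0, 0, 0, 0, 0, 0, 0, 0, 0, -4, 0, 4, 0, 0, 0, 0, 0, 0, 0, 0, 0, 0, 0],
  [-1, 1, -1, -1, -1, -5, 1, 1, -1, -1, -3, -1, 1, 1, -1, -1, -1, 1, -1, -3, -1, -1, -1, -1],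
  [-2, 0, 0, 0, -2, -6, 0, 0, 0, -2, -2, 0, 2, 0, 0, -2, 0, 0, 0, 0, 0, -2, 0, 0],
  [-1, -1, 1, 1, -1, -1, -1, -1, 1, -1, -3, 1, -3, -1, 1, -1, 1, -1, 1, -5, 1, -1, 1, 1],
  [-2, -2, 0, 0, -2, 2, -2, -2, 0, -2, 0, 0, -4, -2, 0, -2, 0, -2, 0, -2, 0, -2, 0, 0],
  [-1, 1, 1, 1, -1, -1, 1, 1, 1, -1, 3, 1, 3, 1, 1, -1, 1, 1, 1, -3, 1, -1, 1, 1],
  [-2, 0, -2, -2, -2, -2, 0, 0, -2, -2, 0, -2, 0, 0, -2, -2, -2, 0, -2, 0, -2, -2, -2, -2],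
  [-1, -1, -1, -1, -1, 3, -1, -1, -1, -1, -1, -1, 3, -1, -1, -1, -1, -1, -1, 3, -1, -1, -1, -1],
  [0, 0, 0, -2, 0, 2, 0, 0, 0, 0, 0, 0, 2, 0, -2, 0, 0, 0, 0, -2, -2, 0, -2, -2],
  [-1, 1, -1, 1, -1, 1, 1, 1, -1, -1, 1, -1, 3, 1, 1, -1, -1, 1, -1, -1, 1, -1, 1, 1],
  [-2, 0, 0, -2, -2, -4, 0, 0, 0, -2, 2, 0, 0, 0, -2, -2, 0, 0, 0, -2, -2, -2, -2, -2],
  [-1, -1, 1, -1, -1, 1, -1, -1, 1, -1, 1, 1, 3, -1, -1, -1, 1, -1, 1, 1, -1, -1, -1, -1],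
  [0, 0, -2, 0, 0, 2, 0, 0, -2, 0, 2, -2, -4, 0, 0, 0, -2, 0, -2, 2, 0, 0, 0, 0],
  [-1, 1, 1, -1, -1, 1, 1, 1, 1, -1, -1, 1, 1, 1, -1, -1, 1, 1, 1, 3, -1, -1, -1, -1],
  [0, -2, 0, 2, 0, -2, -2, -2, 0, 0, 2, 0, 0, -2, 2, 0, 0, -2, 0, 0, 2, 0, 2, 2],
  [-1, -1, -1, 1, -1, 1, -1, -1, -1, -1, -5, -1, -3, -1, 1, -1, -1, -1, -1, -3, 1, -1, 1, 1]]

/-- Part of the data. -/
def fiveLow15 : List (List ℤ) := [[0, 0, 0, 0, 0, -4, 0, 0, 0, 0, 4, 0, 0, 0, 0, 0, 0, 0, 0, 0, 0, 0, 0, 0],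
  [-1, 1, -1, -1, -1, -1, 1, 1, -1, -1, -3, -1, -3, 1, -1, -1, -1, 1, -1, -3, -1, -1, -1, -1],
  [-2, 0, 0, 0, -2, -2, 0, 0, 0, -2, -2, 0, -2, 0, 0, -2, 0, 0, 0, 0, 0, -2, 0, 0],
  [-1, -1, 1, 1, -1, 3, -1, -1, 1, -1, -3, 1, 1, -1, 1, -1, 1, -1, 1, 3, 1, -1, 1, 1],
  [-2, -2, 0, 0, -2, -2, -2, -2, 0, -2, 0, 0, 0, -2, 0, -2, 0, -2, 0, -2, 0, -2, 0, 0],
  [-1, 1, 1, 1, -1, 3, 1, 1, 1, -1, 3, 1, -1, 1, 1, -1, 1, 1, 1, -3, 1, -1, 1, 1],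
  [0, -2, 0, 0, 0, 4, -2, -2, 0, 0, -2, 0, 2, -2, 0, 0, 0, -2, 0, -2, 0, 0, 0, 0],
  [-1, -1, -1, -1, -1, -1, -1, -1, -1, -1, -1, -1, -1, -1, -1, -1, -1, -1, -1, -5, -1, -1, -1, -1],
  [-2, -2, -2, 0, -2, 0, -2, -2, -2, -2, -2, -2, 0, -2, 0, -2, -2, -2, -2, 0, 0, -2, 0, 0],
  [-1, 1, -1, 1, -1, 5, 1, 1, -1, -1, 1, -1, -1, 1, 1, -1, -1, 1, -1, -1, 1, -1, 1, 1],
  [-2, 0, 0, -2, -2, 0, 0, 0, 0, -2, 2, 0, -4, 0, -2, -2, 0, 0, 0, -2, -2, -2, -2, -2],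
  [-1, -1, 1, -1, -1, 5, -1, -1, 1, -1, 1, 1, -1, -1, -1, -1, 1, -1, 1, 1, -1, -1, -1, -1],
  [0, 0, -2, 0, 0, -2, 0, 0, -2, 0, 2, -2, 0, 0, 0, 0, -2, 0, -2, 2, 0, 0, 0, 0],
  [-1, 1, 1, -1, -1, -3, 1, 1, 1, -1, -1, 1, -3, 1, -1, -1, 1, 1, 1, -5, -1, -1, -1, -1],
  [-2, 0, -2, 0, -2, 0, 0, 0, -2, -2, -4, -2, -2, 0, 0, -2, -2, 0, -2, 2, 0, -2, 0, 0],
  [-1, -1, -1, 1, -1, -3, -1, -1, -1, -1, -5, -1, 1, -1, 1, -1, -1, -1, -1, -3, 1, -1, 1, 1]]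

/-- Part of the data. -/
def fiveMono0 : List (ℕ × ℕ × List (List ℤ)) := [(547918302886465726241216886382570646, 0, [[3, -4, 3, 0, -2, 1, -1, 2], [2, -2, 2, -1, 0, -1, 2, 1], [0, 1, 0, -1, 2, -4, 7, -1], [0, 1, -1, 0, 1, -1, 2, 0], [0, 0, 0, 0, 2, -4, 7, -1], [0, 0, 0, 0, 1, -1, 3, -1], [0, 0, 0, 0, 0, 1, -1, 0], [0, 0, 0, 0, 0, 2, -4, 1]]),
  (715418401098060747568313340813053205, 0, [[1, -1, 2, -1, 0, -2, 5, -1], [0, 1, 0, 0, 0, -1, 3, -1], [0, 1, -1, 1, 0, 0, 1, -1], [0, 1, -1, 0, 1, -1, 3, -1], [0, 0, 0, 0, 2, -3, 5, -1], [0, 0, 0, 0, 1, 0, -1, 1], [0, 0, 0, 0, 0, 1, -2, 1], [0, 0, 0, 0, 0, 0, 0, 1]]),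
  (984818244535754528103549039458486304, 0, [[1, 0, 0, 0, 0, 0, 0, 0], [0, 1, 0, 0, 0, 0, 0, 0], [0, 0, 1, 0, 0, 0, 0, 0], [0, 0, 0, 1, 0, 0, 0, 0], [0, 0, 0, 0, 1, 0, 0, 0], [0, 0, 0, 0, 0, 1, 0, 0], [0, 0, 0, 0, 0, 0, 1, 0], [0, 0, 0, 0, 0, 0, 0, 1]]),
  (984818244535754528103549039458486304, 14176296, [[1, 0, 0, -1, -1, 3, -4, 1], [0, 1, 0, -2, 1, 0, 0, 0], [0, 0, 1, -2, 1, 0, -1, 1], [0, 0, 0, -1, 0, 2, -4, 1], [0, 0, 0, 0, -1, 4, -8, 2], [0, 0, 0, 0, 0, 1, -4, 1], [0, 0, 0, 0, 0, 0, -1, 0], [0, 0, 0, 0, 0, 0, 0, -1]])]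

/-- Part of the data. -/
def fiveMono1 : List (ℕ × ℕ × List (List ℤ)) := [(984818244535754528103549039458486304, 15921883, [[-1, 0, 1, -1, 3, -5, 7, -1], [0, -1, 2, -2, 3, -5, 7, 0], [0, 0, 1, -2, 3, -4, 5, 0], [0, 0, 0, -1, 3, -4, 5, 0], [0, 0, 0, 0, 1, 0, -2, 1], [0, 0, 0, 0, 0, 1, -4, 2], [0, 0, 0, 0, 0, 0, -1, 1], [0, 0, 0, 0, 0, 0, 0, 1]]),
  (984818244535754528103549039458486304, 2794227, [[-1, 0, 1, 0, -1, 2, -4, 1], [0, -1, 2, 0, -2, 3, -5, 1], [0, 0, 1, 0, -2, 4, -6, 1], [0, 0, 0, 1, -3, 6, -9, 1], [0, 0, 0, 0, -1, 4, -6, 1], [0, 0, 0, 0, 0, 1, 0, -1], [0, 0, 0, 0, 0, 0, 1, -1], [0, 0, 0, 0, 0, 0, 0, -1]]),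
  (984818244535754528103549039458486304, 668866, [[1, -3, 3, 0, 0, -3, 5, 0], [0, -1, 2, 0, 0, -3, 5, -1], [0, 0, 1, 0, 0, -3, 5, -1], [0, 0, 0, 1, 0, -2, 3, -1], [0, 0, 0, 0, 1, -4, 6, -1], [0, 0, 0, 0, 0, -1, 0, 0], [0, 0, 0, 0, 0, 0, -1, 0], [0, 0, 0, 0, 0, 0, 0, -1]]),
  (984818244535754528103549039458486304, 13788394, [[1, -3, 3, -1, -1, 0, 0, 1], [0, -1, 2, -2, 1, -3, 5, 0], [0, 0, 1, -2, 1, -3, 6, -1], [0, 0, 0, -1, 0, 0, 1, 0], [0, 0, 0, 0, -1, 0, 2, -1], [0, 0, 0, 0, 0, -1, 4, -1], [0, 0, 0, 0, 0, 0, 1, 0], [0, 0, 0, 0, 0, 0, 0, 1]])]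

/-- Part of the data. -/
def fiveMono2 : List (ℕ × ℕ × List (List ℤ)) := [(984818244535754528103549039458486304, 16303641, [[-1, 3, -2, -1, 3, -5, 8, -2], [0, 1, 0, -2, 3, -6, 10, -2], [0, 0, 1, -2, 3, -7, 12, -2], [0, 0, 0, -1, 3, -6, 10, -2], [0, 0, 0, 0, 1, -4, 8, -2], [0, 0, 0, 0, 0, -1, 4, -2], [0, 0, 0, 0, 0, 0, 1, -1], [0, 0, 0, 0, 0, 0, 0, -1]]),
  (984818244535754528103549039458486304, 2135601, [[-1, 3, -2, 0, -1, 2, -2, -1], [0, 1, 0, 0, -2, 2, -2, 0], [0, 0, 1, 0, -2, 1, -1, 0], [0, 0, 0, 1, -3, 4, -6, 1], [0, 0, 0, 0, -1, 0, 0, 0], [0, 0, 0, 0, 0, -1, 0, 1], [0, 0, 0, 0, 0, 0, -1, 1], [0, 0, 0, 0, 0, 0, 0, 1]]),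
  (984818244535754528103549039458486304, 14641614, [[1, -3, 2, 0, 1, -2, 2, 1], [0, -1, 0, 0, 2, -2, 2, 0], [0, 0, -1, 0, 2, -1, 1, 0], [0, 0, 0, -1, 3, -4, 6, -1], [0, 0, 0, 0, 1, 0, 0, 0], [0, 0, 0, 0, 0, 1, 0, -1], [0, 0, 0, 0, 0, 0, 1, -1], [0, 0, 0, 0, 0, 0, 0, -1]]),
  (984818244535754528103549039458486304, 473574, [[1, -3, 2, 1, -3, 5, -8, 2], [0, -1, 0, 2, -3, 6, -10, 2], [0, 0, -1, 2, -3, 7, -12, 2], [0, 0, 0, 1, -3, 6, -10, 2], [0, 0, 0, 0, -1, 4, -8, 2], [0, 0, 0, 0, 0, 1, -4, 2], [0, 0, 0, 0, 0, 0, -1, 1], [0, 0, 0, 0, 0, 0, 0, 1]])]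

/-- Part of the data. -/
def fiveMono3 : List (ℕ × ℕ × List (List ℤ)) := [(984818244535754528103549039458486304, 2988821, [[-1, 3, -3, 1, 1, 0, 0, -1], [0, 1, -2, 2, -1, 3, -5, 0], [0, 0, -1, 2, -1, 3, -6, 1], [0, 0, 0, 1, 0, 0, -1, 0], [0, 0, 0, 0, 1, 0, -2, 1], [0, 0, 0, 0, 0, 1, -4, 1], [0, 0, 0, 0, 0, 0, -1, 0], [0, 0, 0, 0, 0, 0, 0, -1]]),
  (984818244535754528103549039458486304, 16108349, [[-1, 3, -3, 0, 0, 3, -5, 0], [0, 1, -2, 0, 0, 3, -5, 1], [0, 0, -1, 0, 0, 3, -5, 1], [0, 0, 0, -1, 0, 2, -3, 1], [0, 0, 0, 0, -1, 4, -6, 1], [0, 0, 0, 0, 0, 1, 0, 0], [0, 0, 0, 0, 0, 0, 1, 0], [0, 0, 0, 0, 0, 0, 0, 1]]),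
  (984818244535754528103549039458486304, 13982988, [[1, 0, -1, 0, 1, -2, 4, -1], [0, 1, -2, 0, 2, -3, 5, -1], [0, 0, -1, 0, 2, -4, 6, -1], [0, 0, 0, -1, 3, -6, 9, -1], [0, 0, 0, 0, 1, -4, 6, -1], [0, 0, 0, 0, 0, -1, 0, 1], [0, 0, 0, 0, 0, 0, -1, 1], [0, 0, 0, 0, 0, 0, 0, 1]]),
  (984818244535754528103549039458486304, 855332, [[1, 0, -1, 1, -3, 5, -7, 1], [0, 1, -2, 2, -3, 5, -7, 0], [0, 0, -1, 2, -3, 4, -5, 0], [0, 0, 0, 1, -3, 4, -5, 0], [0, 0, 0, 0, -1, 0, 2, -1], [0, 0, 0, 0, 0, -1, 4, -2], [0, 0, 0, 0, 0, 0, 1, -1], [0, 0, 0, 0, 0, 0, 0, -1]])]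

/-- Part of the data. -/
def fiveMono4 : List (ℕ × ℕ × List (List ℤ)) := [(984818244535754528103549039458486304, 2600919, [[-1, 0, 0, 1, 1, -3, 4, -1], [0, -1, 0, 2, -1, 0, 0, 0], [0, 0, -1, 2, -1, 0, 1, -1], [0, 0, 0, 1, 0, -2, 4, -1], [0, 0, 0, 0, 1, -4, 8, -2], [0, 0, 0, 0, 0, -1, 4, -1], [0, 0, 0, 0, 0, 0, 1, 0], [0, 0, 0, 0, 0, 0, 0, 1]]),
  (984818244535754528103549039458486304, 16777215, [[-1, 0, 0, 0, 0, 0, 0, 0], [0, -1, 0, 0, 0, 0, 0, 0], [0, 0, -1, 0, 0, 0, 0, 0], [0, 0, 0, -1, 0, 0, 0, 0], [0, 0, 0, 0, -1, 0, 0, 0], [0, 0, 0, 0, 0, -1, 0, 0], [0, 0, 0, 0, 0, 0, -1, 0], [0, 0, 0, 0, 0, 0, 0, -1]])]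

/-- Part of the data. -/
def fiveMat0 : List (List (List ℤ) × List (List ℤ)) := [([[-2, -2, 0, 2, -2, 0, -2, 2, 0, -2, 0, 0, -2, 2, 2, 2, 0, -2, 0, 0, 2, 2, 2, -2], [-2, -2, 0, 2, 2, 0, 2, -2, 0, 2, 0, 0, -2, -2, -2, 2, 0, 2, 0, 0, -2, 2, 2, -2], [-2, -2, 0, -2, 2, 0, -2, -2, 0, 2, 0, 0, 2, 2, 2, -2, 0, -2, 0, 0, -2, 2, 2, 2], [0, 0, 2, 0, 0, 2, 0, 0, 2, 0, 2, 2, 0, 0, 0, 0, 2, 0, -6, 2, 0, 0, 0, 0], [-2, 2, 0, 2, -2, 0, 2, -2, 0, 2, 0, 0, -2, -2, 2, -2, 0, -2, 0, 0, 2, 2, -2, 2], [0, 0, -2, 0, 0, -2, 0, 0, -2, 0, -2, -2, 0, 0, 0, 0, -2, 0, -2, 6, 0, 0, 0, 0], [2, 2, 0, -2, 2, 0, -2, 2, 0, 2, 0, 0, -2, -2, -2, -2, 0, -2, 0, 0, 2, 2, 2, -2], [2, -2, 0, -2, 2, 0, 2, -2, 0, -2, 0, 0, -2, 2, -2, 2, 0, -2, 0, 0, 2, 2, -2, 2], [2, -2, 0, 2, 2, 0, -2, -2, 0, -2, 0,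 0, 2, -2, 2, -2, 0, 2, 0, 0, 2, 2, -2, -2], [-2, 2, 0, -2, 2, 0, -2, -2, 0, -2, 0, 0, -2, -2, 2, 2, 0, 2, 0, 0, 2, -2, 2, 2], [2, 2, 0, 2, 2, 0, 2, 2, 0, 2, 0, 0, 2, 2, 2, 2, 0, 2, 0, 0, 2, 2, 2, 2], [2, -2, 0, -2, -2, 0, 2, -2, 0, 2, 0, 0, 2, -2, 2, 2, 0, -2, 0, 0, 2, -2, 2, -2], [0, 0, 2, 0, 0, -6, 0, 0, 2, 0, 2, 2, 0, 0, 0, 0, 2, 0, 2, 2, 0, 0, 0, 0], [2, -2, 0, -2, -2, 0, -2, 2, 0, 2, 0, 0, -2, -2, 2, 2, 0, 2, 0, 0, -2, 2, -2, 2], [0, 0, 2, 0, 0, 2, 0, 0, 2, 0, 2, -6, 0, 0, 0, 0, 2, 0, 2, 2, 0, 0, 0, 0], [2, -2, 0, 2, -2, 0, -2, -2, 0, 2, 0, 0, -2, 2, -2, -2, 0, 2, 0, 0, 2, -2, 2, 2], [2, 2, 0, 2, -2, 0, -2, -2, 0, -2, 0, 0, 2, -2, -2, 2, 0, -2, 0, 0, -2, 2, 2, 2], [2, 2, 0, 2, 2, 0, -2, -2, 0, 2, 0, 0, -2, 2, 2, 2, 0, -2, 0, 0, -2, -2, -2, -2], [-2, -2,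 0, 2, 2, 0, -2, 2, 0, 2, 0, 0, 2, -2, -2, 2, 0, -2, 0, 0, 2, -2, -2, 2], [0, 0, -2, 0, 0, -2, 0, 0, -2, 0, 6, -2, 0, 0, 0, 0, -2, 0, -2, -2, 0, 0, 0, 0], [0, 0, 2, 0, 0, 2, 0, 0, -6, 0, 2, 2, 0, 0, 0, 0, 2, 0, 2, 2, 0, 0, 0, 0], [2, -2, 0, 2, 2, 0, 2, 2, 0, -2, 0, 0, -2, -2, 2, -2, 0, -2, 0, 0, -2, -2, 2, 2], [0, 0, -6, 0, 0, 2, 0, 0, 2, 0, 2, 2, 0, 0, 0, 0, 2, 0, 2, 2, 0, 0, 0, 0], [0, 0, 2, 0, 0, 2, 0, 0, 2, 0, 2, 2, 0, 0, 0, 0, -6, 0, 2, 2, 0, 0, 0, 0]], [[0, 0, -1, 2, -3, 7, -12, 2], [1, -2, 1, 2, -4, 7, -11, 2], [1, -2, 2, 1, -4, 6, -9, 2], [1, -2, 2, 1, -3, 4, -7, 2], [-1, 1, 0, 1, -2, 3, -5, 1], [-2, 2, 0, 0, 1, -2, 3, -1], [-1, 1, 0, 0, 1, -2, 3, -1], [0, 0, 0, 1, 0, -1, 2, -1]])]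

/-- Part of the data. -/
def fiveElt0 : List (ℕ) := [984818244535754528103549039458486304,
  547918302886465726241216886382570646,
  715418401098060747568313340813053205,
  650375947800324245520859440482492870,
  768717491548612561466766171969969447,
  374432713663047323300256054395962947,
  97744221219258020567925074437872324,
  834852634397004067148496234098412085,
  5543915843487959132221276158220336,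
  668072910838506645278170966131291872,
  608177416989830429821311910920537579,
  984655419152473504157898356173148673,
  468260391669033593940880190131492046,
  155097813763039628742165073914118377,
  292642618312312112131451459030532387,
  548162057366407917398378859279202372,
  932751732775661903798666857964869762,
  884886440457761373934501603134905620,
  97500474683166961788137929699769782,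
  715336996174542749674749445456209544,
  59246605358877150298026497458538519,
  356202428341075962214109321226456753,
  271299559047513284046101929323319663,
  5908740594291316080511677531196129,
  467367789819244042579591130176901606,
  651268585233636057212012644805002606,
  769083125770606682654135941750588521,
  271948296845689403551929000641615307,
  154732192069145180227383739425620551,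
  185920193279062474638951735573360333,
  374311101948388085030263850596490482,
  932386945180286928284289969910689188]

/-- Part of the data. -/
def fiveElt1 : List (ℕ) := [884075233634201949833851752914849320,
  355837890354504005503255598077419157,
  984290611106607514205501867415417872,
  835217167714704693911834025713411345,
  668031991851144207307642794779676727,
  607528643608132049985620695234322639,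
  59287507641302221272660756194908672,
  272232167980926172758013628360597998,
  292683554339975376818537946071752265,
  154935288663898818623456081070392626,
  185758114097234753456177721097853014,
  769042209070040289016584640883065059,
  548526834365547880788134818705620674,
  716148207666973503722915227210304180,
  97662564461229695095532872803039373,
  884521165966190065517040712103217809,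
  667910092077721000765302877672003585,
  6030619022919162932895142237222423,
  467327769335887497549539150652327375,
  58759895556950567064570036553487088,
  607568656891126046581717324514678118,
  374107986026537575584656322778021991,
  650984721298761836439883367330238667,
  186366692433072600206428469470443938,
  834771220933634688528008741126610600,
  932305241565502910608564952226315341,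
  356567711372498651358493809873102388,
  292521019125752546534047690523181170]

/-- Part of the data. -/
def fiveTree0 : List (ℕ × ℕ) := [(0, 0),
  (1, 0),
  (0, 1),
  (1, 1),
  (0, 2),
  (1, 2),
  (0, 3),
  (1, 3),
  (0, 4),
  (1, 4),
  (0, 5),
  (0, 6),
  (1, 6),
  (0, 7),
  (1, 7),
  (0, 8),
  (1, 8),
  (0, 9),
  (0, 10),
  (1, 10),
  (0, 12),
  (1, 13),
  (0, 14),
  (1, 14),
  (0, 15),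
  (1, 15),
  (0, 16),
  (0, 17),
  (1, 17),
  (0, 19),
  (0, 23),
  (1, 23)]

/-- Part of the data. -/
def fiveTree1 : List (ℕ × ℕ) := [(0, 24),
  (1, 24),
  (0, 25),
  (0, 26),
  (1, 26),
  (0, 28),
  (0, 31),
  (1, 31),
  (0, 32),
  (1, 32),
  (0, 33),
  (0, 34),
  (1, 34),
  (0, 36),
  (0, 39),
  (1, 39),
  (0, 40),
  (1, 40),
  (0, 41),
  (0, 42),
  (1, 42),
  (0, 44),
  (1, 47),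
  (1, 48),
  (0, 49),
  (0, 50),
  (0, 56)]

/-- Part of the data. -/
def fiveReach0 : List (ℕ × List ℕ) := [(1, [1, 18, 0, 18]),
  (2, [0, 0, 18]),
  (4, [4, 18, 1, 18]),
  (14, [7, 18, 0, 1, 18]),
  (18, [0, 1, 18]),
  (25, [18, 4, 18]),
  (27, [1, 18, 18]),
  (33, [18, 18]),
  (48, [18, 5, 18, 0, 18]),
  (51, [9, 18, 18]),
  (52, [6, 18, 1, 18]),
  (53, [5, 18, 18]),
  (59, [7, 0, 18, 18]),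
  (62, [0, 18, 6, 18]),
  (63, [7, 18, 18]),
  (70, [0, 18])]

/-- Part of the data. -/
def fiveReach1 : List (ℕ × List ℕ) := [(71, [6, 18, 18]),
  (73, [4, 18, 0, 0, 18]),
  (74, [9, 18, 6, 18]),
  (78, [1, 18, 3, 0, 18]),
  (84, [18, 1, 18]),
  (90, [18, 6, 18]),
  (91, [5, 18, 0, 18]),
  (100, [7, 18, 1, 18]),
  (101, [18, 0, 0, 18]),
  (103, [9, 0, 18, 18]),
  (104, [6, 18]),
  (106, [0, 18, 1, 18]),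
  (113, [18, 18, 1, 18]),
  (114, [4, 0, 0, 18]),
  (115, [4, 18, 0, 18]),
  (117, [8, 18, 0, 18])]

/-- Part of the data. -/
def fiveReach2 : List (ℕ × List ℕ) := [(122, [4, 18, 6, 18]),
  (124, [1, 1, 18]),
  (126, [0, 18, 8, 18]),
  (128, []),
  (132, [18, 3, 0, 18]),
  (134, [3, 0, 18]),
  (135, [18, 4, 0, 18]),
  (140, [1, 0, 18]),
  (141, [18, 4, 0, 0, 18]),
  (142, [18, 0, 1, 18]),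
  (147, [0, 18, 4, 18]),
  (149, [0, 18, 18]),
  (151, [9, 18, 0, 0, 18]),
  (157, [9, 18, 0, 18]),
  (159, [8, 0, 18, 18]),
  (166, [1, 18])]

/-- Part of the data. -/
def fiveReach3 : List (ℕ × List ℕ) := [(168, [18]),
  (172, [6, 1, 0, 18]),
  (176, [18, 18, 4, 0, 18]),
  (180, [9, 18, 1, 18]),
  (184, [8, 18]),
  (185, [4, 0, 18, 18]),
  (190, [8, 18, 0, 1, 18]),
  (202, [18, 8, 18]),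
  (203, [18, 6, 18, 18]),
  (206, [18, 1, 0, 0, 18]),
  (212, [5, 18, 1, 18]),
  (217, [6, 18, 0, 18]),
  (218, [8, 18, 6, 18]),
  (220, [3, 1, 0, 18]),
  (221, [4, 18, 18]),
  (225, [0, 18, 0, 18])]

/-- Part of the data. -/
def fiveReach4 : List (ℕ × List ℕ) := [(226, [1, 0, 0, 18]),
  (227, [18, 1, 18, 18]),
  (228, [18, 18, 18]),
  (230, [4, 0, 18]),
  (234, [7, 18, 6, 18]),
  (239, [0, 0, 18, 18]),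
  (248, [4, 18]),
  (250, [6, 18, 6, 18]),
  (253, [3, 0, 18, 18]),
  (254, [4, 18, 0, 1, 18]),
  (255, [18, 0, 18])]

/-- The data. -/
def fiveData : LocalData where
  p := 5
  sigma := 607528643608132049985620695234322639
  cyc := [0, 1, 2, 3, 0, 4, 1, 1, 2, 0, 5, 2, 6, 1, 3, 0, 2, 1, 2, 7, 3, 0, 3, 3]
  reps := [0, 1, 2, 3, 5, 10, 12, 19]
  basis := [[1, 3, 1, 1, 5, 3, -1, -1], [0, 2, 2, 2, 4, 4, 0, 2], [0, 0, 2, 2, 4, 6, 2, 0], [0, 0, 0, 2, 6, 4, 2, 2], [0, 0, 0, 0, 4, 8, 4, 0], [0, 0, 0, 0, 0, 4, 8, 4], [0, 0, 0, 0, 0, 0, 4, 4], [0, 0, 0, 0, 0, 0, 0, 8]]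
  binv := [[8, -12, 8, 0, -6, 6, -8, 5], [0, 4, -4, 0, 0, 2, -2, -1], [0, 0, 4, -4, 2, -6, 10, -1], [0, 0, 0, 4, -6, 8, -12, 1], [0, 0, 0, 0, 2, -4, 6, -1], [0, 0, 0, 0, 0, 2, -4, 1], [0, 0, 0, 0, 0, 0, 2, -1], [0, 0, 0, 0, 0, 0, 0, 1]]
  bden := 8
  oddVec := [-3, 4, -3, 0, 2, -2, 2, -1]
  codes := [0, 14176296, 15921883, 2794227, 668866, 13788394, 16303641, 2135601, 14641614, 473574, 2988821, 16108349, 13982988, 855332, 2600919, 16777215]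
  patVec := [(0, [0, 0, 0, 0, 0, 0, 0, 0]), (216, [0, 0, 0, 1, -1, 1, -1, 0]), (75, [2, -2, 1, 1, -3, 4, -5, 1]), (147, [2, -2, 1, 0, -1, 1, -1, 1]), (226, [0, 1, -1, 0, 0, 1, -1, 0]), (58, [0, 1, -1, 1, -1, 2, -3, 0]), (169, [2, -3, 2, 1, -3, 4, -6, 2]), (113, [2, -3, 2, 0, -1, 1, -1, 1]), (142, [0, 1, 0, 0, -1, 1, -1, 0]), (86, [0, 1, 0, -1, 1, -2, 4, -1]), (197, [2, -3, 3, -1, -1, 0, 1, 1]), (29, [2, -3, 3, 0, -2, 1, -1, 1]), (108, [0, 0, 1, 0, -1, 1, -1, 0]), (180, [0, 0, 1, -1, 1, -2, 3, 0]), (39, [2, -2, 2, -1, -1, 1, -1, 1]), (255, [2, -2, 2, 0, -2, 2, -2, 1])]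
  pairVec := [[8, -12, 8, 0, -6, 6, -8, 5], [4, -4, 2, 0, -3, 4, -5, 2], [4, -6, 6, -2, -2, 0, 1, 2], [4, -6, 4, 2, -6, 7, -10, 3], [4, -6, 4, 0, -2, 1, -1, 2], [4, -6, 4, 0, -3, 4, -6, 3], [4, -6, 4, 0, -3, 3, -3, 2], [4, -6, 4, 0, -3, 3, -4, 3]]
  lows := fiveLow0 ++ fiveLow1 ++ fiveLow2 ++ fiveLow3 ++ fiveLow4 ++ fiveLow5 ++ fiveLow6 ++ fiveLow7 ++ fiveLow8 ++ fiveLow9 ++ fiveLow10 ++ fiveLow11 ++ fiveLow12 ++ fiveLow13 ++ fiveLow14 ++ fiveLow15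
  monos := fiveMono0 ++ fiveMono1 ++ fiveMono2 ++ fiveMono3 ++ fiveMono4
  mats := fiveMat0
  elts := fiveElt0 ++ fiveElt1
  eltTree := fiveTree0 ++ fiveTree1
  numBlocks := 10
  blocks := [86844066927987165851008329650360804240088584282539009596263319737788532785155, 2261564512515798613373018748534525121116228054263915861433624810306697953285, 14474894579882013130844444926458367414873256566814048487800644809122476457985, 1836856991282974456745544397424016357231445085320596470922275536764945, 28038772365023138271239473962372419988548392094410694541193179394228225, 328574350005971982283465809103587163944882763096311230621584648568835, 452340455779290991039223765419806943813793033140081281797819179616740573185, 72370057930118355511783049203794724458078885771899917139277009858388169850885,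 883477880113711369585276908083677300259572577970143754696094101431926785, 30757273703662223681174680780783632389734312360953422015647845718981647269905]
  blockPerms := [[1, 3, 2, 0, 4, 5, 7, 8, 6, 9], [0, 3, 1, 2, 4, 6, 7, 5, 8, 9], [0, 1, 2, 3, 4, 5, 6, 7, 8, 9], [5, 6, 7, 8, 9, 0, 1, 2, 3, 4], [7, 8, 5, 6, 9, 2, 3, 0, 1, 4], [2, 3, 0, 1, 4, 7, 8, 5, 6, 9], [6, 5, 8, 7, 9, 1, 0, 3, 2, 4], [1, 0, 3, 2, 4, 6, 5, 8, 7, 9], [3, 2, 1, 0, 4, 8, 7, 6, 5, 9], [8, 7, 6, 5, 9, 3, 2, 1, 0, 4], [8, 7, 6, 5, 9, 3, 2, 1, 0, 4], [3, 2, 1, 0, 4, 8, 7, 6, 5, 9], [1, 0, 3, 2, 4, 6, 5, 8, 7, 9], [6, 5, 8, 7, 9, 1, 0, 3, 2, 4], [2, 3, 0, 1, 4, 7, 8, 5, 6, 9], [7, 8, 5, 6, 9, 2, 3, 0, 1, 4], [5, 6, 7, 8, 9, 0, 1, 2, 3, 4], [0, 1, 2, 3, 4, 5, 6, 7, 8, 9], [0, 1, 4, 2, 3, 9, 7,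 5, 6, 8]]
  e0 := 128
  reach := fiveReach0 ++ fiveReach1 ++ fiveReach2 ++ fiveReach3 ++ fiveReach4

/-- The generators on the blocks in the wreath product. -/
def fiveSplit : List (ℕ × List (ℕ × ℕ) × List (ℕ × ℕ)) := [(0, [(0, 1), (1, 3)], [(1, 2), (2, 3)]), (0, [(1, 3), (2, 3)], [(0, 1), (1, 2)]), (0, [], []), (1, [], []), (1, [(0, 2), (1, 3)], [(0, 2), (1, 3)]), (0, [(0, 2), (1, 3)], [(0, 2), (1, 3)]), (1, [(0, 1), (2, 3)], [(0, 1), (2, 3)]), (0, [(0, 1), (2, 3)], [(0, 1), (2, 3)]), (0, [(0, 3), (1, 2)], [(0, 3), (1, 2)]), (1, [(0, 3), (1, 2)], [(0, 3), (1, 2)]), (1, [(0, 3), (1, 2)], [(0, 3), (1, 2)]), (0, [(0, 3), (1, 2)], [(0, 3), (1, 2)]), (0, [(0, 1), (2, 3)], [(0, 1), (2, 3)]), (1, [(0, 1), (2, 3)], [(0, 1), (2, 3)]), (0, [(0, 2), (1, 3)], [(0, 2),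 (1, 3)]), (1, [(0, 2), (1, 3)], [(0, 2), (1, 3)]), (1, [], []), (0, [], []), (0, [(2, 4), (3, 4)], [(0, 4), (1, 2), (2, 4), (3, 4)])]

end CfsgLib.Trans3
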