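import Cfsg.Agent.Lib.Trans3.LocalLattice
import Cfsg.Agent.Lib.Trans3.LocalDataThree

/-! The certificate for the element of order three is valid. -/

set_option autoImplicit false
set_option maxRecDepth 100000

namespace CfsgLib.Trans3

theorem three_lattice : threeData.LatticeOK where
  prime := by decide
  odd := by decide
  sigma_mem := by decide +kernel
  pow := by decide +kernel
  moved := by decide +kernel
  cyc_sigma := by decide +kernel
  cyc_reach := by decide +kernel
  cyc_rep := by decide +kernel
  cyc_odd := by decide +kernel
  basis_mem := by decide +kernel
  inverse := by decide +kernel
  den := by decide
  oddv := by decide +kernel
  pattern := by decide +kernel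
  expand := by decide +kernel
  pairs := by decide +kernel
  low_mem := by decide +kernel
  low_even := by decide +kernel
  low_half := by decide +kernel
  pairing := by decide +kernel
  e0_lt := by decide +kernel
  e0_eight := by decide +kernel
  e0_even := by decide +kernel
  e0_half := by decide +kernel

theorem three_gen : threeData.GenOK where
  mono := by decide +kernel
  mono_comm := by decide +kernel
  mono_acts := by decide +kernel
  mat := by decide +kernel
  mat_comm := by decide +kernel
  mat_acts := by decide +kernel
  codes := by decide +kernel
  codes_gen := by decide +kernel
  elts_head := by decide +kernel
  elts_len := by decide +kernel
  elts_ok := by decide +kernel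
  elts_tree := by decide +kernel
  elts_nodup := by decide +kernel
  reach := by decide +kernel
  reach_lt := by decide +kernel

theorem three_block : threeData.BlockOK where
  act := by decide +kernel
  act_inj := by decide +kernel
  distinct := by decide +kernel
  small := by decide +kernel

end CfsgLib.Trans3
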