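import Mathlib.Data.Nat.Basic

/-! Generated: words with prescribed actions on the blocks. -/

set_option autoImplicit false
set_option maxRecDepth 100000

namespace CfsgLib.Trans3

/-- Part of the words. -/
def threeWords0 : List (List ℕ × List ℕ) := [([0, 1, 2], [4, 18, 6, 18, 6, 18, 5, 1, 1]),
  ([0, 1, 3], [8, 18, 8, 0, 18, 5, 0, 1]),
  ([0, 1, 4], [18, 18, 0, 18, 0, 18, 6, 0]),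
  ([0, 1, 5], [18, 18, 0, 18, 6, 18, 5, 0, 0]),
  ([0, 1, 6], [7, 0, 1, 18, 8, 0, 18, 9]),
  ([0, 1, 7], [5, 0, 18, 0, 18, 5, 0, 18]),
  ([0, 1, 8], [6, 18, 0, 0, 18, 1]),
  ([0, 2, 1], [18, 7, 18, 8, 18, 4, 1, 1]),
  ([0, 2, 3], [5, 18, 4, 18, 3]),
  ([0, 2, 4], [18, 4, 18, 18, 4, 18]),
  ([0, 2, 5], [18, 18, 4, 0, 18, 18, 4, 0]),
  ([0, 2, 6], [18, 6, 18, 6, 18, 4, 1, 1]),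
  ([0, 2, 7], [0, 18, 4, 0, 1, 18, 8]),
  ([0, 2, 8], [1, 18, 4, 1, 18, 4]),
  ([0, 3, 1], [18, 18, 0, 18, 6, 18, 8, 1]),
  ([0, 3, 2], [18, 3, 18, 4, 18, 18]),
  ([0, 3, 4], [4, 18, 4, 18]),
  ([0, 3, 5], [9, 18, 8, 0, 18, 9, 0, 1]),
  ([0, 3, 6], [4, 18, 0, 0, 0, 18, 4, 0]),
  ([0, 3, 7], [3, 18, 0, 18, 18, 4, 0, 18]),
  ([0, 3, 8], [3, 18, 4, 1, 18, 1]),
  ([0, 4, 1], [3, 0, 1, 18, 18, 3, 18, 0]),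
  ([0, 4, 2], [3, 18, 4, 18, 5]),
  ([0, 4, 3], [9, 18, 4, 18, 9, 1, 1])]

/-- Part of the words. -/
def threeWords1 : List (List ℕ × List ℕ) := [([0, 4, 5], [18, 9, 18, 18, 4, 18, 7, 18, 3]),
  ([0, 4, 6], [18, 18, 6, 0, 18, 1, 0, 18]),
  ([0, 4, 7], [0, 18, 18, 3, 18, 8, 0]),
  ([0, 4, 8], [18, 18, 4, 18, 7, 0, 0]),
  ([0, 5, 1], [4, 18, 8, 0, 18, 3, 0, 1]),
  ([0, 5, 2], [7, 0, 18, 0, 0, 0, 18, 5]),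
  ([0, 5, 3], [0, 1, 0, 18, 8, 0, 18, 1, 0]),
  ([0, 5, 4], [18, 6, 18, 0, 1, 18, 18, 0, 1]),
  ([0, 5, 6], [18, 9, 18, 9, 1, 18, 18, 3]),
  ([0, 5, 7], [3, 1, 18, 8, 0, 18, 7, 0]),
  ([0, 5, 8], [7, 18, 4, 0, 0, 18, 1]),
  ([0, 6, 1], [1, 0, 18, 1, 0, 1, 18, 9]),
  ([0, 6, 2], [5, 0, 1, 18, 8, 0, 18, 3]),
  ([0, 6, 3], [18, 0, 18, 18, 4, 0, 18, 3]),
  ([0, 6, 4], [18, 9, 18, 1, 0, 0, 18, 0]),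
  ([0, 6, 5], [18, 7, 18, 18, 6, 18, 5, 1, 1]),
  ([0, 6, 7], [7, 18, 4, 0, 1, 18, 0]),
  ([0, 6, 8], [4, 0, 18, 7, 1, 18, 8, 0]),
  ([0, 7, 1], [9, 0, 18, 18, 3, 18, 6, 0]),
  ([0, 7, 2], [8, 1, 18, 8, 0, 18, 9, 0]),
  ([0, 7, 3], [4, 18, 4, 0, 1, 18, 4, 0]),
  ([0, 7, 4], [0, 18, 4, 18, 4, 0, 0, 0]),
  ([0, 7, 5], [0, 18, 0, 0, 0, 18, 8]),
  ([0, 7, 6], [0, 18, 8, 0, 18, 0, 0])]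

/-- Part of the words. -/
def threeWords2 : List (List ℕ × List ℕ) := [([0, 7, 8], [7, 1, 18, 0, 0, 18, 4]),
  ([0, 8, 1], [18, 9, 1, 18, 0, 0]),
  ([0, 8, 2], [4, 1, 18, 4, 1, 18]),
  ([0, 8, 3], [18, 4, 1, 18, 4, 1]),
  ([0, 8, 4], [3, 18, 8, 0, 0, 18, 18]),
  ([0, 8, 5], [18, 7, 1, 18, 4, 0, 0]),
  ([0, 8, 6], [6, 0, 18, 7, 1, 18, 5, 0]),
  ([0, 8, 7], [4, 1, 18, 0, 0, 18, 7]),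
  ([1, 2, 3], [18, 5, 18, 1, 0, 18, 6, 18, 9]),
  ([1, 2, 4], [18, 0, 0, 0, 18, 8, 0]),
  ([1, 2, 5], [4, 0, 18, 8, 0, 18, 3, 0, 0]),
  ([1, 2, 6], [9, 0, 1, 18, 8, 0, 18, 7]),
  ([1, 2, 7], [8, 18, 9, 0, 18, 1, 0, 18, 0]),
  ([1, 2, 8], [8, 0, 18, 7, 1, 18, 9, 0]),
  ([1, 3, 2], [18, 9, 0, 18, 1, 0, 18, 7, 0]),
  ([1, 3, 4], [7, 1, 18, 8, 0, 18, 6, 0]),
  ([1, 3, 5], [5, 18, 18, 9, 18, 6, 18, 6, 0]),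
  ([1, 3, 6], [8, 0, 18, 4, 0, 1, 18]),
  ([1, 3, 7], [0, 18, 9, 18, 1, 0, 0, 18]),
  ([1, 3, 8], [3, 18, 7, 1, 18, 0, 0]),
  ([1, 4, 2], [4, 1, 1, 18, 6, 18, 6, 18]),
  ([1, 4, 3], [6, 0, 18, 0, 0, 0, 18, 4]),
  ([1, 4, 5], [8, 18, 4, 0, 1, 18, 5, 0]),
  ([1, 4, 6], [4, 1, 18, 8, 0, 18, 8, 0])]

/-- Part of the words. -/
def threeWords3 : List (List ℕ × List ℕ) := [([1, 4, 7], [6, 0, 18, 4, 18, 0, 0, 0]),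
  ([1, 4, 8], [3, 1, 18, 0, 0, 18, 8]),
  ([1, 5, 2], [8, 18, 0, 0, 0, 18, 5, 0]),
  ([1, 5, 3], [4, 18, 1, 0, 1, 18, 1, 0]),
  ([1, 5, 4], [5, 0, 18, 8, 0, 18, 5, 0, 0]),
  ([1, 5, 6], [1, 18, 4, 18, 5, 1]),
  ([1, 5, 7], [8, 18, 4, 18, 6]),
  ([1, 5, 8], [7, 18, 4, 1, 18, 9, 1]),
  ([1, 6, 2], [1, 0, 18, 8, 0, 18, 1, 0, 0]),
  ([1, 6, 3], [1, 18, 8, 0, 18, 4, 0]),
  ([1, 6, 4], [6, 0, 18, 4, 0, 1, 18, 4]),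
  ([1, 6, 5], [9, 18, 4, 18, 7]),
  ([1, 6, 7], [18, 4, 18, 5, 1, 1]),
  ([1, 6, 8], [9, 18, 18, 4, 18, 18, 7]),
  ([1, 7, 2], [18, 0, 18, 18, 5, 1, 0, 18, 3]),
  ([1, 7, 3], [3, 18, 9, 18, 9, 1, 18, 18]),
  ([1, 7, 4], [6, 0, 18, 18, 3, 18, 9, 0]),
  ([1, 7, 5], [8, 18, 18, 3, 18, 0, 0]),
  ([1, 7, 6], [7, 18, 4, 18, 9]),
  ([1, 7, 8], [0, 18, 18, 4, 18, 7, 0]),
  ([1, 8, 2], [0, 18, 7, 1, 18, 4, 0]),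
  ([1, 8, 3], [6, 18, 7, 1, 18, 7, 0, 0]),
  ([1, 8, 4], [8, 1, 18, 0, 0, 18, 3]),
  ([1, 8, 5], [0, 18, 9, 1, 18, 0])]

/-- Part of the words. -/
def threeWords4 : List (List ℕ × List ℕ) := [([1, 8, 6], [8, 1, 18, 4, 1, 18, 6]),
  ([1, 8, 7], [9, 18, 18, 4, 18, 3, 0, 0]),
  ([2, 3, 4], [18, 18, 3, 18, 8, 0, 0]),
  ([2, 3, 5], [4, 0, 18, 18, 3, 18, 4, 0]),
  ([2, 3, 6], [7, 0, 18, 3, 18, 5, 18, 0]),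
  ([2, 3, 7], [8, 1, 18, 9, 18, 9, 18, 1, 0]),
  ([2, 3, 8], [8, 0, 18, 18, 4, 18, 0]),
  ([2, 4, 3], [18, 4, 18, 4]),
  ([2, 4, 5], [18, 9, 1, 0, 18, 1, 0, 1]),
  ([2, 4, 6], [6, 18, 18, 9, 18, 6, 18, 8, 0]),
  ([2, 4, 7], [18, 8, 0, 18, 0, 0, 0]),
  ([2, 4, 8], [5, 18, 4, 1, 18, 5, 1]),
  ([2, 5, 3], [18, 3, 18, 0, 18, 18, 4, 0]),
  ([2, 5, 4], [18, 4, 0, 1, 18, 8, 0]),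
  ([2, 5, 6], [7, 0, 18, 18, 3, 18, 0]),
  ([2, 5, 7], [7, 0, 18, 4, 0, 1, 18, 5]),
  ([2, 5, 8], [9, 1, 18, 0, 0, 18]),
  ([2, 6, 3], [3, 0, 18, 18, 3, 18, 3, 0]),
  ([2, 6, 4], [6, 18, 8, 0, 18, 0, 1]),
  ([2, 6, 5], [9, 18, 3, 18, 0, 18, 18, 0]),
  ([2, 6, 7], [18, 18, 9, 18, 6, 18, 9, 0]),
  ([2, 6, 8], [8, 18, 0, 0, 18, 5, 1]),
  ([2, 7, 3], [18, 18, 6, 18, 1, 0, 0, 18]),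
  ([2, 7, 4], [0, 18, 0, 18, 6, 0, 18, 18])]

/-- Part of the words. -/
def threeWords5 : List (List ℕ × List ℕ) := [([2, 7, 5], [5, 1, 18, 8, 0, 18, 3, 0]),
  ([2, 7, 6], [18, 8, 0, 18, 4, 0, 1]),
  ([2, 7, 8], [7, 1, 18, 4, 0, 0, 18]),
  ([2, 8, 3], [18, 18, 3, 18, 4, 18]),
  ([2, 8, 4], [4, 18, 4, 1, 18, 3, 1]),
  ([2, 8, 5], [1, 18, 0, 0, 18, 9]),
  ([2, 8, 6], [4, 18, 0, 0, 18, 6, 1]),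
  ([2, 8, 7], [1, 18, 4, 0, 0, 18, 7]),
  ([3, 4, 5], [0, 1, 18, 8, 0, 18, 4]),
  ([3, 4, 6], [8, 0, 18, 0, 0, 0, 18]),
  ([3, 4, 7], [1, 18, 9, 1, 0, 18, 1, 0]),
  ([3, 4, 8], [4, 18, 18, 4, 18, 18]),
  ([3, 5, 4], [18, 0, 18, 6, 0, 18, 18, 0]),
  ([3, 5, 6], [8, 0, 18, 4, 18, 9, 0, 0, 0]),
  ([3, 5, 7], [6, 0, 1, 18, 8, 0, 18, 8]),
  ([3, 5, 8], [7, 18, 0, 0, 18, 4, 1]),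
  ([3, 6, 4], [9, 1, 18, 8, 0, 18, 0]),
  ([3, 6, 5], [0, 0, 0, 18, 4, 18, 4, 0]),
  ([3, 6, 7], [0, 18, 1, 0, 1, 18, 9, 1]),
  ([3, 6, 8], [6, 1, 18, 0, 0, 18, 5]),
  ([3, 7, 4], [4, 0, 1, 18, 8, 0, 18]),
  ([3, 7, 5], [1, 18, 18, 0, 1, 18, 6, 18, 0]),
  ([3, 7, 6], [7, 18, 0, 0, 0, 18, 0]),
  ([3, 7, 8], [5, 0, 18, 7, 1, 18, 3, 0])]

/-- Part of the words. -/
def threeWords6 : List (List ℕ × List ℕ) := [([3, 8, 4], [18, 18, 4, 18, 18, 4]),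
  ([3, 8, 5], [3, 18, 0, 0, 18, 7, 1]),
  ([3, 8, 6], [5, 1, 18, 0, 0, 18, 6]),
  ([3, 8, 7], [7, 0, 18, 7, 1, 18, 6, 0]),
  ([4, 5, 6], [18, 7, 18, 4, 1, 18, 8, 18, 0]),
  ([4, 5, 7], [7, 18, 6, 18, 6, 18, 9, 1, 1]),
  ([4, 5, 8], [3, 0, 18, 7, 1, 18, 7, 0]),
  ([4, 6, 5], [1, 18, 18, 9, 18, 7, 18, 18, 0]),
  ([4, 6, 7], [18, 1, 0, 1, 18, 9, 1, 0]),
  ([4, 6, 8], [8, 18, 7, 1, 18, 6, 0, 0]),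
  ([4, 7, 5], [8, 0, 1, 18, 8, 0, 18, 6]),
  ([4, 7, 6], [3, 18, 18, 9, 18, 6, 18, 0]),
  ([4, 7, 8], [9, 18, 0, 0, 18, 3, 1]),
  ([4, 8, 5], [9, 0, 18, 7, 1, 18, 0]),
  ([4, 8, 6], [5, 18, 7, 1, 18, 3, 0, 0]),
  ([4, 8, 7], [5, 18, 0, 0, 18, 8, 1]),
  ([5, 6, 7], [6, 18, 4, 18, 8]),
  ([5, 6, 8], [7, 18, 18, 4, 18, 0, 0]),
  ([5, 7, 6], [3, 18, 4, 18, 1, 1]),
  ([5, 7, 8], [8, 18, 18, 4, 18, 18, 6]),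
  ([5, 8, 6], [8, 18, 18, 4, 18, 5, 0, 0]),
  ([5, 8, 7], [9, 1, 18, 4, 1, 18, 7]),
  ([6, 7, 8], [9, 18, 4, 1, 18, 6, 1]),
  ([6, 8, 7], [8, 18, 4, 1, 18, 8, 1])]

/-- Words with prescribed actions on the blocks. -/
def threeWords : List (List ℕ × List ℕ) := threeWords0 ++ threeWords1 ++ threeWords2 ++ threeWords3 ++ threeWords4 ++ threeWords5 ++ threeWords6

end CfsgLib.Trans3
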