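import Cfsg.Agent.Lib.Trans3.LocalGroup
import Cfsg.Agent.Lib.Trans3.LocalThree
import Cfsg.Agent.Lib.Trans3.LocalWordsThree
import Cfsg.Agent.Lib.Mathieu.OrderThree
import Mathlib.GroupTheory.SpecificGroups.Alternating.Simple

/-!
# The centraliser in `Co0` of an element of order three without fixed points among the 24 points
-/

set_option autoImplicit false
set_option maxRecDepth 100000
set_option synthInstance.maxSize 2000

namespace CfsgLib.Trans3

open Cfsg CfsgLib.Golay CfsgLib.Mathieu

theorem three_card : threeData.CardOK := by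
  have h : threeData.elts.length = 504 := by decide +kernel
  rw [LocalData.CardOK, h, ← card_comm_sFree]
  refine le_of_eq (Nat.card_congr (Equiv.subtypeEquivRight fun σ => ?_))
  rw [mem_commFix, fixMasks_nil, sFreePows_eq, show threeData.sigma = sFree from rfl]
  refine and_congr_right fun _ => ⟨fun h t ht => ?_, fun h => h sFree (by simp)⟩
  simp only [List.mem_cons, List.not_mem_nil, or_false] at ht
  rcases ht with rfl | rfl
  · exact h
  · rw [sFreeSq_eq.2]; exact (comm_sq sFree_cube (Or.inl h)).2

/-- A product of transpositions given by a list of pairs. -/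
def swapProd {n : ℕ} [NeZero n] (l : List (ℕ × ℕ)) : Equiv.Perm (Fin n) :=
  (l.map fun t => Equiv.swap (Fin.ofNat n t.1) (Fin.ofNat n t.2)).prod

/-- A 3-cycle of nine points. -/
def cycNine (a b c : Fin 9) : Equiv.Perm (Fin 9) := Equiv.swap a b * Equiv.swap b c

/-- The centraliser acts as the alternating group of degree nine. -/
theorem three_hom : ∃ φ : threeData.cent three_lattice →* alternatingGroup (Fin 9),
    Function.Surjective φ ∧
    (∀ g, φ g = 1 → ∃ i < threeData.p, (g : Co0) = threeData.A three_lattice ^ i ∨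
      (g : Co0) = negCo0 * threeData.A three_lattice ^ i) ∧
    (∀ g, φ g ≠ 1 → ∃ s, leechR.cls ((g : Co0) • threeData.hv three_lattice s) ≠
      leechR.cls (threeData.hv three_lattice s)) ∧
    ∀ g : threeData.cent three_lattice,
      ((g : Co0) = negCo0 ∨ (g : Co0) = threeData.A three_lattice) → φ g = 1 := by
  let ψ : threeData.cent three_lattice →* Equiv.Perm (Fin 9) :=
    LocalData.blockHom three_lattice three_gen three_card three_block
  have hle : ψ.range ≤ alternatingGroup (Fin 9) := by
    refine LocalData.blockHom_range_le three_lattice three_gen three_card three_block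
      (X := alternatingGroup (Fin 9)) fun i hi π hπ => ?_
    have key : ∀ i : Fin threeData.nGen, Equiv.Perm.sign (swapProd (n := 9) (threeSwaps.getD i.val [])) = 1 ∧
        ∀ x : Fin 9, (swapProd (n := 9) (threeSwaps.getD i.val []) x).val = (threeData.bAct i.val x).val := by
      decide +kernel
    obtain ⟨h1, h2⟩ := key ⟨i, hi⟩
    rw [show π = swapProd (n := 9) (threeSwaps.getD i []) from
      Equiv.ext fun x => Fin.ext ((congrArg Fin.val (congrFun hπ x)).trans (h2 x).symm)]
    exact Equiv.Perm.mem_alternatingGroup.2 h1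
  have hcyc : ∀ a b c : Fin 9, a ≠ b → a ≠ c → b ≠ c → ∃ e ∈ threeWords,
      (∀ i ∈ e.2, i < threeData.nGen) ∧ ∀ x : Fin 9, threeData.wAct e.2 x = cycNine a b c x := by
    have key : (threeWords.all fun e => e.2.all fun i => decide (i < threeData.nGen)) = true ∧
        (threeWords.all fun e => decide (∀ x : Fin 9, (threeData.wAct e.2 x).val =
          (cycNine (Fin.ofNat 9 (e.1.getD 0 0)) (Fin.ofNat 9 (e.1.getD 1 0)) (Fin.ofNat 9 (e.1.getD 2 0)) x).val)) = true ∧
        ∀ a b c : Fin 9, a ≠ b → a ≠ c → b ≠ c → ∃ e ∈ threeWords,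
          e.1 = [a.val, b.val, c.val] ∨ e.1 = [b.val, c.val, a.val] ∨ e.1 = [c.val, a.val, b.val] := by
      decide +kernel
    have hrot : ∀ a b c : Fin 9, a ≠ b → a ≠ c → b ≠ c →
        ∀ x, cycNine b c a x = cycNine a b c x ∧ cycNine c a b x = cycNine a b c x := by decide +kernel
    simp only [List.all_eq_true, decide_eq_true_eq] at key
    intro a b c hab hac hbc
    obtain ⟨e, he, hor⟩ := key.2.2 a b c hab hac hbc
    refine ⟨e, he, key.1 e he, fun x => Fin.ext ?_⟩
    rw [key.2.1 e he x]
    have ho : ∀ d : Fin 9, Fin.ofNat 9 d.val = d := fun d => Fin.ext (Nat.mod_eq_of_lt d.2)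
    rcases hor with h | h | h <;> simp only [h, List.getD_cons_zero, List.getD_cons_succ, ho]
    · exact congrArg Fin.val (hrot a b c hab hac hbc x).1
    · exact congrArg Fin.val (hrot a b c hab hac hbc x).2
  have hge : alternatingGroup (Fin 9) ≤ ψ.range := by
    rw [← Equiv.Perm.closure_three_cycles_eq_alternating, Subgroup.closure_le]
    intro g hg
    obtain ⟨a, ha⟩ : ∃ a, a ∈ g.support := Finset.card_pos.1 (by rw [hg.card_support]; norm_num)
    have hnd := (Equiv.Perm.IsThreeCycle.nodup_iff_mem_support hg).2 ha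
    simp only [List.nodup_cons, List.mem_cons, List.not_mem_nil, or_false, not_or, not_false_eq_true,
      List.nodup_nil, and_true] at hnd
    obtain ⟨e, -, hlt, he⟩ := hcyc a (g a) (g (g a)) hnd.1.1 hnd.1.2 hnd.2
    refine ⟨⟨threeData.word e.2, LocalData.genGrp_le three_lattice three_gen (LocalData.word_mem _ hlt)⟩, ?_⟩
    refine Equiv.ext fun x => ?_
    rw [show ψ _ x = threeData.wAct e.2 x from
      congrFun (LocalData.blockHom_word three_lattice three_gen three_card three_block hlt) x, he x]
    exact (Equiv.ext_iff.1 ((Equiv.Perm.IsThreeCycle.eq_swap_mul_swap_iff_mem_support hg).2 ha) x).symm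
  refine ⟨ψ.codRestrict (alternatingGroup (Fin 9)) (fun g => hle ⟨g, rfl⟩), ?_, ?_, ?_, ?_⟩
  · intro π
    obtain ⟨g, hg⟩ := hge π.2
    exact ⟨g, Subtype.ext hg⟩
  · intro g hg
    refine LocalData.blockHom_ker three_lattice three_gen three_card three_block (m := 181440)
      (by norm_num) ?_ (by decide +kernel) (g := g) (congrArg Subtype.val hg)
    show 181440 ≤ Nat.card ψ.range
    rw [le_antisymm hle hge, nat_card_alternatingGroup, Nat.card_eq_fintype_card, Fintype.card_fin]
    decide +kernel
  · exact fun g hg => LocalData.blockHom_faithful three_lattice three_gen three_card three_block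
      fun h => hg (Subtype.ext h)
  · exact fun g hg => Subtype.ext (LocalData.blockHom_center three_lattice three_gen three_card three_block hg)

theorem alt_no_two_normal {n : ℕ} (hn : 5 ≤ n) (N : Subgroup (alternatingGroup (Fin n))) (hN : N.Normal)
    (hp : IsPGroup 2 N) : N = ⊥ := by
  haveI : IsSimpleGroup (alternatingGroup (Fin n)) := alternatingGroup.isSimpleGroup (by simpa using hn)
  rcases hN.eq_bot_or_eq_top with h | h
  · exact h
  · exfalso
    haveI : Fact (Nat.Prime 2) := ⟨Nat.prime_two⟩
    obtain ⟨k, hk⟩ := IsPGroup.iff_card.1 hp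
    haveI : Nontrivial (Fin n) := Fin.nontrivial_iff_two_le.2 (by omega)
    rw [h, Subgroup.card_top, nat_card_alternatingGroup, Nat.card_eq_fintype_card, Fintype.card_fin] at hk
    have h3 : 3 ∣ n.factorial / 2 := by
      refine Nat.dvd_div_of_mul_dvd ?_
      exact (show 2 * 3 ∣ Nat.factorial 3 by decide).trans (Nat.factorial_dvd_factorial (by omega))
    exact absurd (Nat.prime_three.dvd_of_dvd_pow (hk ▸ h3)) (by norm_num)

end CfsgLib.Trans3
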