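import Mathlib.Data.Nat.Basic

/-! Generated: words with prescribed actions on the blocks. -/

set_option autoImplicit false
set_option maxRecDepth 100000

namespace CfsgLib.Trans3

/-- Part of the words. -/
def fiveWords0 : List (List ℕ × List ℕ) := [([0, 1, 2], [18, 5, 18, 0, 18, 8, 0]),
  ([0, 1, 3], [1, 18, 18, 4, 0, 18, 3]),
  ([0, 1, 4], [18, 4, 0, 18, 18, 4, 0]),
  ([0, 2, 1], [18, 18, 4, 0, 18, 3, 1]),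
  ([0, 2, 3], [4, 18, 18, 4, 0, 18, 0]),
  ([0, 2, 4], [7, 1, 18, 7, 18, 18]),
  ([0, 3, 1], [18, 4, 18, 3, 1, 18, 1]),
  ([0, 3, 2], [18, 18, 7, 1, 18, 7]),
  ([0, 3, 4], [5, 18, 7, 18, 18, 1]),
  ([0, 4, 1], [6, 18, 0, 18, 18, 3, 0]),
  ([0, 4, 2], [8, 18, 7, 0, 18, 0]),
  ([0, 4, 3], [0, 18, 7, 0, 18, 7]),
  ([1, 2, 3], [7, 18, 18, 7, 1, 18]),
  ([1, 2, 4], [18, 18, 1, 18, 18, 1]),
  ([1, 3, 2], [18, 1, 18, 18, 1, 18]),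
  ([1, 3, 4], [18, 7, 0, 18, 7, 0]),
  ([1, 4, 2], [18, 7, 18, 18, 7, 1]),
  ([1, 4, 3], [1, 18, 18, 1, 18, 18]),
  ([2, 3, 4], [18, 18, 18, 18, 18]),
  ([2, 4, 3], [9, 18, 0, 18, 18, 9, 0]),
  ([5, 6, 7], [18, 18, 8, 0, 18, 0]),
  ([5, 6, 8], [9, 18, 18, 3, 1, 18]),
  ([5, 6, 9], [18, 0, 18, 18, 8, 0]),
  ([5, 7, 6], [18, 5, 18, 0, 18, 7, 1])]

/-- Part of the words. -/
def fiveWords1 : List (List ℕ × List ℕ) := [([5, 7, 8], [0, 18, 18, 8, 0, 18]),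
  ([5, 7, 9], [7, 18, 1, 18, 0, 0]),
  ([5, 8, 6], [18, 18, 3, 1, 18, 6, 1]),
  ([5, 8, 7], [4, 18, 18, 4, 0, 18, 1]),
  ([5, 8, 9], [1, 18, 0, 1, 18, 0]),
  ([5, 9, 6], [8, 1, 18, 1, 18, 1, 0]),
  ([5, 9, 7], [7, 18, 18, 7, 18, 18]),
  ([5, 9, 8], [18, 7, 18, 18, 7, 18]),
  ([6, 7, 8], [18, 8, 0, 18, 0, 18]),
  ([6, 7, 9], [8, 0, 18, 1, 18, 5, 0]),
  ([6, 8, 7], [1, 18, 18, 3, 1, 18, 6]),
  ([6, 8, 9], [18, 1, 18, 8, 0, 0]),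
  ([6, 9, 7], [0, 18, 1, 18, 8, 0]),
  ([6, 9, 8], [18, 18, 7, 18, 18, 7]),
  ([7, 8, 9], [5, 18, 0, 18, 18, 0]),
  ([7, 9, 8], [0, 0, 18, 1, 18, 8]),
  ([], [3])]

/-- Words with prescribed actions on the blocks. -/
def fiveWords : List (List ℕ × List ℕ) := fiveWords0 ++ fiveWords1

end CfsgLib.Trans3
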