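import Cfsg.Agent.Lib.Trans3.LocalGroup
import Cfsg.Agent.Lib.Trans3.LocalFive
import Cfsg.Agent.Lib.Trans3.LocalWordsFive
import Cfsg.Agent.Lib.Mathieu.OddElts
import Cfsg.Agent.Lib.Trans3.LocalThreeGroup

/-!
# The centraliser in `Co0` of an element of order five with four fixed points among the 24 points
-/

set_option autoImplicit false
set_option maxRecDepth 100000
set_option synthInstance.maxSize 2000

namespace CfsgLib.Trans3

open Cfsg CfsgLib.Golay CfsgLib.Mathieu

theorem five_card : fiveData.CardOK := by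
  have h : fiveData.elts.length = 60 := by decide +kernel
  rw [LocalData.CardOK, h, show fiveData.sigma = qFive from rfl, ← elt24_five.card, fixMasks_nil]

/-- The ten blocks as two sets of five points. -/
def tenEquiv : Fin fiveData.numBlocks ≃ Fin 5 ⊕ Fin 5 :=
  (finCongr (show fiveData.numBlocks = 5 + 5 from rfl)).trans finSumFinEquiv.symm

/-- The identification of the permutations. -/
def tenMap : Equiv.Perm (Fin fiveData.numBlocks) ≃* Equiv.Perm (Fin 5 ⊕ Fin 5) :=
  tenEquiv.permCongrHom

theorem tenMap_apply (π : Equiv.Perm (Fin fiveData.numBlocks)) (x : Fin 5 ⊕ Fin 5) :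
    tenMap π x = tenEquiv (π (tenEquiv.symm x)) := rfl

/-- A generator of the wreath product from its data. -/
def splitPerm (t : ℕ × List (ℕ × ℕ) × List (ℕ × ℕ)) : Equiv.Perm (Fin 5 ⊕ Fin 5) :=
  Equiv.Perm.sumCongr (swapProd t.2.1) (swapProd t.2.2) *
    (if t.1 = 1 then Equiv.sumComm (Fin 5) (Fin 5) else 1)

theorem wreath_pair {σ τ : Equiv.Perm (Fin 5)} (hσ : σ ∈ alternatingGroup (Fin 5))
    (hτ : τ ∈ alternatingGroup (Fin 5)) : Equiv.Perm.sumCongr σ τ ∈ alternatingFiveWreathTwo :=
  Subgroup.subset_closure (Or.inl ⟨⟨σ, hσ⟩, ⟨τ, hτ⟩, rfl⟩)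

theorem wreath_comm : (Equiv.sumComm (Fin 5) (Fin 5) : Equiv.Perm (Fin 5 ⊕ Fin 5)) ∈ alternatingFiveWreathTwo :=
  Subgroup.subset_closure (Or.inr rfl)

/-- The pairs of even permutations inside the wreath product. -/
def wreathBase : alternatingGroup (Fin 5) × alternatingGroup (Fin 5) →* alternatingFiveWreathTwo :=
  MonoidHom.mk' (fun q => ⟨Equiv.Perm.sumCongr (q.1 : Equiv.Perm (Fin 5)) (q.2 : Equiv.Perm (Fin 5)),
    wreath_pair q.1.2 q.2.2⟩) fun a b => Subtype.ext (Equiv.Perm.sumCongr_mul _ _ _ _).symm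

theorem wreathBase_injective : Function.Injective wreathBase := fun a b h => by
  have h' : ∀ x, Equiv.Perm.sumCongr (a.1 : Equiv.Perm (Fin 5)) (a.2 : Equiv.Perm (Fin 5)) x =
      Equiv.Perm.sumCongr (b.1 : Equiv.Perm (Fin 5)) (b.2 : Equiv.Perm (Fin 5)) x :=
    fun x => Equiv.ext_iff.1 (congrArg Subtype.val h) x
  refine Prod.ext (Subtype.ext (Equiv.ext fun i => ?_)) (Subtype.ext (Equiv.ext fun i => ?_))
  · exact Sum.inl_injective (h' (Sum.inl i))
  · exact Sum.inr_injective (h' (Sum.inr i))

/-- The swap of the two factors. -/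
def wreathSwap : alternatingFiveWreathTwo := ⟨Equiv.sumComm (Fin 5) (Fin 5), wreath_comm⟩

theorem wreath_cases (g : alternatingFiveWreathTwo) :
    g ∈ wreathBase.range ∨ g * wreathSwap ∈ wreathBase.range := by
  have hs2 : wreathSwap * wreathSwap = 1 := Subtype.ext (Equiv.ext fun x => by cases x <;> rfl)
  have hconj : ∀ q, wreathSwap * wreathBase q * wreathSwap = wreathBase (q.2, q.1) := fun q =>
    Subtype.ext (Equiv.ext fun x => by cases x <;> rfl)
  obtain ⟨g, hg⟩ := g
  induction hg using Subgroup.closure_induction with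
  | mem x hx =>
    rcases hx with ⟨σ, τ, rfl⟩ | hx
    · exact Or.inl ⟨(σ, τ), rfl⟩
    · rw [Set.mem_singleton_iff] at hx
      subst hx
      exact Or.inr ⟨1, by rw [map_one]; exact hs2.symm⟩
  | one => exact Or.inl ⟨1, map_one _⟩
  | mul x y hx hy ihx ihy =>
    change (⟨x, hx⟩ * ⟨y, hy⟩ : alternatingFiveWreathTwo) ∈ _ ∨
      (⟨x, hx⟩ * ⟨y, hy⟩ : alternatingFiveWreathTwo) * wreathSwap ∈ _
    set X : alternatingFiveWreathTwo := ⟨x, hx⟩
    set Y : alternatingFiveWreathTwo := ⟨y, hy⟩
    rcases ihx with ⟨a, ha⟩ | ⟨a, ha⟩ <;> rcases ihy with ⟨b, hb⟩ | ⟨b, hb⟩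
    · exact Or.inl ⟨a * b, by rw [map_mul, ha, hb]⟩
    · exact Or.inr ⟨a * b, by rw [map_mul, ha, hb, mul_assoc]⟩
    · refine Or.inr ⟨a * (b.2, b.1), ?_⟩
      rw [map_mul, ← hconj, ha, hb]
      simp only [← mul_assoc, mul_assoc X wreathSwap wreathSwap, hs2, mul_one]
    · refine Or.inl ⟨a * (b.2, b.1), ?_⟩
      rw [map_mul, ← hconj, ha, hb]
      simp only [← mul_assoc, mul_assoc X wreathSwap wreathSwap, hs2, mul_one]
      simp only [mul_assoc, hs2, mul_one]
  | inv x hx ihx =>
    change (⟨x, hx⟩ : alternatingFiveWreathTwo)⁻¹ ∈ _ ∨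
      (⟨x, hx⟩ : alternatingFiveWreathTwo)⁻¹ * wreathSwap ∈ _
    set X : alternatingFiveWreathTwo := ⟨x, hx⟩
    rcases ihx with ⟨a, ha⟩ | ⟨a, ha⟩
    · exact Or.inl ⟨a⁻¹, by rw [map_inv, ha]⟩
    · refine Or.inr ⟨(a⁻¹.2, a⁻¹.1), ?_⟩
      rw [← hconj, map_inv, ha, mul_inv_rev]
      simp only [← mul_assoc, mul_inv_cancel, one_mul]

theorem wreath_card : 7200 ≤ Nat.card alternatingFiveWreathTwo := by
  let F : (alternatingGroup (Fin 5) × alternatingGroup (Fin 5)) × Fin 2 → alternatingFiveWreathTwo := fun q =>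
    if q.2 = 0 then wreathBase q.1 else wreathBase q.1 * wreathSwap
  have hF : Function.Injective F := by
    rintro ⟨a, i⟩ ⟨b, j⟩ h
    have side : ∀ q r, wreathBase q ≠ wreathBase r * wreathSwap := fun q r e => by
      have := Equiv.ext_iff.1 (congrArg Subtype.val e) (Sum.inl 0)
      exact Sum.inl_ne_inr this
    fin_cases i <;> fin_cases j <;> simp [F] at h
    · rw [wreathBase_injective h]
    · exact absurd h (side a b)
    · exact absurd h.symm (side b a)
    · rw [wreathBase_injective h]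
  refine le_trans ?_ (Nat.card_le_card_of_injective F hF)
  rw [Nat.card_prod, Nat.card_prod, nat_card_alternatingGroup, Nat.card_eq_fintype_card (α := Fin 5),
    Fintype.card_fin, Nat.card_eq_fintype_card (α := Fin 2), Fintype.card_fin]
  decide +kernel

theorem wreath_no_two_normal (N : Subgroup alternatingFiveWreathTwo) (hN : N.Normal) (hp : IsPGroup 2 N) :
    N = ⊥ := by
  have hbase : ∀ q, wreathBase q ∈ N → q = 1 := by
    intro q hq
    haveI : (N.comap wreathBase).Normal := hN.comap _
    have hK : IsPGroup 2 (N.comap wreathBase) := hp.comap_of_injective _ wreathBase_injective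
    have h1 : ((N.comap wreathBase).map (MonoidHom.fst _ _)) = ⊥ :=
      alt_no_two_normal (le_refl 5) _ (Subgroup.Normal.map inferInstance _ Prod.fst_surjective) (hK.map _)
    have h2 : ((N.comap wreathBase).map (MonoidHom.snd _ _)) = ⊥ :=
      alt_no_two_normal (le_refl 5) _ (Subgroup.Normal.map inferInstance _ Prod.snd_surjective) (hK.map _)
    refine Prod.ext ?_ ?_
    · have : q.1 ∈ (N.comap wreathBase).map (MonoidHom.fst _ _) := ⟨q, hq, rfl⟩
      rwa [h1, Subgroup.mem_bot] at this
    · have : q.2 ∈ (N.comap wreathBase).map (MonoidHom.snd _ _) := ⟨q, hq, rfl⟩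
      rwa [h2, Subgroup.mem_bot] at this
  refine (Subgroup.eq_bot_iff_forall _).2 fun g hg => ?_
  rcases wreath_cases g with ⟨q, hq⟩ | ⟨q, hq⟩
  · rw [← hq, hbase q (hq ▸ hg), map_one]
  · exfalso
    obtain ⟨σ, hσ⟩ : ∃ σ : alternatingGroup (Fin 5), σ ≠ 1 := exists_ne 1
    have hmem : wreathBase ((σ, 1) * q * (1, σ⁻¹) * q⁻¹) ∈ N := by
      have h1 := N.mul_mem (hN.conj_mem g hg (wreathBase (σ, 1))) (N.inv_mem hg)
      have hg' : g = wreathBase q * wreathSwap := by
        rw [hq, mul_assoc, show wreathSwap * wreathSwap = 1 from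
          Subtype.ext (Equiv.ext fun x => by cases x <;> rfl), mul_one]
      have hsw : wreathSwap * (wreathBase (σ, 1))⁻¹ = wreathBase (1, σ⁻¹) * wreathSwap :=
        Subtype.ext (Equiv.ext fun x => by cases x <;> rfl)
      rw [hg', mul_inv_rev] at h1
      rw [map_mul, map_mul, map_mul, map_inv]
      convert h1 using 1
      calc wreathBase (σ, 1) * wreathBase q * wreathBase (1, σ⁻¹) * (wreathBase q)⁻¹
          = wreathBase (σ, 1) * wreathBase q * (wreathBase (1, σ⁻¹) * wreathSwap) * (wreathSwap⁻¹ * (wreathBase q)⁻¹) := by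
            group
        _ = _ := by rw [← hsw]; group
    have e := congrArg Prod.fst (hbase _ hmem)
    simp only [Prod.fst_mul, Prod.fst_inv, mul_one, Prod.fst_one] at e
    exact hσ (by simpa using e)

/-- The centraliser acts as the wreath product of `A₅` by a group of order two. -/
theorem five_hom : ∃ φ : fiveData.cent five_lattice →* alternatingFiveWreathTwo,
    Function.Surjective φ ∧
    (∀ g, φ g = 1 → ∃ i < fiveData.p, (g : Co0) = fiveData.A five_lattice ^ i ∨
      (g : Co0) = negCo0 * fiveData.A five_lattice ^ i) ∧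
    (∀ g, φ g ≠ 1 → ∃ s, leechR.cls ((g : Co0) • fiveData.hv five_lattice s) ≠
      leechR.cls (fiveData.hv five_lattice s)) ∧
    ∀ g : fiveData.cent five_lattice,
      ((g : Co0) = negCo0 ∨ (g : Co0) = fiveData.A five_lattice) → φ g = 1 := by
  let ψ : fiveData.cent five_lattice →* Equiv.Perm (Fin fiveData.numBlocks) :=
    LocalData.blockHom five_lattice five_gen five_card five_block
  let χ : fiveData.cent five_lattice →* Equiv.Perm (Fin 5 ⊕ Fin 5) := tenMap.toMonoidHom.comp ψ
  have hχ : ∀ (l : List ℕ) (hl : ∀ i ∈ l, i < fiveData.nGen) (x : Fin 5 ⊕ Fin 5),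
      χ ⟨fiveData.word l, LocalData.genGrp_le five_lattice five_gen (LocalData.word_mem _ hl)⟩ x =
        tenEquiv (fiveData.wAct l (tenEquiv.symm x)) := fun l hl x => by
    show tenMap (ψ _) x = _
    rw [tenMap_apply, show ψ _ (tenEquiv.symm x) = fiveData.wAct l (tenEquiv.symm x) from
      congrFun (LocalData.blockHom_word five_lattice five_gen five_card five_block hl) _]
  have hle : χ.range ≤ alternatingFiveWreathTwo := by
    rintro _ ⟨g, rfl⟩
    have h := LocalData.blockHom_range_le five_lattice five_gen five_card five_block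
      (X := alternatingFiveWreathTwo.comap tenMap.toMonoidHom) (fun i hi π hπ => ?_) ⟨g, rfl⟩
    · exact h
    · have key : ∀ i < fiveData.nGen,
          (Equiv.Perm.sign (swapProd (n := 5) (fiveSplit.getD i (0, [], [])).2.1) = 1 ∧
            Equiv.Perm.sign (swapProd (n := 5) (fiveSplit.getD i (0, [], [])).2.2) = 1) ∧
          ∀ x : Fin fiveData.numBlocks, tenEquiv (fiveData.bAct i x) =
            splitPerm (fiveSplit.getD i (0, [], [])) (tenEquiv x) := by
        decide +kernel
      obtain ⟨⟨h1, h2⟩, h3⟩ := key i hi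
      rw [Subgroup.mem_comap, show tenMap.toMonoidHom π = splitPerm (fiveSplit.getD i (0, [], [])) from
        Equiv.ext fun x => by
          show tenMap π x = _
          rw [tenMap_apply, show π (tenEquiv.symm x) = fiveData.bAct i (tenEquiv.symm x) from congrFun hπ _]
          exact (h3 (tenEquiv.symm x)).trans (by rw [Equiv.apply_symm_apply])]
      unfold splitPerm
      refine Subgroup.mul_mem _ (wreath_pair (Equiv.Perm.mem_alternatingGroup.2 h1)
        (Equiv.Perm.mem_alternatingGroup.2 h2)) ?_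
      split_ifs
      · exact wreath_comm
      · exact Subgroup.one_mem _
  have hwords : (fiveWords.all fun e => e.2.all fun i => decide (i < fiveData.nGen)) = true ∧
      (∀ a b c : Fin 5, a ≠ b → a ≠ c → b ≠ c → ∀ side : Fin 2, ∃ e ∈ fiveWords,
        ∀ x : Fin 5 ⊕ Fin 5, tenEquiv (fiveData.wAct e.2 (tenEquiv.symm x)) =
          (if side = 0 then Equiv.Perm.sumCongr (Equiv.swap a b * Equiv.swap b c) 1
            else Equiv.Perm.sumCongr 1 (Equiv.swap a b * Equiv.swap b c)) x) ∧
      ∃ e ∈ fiveWords, ∀ x : Fin 5 ⊕ Fin 5,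
        tenEquiv (fiveData.wAct e.2 (tenEquiv.symm x)) = Equiv.sumComm (Fin 5) (Fin 5) x := by
    decide +kernel
  simp only [List.all_eq_true, decide_eq_true_eq] at hwords
  have hin : ∀ e ∈ fiveWords, ∀ π : Equiv.Perm (Fin 5 ⊕ Fin 5),
      (∀ x, tenEquiv (fiveData.wAct e.2 (tenEquiv.symm x)) = π x) → π ∈ χ.range :=
    fun e he π hπ => ⟨_, Equiv.ext fun x => (hχ e.2 (hwords.1 e he) x).trans (hπ x)⟩
  have hside : ∀ (side : Fin 2), ∀ σ ∈ alternatingGroup (Fin 5),
      (if side = 0 then Equiv.Perm.sumCongr σ 1 else Equiv.Perm.sumCongr 1 σ) ∈ χ.range := by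
    intro side σ hσ
    rw [← Equiv.Perm.closure_three_cycles_eq_alternating] at hσ
    induction hσ using Subgroup.closure_induction with
    | mem g hg =>
      obtain ⟨a, ha⟩ : ∃ a, a ∈ g.support := Finset.card_pos.1 (by rw [hg.card_support]; norm_num)
      have hnd := (Equiv.Perm.IsThreeCycle.nodup_iff_mem_support hg).2 ha
      simp only [List.nodup_cons, List.mem_cons, List.not_mem_nil, or_false, not_or, not_false_eq_true,
        List.nodup_nil, and_true] at hnd
      obtain ⟨e, he, hx⟩ := hwords.2.1 a (g a) (g (g a)) hnd.1.1 hnd.1.2 hnd.2 side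
      rw [(Equiv.Perm.IsThreeCycle.eq_swap_mul_swap_iff_mem_support hg).2 ha]
      exact hin e he _ hx
    | one => split_ifs <;> rw [Equiv.Perm.sumCongr_one] <;> exact Subgroup.one_mem _
    | mul x y _ _ ihx ihy =>
      have := Subgroup.mul_mem _ ihx ihy
      split_ifs at this ⊢ <;> simpa [Equiv.Perm.sumCongr_mul] using this
    | inv x _ ihx =>
      have := Subgroup.inv_mem _ ihx
      split_ifs at this ⊢ <;> simpa [Equiv.Perm.sumCongr_inv] using this
  have hge : alternatingFiveWreathTwo ≤ χ.range := by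
    rw [alternatingFiveWreathTwo, Subgroup.closure_le]
    rintro g (⟨σ, τ, rfl⟩ | hg)
    · have h1 := Subgroup.mul_mem _ (hside 0 σ σ.2) (hside 1 τ τ.2)
      simpa [Equiv.Perm.sumCongr_mul] using h1
    · rw [Set.mem_singleton_iff] at hg
      subst hg
      obtain ⟨e, he, hx⟩ := hwords.2.2
      exact hin e he _ hx
  refine ⟨χ.codRestrict alternatingFiveWreathTwo (fun g => hle ⟨g, rfl⟩), ?_, ?_, ?_, ?_⟩
  · intro π
    obtain ⟨g, hg⟩ := hge π.2
    exact ⟨g, Subtype.ext hg⟩
  · intro g hg
    refine LocalData.blockHom_ker five_lattice five_gen five_card five_block (m := 7200)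
      (by norm_num) ?_ (by decide +kernel) (g := g)
      (tenMap.injective ((congrArg Subtype.val hg).trans (map_one tenMap).symm))
    show 7200 ≤ Nat.card ψ.range
    refine wreath_card.trans ?_
    rw [← le_antisymm hle hge, MonoidHom.range_comp]
    exact (Nat.card_congr (ψ.range.equivMapOfInjective _ tenMap.injective).toEquiv).ge
  · exact fun g hg => LocalData.blockHom_faithful five_lattice five_gen five_card five_block
      fun h => hg (Subtype.ext (by
        show tenMap (ψ g) = 1
        rw [show ψ g = 1 from h, map_one]))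
  · exact fun g hg => Subtype.ext (by
      show tenMap (ψ g) = 1
      rw [show ψ g = 1 from LocalData.blockHom_center five_lattice five_gen five_card five_block hg,
        map_one])

end CfsgLib.Trans3
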