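import Cfsg.Agent.Lib.Trans3.LocalLattice
import Cfsg.Agent.Lib.Trans3.Co1Twenty3

/-!
# The centraliser given by a checked certificate: generators, blocks, kernel
-/

set_option autoImplicit false
set_option maxRecDepth 100000
set_option synthInstance.maxSize 2000

namespace CfsgLib.Trans3

open Cfsg CfsgLib.Golay CfsgLib.Mathieu
open scoped Pointwise

namespace LocalData

variable {D : LocalData}

theorem mono_congr {σ τ : Equiv.Perm GolayPt} {hσ : σ ∈ M24} {hτ : τ ∈ M24} {c d : Finset GolayPt}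
    {hc : c ∈ supports (golayCode : Set (GolayPt → ZMod 2))}
    {hd : d ∈ supports (golayCode : Set (GolayPt → ZMod 2))} (e : σ = τ) (e' : c = d) :
    monoCo0 σ hσ c hc = monoCo0 τ hτ d hd := by
  subst e; subst e'; rfl

theorem mono_one (hσ : (1 : Equiv.Perm GolayPt) ∈ M24) : monoCo0 1 hσ ∅ empty_code = 1 := by
  refine co0_ext fun v => Subtype.ext ?_
  rw [one_smul, monoCo0_smul]
  funext i
  simp [signedPerm, Equiv.Perm.one_symm]

/-- A monomial generator. -/
noncomputable def monoGen (σ c : ℕ) : Co0 :=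
  if hh : inM24 σ = true ∧ isCode c = true then
    monoCo0 (permOf σ) (inM24_mem hh.1) (mset c) (mem_supports_iff.2 ⟨c, hh.2, rfl⟩)
  else 1

/-- A generator given by a matrix. -/
noncomputable def matGen (M : GolayPt → GolayPt → ℤ) : Co0 :=
  if hh : matOK M = true then matCo0 M hh else 1

/-- The generators. -/
noncomputable def gen (D : LocalData) (i : ℕ) : Co0 :=
  if i < D.monos.length then monoGen (D.gPerm i) (D.gSign i) else matGen (D.gMat (i - D.monos.length))

/-- The element of a word. -/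
noncomputable def word (D : LocalData) : List ℕ → Co0
  | [] => 1
  | i :: l => D.gen i * word D l

/-- The centraliser of the element. -/
noncomputable abbrev cent (D : LocalData) (h : D.LatticeOK) : Subgroup Co0 :=
  Subgroup.centralizer {D.A h}

/-- The subgroup generated by the generators. -/
noncomputable def genGrp (D : LocalData) : Subgroup Co0 :=
  Subgroup.closure {g | ∃ i < D.nGen, g = D.gen i}

section

variable (h : D.LatticeOK) (hg : D.GenOK)

include h

theorem mem_cent {g : Co0} : g ∈ D.cent h ↔ g * D.A h = D.A h * g :=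
  Subgroup.mem_centralizer_singleton_iff

omit h in
include hg in
theorem mono_gen {i : ℕ} (hi : i < D.monos.length) : ∃ (hσ : permOf (D.gPerm i) ∈ M24) (hc : _),
    D.gen i = monoCo0 (permOf (D.gPerm i)) hσ (mset (D.gSign i)) hc := by
  refine ⟨inM24_mem (hg.mono i hi).1, mem_supports_iff.2 ⟨_, (hg.mono i hi).2, rfl⟩, ?_⟩
  rw [gen, if_pos hi, monoGen, dif_pos (hg.mono i hi)]

omit h in
include hg in
theorem mono_smul {i : ℕ} (hi : i < D.monos.length) (v : leechLattice) (q : GolayPt) :
    ((D.gen i • v : leechLattice) : GolayPt → ℤ) (permOf (D.gPerm i) q) =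
      if (D.gSign i).testBit (img (D.gPerm i) (idx q)) then -(v : GolayPt → ℤ) q
      else (v : GolayPt → ℤ) q := by
  obtain ⟨hσ, hc, e⟩ := mono_gen hg hi
  have hv := inM24_valid (hg.mono i hi).1
  rw [e, monoCo0_smul]
  simp only [signedPerm, Equiv.symm_apply_apply, mem_mset]
  rw [permOf_apply hv, idx_pt (valid_lt hv (idx_lt q))]

omit h in
include hg in
theorem mat_gen {i : ℕ} (hi : ¬ i < D.monos.length) (hi' : i < D.nGen) (v : leechLattice) :
    ((D.gen i • v : leechLattice) : GolayPt → ℤ) = matFun (D.gMat (i - D.monos.length)) v := by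
  have hm := hg.mat (i - D.monos.length) (by simp only [nGen] at hi'; omega)
  rw [gen, if_neg hi, matGen, dif_pos hm, matCo0_smul]

include hg in
theorem gen_acts {i : ℕ} (hi : i < D.nGen) (k : Fin 8) :
    D.gen i • D.lift h (Pi.single k 1) = D.lift h (D.g8 i k) := by
  refine Subtype.ext (funext fun q => ?_)
  by_cases hm : i < D.monos.length
  · obtain ⟨q, rfl⟩ := (permOf (D.gPerm i)).surjective q
    rw [mono_smul hg hm, lift_coe, lift_coe]
    have := hg.mono_acts i hm k _ (idx_lt q)
    simp only [pt_idx] at this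
    simp only [vec, permOf_apply (inM24_valid (hg.mono i hm).1) q, this]
  · rw [mat_gen hg hm hi, lift_coe, lift_coe]
    have := hg.mat_acts (i - D.monos.length) (by simp only [nGen] at hi; omega) k _ (idx_lt q)
    rw [pt_idx, show D.monos.length + (i - D.monos.length) = i by omega] at this
    exact this

include hg in
theorem gen_cls {i : ℕ} (hi : i < D.nGen) (s : Fin 256) :
    leechR.cls (D.gen i • D.hv h s) = leechR.cls (D.hv h (D.tbl i s)) := by
  have e : D.gen i • D.hv h s = D.lift h (fun j => ∑ k, bits s k * D.g8 i k j) := by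
    have h1 : bits s = ∑ k, bits s k • (Pi.single k 1 : Fin 8 → ℤ) := by
      funext j
      simp only [Finset.sum_apply, Pi.smul_apply, Pi.single_apply, smul_eq_mul, mul_ite, mul_one,
        mul_zero, Finset.sum_ite_eq, Finset.mem_univ, if_true]
    have h2 : (fun j => ∑ k, bits s k * D.g8 i k j) = ∑ k, bits s k • D.g8 i k := by
      funext j; simp [Finset.sum_apply]
    rw [hv, h2]
    conv_lhs => rw [h1]
    rw [map_sum, map_sum]
    refine (map_sum (co0Hom (D.gen i)) _ _).trans (Finset.sum_congr rfl fun k _ => ?_)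
    rw [map_zsmul, map_zsmul, map_zsmul]
    congr 1
    exact gen_acts h hg hi k
  rw [e, lift_cls h]
  rfl

include hg in
theorem gen_mem {i : ℕ} (hi : i < D.nGen) : D.gen i ∈ D.cent h := by
  rw [mem_cent]
  refine co0_ext fun v => Subtype.ext (funext fun q => ?_)
  have hs := sigma_valid h
  by_cases hm : i < D.monos.length
  · have hv' := inM24_valid (hg.mono i hm).1
    obtain ⟨p, rfl⟩ := (permOf (D.gPerm i)).surjective q
    obtain ⟨p, rfl⟩ := (permOf D.sigma).surjective p
    rw [mul_smul, mono_smul hg hm, A_smul h, mul_smul]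
    obtain ⟨h1, h2⟩ := hg.mono_comm i hm _ (idx_lt p)
    have e : permOf (D.gPerm i) (permOf D.sigma p) = permOf D.sigma (permOf (D.gPerm i) p) := by
      rw [permOf_apply hv', permOf_apply hs, permOf_apply hv', permOf_apply hs,
        idx_pt (valid_lt hs (idx_lt p)), idx_pt (valid_lt hv' (idx_lt p)), h1]
    rw [e, A_smul h, mono_smul hg hm, permOf_apply hs, idx_pt (valid_lt hs (idx_lt p)), h2]
  · obtain ⟨r, rfl⟩ := (permOf D.sigma).surjective q
    rw [mul_smul, mul_smul, A_smul h, mat_gen hg hm hi, mat_gen hg hm hi]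
    simp only [matFun]
    congr 1
    simp only [dotInt]
    rw [← Equiv.sum_comp (permOf D.sigma)
      (fun p => D.gMat (i - D.monos.length) (permOf D.sigma r) p *
        ((D.A h • v : leechLattice) : GolayPt → ℤ) p)]
    refine Finset.sum_congr rfl fun p _ => ?_
    rw [A_smul h, permOf_apply hs r, permOf_apply hs p]
    have := hg.mat_comm (i - D.monos.length) (by simp only [nGen] at hi; omega) _ (idx_lt r) _ (idx_lt p)
    rw [pt_idx, pt_idx] at this
    rw [this]

include hg in
theorem genGrp_le : D.genGrp ≤ D.cent h :=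
  (Subgroup.closure_le _).2 fun _ ⟨_, hi, e⟩ => e ▸ gen_mem h hg hi

include hg in
theorem word_cls : ∀ l : List ℕ, (∀ i ∈ l, i < D.nGen) → ∀ s,
    leechR.cls (D.word l • D.hv h s) = leechR.cls (D.hv h (D.wTbl l s))
  | [], _, s => by rw [word, one_smul]; rfl
  | i :: l, hl, s => by
    rw [word, mul_smul, co0_cls _ (word_cls l (fun j hj => hl j (List.mem_cons_of_mem _ hj)) s),
      gen_cls h hg (hl i List.mem_cons_self)]
    rfl

omit h in
theorem word_mem : ∀ l : List ℕ, (∀ i ∈ l, i < D.nGen) → D.word l ∈ D.genGrp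
  | [], _ => Subgroup.one_mem _
  | i :: l, hl => Subgroup.mul_mem _ (Subgroup.subset_closure ⟨i, hl i List.mem_cons_self, rfl⟩)
      (word_mem l fun j hj => hl j (List.mem_cons_of_mem _ hj))

end

theorem wAct_spec (hb : D.BlockOK) : ∀ l : List ℕ, (∀ i ∈ l, i < D.nGen) →
    ∀ (j : Fin D.numBlocks) (s : Fin 256), D.inBlock j s = D.inBlock (D.wAct l j) (D.wTbl l s)
  | [], _, _, _ => rfl
  | i :: l, hl, j, s => by
    rw [wAct_spec hb l (fun k hk => hl k (List.mem_cons_of_mem _ hk)) j s,
      hb.act i (hl i List.mem_cons_self)]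
    rfl

/-- The hypothesis on the centraliser in the permutation group. -/
def CardOK (D : LocalData) : Prop :=
  Nat.card {σ : Equiv.Perm GolayPt // σ ∈ M24 ∧ σ * permOf D.sigma = permOf D.sigma * σ} ≤ D.elts.length

section

variable (h : D.LatticeOK) (hg : D.GenOK) (hcard : D.CardOK)

include h hg hcard

theorem elt_cases {σ : M24} (hc : σ * D.perm h = D.perm h * σ) :
    ∃ k : Fin D.elts.length, (σ : Equiv.Perm GolayPt) = permOf (D.elts.getD k.val 0) := by
  classical
  let f : Fin D.elts.length →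
      {σ : Equiv.Perm GolayPt // σ ∈ M24 ∧ σ * permOf D.sigma = permOf D.sigma * σ} := fun k =>
    ⟨permOf (D.elts.getD k.val 0), inM24_mem (hg.elts_ok k.val k.2).1, Equiv.ext fun q => by
      have hv := inM24_valid (hg.elts_ok k.val k.2).1
      have hs := sigma_valid h
      rw [Equiv.Perm.mul_apply, Equiv.Perm.mul_apply, permOf_apply hs q, permOf_apply hv q,
        permOf_apply hv, permOf_apply hs, idx_pt (valid_lt hs (idx_lt q)),
        idx_pt (valid_lt hv (idx_lt q)), (hg.elts_ok k.val k.2).2 _ (idx_lt q)]⟩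
  have hf : Function.Injective f := fun a b hab => by
    have hp : permOf (D.elts.getD a.val 0) = permOf (D.elts.getD b.val 0) := congrArg Subtype.val hab
    have himg : imgsOf (D.elts.getD a.val 0) = imgsOf (D.elts.getD b.val 0) := by
      refine List.map_congr_left fun i hi => ?_
      have hi' := List.mem_range.1 hi
      have e1 := congrArg (fun σ : Equiv.Perm GolayPt => idx (σ (pt i))) hp
      have va := inM24_valid (hg.elts_ok a.val a.2).1
      have vb := inM24_valid (hg.elts_ok b.val b.2).1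
      simp only [permOf_pt va hi', permOf_pt vb hi', idx_pt (valid_lt va hi'),
        idx_pt (valid_lt vb hi')] at e1
      exact e1
    rw [List.getD_eq_getElem _ _ a.2, List.getD_eq_getElem _ _ b.2] at himg
    exact Fin.ext ((hg.elts_nodup.getElem_inj_iff (hi := by rw [List.length_map]; exact a.2)
      (hj := by rw [List.length_map]; exact b.2)).1 (by simpa using himg))
  have hle : Nat.card {σ : Equiv.Perm GolayPt // σ ∈ M24 ∧ σ * permOf D.sigma = permOf D.sigma * σ} ≤
      Nat.card (Fin D.elts.length) := by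
    rw [Nat.card_eq_fintype_card (α := Fin _), Fintype.card_fin]; exact hcard
  have hsurj := (hf.bijective_of_nat_card_le hle).2
  have hc' : (σ : Equiv.Perm GolayPt) * permOf D.sigma = permOf D.sigma * (σ : Equiv.Perm GolayPt) := by
    have e := congrArg (fun τ : M24 => (τ : Equiv.Perm GolayPt)) hc
    simp only [Subgroup.coe_mul, perm] at e
    exact e
  obtain ⟨k, hk⟩ := hsurj ⟨(σ : Equiv.Perm GolayPt), σ.2, hc'⟩
  exact ⟨k, (congrArg Subtype.val hk).symm⟩

theorem elt_mem : ∀ k < D.elts.length, ∀ hm : permOf (D.elts.getD k 0) ∈ M24,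
    monoCo0 (permOf (D.elts.getD k 0)) hm ∅ empty_code ∈ D.genGrp := by
  intro k
  induction k using Nat.strong_induction_on with
  | _ k ih =>
    intro hk hm
    rcases Nat.eq_zero_or_pos k with rfl | hk0
    · have e : permOf (D.elts.getD 0 0) = 1 := Equiv.ext fun q => by
        rw [permOf_apply (inM24_valid (hg.elts_ok 0 hk).1), hg.elts_head _ (idx_lt q), pt_idx]
        rfl
      rw [mono_congr (hτ := M24.one_mem) (hd := empty_code) e rfl, mono_one]
      exact Subgroup.one_mem _
    · obtain ⟨j, rfl⟩ : ∃ j, k = j + 1 := ⟨k - 1, by omega⟩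
      obtain ⟨h1, h2, h3, h4⟩ := hg.elts_tree j (by have := hg.elts_len; omega)
      set g := (D.eltTree.getD j (0, 0)).1
      set par := (D.eltTree.getD j (0, 0)).2
      obtain ⟨hσ, hc, e⟩ := mono_gen hg h1
      have hp := ih par (by omega) (by omega) (inM24_mem (hg.elts_ok par (by omega)).1)
      have hgm : D.gen g ∈ D.genGrp :=
        Subgroup.subset_closure ⟨g, by simp only [nGen]; omega, rfl⟩
      have h0 : mset (D.gSign g) = ∅ := by rw [h3]; ext q; simp [mem_mset]
      have hprod := Subgroup.mul_mem _ hgm hp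
      rw [e] at hprod
      simp only [h0] at hprod
      rw [monoCo0_mul (⟨_, hσ⟩ : M24) ⟨_, inM24_mem (hg.elts_ok par (by omega)).1⟩] at hprod
      have e2 : permOf (D.elts.getD (j + 1) 0) = permOf (D.gPerm g) * permOf (D.elts.getD par 0) := by
        refine Equiv.ext fun q => ?_
        have vp := inM24_valid (hg.elts_ok par (by omega)).1
        rw [Equiv.Perm.mul_apply, permOf_apply (inM24_valid (hg.elts_ok _ hk).1), permOf_apply vp,
          permOf_apply (inM24_valid (hg.mono g h1).1), idx_pt (valid_lt vp (idx_lt q)), h4 _ (idx_lt q)]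
      refine Eq.subst (motive := fun x => x ∈ D.genGrp) ?_ hprod
      refine mono_congr e2.symm ?_
      rw [Finset.smul_finset_empty, symmDiff_self]; rfl

theorem code_mem {c : ℕ} (hc : c ∈ D.codes) (hcs : mset c ∈ supports (golayCode : Set (GolayPt → ZMod 2))) :
    monoCo0 1 (one_mem _) (mset c) hcs ∈ D.genGrp := by
  obtain ⟨i, hi, e1, e2⟩ := hg.codes_gen c hc
  obtain ⟨hσ, hc', e⟩ := mono_gen hg hi
  have hgm : D.gen i ∈ D.genGrp := Subgroup.subset_closure ⟨i, by simp only [nGen]; omega, rfl⟩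
  have e3 : permOf (D.gPerm i) = 1 := Equiv.ext fun q => by
    rw [permOf_apply (inM24_valid (hg.mono i hi).1), e2 _ (idx_lt q), pt_idx]; rfl
  rw [e] at hgm
  refine Eq.subst (motive := fun x => x ∈ D.genGrp) ?_ hgm
  exact mono_congr e3 (by rw [e1])

/-- The elements of the centraliser in the monomial group. -/
theorem cent_N0 {g : Co0} (hgc : g ∈ D.cent h) (hgN : g ∈ N0) :
    ∃ (k : Fin D.elts.length) (i : Fin D.codes.length),
      g ∈ D.genGrp ∧ ∀ (hm : _) (hc : _),
        g = monoCo0 (permOf (D.elts.getD k.val 0)) hm (mset (D.codes.getD i.val 0)) hc := by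
  obtain ⟨τ, c, hc, e⟩ := N0_rep hgN
  have h' := (mem_cent h).1 hgc
  rw [e, A, show monoCo0 (permOf D.sigma) (inM24_mem h.sigma_mem) ∅ empty_code =
    monoCo0 (D.perm h) (D.perm h).2 ∅ empty_code from rfl, monoCo0_mul, monoCo0_mul] at h'
  obtain ⟨h1, h2⟩ := monoCo0_inj h'
  have hsc : permOf D.sigma • c = c := by
    rw [Finset.smul_finset_empty, ← Finset.bot_eq_empty, symmDiff_bot, bot_symmDiff] at h2
    exact h2.symm
  obtain ⟨m, hm, hmc⟩ := mem_supports_iff.1 hc
  rw [← hmc, smul_mset (sigma_valid h)] at hsc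
  have hm2 := mset_inj (mimg_lt (sigma_valid h) m) (isCode_lt hm) hsc
  have hl : m ∈ D.codes := by
    have := hg.codes (m % 4096) (Nat.mod_lt _ (by norm_num))
    rw [isCode_iff.1 hm] at this
    exact this hm2
  obtain ⟨k, hk⟩ := elt_cases h hg hcard (σ := τ) (Subtype.ext h1)
  obtain ⟨i, hi, him⟩ := List.getElem_of_mem hl
  refine ⟨k, ⟨i, hi⟩, ?_, fun hm' hc' => ?_⟩
  · have hm' := inM24_mem (hg.elts_ok k.val k.2).1
    have hprod := Subgroup.mul_mem _ (code_mem h hg hcard hl (mem_supports_iff.2 ⟨m, hm, rfl⟩))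
      (elt_mem h hg hcard k.val k.2 hm')
    have hmul := monoCo0_mul (1 : M24) ⟨_, hm'⟩ (mem_supports_iff.2 ⟨m, hm, rfl⟩) empty_code
    rw [e]
    refine Eq.subst (motive := fun x => x ∈ D.genGrp) (hmul.trans (mono_congr ?_ ?_)) hprod
    · rw [one_mul]; exact hk.symm
    · rw [Finset.smul_finset_empty, ← Finset.bot_eq_empty, symmDiff_bot, hmc]
  · rw [e]
    exact mono_congr hk (by rw [List.getD_eq_getElem _ _ hi, him, hmc])

theorem cent_step {g : Co0} (hgc : g ∈ D.cent h) :
    ∃ k : Fin D.reach.length, (D.word (D.reachWord k.val))⁻¹ * g ∈ D.cent h ∧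
      (D.word (D.reachWord k.val))⁻¹ * g ∈ N0 := by
  have hfix : leechR.cls (D.A h • g • D.hv h (Fin.ofNat 256 D.e0)) =
      leechR.cls (g • D.hv h (Fin.ofNat 256 D.e0)) := by
    rw [← mul_smul, ← (mem_cent h).1 hgc, mul_smul,
      show D.A h • D.hv h (Fin.ofNat 256 D.e0) = D.hv h (Fin.ofNat 256 D.e0) from A_fix h _]
  obtain ⟨t, ht⟩ := (cls_fixed h _).1 hfix
  have h8 : D.eight t := by
    refine (hv_norm8 h t).1 ?_
    obtain ⟨w, hw, hwc⟩ := (hv_norm8 h _).2 h.e0_eight
    exact ⟨g • w, (co0_q g w).trans hw, (co0_cls g hwc).trans ht⟩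
  obtain ⟨k, hk, hkt⟩ := hg.reach t h8
  refine ⟨⟨k, hk⟩, Subgroup.mul_mem _ (Subgroup.inv_mem _ (genGrp_le h hg
    (word_mem _ (hg.reach_lt k hk)))) hgc, ?_⟩
  rw [mem_N0_iff' h, mul_smul, co0_cls _ ht, ← hkt,
    ← co0_cls _ (word_cls h hg _ (hg.reach_lt k hk) _), inv_smul_smul]

theorem cent_eq : D.cent h = D.genGrp := by
  refine le_antisymm (fun g hgc => ?_) (genGrp_le h hg)
  obtain ⟨k, hk1, hk2⟩ := cent_step h hg hcard hgc
  obtain ⟨-, -, hW, -⟩ := cent_N0 h hg hcard hk1 hk2
  have := Subgroup.mul_mem _ (word_mem _ (hg.reach_lt k.val k.2)) hW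
  rwa [mul_inv_cancel_left] at this

theorem card_cent : Nat.card (D.cent h) ≤ D.reach.length * (D.elts.length * D.codes.length) := by
  choose k hk1 hk2 using fun g : D.cent h => cent_step h hg hcard g.2
  choose a b _ hab using fun g : D.cent h => cent_N0 h hg hcard (hk1 g) (hk2 g)
  refine (Nat.card_le_card_of_injective (fun g => (k g, a g, b g)) fun x y hxy => ?_).trans ?_
  · simp only [Prod.mk.injEq] at hxy
    obtain ⟨e1, e2, e3⟩ := hxy
    have hm := inM24_mem (hg.elts_ok (a x).val (a x).2).1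
    have hc : mset (D.codes.getD (b x).val 0) ∈ supports (golayCode : Set (GolayPt → ZMod 2)) := by
      obtain ⟨i, hi, he, -⟩ := hg.codes_gen (D.codes.getD (b x).val 0)
        (by rw [List.getD_eq_getElem _ _ (b x).2]; exact List.getElem_mem _)
      exact mem_supports_iff.2 ⟨_, he ▸ (hg.mono i hi).2, rfl⟩
    have h1 := hab x hm hc
    have h2 := hab y (e2 ▸ hm) (e3 ▸ hc)
    have h3 : (D.word (D.reachWord (k x).val))⁻¹ * (x : Co0) =
        (D.word (D.reachWord (k x).val))⁻¹ * (y : Co0) := by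
      refine h1.trans (Eq.trans (mono_congr ?_ ?_) (e1 ▸ h2).symm)
      · rw [e2]
      · rw [e3]
    exact Subtype.ext (mul_left_cancel h3)
  · simp

theorem cls_exists (g : D.cent h) (s : Fin 256) :
    ∃ t, leechR.cls ((g : Co0) • D.hv h s) = leechR.cls (D.hv h t) := by
  refine (cls_fixed h _).1 ?_
  rw [← mul_smul, ← (mem_cent h).1 g.2, mul_smul, show D.A h • D.hv h s = D.hv h s from A_fix h _]

end

/-- The action on the fixed classes. -/
noncomputable def act (D : LocalData) (h : D.LatticeOK) (hg : D.GenOK) (hcard : D.CardOK)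
    (g : D.cent h) (s : Fin 256) : Fin 256 :=
  (cls_exists h hg hcard g s).choose

section

variable (h : D.LatticeOK) (hg : D.GenOK) (hcard : D.CardOK)

include h hg hcard

theorem act_spec (g : D.cent h) (s : Fin 256) :
    leechR.cls ((g : Co0) • D.hv h s) = leechR.cls (D.hv h (D.act h hg hcard g s)) :=
  (cls_exists h hg hcard g s).choose_spec

theorem act_eq {g : D.cent h} {s t : Fin 256}
    (e : leechR.cls ((g : Co0) • D.hv h s) = leechR.cls (D.hv h t)) : D.act h hg hcard g s = t :=
  hv_inj h ((act_spec h hg hcard g s).symm.trans e)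

theorem act_one (s : Fin 256) : D.act h hg hcard 1 s = s :=
  act_eq h hg hcard (by rw [Subgroup.coe_one, one_smul])

theorem act_mul (a b : D.cent h) (s : Fin 256) :
    D.act h hg hcard (a * b) s = D.act h hg hcard a (D.act h hg hcard b s) :=
  act_eq h hg hcard (by
    rw [Subgroup.coe_mul, mul_smul, co0_cls _ (act_spec h hg hcard b s), act_spec h hg hcard a _])

theorem act_surjective (a : D.cent h) : Function.Surjective (D.act h hg hcard a) := fun s =>
  ⟨D.act h hg hcard a⁻¹ s, by rw [← act_mul, mul_inv_cancel, act_one]⟩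

variable (hb : D.BlockOK)

include hb

theorem block_unique {g : D.cent h} {π π' : Fin D.numBlocks → Fin D.numBlocks}
    (h1 : ∀ j s, D.inBlock j s = D.inBlock (π j) (D.act h hg hcard g s))
    (h2 : ∀ j s, D.inBlock j s = D.inBlock (π' j) (D.act h hg hcard g s)) : π = π' := by
  funext j
  refine hb.distinct _ _ (Nat.eq_of_testBit_eq fun i => ?_)
  by_cases hi : i < 256
  · obtain ⟨s, hs⟩ := act_surjective h hg hcard g ⟨i, hi⟩
    have := (h1 j s).symm.trans (h2 j s)
    rw [hs] at this
    exact this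
  · have hle : 2 ^ 256 ≤ 2 ^ i := Nat.pow_le_pow_right (by norm_num) (by omega)
    rw [Nat.testBit_lt_two_pow ((hb.small _).trans_le hle),
      Nat.testBit_lt_two_pow ((hb.small _).trans_le hle)]

theorem block_exists (g : D.cent h) : ∃ π : Equiv.Perm (Fin D.numBlocks),
    ∀ j s, D.inBlock j s = D.inBlock (π j) (D.act h hg hcard g s) := by
  obtain ⟨g, hgc⟩ := g
  have hgW : g ∈ D.genGrp := cent_eq h hg hcard ▸ hgc
  revert hgc
  induction hgW using Subgroup.closure_induction with
  | mem x hx =>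
    obtain ⟨i, hi, rfl⟩ := hx
    intro hgc
    refine ⟨Equiv.ofBijective (D.bAct i) (Finite.injective_iff_bijective.1 (hb.act_inj i hi)),
      fun j s => ?_⟩
    rw [act_eq h hg hcard (g := ⟨_, hgc⟩) (gen_cls h hg hi s)]
    exact hb.act i hi s j
  | one => exact fun hgc => ⟨1, fun j s => by rw [show (⟨1, hgc⟩ : D.cent h) = 1 from rfl, act_one]; rfl⟩
  | mul x y hx hy ihx ihy =>
    intro hgc
    have hx' := genGrp_le h hg hx
    have hy' := genGrp_le h hg hy
    obtain ⟨a, ha⟩ := ihx hx'
    obtain ⟨b, hb'⟩ := ihy hy'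
    refine ⟨a * b, fun j s => ?_⟩
    rw [show (⟨x * y, hgc⟩ : D.cent h) = ⟨x, hx'⟩ * ⟨y, hy'⟩ from rfl, act_mul, hb' j s, ha]
    rfl
  | inv x hx ihx =>
    intro hgc
    have hx' := genGrp_le h hg hx
    obtain ⟨a, ha⟩ := ihx hx'
    refine ⟨a⁻¹, fun j s => ?_⟩
    have := ha (a⁻¹ j) (D.act h hg hcard ⟨x⁻¹, hgc⟩ s)
    rw [← act_mul, show (⟨x, hx'⟩ : D.cent h) * ⟨x⁻¹, hgc⟩ = 1 from Subtype.ext (mul_inv_cancel x),
      act_one, Equiv.Perm.coe_inv, Equiv.apply_symm_apply] at this
    exact this.symm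

/-- The action on the blocks. -/
noncomputable def blockHom : D.cent h →* Equiv.Perm (Fin D.numBlocks) :=
  MonoidHom.mk' (fun g => (block_exists h hg hcard hb g).choose) fun a b => by
    refine Equiv.ext (congrFun (block_unique h hg hcard hb (g := a * b)
      (block_exists h hg hcard hb (a * b)).choose_spec fun j s => ?_))
    rw [act_mul, (block_exists h hg hcard hb b).choose_spec j s,
      (block_exists h hg hcard hb a).choose_spec]
    rfl

theorem blockHom_spec (g : D.cent h) (j : Fin D.numBlocks) (s : Fin 256) :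
    D.inBlock j s = D.inBlock (blockHom h hg hcard hb g j) (D.act h hg hcard g s) :=
  (block_exists h hg hcard hb g).choose_spec j s

theorem blockHom_word {l : List ℕ} (hl : ∀ i ∈ l, i < D.nGen) :
    ⇑(blockHom h hg hcard hb ⟨D.word l, genGrp_le h hg (word_mem l hl)⟩) = D.wAct l := by
  refine block_unique h hg hcard hb (blockHom_spec h hg hcard hb _) ?_
  intro j s
  rw [act_eq h hg hcard (g := ⟨D.word l, _⟩) (word_cls h hg l hl s)]
  exact wAct_spec hb l hl j s

theorem blockHom_range_le {X : Subgroup (Equiv.Perm (Fin D.numBlocks))}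
    (hX : ∀ i < D.nGen, ∀ π : Equiv.Perm (Fin D.numBlocks), ⇑π = D.bAct i → π ∈ X) :
    (blockHom h hg hcard hb).range ≤ X := by
  rintro _ ⟨⟨g, hgc⟩, rfl⟩
  have hgW : g ∈ D.genGrp := cent_eq h hg hcard ▸ hgc
  revert hgc
  induction hgW using Subgroup.closure_induction with
  | mem x hx =>
    obtain ⟨i, hi, rfl⟩ := hx
    intro hgc
    refine hX i hi _ ?_
    have hl : ∀ j ∈ [i], j < D.nGen := by simpa using hi
    have e := blockHom_word h hg hcard hb hl
    rw [show (⟨D.word [i], genGrp_le h hg (word_mem _ hl)⟩ : D.cent h) = ⟨D.gen i, hgc⟩ from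
      Subtype.ext (by simp [word])] at e
    rw [e]; rfl
  | one => exact fun hgc => by rw [show (⟨1, hgc⟩ : D.cent h) = 1 from rfl, map_one]; exact X.one_mem
  | mul x y hx hy ihx ihy =>
    intro hgc
    rw [show (⟨x * y, hgc⟩ : D.cent h) = ⟨x, genGrp_le h hg hx⟩ * ⟨y, genGrp_le h hg hy⟩ from rfl,
      map_mul]
    exact X.mul_mem (ihx _) (ihy _)
  | inv x hx ihx =>
    intro hgc
    rw [show (⟨x⁻¹, hgc⟩ : D.cent h) = ⟨x, genGrp_le h hg hx⟩⁻¹ from rfl, map_inv]
    exact X.inv_mem (ihx _)

theorem blockHom_trivial {g : D.cent h} (hgs : ∀ s, D.act h hg hcard g s = s) :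
    blockHom h hg hcard hb g = 1 :=
  Equiv.ext (congrFun (block_unique h hg hcard hb (g := g) (blockHom_spec h hg hcard hb g)
    (π' := fun j => j) fun j s => by rw [hgs]))

theorem blockHom_center {g : D.cent h} (hgv : (g : Co0) = negCo0 ∨ (g : Co0) = D.A h) :
    blockHom h hg hcard hb g = 1 := by
  refine blockHom_trivial h hg hcard hb fun s => act_eq h hg hcard ?_
  rcases hgv with e | e <;> rw [e]
  · rw [negCo0_smul]; exact leechR.cls_eq_iff.2 ⟨-D.hv h s, by abel⟩
  · rw [show D.A h • D.hv h s = D.hv h s from A_fix h _]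

theorem blockHom_faithful {g : D.cent h} (hne : blockHom h hg hcard hb g ≠ 1) :
    ∃ s, leechR.cls ((g : Co0) • D.hv h s) ≠ leechR.cls (D.hv h s) := by
  by_contra hall
  push Not at hall
  exact hne (blockHom_trivial h hg hcard hb fun s => act_eq h hg hcard (hall s))

/-- The kernel of the action on the blocks is generated by `-1` and the element. -/
theorem blockHom_ker {m : ℕ} (hm : 0 < m) (hle : m ≤ Nat.card (blockHom h hg hcard hb).range)
    (hcount : D.reach.length * (D.elts.length * D.codes.length) ≤ 2 * D.p * m)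
    {g : D.cent h} (hgk : blockHom h hg hcard hb g = 1) :
    ∃ i < D.p, (g : Co0) = D.A h ^ i ∨ (g : Co0) = negCo0 * D.A h ^ i := by
  set φ := blockHom h hg hcard hb
  have hk : Nat.card φ.ker ≤ 2 * D.p := by
    have h1 := φ.ker.card_mul_index
    rw [Subgroup.index_ker] at h1
    have h2 : Nat.card φ.ker * m ≤ 2 * D.p * m :=
      ((Nat.mul_le_mul_left _ hle).trans (h1.le.trans (card_cent h hg hcard))).trans hcount
    exact Nat.le_of_mul_le_mul_right h2 hm
  have hA : D.A h ∈ D.cent h := (mem_cent h).2 rfl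
  have hN : negCo0 ∈ D.cent h :=
    (mem_cent h).2 (Subgroup.mem_center_iff.1 negCo0_central (D.A h)).symm
  have hkA : (⟨D.A h, hA⟩ : D.cent h) ∈ φ.ker := blockHom_center h hg hcard hb (Or.inr rfl)
  have hkN : (⟨negCo0, hN⟩ : D.cent h) ∈ φ.ker := blockHom_center h hg hcard hb (Or.inl rfl)
  let nN : φ.ker := ⟨⟨negCo0, hN⟩, hkN⟩
  let nA : φ.ker := ⟨⟨D.A h, hA⟩, hkA⟩
  let R : Fin 2 × Fin D.p → φ.ker := fun q => nN ^ q.1.val * nA ^ q.2.val
  have hcoe : ∀ q, ((R q : D.cent h) : Co0) = negCo0 ^ q.1.val * D.A h ^ q.2.val := fun q => by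
    simp only [R, Subgroup.coe_mul, SubgroupClass.coe_pow, nN, nA]
  have hnp : negCo0 ^ D.p = negCo0 := by
    obtain ⟨r, hr⟩ : ∃ r, D.p = 2 * r + 1 := ⟨D.p / 2, by have := h.odd; omega⟩
    rw [hr, pow_succ, pow_mul, pow_two, negCo0_sq, one_pow, one_mul]
  have hR : Function.Injective R := by
    rintro ⟨a, i⟩ ⟨b, j⟩ hab
    have h' : negCo0 ^ a.val * D.A h ^ i.val = negCo0 ^ b.val * D.A h ^ j.val := by
      rw [← hcoe (a, i), ← hcoe (b, j), hab]
    have hc : Commute negCo0 (D.A h) := (Subgroup.mem_center_iff.1 negCo0_central (D.A h)).symm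
    have h7 := congrArg (· ^ D.p) h'
    simp only [(hc.pow_pow _ _).mul_pow, ← pow_mul, Nat.mul_comm _ D.p] at h7
    simp only [pow_mul, A_pow h, one_pow, mul_one, hnp] at h7
    have hab' : a = b := by
      fin_cases a <;> fin_cases b <;> first | rfl | (exfalso; simp at h7; exact negCo0_ne_one (by simpa using h7.symm)) | (exfalso; simp at h7; exact negCo0_ne_one (by simpa using h7))
    subst hab'
    have h1 := mul_left_cancel h'
    rw [pow_eq_pow_iff_modEq, orderOf_A h] at h1
    refine Prod.ext rfl (Fin.ext ?_)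
    unfold Nat.ModEq at h1
    rwa [Nat.mod_eq_of_lt i.2, Nat.mod_eq_of_lt j.2] at h1
  obtain ⟨⟨a, i⟩, hai⟩ := (hR.bijective_of_nat_card_le (hk.trans (by simp))).2 ⟨g, hgk⟩
  have he : negCo0 ^ a.val * D.A h ^ i.val = (g : Co0) := by rw [← hcoe (a, i), hai]
  refine ⟨i.val, i.2, ?_⟩
  fin_cases a
  · left; simpa using he.symm
  · right; simpa using he.symm

end

end LocalData

end CfsgLib.Trans3
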