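import Cfsg.Agent.Lib.Trans3.MonsterBase
import Cfsg.Agent.Lib.Golay.StdCrossMax

/-!
# Groups of Monster type: the intersection of two conjugates of the large extraspecial subgroup
-/

set_option autoImplicit false

namespace CfsgLib.Trans3

open Cfsg CfsgLib.Golay
open scoped commutatorElement

variable {G : Type*} [Group G] [Finite G] {z : G} {Q : Subgroup (Subgroup.centralizer ({z} : Set G))}
  [Q.Normal] {e : (Subgroup.centralizer ({z} : Set G)) ⧸ Q ≃* Spor.Co1}
  {ψ : leechLattice → Q ⧸ Subgroup.center Q}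

/-- The part of the conjugate of `Q` inside the centralizer. -/
def monN (Q : Subgroup (Subgroup.centralizer ({z} : Set G))) (g : G) :
    Subgroup (Subgroup.centralizer ({z} : Set G)) :=
  ((Q.map (Subgroup.centralizer ({z} : Set G)).subtype).map (MulAut.conj g).toMonoidHom ⊓
    Subgroup.centralizer ({z} : Set G)).subgroupOf (Subgroup.centralizer ({z} : Set G))

omit [Finite G] [Q.Normal] in
theorem mem_monN {g : G} {a : Subgroup.centralizer ({z} : Set G)} :
    a ∈ monN Q g ↔ ∃ q : Q, g * qv q * g⁻¹ = (a : G) := by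
  constructor
  · intro h
    obtain ⟨_, ⟨c, hc, rfl⟩, hb⟩ := (Subgroup.mem_subgroupOf.1 h).1
    exact ⟨⟨c, hc⟩, hb⟩
  · rintro ⟨q, hq⟩
    exact Subgroup.mem_subgroupOf.2 ⟨⟨qv q, ⟨q, q.2, rfl⟩, hq⟩, a.2⟩

theorem mon_monN_card (hs : IsExtraspecialCentralizerSetting z Q 12) {g : G} {y : Q}
    (hy : qv y = g⁻¹ * z * g) (hyc : y ∉ Subgroup.center Q) : Nat.card (monN Q g) = 2 ^ 24 := by
  rw [← mon_card_fix hs hyc]
  have key : ∀ a : Q, g * qv a * g⁻¹ * z = z * (g * qv a * g⁻¹) ↔ a * y = y * a := fun a => by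
    rw [← qv_injective.eq_iff (a := a * y)]
    show _ ↔ qv a * qv y = qv y * qv a
    rw [hy, ← mul_right_inj (g⁻¹), ← mul_left_inj g]
    simp only [mul_assoc, inv_mul_cancel_left, inv_mul_cancel, mul_one]
  refine (Nat.card_congr (Equiv.ofBijective (fun a : {a : Q // a * y = y * a} =>
    (⟨⟨g * qv a.1 * g⁻¹, Subgroup.mem_centralizer_singleton_iff.2 ((key a.1).2 a.2)⟩,
      mem_monN.2 ⟨a.1, rfl⟩⟩ : monN Q g)) ⟨fun a b h => ?_, fun n => ?_⟩)).symm
  · exact Subtype.ext (qv_injective (mul_left_cancel (mul_right_cancel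
      (congrArg (fun w : monN Q g => ((w : Subgroup.centralizer ({z} : Set G)) : G)) h))))
  · obtain ⟨q, hq⟩ := mem_monN.1 n.2
    exact ⟨⟨q, (key q).1 (by rw [hq]; exact comm_z _)⟩, Subtype.ext (Subtype.ext hq)⟩

omit [Finite G] [Q.Normal] in
theorem monN_comm {g : G} {x : Q} (hg : g * z * g⁻¹ = qv x)
    {a : Subgroup.centralizer ({z} : Set G)} (ha : a ∈ monN Q g) :
    (a : G) * qv x = qv x * (a : G) := by
  obtain ⟨q, hq⟩ := mem_monN.1 ha
  rw [← hq, ← hg, show g * qv q * g⁻¹ * (g * z * g⁻¹) = g * (qv q * z) * g⁻¹ by group, comm_z (q : Subgroup.centralizer ({z} : Set G))]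
  group

omit [Finite G] in
theorem monN_conj {g : G} {x : Q} (hg : g * z * g⁻¹ = qv x)
    {h a : Subgroup.centralizer ({z} : Set G)} (hh : (h : G) * qv x = qv x * (h : G))
    (ha : a ∈ monN Q g) : h * a * h⁻¹ ∈ monN Q g := by
  obtain ⟨q, hq⟩ := mem_monN.1 ha
  let h' : Subgroup.centralizer ({z} : Set G) := ⟨g⁻¹ * h * g,
    Subgroup.mem_centralizer_singleton_iff.2 (by
      have h1 := congrArg (fun t => g⁻¹ * t * g) hh
      rw [← hg] at h1
      simpa [mul_assoc] using h1)⟩
  refine mem_monN.2 ⟨⟨h' * q * h'⁻¹, (inferInstance : Q.Normal).conj_mem _ q.2 h'⟩, ?_⟩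
  show g * (g⁻¹ * h * g * qv q * (g⁻¹ * h * g)⁻¹) * g⁻¹ = (h : G) * a * (h : G)⁻¹
  rw [← hq]
  group

omit [Q.Normal] in
theorem monN_inf_card (hs : IsExtraspecialCentralizerSetting z Q 12) {g : G} {x : Q}
    (hg : g * z * g⁻¹ = qv x) (hx1 : qv x ≠ z) :
    Nat.card ↥(monN Q g ⊓ Q) ≤ 2 ^ 13 := by
  set D := (monN Q g ⊓ Q).subgroupOf Q
  have hab : ∀ a ∈ D, ∀ b ∈ D, a * b = b * a := by
    intro a ha b hb
    obtain ⟨a', ha'⟩ := mem_monN.1 (Subgroup.mem_subgroupOf.1 ha).1
    obtain ⟨b', hb'⟩ := mem_monN.1 (Subgroup.mem_subgroupOf.1 hb).1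
    rw [← commutatorElement_eq_one_iff_mul_comm]
    apply qv_injective
    have hc := CfsgLib.Transfer.special_commutatorElement_mem_center hs.2.2.1.1
    rcases (mon_center_iff hs _).1 (hc a b) with h | h
    · exact h
    · exfalso
      have e1 : qv ⁅a, b⁆ = g * qv ⁅a', b'⁆ * g⁻¹ := by
        show qv a * qv b * (qv a)⁻¹ * (qv b)⁻¹ =
          g * (qv a' * qv b' * (qv a')⁻¹ * (qv b')⁻¹) * g⁻¹
        rw [show qv a = g * qv a' * g⁻¹ from ha'.symm, show qv b = g * qv b' * g⁻¹ from hb'.symm]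
        group
      rw [h] at e1
      rcases (mon_center_iff hs _).1 (hc a' b') with h' | h'
      · rw [h', mul_one, mul_inv_cancel] at e1
        have := hs.1
        rw [e1, orderOf_one] at this
        omega
      · rw [h', hg] at e1
        exact hx1 e1.symm
  have h := ex_abelian_sq_le hs.2.2.1 D hab
  rw [hs.2.2.2.1, Nat.card_congr (Subgroup.subgroupOfEquivOfLe
    (inf_le_right : monN Q g ⊓ Q ≤ Q)).toEquiv] at h
  by_contra hlt
  rw [not_le] at hlt
  have h' := Nat.pow_lt_pow_left hlt (by norm_num : (2 : ℕ) ≠ 0)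
  norm_num at h h' ⊢
  omega

/-- The homomorphism from a class stabilizer to the quotient of the centralizer. -/
noncomputable def monF (e : (Subgroup.centralizer ({z} : Set G)) ⧸ Q ≃* Spor.Co1) (v : leechLattice) :
    classStab v →* (Subgroup.centralizer ({z} : Set G)) ⧸ Q :=
  e.symm.toMonoidHom.comp ((QuotientGroup.mk' (Subgroup.center Co0)).comp (classStab v).subtype)

omit [Finite G] in
theorem monF_eq {v : leechLattice} {g : classStab v} {h : Subgroup.centralizer ({z} : Set G)} :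
    monF e v g = QuotientGroup.mk h ↔
      (QuotientGroup.mk (g : Co0) : Spor.Co1) = e (QuotientGroup.mk h) :=
  e.symm_apply_eq

omit [Finite G] in
theorem monF_ker {v : leechLattice} {g : classStab v} :
    g ∈ (monF e v).ker ↔ (g : Co0) ∈ Subgroup.center Co0 := by
  rw [MonoidHom.mem_ker, show (monF e v g = 1) ↔ e.symm (QuotientGroup.mk (g : Co0) : Spor.Co1) = 1
    from Iff.rfl, MulEquiv.map_eq_one_iff, QuotientGroup.eq_one_iff]

theorem negCo0_mem_classStab (v : leechLattice) : negCo0 ∈ classStab v :=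
  mem_classStab.2 (by rw [negCo0_smul, Rootless.cls_neg])

omit [Finite G] in
theorem monF_ker_card (v : leechLattice) : Nat.card (monF e v).ker = 2 := by
  rw [← card_center_Co0]
  refine Nat.card_congr ⟨fun g => ⟨(g : classStab v), monF_ker.1 g.2⟩, fun c => ⟨⟨c, ?_⟩,
    monF_ker.2 c.2⟩, fun g => rfl, fun c => rfl⟩
  rcases center_Co0 c.2 with h | h <;> rw [h]
  · exact Subgroup.one_mem _
  · exact negCo0_mem_classStab v

/-- The data attached to the conjugate of `Q`. -/
theorem mon_image (hs : IsExtraspecialCentralizerSetting z Q 12) (hψ : IsLeechModTwoIso Q e ψ)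
    {g : G} {x : Q} {v : leechLattice} (hg : g * z * g⁻¹ = qv x)
    (hv : ψ v = QuotientGroup.mk x) :
    (monN Q g).map (QuotientGroup.mk' Q) ≤ (monF e v).range ∧
      (((monN Q g).map (QuotientGroup.mk' Q)).comap (monF e v)).Normal ∧
      IsPGroup 2 ((((monN Q g).map (QuotientGroup.mk' Q)).comap (monF e v)) : Subgroup (classStab v)) := by
  haveI : Fact (Nat.Prime 2) := ⟨Nat.prime_two⟩
  refine ⟨?_, ?_, ?_⟩
  · rintro _ ⟨a, ha, rfl⟩
    obtain ⟨c, hc⟩ := QuotientGroup.mk_surjective (e (QuotientGroup.mk a))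
    exact ⟨⟨c, mon_stab_of_comm hψ hv hc (monN_comm hg ha)⟩, monF_eq.2 hc⟩
  · constructor
    intro n hn k
    obtain ⟨a, ha, hn'⟩ := hn
    obtain ⟨h, he, hh⟩ := mon_stab_lift hs hψ hv k.2
    refine ⟨h * a * h⁻¹, monN_conj hg hh ha, ?_⟩
    rw [map_mul, map_mul, map_inv, map_mul (monF e v), map_mul (monF e v), map_inv (monF e v), hn',
      monF_eq.2 he]
    rfl
  · refine IsPGroup.comap_of_ker_isPGroup ?_ _ (IsPGroup.of_card (n := 1) (monF_ker_card v))
    refine IsPGroup.map ?_ _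
    intro a
    obtain ⟨q, hq⟩ := mem_monN.1 a.2
    obtain ⟨m, hm⟩ := (IsPGroup.of_card (n := 25) hs.2.2.2.1 : IsPGroup 2 Q) q
    refine ⟨m, Subtype.ext (Subtype.ext ?_)⟩
    show ((a : Subgroup.centralizer ({z} : Set G)) : G) ^ 2 ^ m = 1
    rw [← hq, conj_pow, show qv q ^ 2 ^ m = 1 from congrArg qv hm, mul_one, mul_inv_cancel]

/-- A normal 2-subgroup of the stabilizer of a class of minimal vectors is central. -/
theorem classStab4_two_group {v : leechLattice} (hv : leechR.q v = 4) {P : Subgroup (classStab v)}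
    [P.Normal] (hneg : ∀ c : classStab v, (c : Co0) ∈ Subgroup.center Co0 → c ∈ P)
    (hP : IsPGroup 2 P) : ∀ g ∈ P, (g : Co0) ∈ Subgroup.center Co0 := by
  have h32 := (leech_q_iff v 4).1 hv
  haveI := isSimple_stab32 h32
  let ι : MulAction.stabilizer Co0 v →* classStab v := Subgroup.inclusion fun g hg =>
    mem_classStab.2 (by rw [MulAction.mem_stabilizer_iff.1 hg])
  have hbot : P.comap ι = ⊥ := by
    rcases (inferInstance : (P.comap ι).Normal).eq_bot_or_eq_top with h | h
    · exact h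
    · exfalso
      obtain ⟨n, hn⟩ := IsPGroup.iff_card.1 (hP.comap_of_injective ι (Subgroup.inclusion_injective _))
      rw [h, Subgroup.card_top, card_stab32 h32] at hn
      have hd : 23 ∣ 2 ^ n := hn ▸ (by norm_num)
      exact absurd (Nat.Prime.dvd_of_dvd_pow (by norm_num) hd) (by norm_num)
  intro g hg
  have key : ∀ c ∈ P, (c : Co0) • v = v → c = 1 := by
    intro c hc hcv
    have : (⟨(c : Co0), MulAction.mem_stabilizer_iff.2 hcv⟩ : MulAction.stabilizer Co0 v) ∈ P.comap ι :=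
      hc
    rw [hbot, Subgroup.mem_bot] at this
    have h1 := congrArg (fun w : MulAction.stabilizer Co0 v => (w : Co0)) this
    exact Subtype.ext h1
  rcases leechR.short_congr (mem_classStab.1 g.2) (by rw [co0_q, hv]; norm_num) (by omega) with h | h | h
  · rw [key g hg h.symm]; exact Subgroup.one_mem _
  · let n : classStab v := ⟨negCo0, negCo0_mem_classStab v⟩
    have h1 := key (n * g) (P.mul_mem (hneg n negCo0_central) hg) (by
      show (negCo0 * (g : Co0)) • v = v
      rw [mul_smul, negCo0_smul]; exact h.symm)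
    have h2 : negCo0 * (g : Co0) = 1 := congrArg Subtype.val h1
    have h3 : (g : Co0) = negCo0⁻¹ := (inv_eq_of_mul_eq_one_right h2).symm
    rw [h3]; exact Subgroup.inv_mem _ negCo0_central
  · rw [co0_q, hv] at h; omega

/-- A normal 2-subgroup of the monomial group consists of sign changes. -/
theorem N0_two_group {P : Subgroup N0} [P.Normal] (hP : IsPGroup 2 P) : P ≤ permPart.ker := by
  haveI := isSimple_M24
  haveI : (P.map permPart).Normal := Subgroup.Normal.map inferInstance _ permPart_surjective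
  rcases (inferInstance : (P.map permPart).Normal).eq_bot_or_eq_top with h | h
  · exact (Subgroup.map_eq_bot_iff P).1 h
  · exfalso
    obtain ⟨n, hn⟩ := IsPGroup.iff_card.1 (hP.map permPart)
    rw [h, Subgroup.card_top, card_M24] at hn
    have hd : 23 ∣ 2 ^ n := hn ▸ (by norm_num)
    exact absurd (Nat.Prime.dvd_of_dvd_pow (by norm_num) hd) (by norm_num)

theorem permPart_ker_le_card : Nat.card permPart.ker ≤ 4096 := by
  rw [← card_signGrp]
  refine Nat.card_le_card_of_injective (fun g => (⟨((g : N0) : Co0), ?_⟩ : signGrp)) fun a b h =>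
    Subtype.ext (Subtype.ext (congrArg (fun w : signGrp => (w : Co0)) h))
  obtain ⟨c, hc, e⟩ := permPart_eq_one (MonoidHom.mem_ker.1 g.2)
  rw [e]
  exact ⟨c, hc, rfl⟩

/-- Conjugation between class stabilizers of norm 8 vectors. -/
noncomputable def frameIso (h : Co0) : N0 ≃* classStab (h • vec8 pinf) where
  toFun g := ⟨h * g * h⁻¹, (classStab_conj h _).2 (by
    rw [show h⁻¹ * (h * (g : Co0) * h⁻¹) * h = g by group]; exact g.2)⟩
  invFun g := ⟨h⁻¹ * g * h, (classStab_conj h _).1 g.2⟩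
  left_inv g := Subtype.ext (by show h⁻¹ * (h * (g : Co0) * h⁻¹) * h = g; group)
  right_inv g := Subtype.ext (by show h * (h⁻¹ * (g : Co0) * h) * h⁻¹ = g; group)
  map_mul' a b := Subtype.ext (by
    show h * ((a : Co0) * b) * h⁻¹ = h * a * h⁻¹ * (h * b * h⁻¹)
    group)

/-- The main structure theorem: the class is of norm 8, with exact orders. -/
theorem mon_main (hs : IsExtraspecialCentralizerSetting z Q 12) (hψ : IsLeechModTwoIso Q e ψ)
    {g : G} {x : Q} {v : leechLattice} (hg : g * z * g⁻¹ = qv x) (hx1 : qv x ≠ z)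
    (hv : ψ v = QuotientGroup.mk x) (hv8 : leechR.q v ≤ 8) :
    leechR.q v = 8 ∧ Nat.card ↥(monN Q g ⊓ Q) = 2 ^ 13 ∧
      Nat.card ((monN Q g).map (QuotientGroup.mk' Q)) = 2 ^ 11 ∧
      Nat.card (((monN Q g).map (QuotientGroup.mk' Q)).comap (monF e v)) = 4096 := by
  obtain ⟨hx2, hxc, y, hy, hyc⟩ := mon_reciprocal hs hψ hg hx1
  have hN := mon_monN_card hs hy hyc
  have hD := monN_inf_card hs hg hx1
  have hq : leechR.q v = 4 ∨ leechR.q v = 8 := by
    obtain ⟨w, hw, hwx⟩ := mon_invol_q hs hψ hx2 hxc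
    have h4 := leechR.q_ge_four (mon_ne_zero hψ hv hxc)
    rcases leechR.short_congr ((psi_cls hψ).1 (hv.trans hwx.symm)) hv8 (by omega) with h | h | h
    · subst h; exact hw
    · rw [h, Rootless.q_neg] at hw; exact hw
    · exact Or.inr h.1
  set N := monN Q g
  set M := N.map (QuotientGroup.mk' Q)
  obtain ⟨hMle, hnorm, h2⟩ := mon_image hs hψ hg hv
  haveI := hnorm
  set P := M.comap (monF e v)
  have hsplit : Nat.card ↥(N ⊓ Q) * Nat.card M = 2 ^ 24 := by
    rw [← hN]
    have h1 := ((QuotientGroup.mk' Q).comp N.subtype).ker.card_mul_index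
    rw [Subgroup.index_ker, MonoidHom.range_comp, Subgroup.range_subtype] at h1
    rw [← h1]
    congr 1
    refine Nat.card_congr ⟨fun a => ⟨⟨a, a.2.1⟩, ?_⟩, fun a => ⟨(a : N), (a : N).2, ?_⟩,
      fun a => rfl, fun a => rfl⟩
    · rw [MonoidHom.mem_ker]; exact (QuotientGroup.eq_one_iff _).2 a.2.2
    · exact (QuotientGroup.eq_one_iff _).1 (MonoidHom.mem_ker.1 a.2)
  have hPM : Nat.card P = 2 * Nat.card M := by
    have h1 := ((monF e v).comp P.subtype).ker.card_mul_index
    rw [Subgroup.index_ker, MonoidHom.range_comp, Subgroup.range_subtype,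
      Subgroup.map_comap_eq_self hMle] at h1
    rw [← h1, ← monF_ker_card (e := e) v]
    congr 1
    refine Nat.card_congr ⟨fun a => ⟨((a : P) : classStab v), ?_⟩, fun a => ⟨⟨(a : classStab v), ?_⟩, ?_⟩,
      fun a => rfl, fun a => rfl⟩
    · exact a.2
    · show monF e v (a : classStab v) ∈ M
      rw [MonoidHom.mem_ker.1 a.2]; exact M.one_mem
    · exact a.2
  have hneg : ∀ c : classStab v, (c : Co0) ∈ Subgroup.center Co0 → c ∈ P := fun c hc => by
    show monF e v c ∈ M
    rw [MonoidHom.mem_ker.1 (monF_ker.2 hc)]; exact M.one_mem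
  rcases hq with hq | hq
  · exfalso
    have hall := classStab4_two_group hq hneg h2
    have hM1 : M = ⊥ := by
      exact (Subgroup.map_comap_eq_self hMle).symm.trans
        ((Subgroup.map_eq_bot_iff P).2 fun a ha => monF_ker.2 (hall a ha))
    rw [hM1, Subgroup.card_bot, mul_one] at hsplit
    omega
  · obtain ⟨h, rfl⟩ := co0_trans8 (vec8_q pinf) hq
    haveI : (P.comap (frameIso h).toMonoidHom).Normal := inferInstance
    have hle := Nat.card_le_card_of_injective _ (Subgroup.inclusion_injective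
      (N0_two_group (h2.comap_of_injective (frameIso h).toMonoidHom (frameIso h).injective)))
    have hc : Nat.card P = Nat.card (P.comap (frameIso h).toMonoidHom) := Nat.card_congr
      ⟨fun a => ⟨(frameIso h).symm a, by
          show (frameIso h) ((frameIso h).symm (a : classStab (h • vec8 pinf))) ∈ P
          rw [MulEquiv.apply_symm_apply]; exact a.2⟩,
        fun a => ⟨frameIso h a, a.2⟩, fun a => Subtype.ext ((frameIso h).apply_symm_apply _),
        fun a => Subtype.ext ((frameIso h).symm_apply_apply _)⟩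
    have hker := permPart_ker_le_card
    have hM : Nat.card M ≤ 2 ^ 11 := by omega
    have h1 : Nat.card ↥(N ⊓ Q) = 2 ^ 13 := by
      by_contra hne
      have hlt : Nat.card ↥(N ⊓ Q) * Nat.card M < 2 ^ 13 * 2 ^ 11 :=
        lt_of_le_of_lt (Nat.mul_le_mul_left _ hM)
          (Nat.mul_lt_mul_of_pos_right (lt_of_le_of_ne hD hne) (by norm_num))
      rw [hsplit, ← pow_add] at hlt
      exact lt_irrefl _ hlt
    rw [h1] at hsplit
    norm_num at hsplit
    exact ⟨hq, h1, by norm_num; omega, by omega⟩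

/-- A conjugate of `z` in `Q` other than `z` is represented in norm 8, and conversely. -/
theorem mon_conj_iff (hs : IsExtraspecialCentralizerSetting z Q 12) (hψ : IsLeechModTwoIso Q e ψ)
    (x : Q) : (IsConj z (qv x) ∧ qv x ≠ z) ↔
      ∃ v : leechLattice, leechR.q v = 8 ∧ ψ v = QuotientGroup.mk x := by
  have fwd : ∀ u : Q, IsConj z (qv u) → qv u ≠ z →
      ∃ v : leechLattice, leechR.q v = 8 ∧ ψ v = QuotientGroup.mk u := fun u hu hu1 => by
    obtain ⟨g, hg⟩ := isConj_iff.1 hu
    obtain ⟨v, hv8, hv⟩ := mon_rep hψ u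
    exact ⟨v, (mon_main hs hψ hg hu1 hv hv8).1, hv⟩
  refine ⟨fun h => fwd x h.1 h.2, ?_⟩
  rintro ⟨v, hv8, hv⟩
  obtain ⟨g, ⟨hgC, hgQ⟩, hne⟩ := hs.2.2.2.2
  let s : Q := ⟨⟨_, hgC⟩, hgQ⟩
  obtain ⟨w, hw8, hw⟩ := fwd s (isConj_iff.2 ⟨g, rfl⟩) hne
  obtain ⟨h, hh⟩ := mon_conj hs hψ hw hv
    (fun e0 => by rw [e0, Rootless.q_zero] at hw8; omega) hw8.le (hv8.trans hw8.symm)
  refine ⟨isConj_iff.2 ⟨(h : G) * g, ?_⟩, fun hxz => ?_⟩
  · rw [← hh]
    show (h : G) * g * z * ((h : G) * g)⁻¹ = (h : G) * (g * z * g⁻¹) * (h : G)⁻¹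
    group
  · apply hne
    rw [hxz, mul_inv_eq_iff_eq_mul, ← comm_z h, mul_right_inj] at hh
    exact hh

end CfsgLib.Trans3
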