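import Cfsg.Agent.Lib.Trans3.LocalData
import Cfsg.Agent.Lib.Trans3.LeechMod2
import Cfsg.Agent.Lib.Golay.Co0Co2
import Cfsg.Agent.Lib.Golay.MatrixElement
import Cfsg.Agent.Lib.Mathieu.OctInvolMore
import Cfsg.Agent.Lib.Trans3.MonsterInter

/-!
# The centraliser in `Co0` of an element given by a checked certificate

For a permutation of order `p` in `M24` with an eight-dimensional fixed lattice: the classes modulo 2
fixed by it, a generating set of the centraliser, and its action on blocks of classes.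
-/

set_option autoImplicit false
set_option maxRecDepth 100000
set_option synthInstance.maxSize 2000

namespace CfsgLib.Trans3

open Cfsg CfsgLib.Golay CfsgLib.Mathieu
open scoped Pointwise

namespace LocalData

variable (D : LocalData)

/-- The cycle of a point. -/
def cy (q : GolayPt) : Fin 8 := Fin.ofNat 8 (D.cyc.getD (idx q) 0)

/-- The chosen point of a cycle. -/
def rep (j : Fin 8) : GolayPt := pt (D.reps.getD j 0)

/-- The basis. -/
def B (k j : Fin 8) : ℤ := (D.basis.getD k []).getD j 0

/-- The scaled inverse of the basis. -/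
def Binv (k j : Fin 8) : ℤ := (D.binv.getD k []).getD j 0

/-- The value of a combination on a cycle. -/
def val (n : Fin 8 → ℤ) (j : Fin 8) : ℤ := ∑ k, n k * D.B k j

/-- A combination as a vector. -/
def vec (n : Fin 8 → ℤ) : GolayPt → ℤ := fun q => D.val n (D.cy q)

/-- Coefficients from a list. -/
def ofList (l : List ℤ) : Fin 8 → ℤ := fun k => l.getD k 0

/-- The combination with coefficients 0 and 1 of a class. -/
def bits (s : Fin 256) : Fin 8 → ℤ := fun k => if s.val.testBit k then 1 else 0

/-- The class of a combination from the parities of its coefficients. -/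
def parIdx (n : Fin 8 → ℤ) : Fin 256 := Fin.ofNat 256 (∑ k : Fin 8, if n k % 2 = 1 then 2 ^ k.val else 0)

/-- A short representative of a class. -/
def low (s : Fin 256) : GolayPt → ℤ := fun q => (D.lows.getD s []).getD (idx q) 0

/-- The classes of vectors of norm 8. -/
def eight (s : Fin 256) : Prop := sqNorm (D.low s) = 64

instance : DecidablePred D.eight := fun s => by unfold eight; infer_instance

/-- Number of generators. -/
def nGen : ℕ := D.monos.length + D.mats.length

/-- Permutation code of a monomial generator. -/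
def gPerm (i : ℕ) : ℕ := (D.monos.getD i (idCode, 0, [])).1

/-- Sign code of a monomial generator. -/
def gSign (i : ℕ) : ℕ := (D.monos.getD i (idCode, 0, [])).2.1

/-- The matrix of an other generator. -/
def gMat (i : ℕ) (a b : GolayPt) : ℤ :=
  (((D.mats.getD i ([], [])).1).getD (idx a) []).getD (idx b) 0

/-- The action of a generator on the fixed lattice. -/
def g8 (i : ℕ) (k j : Fin 8) : ℤ :=
  if i < D.monos.length then (((D.monos.getD i (idCode, 0, [])).2.2).getD k []).getD j 0
  else (((D.mats.getD (i - D.monos.length) ([], [])).2).getD k []).getD j 0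

/-- The action of a generator on classes. -/
def tbl (i : ℕ) (s : Fin 256) : Fin 256 := parIdx fun j => ∑ k, bits s k * D.g8 i k j

/-- The action of a word on classes. -/
def wTbl : List ℕ → Fin 256 → Fin 256
  | [], s => s
  | i :: l, s => D.tbl i (wTbl l s)

/-- The action of a generator on blocks. -/
def bAct (i : ℕ) (j : Fin D.numBlocks) : Fin D.numBlocks :=
  if h : (D.blockPerms.getD i []).getD j 0 < D.numBlocks then ⟨_, h⟩ else j

/-- The action of a word on blocks. -/
def wAct : List ℕ → Fin D.numBlocks → Fin D.numBlocks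
  | [], j => j
  | i :: l, j => D.bAct i (wAct l j)

/-- Membership of a class in a block. -/
def inBlock (j : Fin D.numBlocks) (s : Fin 256) : Bool := (D.blocks.getD j 0).testBit s

/-- The word of a class of norm 8. -/
def reachWord (k : ℕ) : List ℕ := (D.reach.getD k (0, [])).2

/-- The properties of the permutation and of the lattice. -/
structure LatticeOK : Prop where
  prime : D.p.Prime
  odd : D.p % 2 = 1
  sigma_mem : inM24 D.sigma = true
  pow : powOneIn [] D.p D.sigma = true
  moved : ∃ i < 24, img D.sigma i ≠ i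
  cyc_sigma : ∀ i < 24, D.cy (pt (img D.sigma i)) = D.cy (pt i)
  cyc_reach : ∀ i < 24, ∃ t < D.p, imgIter D.sigma t (idx (D.rep (D.cy (pt i)))) = i
  cyc_rep : ∀ j : Fin 8, D.cy (D.rep j) = j
  cyc_odd : ∀ j : Fin 8, (Finset.univ.filter fun q => D.cy q = j).card % 2 = 1
  basis_mem : ∀ k : Fin 8, inLat (fun q => D.B k (D.cy q)) = true
  inverse : ∀ k l : Fin 8, ∑ j, D.B k j * D.Binv j l = if k = l then D.bden else 0
  den : D.bden ≠ 0
  oddv : ∀ j : Fin 8, D.val (ofList D.oddVec) j % 2 = 1
  pattern : ∀ m < 256, isCode ((List.range 24).foldl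
    (fun w i => if Nat.testBit m (D.cy (pt i)).val then w + 2 ^ i else w) 0) = true →
    ∃ e ∈ D.patVec, e.1 = m ∧
      ∀ j : Fin 8, D.val (ofList e.2) j % 4 = if Nat.testBit m j.val then 2 else 0
  expand : ∀ m < 256, (List.range 24).foldl
      (fun w i => if Nat.testBit m (D.cy (pt i)).val then w + 2 ^ i else w) 0 < 16777216 ∧
    ∀ i < 24, ((List.range 24).foldl
      (fun w i => if Nat.testBit m (D.cy (pt i)).val then w + 2 ^ i else w) 0).testBit i =
        Nat.testBit m (D.cy (pt i)).val
  pairs : ∀ i j : Fin 8, D.val (ofList (D.pairVec.getD i [])) j =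
    4 * ((if j = 0 then 1 else 0) + if j = i then 1 else 0)
  low_mem : ∀ s : Fin 256, inLat (D.low s) = true ∧ sqNorm (D.low s) ≤ 64
  low_even : ∀ s : Fin 256, ∀ i < 24, (D.vec (bits s) (pt i) - D.low s (pt i)) % 2 = 0
  low_half : ∀ s : Fin 256, inLat (fun q => (D.vec (bits s) q - D.low s q) / 2) = true
  pairing : ∀ s : Fin 256, s ≠ 0 → ∃ k : Fin 8,
    dotInt (D.vec (bits s)) (D.vec (Pi.single k 1)) % 16 ≠ 0
  e0_lt : D.e0 < 256
  e0_eight : D.eight (Fin.ofNat 256 D.e0)
  e0_even : ∀ i < 24, (D.vec (bits (Fin.ofNat 256 D.e0)) (pt i) - if pt i = pinf then 8 else 0) % 2 = 0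
  e0_half : inLat (fun q =>
    (D.vec (bits (Fin.ofNat 256 D.e0)) q - if q = pinf then 8 else 0) / 2) = true

/-- The properties of the generators. -/
structure GenOK : Prop where
  mono : ∀ i < D.monos.length, inM24 (D.gPerm i) = true ∧ isCode (D.gSign i) = true
  mono_comm : ∀ i < D.monos.length, ∀ n < 24,
    img (D.gPerm i) (img D.sigma n) = img D.sigma (img (D.gPerm i) n) ∧
      (D.gSign i).testBit (img (D.gPerm i) (img D.sigma n)) = (D.gSign i).testBit (img (D.gPerm i) n)
  mono_acts : ∀ i < D.monos.length, ∀ k : Fin 8, ∀ n < 24,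
    D.val (D.g8 i k) (D.cy (pt (img (D.gPerm i) n))) =
      if (D.gSign i).testBit (img (D.gPerm i) n) then -D.val (Pi.single k 1) (D.cy (pt n))
      else D.val (Pi.single k 1) (D.cy (pt n))
  mat : ∀ i < D.mats.length, matOK (D.gMat i) = true
  mat_comm : ∀ i < D.mats.length, ∀ a < 24, ∀ b < 24,
    D.gMat i (pt (img D.sigma a)) (pt (img D.sigma b)) = D.gMat i (pt a) (pt b)
  mat_acts : ∀ i < D.mats.length, ∀ k : Fin 8, ∀ n < 24,
    matFun (D.gMat i) (D.vec (Pi.single k 1)) (pt n) = D.val (D.g8 (D.monos.length + i) k) (D.cy (pt n))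
  codes : ∀ k < 4096, mimg D.sigma (enc k) = enc k → enc k ∈ D.codes
  codes_gen : ∀ c ∈ D.codes, ∃ i < D.monos.length, D.gSign i = c ∧
    ∀ n < 24, img (D.gPerm i) n = n
  elts_head : ∀ n < 24, img (D.elts.getD 0 0) n = n
  elts_len : D.elts.length = D.eltTree.length + 1
  elts_ok : ∀ k < D.elts.length, inM24 (D.elts.getD k 0) = true ∧
    ∀ n < 24, img (D.elts.getD k 0) (img D.sigma n) = img D.sigma (img (D.elts.getD k 0) n)
  elts_tree : ∀ k < D.eltTree.length, (D.eltTree.getD k (0, 0)).1 < D.monos.length ∧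
    (D.eltTree.getD k (0, 0)).2 ≤ k ∧ D.gSign (D.eltTree.getD k (0, 0)).1 = 0 ∧
    ∀ n < 24, img (D.elts.getD (k + 1) 0) n =
      img (D.gPerm (D.eltTree.getD k (0, 0)).1) (img (D.elts.getD (D.eltTree.getD k (0, 0)).2 0) n)
  elts_nodup : (D.elts.map imgsOf).Nodup
  reach : ∀ s : Fin 256, D.eight s → ∃ k < D.reach.length,
    D.wTbl (D.reachWord k) (Fin.ofNat 256 D.e0) = s
  reach_lt : ∀ k < D.reach.length, ∀ i ∈ D.reachWord k, i < D.nGen

/-- The properties of the blocks. -/
structure BlockOK : Prop where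
  act : ∀ i < D.nGen, ∀ s : Fin 256, ∀ j : Fin D.numBlocks,
    D.inBlock j s = D.inBlock (D.bAct i j) (D.tbl i s)
  act_inj : ∀ i < D.nGen, ∀ j k : Fin D.numBlocks, D.bAct i j = D.bAct i k → j = k
  distinct : ∀ j k : Fin D.numBlocks, D.blocks.getD j 0 = D.blocks.getD k 0 → j = k
  small : ∀ j : Fin D.numBlocks, D.blocks.getD j 0 < 2 ^ 256

variable {D}

/-- The element. -/
noncomputable def A (D : LocalData) (h : D.LatticeOK) : Co0 :=
  monoCo0 (permOf D.sigma) (inM24_mem h.sigma_mem) ∅ empty_code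

/-- Its permutation. -/
noncomputable def perm (D : LocalData) (h : D.LatticeOK) : M24 :=
  ⟨permOf D.sigma, inM24_mem h.sigma_mem⟩

section Lattice

variable (h : D.LatticeOK)

include h

theorem sigma_valid : valid D.sigma = true := inM24_valid h.sigma_mem

theorem cy_perm (q : GolayPt) : D.cy (permOf D.sigma q) = D.cy q := by
  rw [permOf_apply (sigma_valid h), h.cyc_sigma _ (idx_lt q), pt_idx]

theorem A_smul (v : leechLattice) (q : GolayPt) :
    ((D.A h • v : leechLattice) : GolayPt → ℤ) (permOf D.sigma q) = (v : GolayPt → ℤ) q := by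
  rw [A, monoCo0_smul]
  simp [signedPerm]

theorem vec_mem (n : Fin 8 → ℤ) : D.vec n ∈ leechLattice := by
  rw [show D.vec n = ∑ k, n k • (fun q => D.B k (D.cy q)) from funext fun q => by
    simp [vec, val, Finset.sum_apply]]
  exact sum_mem fun k _ => leechLattice.zsmul_mem (inLat_mem (h.basis_mem k)) _

end Lattice

/-- The parametrisation of the fixed lattice. -/
def lift (D : LocalData) (h : D.LatticeOK) : (Fin 8 → ℤ) →+ leechLattice where
  toFun n := ⟨D.vec n, vec_mem h n⟩
  map_zero' := Subtype.ext (funext fun q => by simp [vec, val])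
  map_add' n m := Subtype.ext (funext fun q => by simp [vec, val, add_mul, Finset.sum_add_distrib])

/-- The representative of a class. -/
def hv (D : LocalData) (h : D.LatticeOK) (s : Fin 256) : leechLattice := D.lift h (bits s)

theorem bits_parity : ∀ s : Fin 256, parIdx (bits s) = s := by decide +kernel

theorem parIdx_congr (n : Fin 8 → ℤ) : ∀ k, (2 : ℤ) ∣ n k - bits (parIdx n) k := by
  have key : ∀ f : Fin 8 → Bool, ∀ k : Fin 8,
      (Fin.ofNat 256 (∑ k : Fin 8, if f k then 2 ^ k.val else 0)).val.testBit k.val = f k := by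
    decide +kernel
  intro k
  have := key (fun k => decide (n k % 2 = 1)) k
  simp only [decide_eq_true_eq] at this
  simp only [bits, parIdx, this]
  by_cases hk : n k % 2 = 1 <;> simp [hk] <;> omega

section Lattice

variable (h : D.LatticeOK)

include h

theorem lift_coe (n : Fin 8 → ℤ) : ((D.lift h n : leechLattice) : GolayPt → ℤ) = D.vec n := rfl

theorem A_fix (n : Fin 8 → ℤ) : D.A h • D.lift h n = D.lift h n := by
  refine Subtype.ext (funext fun q => ?_)
  obtain ⟨q, rfl⟩ := (permOf D.sigma).surjective q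
  rw [A_smul]
  simp only [lift_coe, vec, cy_perm h]

theorem A_pow_smul (t : ℕ) (v : leechLattice) (q : GolayPt) :
    ((D.A h ^ t • v : leechLattice) : GolayPt → ℤ) ((permOf D.sigma ^ t) q) = (v : GolayPt → ℤ) q := by
  induction t generalizing v q with
  | zero => simp
  | succ t ih => rw [pow_succ', pow_succ', mul_smul, Equiv.Perm.mul_apply, A_smul, ih]

theorem sigma_pow : permOf D.sigma ^ D.p = 1 := (powOneIn_sound h.pow).2

theorem A_pow : D.A h ^ D.p = 1 := by
  refine co0_ext fun v => Subtype.ext (funext fun q => ?_)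
  have := A_pow_smul h D.p v q
  rw [sigma_pow h, Equiv.Perm.one_apply] at this
  rw [one_smul]; exact this

theorem perm_ne_one : D.perm h ≠ 1 := fun e => by
  obtain ⟨i, hi, hne⟩ := h.moved
  have e1 : permOf D.sigma = 1 := congrArg Subtype.val e
  have := congrArg (fun σ : Equiv.Perm GolayPt => idx (σ (pt i))) e1
  simp only [permOf_pt (sigma_valid h) hi, Equiv.Perm.one_apply,
    idx_pt (valid_lt (sigma_valid h) hi), idx_pt hi] at this
  exact hne this

theorem A_mem_N0 : D.A h ∈ N0 := mono_mem_N0 (D.perm h) ∅ empty_code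

theorem permPart_A : permPart ⟨D.A h, A_mem_N0 h⟩ = D.perm h :=
  permPart_mono (D.perm h) ∅ empty_code

theorem A_ne_one : D.A h ≠ 1 := fun e => perm_ne_one h (by
  rw [← permPart_A h, show (⟨D.A h, A_mem_N0 h⟩ : N0) = 1 from Subtype.ext e, map_one])

theorem orderOf_A : orderOf (D.A h) = D.p :=
  haveI : Fact D.p.Prime := ⟨h.prime⟩
  orderOf_eq_prime (A_pow h) (A_ne_one h)

theorem orderOf_perm : orderOf (D.perm h) = D.p :=
  haveI : Fact D.p.Prime := ⟨h.prime⟩
  orderOf_eq_prime (Subtype.ext (sigma_pow h)) (perm_ne_one h)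

/-- The fixed lattice is spanned by the basis. -/
theorem fixed_span {v : leechLattice} (hv : D.A h • v = v) : ∃ n, v = D.lift h n := by
  classical
  have hpow : ∀ t : ℕ, D.A h ^ t • v = v := fun t => by
    induction t with
    | zero => simp
    | succ t ih => rw [pow_succ, mul_smul, hv, ih]
  have hconst : ∀ q, (v : GolayPt → ℤ) q = (v : GolayPt → ℤ) (D.rep (D.cy q)) := fun q => by
    obtain ⟨t, -, ht⟩ := h.cyc_reach _ (idx_lt q)
    rw [pt_idx] at ht
    have h1 := A_pow_smul h t v (D.rep (D.cy q))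
    rw [hpow] at h1
    rwa [show (permOf D.sigma ^ t) (D.rep (D.cy q)) = q from by
      have := (imgIter_spec (sigma_valid h) t (idx_lt (D.rep (D.cy q)))).1
      rwa [pt_idx, ht, pt_idx] at this] at h1
  obtain ⟨m, a, h1, h2, h3⟩ := mem_leechLattice_iff.1 v.2
  -- the odd part
  set w₁ : leechLattice := v - m • D.lift h (ofList D.oddVec)
  set c : Fin 8 → ℤ := fun j => (((v : GolayPt → ℤ) (D.rep j)) - m * D.val (ofList D.oddVec) j) / 2
  have hw₁ : ∀ q, (w₁ : GolayPt → ℤ) q = 2 * c (D.cy q) := fun q => by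
    show (v : GolayPt → ℤ) q - m • D.val (ofList D.oddVec) (D.cy q) = _
    rw [smul_eq_mul, hconst q]
    show _ = 2 * ((_ - m * _) / 2)
    have e1 := h1 (D.rep (D.cy q))
    have e2 := h.oddv (D.cy q)
    obtain ⟨r, hr⟩ : ∃ r, D.val (ofList D.oddVec) (D.cy q) = 2 * r + 1 :=
      ⟨D.val (ofList D.oddVec) (D.cy q) / 2, by omega⟩
    rw [e1, hr, show m + 2 * a (D.rep (D.cy q)) - m * (2 * r + 1) = 2 * (a (D.rep (D.cy q)) - m * r) by ring,
      Int.mul_ediv_cancel_left _ (by norm_num : (2 : ℤ) ≠ 0)]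
  obtain ⟨m₁, a₁, g1, g2, g3⟩ := mem_leechLattice_iff.1 w₁.2
  have hm₁ : m₁ % 2 = 0 := by
    have := g1 pinf
    rw [hw₁] at this
    omega
  have hcode : mod2 (fun q => c (D.cy q)) ∈ golayCode := by
    have e : (fun q => c (D.cy q)) = fun q => a₁ q + m₁ / 2 := funext fun q => by
      have := g1 q; rw [hw₁] at this; omega
    rw [e, show mod2 (fun q => a₁ q + m₁ / 2) = mod2 a₁ + mod2 (fun _ => m₁ / 2) from
      mod2_add a₁ fun _ => m₁ / 2]
    refine golayCode.add_mem g2 ?_
    rw [← mem_supports_word]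
    have hall : ∀ q : GolayPt, q ∈ mset 16777215 := by decide +kernel
    by_cases hpar : (m₁ / 2) % 2 = 1
    · refine mem_supports_iff.2 ⟨16777215, by decide +kernel, ?_⟩
      ext q
      rw [mem_support_mod2]
      simp [hpar, hall q]
    · refine mem_supports_iff.2 ⟨0, by decide +kernel, ?_⟩
      ext q
      rw [mem_support_mod2, mem_mset]
      simp [hpar]
  set b : ℕ := (List.range 8).foldl (fun w j => if c (Fin.ofNat 8 j) % 2 = 1 then w + 2 ^ j else w) 0
    with hbdef
  have hb : b < 256 ∧ ∀ j : Fin 8, b.testBit j.val = decide (c j % 2 = 1) := by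
    have key : ∀ f : Fin 8 → Bool,
        let w := (List.range 8).foldl (fun w j => if f (Fin.ofNat 8 j) then w + 2 ^ j else w) 0
        w < 256 ∧ ∀ j : Fin 8, w.testBit j.val = f j := by decide +kernel
    have := key fun j => decide (c j % 2 = 1)
    simpa [hbdef] using this
  obtain ⟨e, -, -, he⟩ := h.pattern b hb.1 (by
    obtain ⟨mk, hmk, eq⟩ := mem_supports_iff.1 (mem_supports_word.2 hcode)
    convert hmk
    refine mset_inj (h.expand _ hb.1).1 (isCode_lt hmk) ?_
    rw [eq]
    ext q
    rw [mem_mset, (h.expand _ hb.1).2 _ (idx_lt q), pt_idx, hb.2, mem_support_mod2]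
    simp)
  set d : Fin 8 → ℤ := fun j => (2 * c j - D.val (ofList e.2) j) / 4
  set w₂ : leechLattice := w₁ - D.lift h (ofList e.2)
  have hw₂ : ∀ q, (w₂ : GolayPt → ℤ) q = 4 * d (D.cy q) := fun q => by
    show (w₁ : GolayPt → ℤ) q - D.val (ofList e.2) (D.cy q) = _
    rw [hw₁]
    have := he (D.cy q)
    rw [hb.2] at this
    show _ = 4 * ((_ - _) / 4)
    by_cases hc : c (D.cy q) % 2 = 1
    · simp only [hc, decide_true, if_true] at this; omega
    · simp only [hc, decide_false, Bool.false_eq_true, if_false] at this; omega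
  obtain ⟨m₂, a₂, f1, -, f3⟩ := mem_leechLattice_iff.1 w₂.2
  have hm₂ : m₂ % 2 = 0 := by
    have := f1 pinf
    rw [hw₂] at this
    omega
  have hsum : (2 : ℤ) ∣ ∑ j, d j := by
    have e1 : ∑ q, (4 : ℤ) * d (D.cy q) = 24 * m₂ + 2 * ∑ q, a₂ q :=
      sum_rep fun q => (hw₂ q).symm.trans (f1 q)
    rw [← Finset.mul_sum] at e1
    have e2 : (2 : ℤ) ∣ ∑ q, d (D.cy q) := by omega
    have e3 : ∑ q, d (D.cy q) = ∑ j, ((Finset.univ.filter fun q => D.cy q = j).card : ℤ) * d j := by
      rw [← Finset.sum_fiberwise Finset.univ D.cy]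
      refine Finset.sum_congr rfl fun j _ => ?_
      rw [Finset.sum_congr rfl fun q hq => by rw [(Finset.mem_filter.1 hq).2]]
      simp
    have e4 : (2 : ℤ) ∣ ∑ q, d (D.cy q) - ∑ j, d j := by
      rw [e3, ← Finset.sum_sub_distrib]
      refine Finset.dvd_sum fun j _ => ?_
      rw [← sub_one_mul]
      exact Dvd.dvd.mul_right (by have := h.cyc_odd j; omega) _
    omega
  obtain ⟨k, hk⟩ := hsum
  refine ⟨m • ofList D.oddVec + ofList e.2 +
    (∑ i, d i • ofList (D.pairVec.getD i.val []) - k • ofList (D.pairVec.getD (0 : Fin 8).val [])), ?_⟩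
  rw [map_add, map_add, map_sub, map_sum, map_zsmul, map_zsmul]
  have hfin : w₂ = ∑ i, D.lift h (d i • ofList (D.pairVec.getD i.val [])) -
      k • D.lift h (ofList (D.pairVec.getD (0 : Fin 8).val [])) := by
    refine Subtype.ext (funext fun q => ?_)
    rw [hw₂]
    simp only [AddSubgroup.coe_sub, AddSubgroup.val_finsetSum, Pi.sub_apply, Finset.sum_apply,
      map_zsmul, AddSubgroup.coe_zsmul, Pi.smul_apply, lift_coe, smul_eq_mul, vec, h.pairs]
    generalize D.cy q = j
    have e1 : ∑ i, d i * (4 * ((if j = 0 then (1 : ℤ) else 0) + if j = i then 1 else 0)) =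
        4 * (if j = 0 then ∑ i, d i else 0) + 4 * d j := by
      simp only [mul_add, Finset.sum_add_distrib, mul_ite, mul_one, mul_zero, Finset.sum_ite_eq,
        Finset.mem_univ, if_true]
      split_ifs
      · rw [← Finset.sum_mul]; ring
      · simp only [Finset.sum_const_zero]; ring
    rw [e1, hk]
    split_ifs <;> ring
  rw [← hfin]
  simp only [w₂, w₁]
  abel

theorem lift_injective : Function.Injective (D.lift h) := by
  rw [injective_iff_map_eq_zero]
  intro n hn
  have h0 : ∀ j : Fin 8, D.val n j = 0 := fun j => by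
    have := congrFun (congrArg Subtype.val hn) (D.rep j)
    simp only [lift_coe, vec, h.cyc_rep] at this
    exact this
  funext l
  have e : ∑ j, D.val n j * D.Binv j l = n l * D.bden := by
    simp only [val, Finset.sum_mul, mul_assoc]
    rw [Finset.sum_comm]
    simp only [← Finset.mul_sum, h.inverse, mul_ite, mul_zero, Finset.sum_ite_eq', Finset.mem_univ,
      if_true]
  simp only [h0, zero_mul, Finset.sum_const_zero] at e
  exact (mul_eq_zero.1 e.symm).resolve_right h.den

theorem lift_cls (n : Fin 8 → ℤ) : leechR.cls (D.lift h n) = leechR.cls (D.hv h (parIdx n)) := by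
  refine leechR.cls_eq_iff.2 ⟨D.lift h fun k => (n k - bits (parIdx n) k) / 2, ?_⟩
  rw [hv, ← map_add, ← map_add]
  congr 1
  funext k
  have := parIdx_congr n k
  simp only [Pi.add_apply]
  omega

theorem hv_zero : D.hv h 0 = 0 := by
  rw [hv, show bits 0 = 0 from funext fun k => by simp [bits]]
  exact map_zero _

theorem hv_inj {s t : Fin 256} (e : leechR.cls (D.hv h s) = leechR.cls (D.hv h t)) : s = t := by
  obtain ⟨z, hz⟩ := leechR.cls_eq_iff.1 e
  have hA : D.A h • z = z := by
    have e' : D.hv h s = D.hv h t + (D.A h • z + D.A h • z) := by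
      rw [← co0_add, show D.hv h s = D.A h • D.hv h s from (A_fix h _).symm, hz, co0_add,
        show D.A h • D.hv h t = D.hv h t from A_fix h _]
    rw [hz, add_right_inj] at e'
    refine Subtype.ext (funext fun q => ?_)
    have := congrArg (fun v : leechLattice => (v : GolayPt → ℤ) q) e'
    simp only [AddSubgroup.coe_add, Pi.add_apply] at this
    omega
  obtain ⟨n, rfl⟩ := fixed_span h hA
  rw [hv, hv, ← map_add, ← map_add, (lift_injective h).eq_iff] at hz
  rw [← bits_parity s, ← bits_parity t, parIdx, parIdx]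
  congr 1
  refine Finset.sum_congr rfl fun k _ => ?_
  have := congrFun hz k
  simp only [Pi.add_apply] at this
  rw [show bits s k % 2 = bits t k % 2 by omega]

theorem cls_fixed (v : leechLattice) :
    leechR.cls (D.A h • v) = leechR.cls v ↔ ∃ s, leechR.cls v = leechR.cls (D.hv h s) := by
  constructor
  · intro hfx
    set w := ∑ i ∈ Finset.range D.p, D.A h ^ i • v with hw
    have hfix : D.A h • w = w := by
      have h1 : D.A h • w = ∑ i ∈ Finset.range D.p, D.A h ^ (i + 1) • v := by
        rw [hw]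
        refine (map_sum (co0Hom (D.A h)) _ _).trans ?_
        refine Finset.sum_congr rfl fun i _ => ?_
        show D.A h • (D.A h ^ i • v) = _
        rw [← mul_smul, ← pow_succ']
      have h4 := (Finset.sum_range_succ' (fun i => D.A h ^ i • v) D.p).symm.trans
        (Finset.sum_range_succ (fun i => D.A h ^ i • v) D.p)
      rw [A_pow h, pow_zero, one_smul] at h4
      rw [h1, hw]
      exact add_right_cancel h4
    obtain ⟨n, hn⟩ := fixed_span h hfix
    refine ⟨parIdx n, ?_⟩
    rw [← lift_cls h, ← hn]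
    have hi : ∀ i : ℕ, ∃ z, D.A h ^ i • v = v + (z + z) := fun i => by
      induction i with
      | zero => exact ⟨0, by simp⟩
      | succ i ih =>
        obtain ⟨z, hz⟩ := ih
        obtain ⟨u, hu⟩ := leechR.cls_eq_iff.1 hfx
        refine ⟨u + D.A h • z, ?_⟩
        rw [pow_succ', mul_smul, hz, co0_add, co0_add, hu]
        abel
    choose z hz using hi
    obtain ⟨r, hr⟩ : ∃ r, D.p = 2 * r + 1 := ⟨D.p / 2, by have := h.odd; omega⟩
    refine (leechR.cls_eq_iff.2 ⟨r • v + ∑ i ∈ Finset.range D.p, z i, ?_⟩).symm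
    rw [hw, Finset.sum_congr rfl fun i _ => hz i, Finset.sum_add_distrib, Finset.sum_const,
      Finset.card_range, Finset.sum_add_distrib, hr]
    simp only [add_smul, mul_smul, two_smul, one_smul]
    abel
  · rintro ⟨s, hs⟩
    rw [co0_cls (D.A h) hs, show D.A h • D.hv h s = D.hv h s from A_fix h _, hs]

theorem hv_low (s : Fin 256) :
    ∃ w, leechR.cls w = leechR.cls (D.hv h s) ∧ (w : GolayPt → ℤ) = D.low s := by
  refine ⟨⟨D.low s, inLat_mem (h.low_mem s).1⟩, (leechR.cls_eq_iff.2
    ⟨⟨_, inLat_mem (h.low_half s)⟩, Subtype.ext (funext fun q => ?_)⟩).symm, rfl⟩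
  show D.vec (bits s) q = D.low s q +
    ((D.vec (bits s) q - D.low s q) / 2 + (D.vec (bits s) q - D.low s q) / 2)
  have := h.low_even s _ (idx_lt q)
  rw [pt_idx] at this
  omega

theorem hv_norm8 (s : Fin 256) :
    (∃ w, leechR.q w = 8 ∧ leechR.cls w = leechR.cls (D.hv h s)) ↔ D.eight s := by
  obtain ⟨u, hu, hue⟩ := hv_low h s
  have hq := leech_q u
  have hle := (h.low_mem s).2
  rw [hue] at hq
  constructor
  · rintro ⟨w, hw, hc⟩
    have hq8 : leechR.q u = 8 := by
      rcases leechR.short_congr (hu.trans hc.symm) (by omega) hw.le with h' | h' | h'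
      · rw [h'] at hw; exact hw
      · rw [h', Rootless.q_neg] at hw; exact hw
      · exact h'.1
    show sqNorm (D.low s) = 64
    omega
  · intro h8
    have h8' : sqNorm (D.low s) = 64 := h8
    exact ⟨u, by omega, hu⟩

theorem hv_pair (s : Fin 256) (hs : s ≠ 0) : ∃ t, ¬ (2 : ℤ) ∣ leechR.b (D.hv h s) (D.hv h t) := by
  obtain ⟨k, hk⟩ := h.pairing s hs
  have hp : ∀ k : Fin 8, bits (parIdx (Pi.single k 1)) = Pi.single k 1 := by decide +kernel
  refine ⟨parIdx (Pi.single k 1), fun hd => hk ?_⟩
  have := leechForm_mul (D.hv h s) (D.hv h (parIdx (Pi.single k 1)))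
  simp only [hv, lift_coe, hp] at this hd
  obtain ⟨r, hr⟩ := hd
  have e : dotInt (D.vec (bits s)) (D.vec (Pi.single k 1)) = 16 * r := by
    rw [← this]
    first
      | (simp only [leechR] at hr ⊢; omega)
      | omega
      | (show 8 * leechR.b _ _ = _; omega)
  omega

theorem e0_cls : leechR.cls (D.hv h (Fin.ofNat 256 D.e0)) = leechR.cls (vec8 pinf) := by
  refine leechR.cls_eq_iff.2 ⟨⟨_, inLat_mem h.e0_half⟩, Subtype.ext (funext fun q => ?_)⟩
  have := h.e0_even _ (idx_lt q)
  rw [pt_idx] at this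
  show D.vec (bits (Fin.ofNat 256 D.e0)) q = (Pi.single pinf 8 : GolayPt → ℤ) q +
    ((D.vec (bits (Fin.ofNat 256 D.e0)) q - if q = pinf then 8 else 0) / 2 +
      (D.vec (bits (Fin.ofNat 256 D.e0)) q - if q = pinf then 8 else 0) / 2)
  rw [Pi.single_apply]
  split_ifs at this ⊢ <;> omega

theorem mem_N0_iff' {g : Co0} : g ∈ N0 ↔
    leechR.cls (g • D.hv h (Fin.ofNat 256 D.e0)) = leechR.cls (D.hv h (Fin.ofNat 256 D.e0)) := by
  show g ∈ classStab (vec8 pinf) ↔ _
  rw [mem_classStab, co0_cls g (e0_cls h), e0_cls h]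

end Lattice

end LocalData

end CfsgLib.Trans3
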