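import Cfsg.Prelude.Def_AxialAlgebras

/-! Two commuting Majorana involutions: the consequences of the fusion law. -/

set_option autoImplicit false

namespace CfsgLib.Trans3.Majorana

open Cfsg.Axial

variable {W : Type*} [AddCommGroup W] [Module ℝ W]

theorem mem_eigen {mul : W →ₗ[ℝ] W →ₗ[ℝ] W} {a v : W} {c : ℝ} :
    v ∈ eigen mul a c ↔ mul a v = c • v :=
  Module.End.mem_eigenspace_iff

theorem eigen_le {mul : W →ₗ[ℝ] W →ₗ[ℝ] W} {a : W} {c : ℝ} {S : Set ℝ} (hc : c ∈ S) :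
    eigen mul a c ≤ eigenSum mul a S :=
  le_iSup₂ (f := fun c (_ : c ∈ S) => eigen mul a c) c hc

/-- The image of an axial vector under an automorphism commuting with the involution. -/
theorem transport {mul : W →ₗ[ℝ] W →ₗ[ℝ] W} {B : LinearMap.BilinForm ℝ W} {φ μ : W ≃ₗ[ℝ] W}
    (hφ : ∀ u v, φ (mul u v) = mul (φ u) (φ v)) (hc : ∀ v, φ (μ v) = μ (φ v)) {a : W}
    (h : IsMajoranaPair mul B μ a) : IsMajoranaPair mul B μ (φ a) := by
  obtain ⟨hm, hB, ⟨⟨hne, hid, htop, hfus⟩, hprim⟩, hfix, hneg⟩ := h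
  have hmap : ∀ c, eigen mul (φ a) c = (eigen mul a c).map (φ : W →ₗ[ℝ] W) := by
    intro c
    ext v
    rw [mem_eigen, Submodule.mem_map_equiv, mem_eigen]
    constructor
    · intro e
      apply φ.injective
      rw [hφ, map_smul, LinearEquiv.apply_symm_apply, e]
    · intro e
      have := congrArg φ e
      rwa [hφ, map_smul, LinearEquiv.apply_symm_apply] at this
  have hsum : ∀ S, eigenSum mul (φ a) S = (eigenSum mul a S).map (φ : W →ₗ[ℝ] W) := by
    intro S
    simp only [eigenSum, Submodule.map_iSup, hmap]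
  refine ⟨hm, hB, ⟨⟨by simpa using hne, by rw [← hφ, hid], ?_, ?_⟩, ?_⟩, ?_, ?_⟩
  · rw [hsum, htop, Submodule.map_top, LinearEquiv.range]
  · intro c hc' d hd u hu v hv
    rw [hmap] at hu hv
    rw [hsum]
    obtain ⟨u', hu', rfl⟩ := hu
    obtain ⟨v', hv', rfl⟩ := hv
    exact ⟨mul u' v', hfus c hc' d hd u' hu' v' hv', hφ u' v'⟩
  · rw [hmap, hprim, Submodule.map_span, Set.image_singleton]; rfl
  · intro v hv
    rw [hsum] at hv
    obtain ⟨v', hv', rfl⟩ := hv
    have e : μ v' = v' := hfix v' hv'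
    show μ (φ v') = φ v'
    rw [← hc, e]
  · intro v hv
    rw [hmap] at hv
    obtain ⟨v', hv', rfl⟩ := hv
    have e : μ v' = -v' := hneg v' hv'
    show μ (φ v') = -φ v'
    rw [← hc, e, map_neg]

/-- The consequences of the fusion law for a fixed idempotent. -/
theorem key {mul : W →ₗ[ℝ] W →ₗ[ℝ] W} {B : LinearMap.BilinForm ℝ W}
    (hV : IsMajoranaAmbient mul B) {μ : W ≃ₗ[ℝ] W} {a b : W}
    (h : IsMajoranaPair mul B μ a) (hn : B a a = 1) (hb : μ b = b) (hbb : mul b b = b) :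
    mul a (mul a b) = ((3 / 4 : ℝ) * B a b) • a + (1 / 4 : ℝ) • mul a b ∧
      (mul b (mul a b) = ((3 / 4 : ℝ) * B a b) • b + (1 / 4 : ℝ) • mul a b →
        (16 : ℝ) • mul (mul a b) (mul a b) =
          (3 * B a b) • b + (4 * B a b - 1) • mul a b + (8 * B a b ^ 2 + 2 * B a b) • a) := by
  obtain ⟨hcomm, hsymm, -, hass, -⟩ := hV
  obtain ⟨-, -, ⟨⟨-, hid, htop, hfus⟩, hprim⟩, hfix, hneg⟩ := h
  have hsplit : eigenSum mul a majoranaSpectrum ≤
      (Submodule.span ℝ {a} ⊔ eigen mul a 0 ⊔ eigen mul a (1 / 4)) ⊔ eigen mul a (1 / 32) := by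
    refine iSup₂_le fun c hc => ?_
    simp only [majoranaSpectrum, Set.mem_insert_iff, Set.mem_singleton_iff] at hc
    rcases hc with rfl | rfl | rfl | rfl
    · rw [hprim]; exact le_sup_of_le_left (le_sup_of_le_left le_sup_left)
    · exact le_sup_of_le_left (le_sup_of_le_left le_sup_right)
    · exact le_sup_of_le_left le_sup_right
    · exact le_sup_right
  have hb' := hsplit (htop ▸ Submodule.mem_top (x := b))
  obtain ⟨x, hx, y, hy, hxy⟩ := Submodule.mem_sup.1 hb'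
  have hle : Submodule.span ℝ {a} ⊔ eigen mul a 0 ⊔ eigen mul a (1 / 4) ≤
      eigenSum mul a {1, 0, 1 / 4} :=
    sup_le (sup_le (hprim ▸ eigen_le (by simp)) (eigen_le (by simp))) (eigen_le (by simp))
  have hy0 : y = 0 := by
    have e : μ b = x + -y := by
      rw [← hxy, map_add]
      have e1 : μ x = x := hfix x (hle hx)
      have e2 : μ y = -y := hneg y hy
      rw [e1, e2]
    rw [hb, ← hxy, add_left_cancel_iff] at e
    have h2 : (2 : ℝ) • y = 0 := by
      rw [two_smul]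
      nth_rewrite 2 [e]
      exact add_neg_cancel y
    exact (smul_eq_zero.1 h2).resolve_left (by norm_num)
  rw [hy0, add_zero] at hxy
  subst hxy
  obtain ⟨z, hz, w, hw, rfl⟩ := Submodule.mem_sup.1 hx
  obtain ⟨t, ht, u, hu, rfl⟩ := Submodule.mem_sup.1 hz
  obtain ⟨c, rfl⟩ := Submodule.mem_span_singleton.1 ht
  have hau : mul a u = 0 := by simpa using mem_eigen.1 hu
  have haw : mul a w = (1 / 4 : ℝ) • w := mem_eigen.1 hw
  have hBu : B a u = 0 := by
    conv_lhs => rw [← hid]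
    rw [← hass, hau, map_zero]
  have hBw : B a w = 0 := by
    have e := hass a a w
    rw [hid, haw, map_smul, smul_eq_mul] at e
    linarith
  have hc : B a (c • a + u + w) = c := by
    rw [map_add, map_add, map_smul, hn, hBu, hBw, smul_eq_mul]; ring
  rw [hc]
  have hp : mul a (c • a + u + w) = c • a + (1 / 4 : ℝ) • w := by
    rw [map_add, map_add, map_smul, hid, hau, haw, add_zero]
  rw [hp]
  refine ⟨by rw [map_add, map_smul, map_smul, hid, haw]; module, fun hbp => ?_⟩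
  have huu : mul a (mul u u) = 0 := by
    have h' := hfus 0 (by simp [majoranaSpectrum]) 0 (by simp [majoranaSpectrum]) u hu u hu
    have hlaw : monsterLaw (1 / 4 : ℝ) (1 / 32) 0 0 = {0} := by simp [monsterLaw]
    rw [hlaw, eigenSum, iSup_singleton, mem_eigen] at h'
    simpa using h'
  have huw : mul a (mul u w) = (1 / 4 : ℝ) • mul u w := by
    have h' := hfus 0 (by simp [majoranaSpectrum]) (1 / 4) (by simp [majoranaSpectrum]) u hu w hw
    have hlaw : monsterLaw (1 / 4 : ℝ) (1 / 32) 0 (1 / 4) = {1 / 4} := by simp [monsterLaw]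
    rw [hlaw, eigenSum, iSup_singleton, mem_eigen] at h'
    exact h'
  have hww : mul a (mul a (mul w w)) = mul a (mul w w) := by
    have h' := hfus (1 / 4) (by simp [majoranaSpectrum]) (1 / 4) (by simp [majoranaSpectrum])
      w hw w hw
    have hlaw : monsterLaw (1 / 4 : ℝ) (1 / 32) (1 / 4) (1 / 4) = {1, 0} := by simp [monsterLaw]
    rw [hlaw] at h'
    have hle' : eigenSum mul a ({1, 0} : Set ℝ) ≤
        LinearMap.eqLocus ((mul a).comp (mul a)) (mul a) := by
      refine iSup₂_le fun e he v hv => ?_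
      rw [mem_eigen] at hv
      rw [LinearMap.mem_eqLocus, LinearMap.comp_apply, hv, map_smul, hv]
      rcases he with rfl | rfl <;> simp
    exact hle' h'
  have hexp : mul (c • a + u + w) (c • a + u + w) =
      (c * c) • a + mul u u + mul w w + (c / 2) • w + (2 : ℝ) • mul u w := by
    simp only [map_add, map_smul, LinearMap.add_apply, LinearMap.smul_apply, hid, hau, haw,
      hcomm u a, hcomm w a, hcomm w u]
    module
  rw [hexp] at hbb
  have e1 := congrArg (mul a) hbb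
  simp only [map_add, map_smul, hid, hau, haw, huu, huw, add_zero] at e1
  have e2 := congrArg (mul a) e1
  simp only [map_add, map_smul, hid, haw, huw, hww] at e2
  have hrel : mul u w = (1 / 2 - c / 4 : ℝ) • w := by
    linear_combination (norm := module) (8 / 3 : ℝ) • e1 - (8 / 3 : ℝ) • e2
  have hbp' : mul (c • a + u + w) (c • a + (1 / 4 : ℝ) • w) =
      (c * c) • a + (5 * c / 16) • w + (1 / 4 : ℝ) • mul u w + (1 / 4 : ℝ) • mul w w := by
    simp only [map_add, map_smul, LinearMap.add_apply, LinearMap.smul_apply, hid, hau, haw,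
      hcomm u a, hcomm w a]
    module
  rw [hbp', hrel] at hbp
  have hpp : mul (c • a + (1 / 4 : ℝ) • w) (c • a + (1 / 4 : ℝ) • w) =
      (c * c) • a + (c / 8) • w + (1 / 16 : ℝ) • mul w w := by
    simp only [map_add, map_smul, LinearMap.add_apply, LinearMap.smul_apply, hid, haw,
      hcomm w a]
    module
  rw [hpp]
  linear_combination (norm := module) (4 : ℝ) • hbp

/-- Commuting Majorana involutions generate an algebra of type 2A or 2B. -/
theorem two_a_or_two_b {mul : W →ₗ[ℝ] W →ₗ[ℝ] W} {B : LinearMap.BilinForm ℝ W}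
    (hV : IsMajoranaAmbient mul B) {μ₀ μ₁ : W ≃ₗ[ℝ] W} {a₀ a₁ : W}
    (h₀ : IsMajoranaPair mul B μ₀ a₀) (h₁ : IsMajoranaPair mul B μ₁ a₁)
    (hu₀ : ∀ a, IsMajoranaPair mul B μ₀ a → a = a₀) (hu₁ : ∀ a, IsMajoranaPair mul B μ₁ a → a = a₁)
    (hn₀ : B a₀ a₀ = 1) (hn₁ : B a₁ a₁ = 1) (hc : μ₀ * μ₁ = μ₁ * μ₀) (hne : a₀ ≠ a₁) :
    (B a₀ a₁ = 0 ∧ mul a₀ a₁ = 0) ∨
      (B a₀ a₁ = 1 / 8 ∧
        mul (a₀ + a₁ - (8 : ℝ) • mul a₀ a₁) (a₀ + a₁ - (8 : ℝ) • mul a₀ a₁) =
          a₀ + a₁ - (8 : ℝ) • mul a₀ a₁ ∧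
        mul a₀ (a₀ + a₁ - (8 : ℝ) • mul a₀ a₁) =
          (1 / 8 : ℝ) • (a₀ + (a₀ + a₁ - (8 : ℝ) • mul a₀ a₁) - a₁) ∧
        mul a₁ (a₀ + a₁ - (8 : ℝ) • mul a₀ a₁) =
          (1 / 8 : ℝ) • (a₁ + (a₀ + a₁ - (8 : ℝ) • mul a₀ a₁) - a₀)) := by
  have f1 : μ₀ a₁ = a₁ := hu₁ _ (transport h₀.1 (fun v => LinearEquiv.congr_fun hc v) h₁)
  have f0 : μ₁ a₀ = a₀ := hu₀ _ (transport h₁.1 (fun v => LinearEquiv.congr_fun hc.symm v) h₀)
  have i0 : mul a₀ a₀ = a₀ := h₀.2.2.1.1.2.1
  have i1 : mul a₁ a₁ = a₁ := h₁.2.2.1.1.2.1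
  obtain ⟨A0, P0⟩ := key hV h₀ hn₀ f1 i1
  obtain ⟨A1, P1⟩ := key hV h₁ hn₁ f0 i0
  obtain ⟨hcomm, hsymm, hpos, hass, -⟩ := hV
  rw [hcomm a₁ a₀, hsymm a₁ a₀] at A1 P1
  set l := B a₀ a₁ with hl
  set p := mul a₀ a₁ with hp
  have e0 := P0 A1
  have e1 := P1 A0
  have hd : (8 * l ^ 2 - l) • (a₀ - a₁) = 0 := by
    linear_combination (norm := module) e1 - e0
  rcases smul_eq_zero.1 hd with h | h
  swap
  · exact absurd (sub_eq_zero.1 h) hne
  have hl' : l = 0 ∨ l = 1 / 8 := by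
    have h' : l * (l - 1 / 8) = 0 := by linear_combination h / 8
    rcases mul_eq_zero.1 h' with e | e
    · exact .inl e
    · exact .inr (by linarith)
  rcases hl' with hl0 | hl8
  · refine .inl ⟨hl0, ?_⟩
    have hap : B a₁ p = 0 := by
      rw [hp, hcomm a₀ a₁, hass, i1, hsymm, ← hl, hl0]
    have hpp : B p p = 0 := by
      conv_lhs => arg 1; arg 2; rw [hp, hcomm a₀ a₁]
      rw [← hass, A0, map_add, map_smul, map_smul, hap, hl0]
      simp
    by_contra hne0
    have := hpos p hne0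
    rw [hpp] at this
    exact lt_irrefl _ this
  · refine .inr ⟨hl8, ?_, ?_, ?_⟩
    · simp only [map_add, map_sub, map_smul, LinearMap.add_apply, LinearMap.sub_apply,
        LinearMap.smul_apply, i0, i1, hcomm a₁ a₀, hcomm p a₀, hcomm p a₁, ← hp, A0, A1, hl8]
      rw [hl8] at e0
      linear_combination (norm := module) (4 : ℝ) • e0
    · simp only [map_add, map_sub, map_smul, i0, ← hp, A0, hl8]
      module
    · simp only [map_add, map_sub, map_smul, i1, hcomm a₁ a₀, ← hp, A1, hl8]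
      module

end CfsgLib.Trans3.Majorana
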