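import Cfsg.Agent.Lib.Trans3.MonsterBabyBase
import Cfsg.Agent.Lib.Comp.Local
import Cfsg.Agent.Lib.Coprime.SymplecticType

/-!
# Groups of Monster type: the centralizer of the second involution is of Baby Monster type
-/

set_option autoImplicit false

namespace CfsgLib.Trans3

open Cfsg CfsgLib.Golay
open scoped commutatorElement

variable {G : Type*} [Group G] [Finite G] {z : G} {Q : Subgroup (Subgroup.centralizer ({z} : Set G))}
  [Q.Normal] {e : (Subgroup.centralizer ({z} : Set G)) ⧸ Q ≃* Spor.Co1}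
  {ψ : leechLattice → Q ⧸ Subgroup.center Q}

/-- The map from the common centralizer of `z` and `t` to the stabilizer of the short vector. -/
theorem baby_sigma (hs : IsExtraspecialCentralizerSetting z Q 12) (hψ : IsLeechModTwoIso Q e ψ)
    {u : Q} {v : leechLattice} (hv4 : leechR.q v = 4) (hv : ψ v = QuotientGroup.mk u) {g₀ : Co0}
    (hg₀ : g₀ • Spor.leechU = v) :
    ∃ σ : (Subgroup.centralizer ({qv u} : Set G)).subgroupOf (Subgroup.centralizer ({z} : Set G)) →*
        Spor.Co2,
      Function.Surjective σ ∧ σ.ker = Q.subgroupOf _ ∧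
      ∀ h : (Subgroup.centralizer ({qv u} : Set G)).subgroupOf (Subgroup.centralizer ({z} : Set G)),
        (QuotientGroup.mk (g₀ * ⟨(σ h : Equiv.Perm leechLattice), (σ h).2.1⟩ * g₀⁻¹ : Co0) : Spor.Co1) =
          e (QuotientGroup.mk (h : Subgroup.centralizer ({z} : Set G))) := by
  set KC := (Subgroup.centralizer ({qv u} : Set G)).subgroupOf (Subgroup.centralizer ({z} : Set G))
  have hv0 : v ≠ 0 := fun e0 => by rw [e0, Rootless.q_zero] at hv4; omega
  let ι : Spor.Co2 →* Spor.Co1 := (QuotientGroup.mk' (Subgroup.center Co0)).comp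
    ((MulAut.conj g₀).toMonoidHom.comp (Subgroup.inclusion (inf_le_left : Spor.Co2 ≤ Co0)))
  have hι : ∀ k : Spor.Co2,
      ι k = QuotientGroup.mk (g₀ * ⟨(k : Equiv.Perm leechLattice), k.2.1⟩ * g₀⁻¹ : Co0) := fun _ => rfl
  have hfix : ∀ k : Spor.Co2,
      (g₀ * ⟨(k : Equiv.Perm leechLattice), k.2.1⟩ * g₀⁻¹ : Co0) • v = v := fun k => by
    rw [mul_smul, mul_smul, ← hg₀, inv_smul_smul]
    exact congrArg (g₀ • ·) (k.2.2 : (k : Equiv.Perm leechLattice) • Spor.leechU = Spor.leechU)
  have hιinj : Function.Injective ι := by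
    rw [injective_iff_map_eq_one]
    intro k hk
    rw [hι, QuotientGroup.eq_one_iff] at hk
    rcases center_Co0 hk with h | h
    · rw [conj_eq_one_iff] at h
      exact Subtype.ext (congrArg (fun w : Co0 => (w : Equiv.Perm leechLattice)) h)
    · exfalso
      have h1 := hfix k
      rw [h, negCo0_smul] at h1
      have h2 : leechR.q (v + v) = 0 := by
        conv_lhs => rw [← h1, show -v + -v = -(v + v) by abel]
        rw [Rootless.q_neg, show v + v = -v + v from by rw [h1], neg_add_cancel, Rootless.q_zero]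
      rw [Rootless.q_two] at h2
      omega
  let θ : KC →* Spor.Co1 := e.toMonoidHom.comp ((QuotientGroup.mk' Q).comp KC.subtype)
  have hθ : ∀ h : KC, θ h ∈ ι.range := by
    intro h
    obtain ⟨c, hc⟩ := QuotientGroup.mk_surjective (θ h)
    have hcv := mon_stab_of_comm hψ hv (h := (h : Subgroup.centralizer ({z} : Set G))) hc
      (Subgroup.mem_centralizer_singleton_iff.1 (Subgroup.mem_subgroupOf.1 h.2))
    have key : ∀ c' : Co0, c' • v = v → (QuotientGroup.mk c' : Spor.Co1) ∈ ι.range := fun c' h' => by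
      refine ⟨⟨((g₀⁻¹ * c' * g₀ : Co0) : Equiv.Perm leechLattice), (g₀⁻¹ * c' * g₀).2, ?_⟩, ?_⟩
      · show (g₀⁻¹ * c' * g₀ : Co0) • Spor.leechU = Spor.leechU
        rw [mul_smul, mul_smul, hg₀, h', ← hg₀, inv_smul_smul]
      · rw [hι]
        congr 1
        show g₀ * (g₀⁻¹ * c' * g₀) * g₀⁻¹ = c'
        group
    rcases leechR.short_congr (mem_classStab.1 hcv) (by rw [co0_q]; omega) (by omega) with h' | h' | h'
    · exact hc ▸ key c h'.symm
    · have h1 := key (negCo0 * c) (by rw [mul_smul, negCo0_smul]; exact h'.symm)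
      rwa [QuotientGroup.mk_mul, (QuotientGroup.eq_one_iff negCo0).2 negCo0_central, one_mul, hc] at h1
    · rw [co0_q] at h'; omega
  let σ : KC →* Spor.Co2 := (MonoidHom.ofInjective hιinj).symm.toMonoidHom.comp (θ.codRestrict _ hθ)
  have hσ : ∀ h, ι (σ h) = θ h := fun h =>
    congrArg (fun w : ι.range => (w : Spor.Co1)) ((MonoidHom.ofInjective hιinj).apply_symm_apply _)
  refine ⟨σ, fun k => ?_, ?_, fun h => (hι (σ h)).symm.trans (hσ h)⟩
  · obtain ⟨h, he, hh⟩ := mon_stab_lift hs hψ hv (g := g₀ * ⟨(k : Equiv.Perm leechLattice), k.2.1⟩ * g₀⁻¹)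
      (mem_classStab.2 (by rw [hfix]))
    refine ⟨⟨h, Subgroup.mem_subgroupOf.2 (Subgroup.mem_centralizer_singleton_iff.2 hh)⟩, hιinj ?_⟩
    rw [hσ, hι, he]
    rfl
  · ext h
    rw [MonoidHom.mem_ker, Subgroup.mem_subgroupOf, ← hιinj.eq_iff, hσ, map_one]
    show e (QuotientGroup.mk (h : Subgroup.centralizer ({z} : Set G))) = 1 ↔ _
    rw [MulEquiv.map_eq_one_iff, QuotientGroup.eq_one_iff]

/-- Some element of `Co2` moves a class orthogonal to the short vector out of its coset. -/
theorem co2_moves : ∃ (k : Spor.Co2) (x : leechPerpU),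
    leechR.cls ((k : Equiv.Perm leechLattice) • (x : leechLattice)) ≠ leechR.cls (x : leechLattice) ∧
    leechR.cls ((k : Equiv.Perm leechLattice) • (x : leechLattice)) ≠
      leechR.cls ((x : leechLattice) + Spor.leechU) := by
  classical
  obtain ⟨g, hg⟩ := M24_five_trans
    ⟨![none, some 0, some 1, some 2, some 5], by decide +kernel⟩
    ⟨![none, some 0, some 3, some 4, some 5], by decide +kernel⟩
  have hgi : ∀ i : Fin 5, (g : Equiv.Perm GolayPt) (![none, some 0, some 1, some 2, some 5] i) =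
      ![none, some 0, some 3, some 4, some 5] i := fun i => DFunLike.congr_fun hg i
  have g0 : (g : Equiv.Perm GolayPt) none = none := hgi 0
  have g1 : (g : Equiv.Perm GolayPt) (some 0) = some 0 := hgi 1
  have g2 : (g : Equiv.Perm GolayPt) (some 1) = some 3 := hgi 2
  have g3 : (g : Equiv.Perm GolayPt) (some 2) = some 4 := hgi 3
  have hne : (some 1 : GolayPt) ≠ some 2 := by decide +kernel
  obtain ⟨hp, hpn⟩ := pair4_mem hne (a := 4) (b := 4) (Or.inl rfl) (Or.inl rfl)
  set p : leechLattice := ⟨_, hp⟩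
  set k := monoCo0 g g.2 ∅ empty_code
  have hmono : ∀ (w : leechLattice) (i : GolayPt), ((k • w : leechLattice) : GolayPt → ℤ) i =
      (w : GolayPt → ℤ) ((g : Equiv.Perm GolayPt).symm i) := fun w i => by
    rw [monoCo0_smul]; simp [signedPerm]
  have hu : k • Spor.leechU = Spor.leechU := by
    refine Subtype.ext (funext fun i => ?_)
    rw [hmono]
    show Spor.vecU _ = Spor.vecU i
    simp only [Spor.vecU, Equiv.symm_apply_eq, g0, g1]
  have hkp : ((k • p : leechLattice) : GolayPt → ℤ) = Pi.single (some 3) 4 + Pi.single (some 4) 4 := by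
    funext i
    rw [hmono]
    show (Pi.single (some 1) 4 + Pi.single (some 2) 4 : GolayPt → ℤ) _ = _
    simp only [Pi.add_apply, Pi.single_apply, Equiv.symm_apply_eq, g2, g3]
  have hperp : p ∈ leechPerpU := by
    show (16 : ℤ) ∣ dotInt (Pi.single (some 1) 4 + Pi.single (some 2) 4 : GolayPt → ℤ) Spor.vecU
    decide +kernel
  refine ⟨⟨(k : Equiv.Perm leechLattice), k.2, hu⟩, ⟨p, hperp⟩, ?_, ?_⟩
  · show leechR.cls (k • p) ≠ leechR.cls p
    intro h
    have h4 : leechR.q p = 4 := (leech_q_iff p 4).2 hpn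
    rcases leechR.short_congr h (by rw [co0_q]; omega) (by omega) with h' | h' | h'
    · have := congrArg (fun w : leechLattice => (w : GolayPt → ℤ) (some 1)) h'
      simp only [hkp] at this
      revert this
      show ¬ ((Pi.single (some 1) 4 + Pi.single (some 2) 4 : GolayPt → ℤ) (some 1) =
        (Pi.single (some 3) 4 + Pi.single (some 4) 4 : GolayPt → ℤ) (some 1))
      decide +kernel
    · have := congrArg (fun w : leechLattice => (w : GolayPt → ℤ) (some 1)) h'
      simp only [AddSubgroup.coe_neg, Pi.neg_apply, hkp] at this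
      revert this
      show ¬ ((Pi.single (some 1) 4 + Pi.single (some 2) 4 : GolayPt → ℤ) (some 1) =
        -(Pi.single (some 3) 4 + Pi.single (some 4) 4 : GolayPt → ℤ) (some 1))
      decide +kernel
    · rw [co0_q] at h'; omega
  · show leechR.cls (k • p) ≠ leechR.cls (p + Spor.leechU)
    intro h
    have h4 : leechR.q p = 4 := (leech_q_iff p 4).2 hpn
    have h8 : leechR.q (p + Spor.leechU) = 8 := (leech_q_iff _ 8).2 (by
      show sqNorm ((Pi.single (some 1) 4 + Pi.single (some 2) 4 : GolayPt → ℤ) + Spor.vecU) = _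
      decide +kernel)
    rcases leechR.short_congr h (by rw [co0_q]; omega) h8.le with h' | h' | h'
    · rw [h', co0_q] at h8; omega
    · rw [h', Rootless.q_neg, co0_q] at h8; omega
    · rw [co0_q] at h'; omega

/-- The centralizer of `t` modulo `t` is of Baby Monster type. -/
theorem mon_baby (hs : IsExtraspecialCentralizerSetting z Q 12) (hψ : IsLeechModTwoIso Q e ψ)
    {u : Q} {v : leechLattice} (hv4 : leechR.q v = 4) (hv : ψ v = QuotientGroup.mk u)
    [hn : ((Subgroup.zpowers (qv u)).subgroupOf (Subgroup.centralizer ({qv u} : Set G))).Normal] :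
    IsOfBabyMonsterType (↥(Subgroup.centralizer ({qv u} : Set G)) ⧸
      (Subgroup.zpowers (qv u)).subgroupOf (Subgroup.centralizer ({qv u} : Set G))) := by
  classical
  obtain ⟨hu2, huc, hun⟩ := four_props hs hψ hv4 hv
  have hv0 : v ≠ 0 := fun e0 => by rw [e0, Rootless.q_zero] at hv4; omega
  obtain ⟨⟨cz, hcz, hczv⟩, -⟩ := mon_center hs
  have hE := hs.2.2.1
  have hz1 : z ≠ 1 := fun h => by have := hs.1; rw [h, orderOf_one] at this; omega
  have hz2 : z ^ 2 = 1 := hs.1 ▸ pow_orderOf_eq_one z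
  have huz : qv u ≠ z := fun h => huc ((mon_center_iff hs u).2 (Or.inr h))
  have hu1 : qv u ≠ 1 := fun h => huc ((mon_center_iff hs u).2 (Or.inl h))
  have ht2 : qv u ^ 2 = 1 := congrArg qv hu2
  have hzp : ∀ a : G, a ∈ Subgroup.zpowers (qv u) → a = 1 ∨ a = qv u := by
    intro a ha
    obtain ⟨n, rfl⟩ := Subgroup.mem_zpowers_iff.1 ha
    rcases Int.even_or_odd' n with ⟨m, rfl | rfl⟩
    · left; rw [zpow_mul, zpow_ofNat, ht2, one_zpow]
    · right; rw [zpow_add, zpow_mul, zpow_ofNat, ht2, one_zpow, one_mul, zpow_one]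
  -- the product of `z` and `t` is not conjugate to `z`
  have hun' : ¬ IsConj z (qv u * z) := by
    have h1 : ψ v = QuotientGroup.mk (u * cz) := by
      rw [hv]; exact QuotientGroup.eq.2 (by rwa [inv_mul_cancel_left])
    have h2 := (four_props hs hψ hv4 h1).2.2
    rwa [show qv (u * cz) = qv u * z from congrArg (qv u * ·) hczv] at h2
  obtain ⟨g₀, hg₀⟩ := co0_trans32 (v := Spor.leechU) (w := v) (by decide +kernel) ((leech_q_iff v 4).1 hv4)
  set KC := (Subgroup.centralizer ({qv u} : Set G)).subgroupOf (Subgroup.centralizer ({z} : Set G))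
    with hKC
  obtain ⟨σ, hσsurj, hσker, hσspec⟩ : ∃ σ : KC →* Spor.Co2, Function.Surjective σ ∧
      σ.ker = Q.subgroupOf KC ∧ ∀ h : KC,
        (QuotientGroup.mk (g₀ * ⟨(σ h : Equiv.Perm leechLattice), (σ h).2.1⟩ * g₀⁻¹ : Co0) : Spor.Co1) =
          e (QuotientGroup.mk (h : Subgroup.centralizer ({z} : Set G))) := baby_sigma hs hψ hv4 hv hg₀
  set T := (Subgroup.zpowers (qv u)).subgroupOf (Subgroup.centralizer ({qv u} : Set G)) with hT
  have hzu : z * qv u = qv u * z := (comm_z (u : Subgroup.centralizer ({z} : Set G))).symm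
  let zt : Subgroup.centralizer ({qv u} : Set G) := ⟨z, Subgroup.mem_centralizer_singleton_iff.2 hzu⟩
  set zb : ↥(Subgroup.centralizer ({qv u} : Set G)) ⧸ T := QuotientGroup.mk zt
  set D := Subgroup.centralizer ({zb} : Set (↥(Subgroup.centralizer ({qv u} : Set G)) ⧸ T))
  let j : KC →* Subgroup.centralizer ({qv u} : Set G) := MonoidHom.mk'
    (fun h => ⟨((h : Subgroup.centralizer ({z} : Set G)) : G), Subgroup.mem_subgroupOf.1 h.2⟩)
    fun a b => rfl
  have hjD : ∀ h : KC, QuotientGroup.mk' T (j h) ∈ D := fun h => by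
    refine Subgroup.mem_centralizer_singleton_iff.2 ?_
    show QuotientGroup.mk (j h) * QuotientGroup.mk zt = QuotientGroup.mk zt * QuotientGroup.mk (j h)
    rw [← QuotientGroup.mk_mul, ← QuotientGroup.mk_mul]
    exact congrArg _ (Subtype.ext (comm_z (h : Subgroup.centralizer ({z} : Set G))))
  let ρ : KC →* D := ((QuotientGroup.mk' T).comp j).codRestrict D hjD
  have hρeq : ∀ {h h' : KC}, ρ h = ρ h' → ((h : Subgroup.centralizer ({z} : Set G)) : G)⁻¹ *
      ((h' : Subgroup.centralizer ({z} : Set G)) : G) ∈ Subgroup.zpowers (qv u) := fun {h h'} he =>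
    Subgroup.mem_subgroupOf.1 (QuotientGroup.eq.1
      (congrArg (fun w : D => (w : _ ⧸ T)) he))
  have hρsurj : Function.Surjective ρ := by
    rintro ⟨a, ha⟩
    obtain ⟨a, rfl⟩ := QuotientGroup.mk_surjective a
    have h1 : QuotientGroup.mk (a * zt) = (QuotientGroup.mk (zt * a) :
        ↥(Subgroup.centralizer ({qv u} : Set G)) ⧸ T) := Subgroup.mem_centralizer_singleton_iff.1 ha
    have h2 : ((a * zt : Subgroup.centralizer ({qv u} : Set G)) : G)⁻¹ * (z * (a : G)) ∈
        Subgroup.zpowers (qv u) := Subgroup.mem_subgroupOf.1 (QuotientGroup.eq.1 h1)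
    have haz : (a : G) * z = z * (a : G) := by
      rcases hzp _ h2 with h3 | h3
      · exact inv_mul_eq_one.1 h3
      · exfalso
        have h4 : z * (a : G) = (a : G) * z * qv u := inv_mul_eq_iff_eq_mul.1 h3
        refine hun' (isConj_iff.2 ⟨(a : G)⁻¹, ?_⟩)
        rw [inv_inv, mul_assoc, h4, mul_assoc, hzu, inv_mul_cancel_left]
    exact ⟨⟨⟨a, Subgroup.mem_centralizer_singleton_iff.2 haz⟩, Subgroup.mem_subgroupOf.2 a.2⟩,
      Subtype.ext rfl⟩
  have huKC : (u : Subgroup.centralizer ({z} : Set G)) ∈ KC :=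
    Subgroup.mem_subgroupOf.2 (Subgroup.mem_centralizer_singleton_iff.2 rfl)
  have hρu : ρ ⟨u, huKC⟩ = 1 := Subtype.ext ((QuotientGroup.eq_one_iff _).2
    (Subgroup.mem_subgroupOf.2 (Subgroup.mem_zpowers (qv u))))
  set HK := Q.subgroupOf KC
  set R := HK.map ρ with hRdef
  haveI hRn : R.Normal := Subgroup.Normal.map inferInstance ρ hρsurj
  -- elements of `HK`
  let lift : ∀ a : Q, a * u = u * a → KC := fun a ha =>
    ⟨a, Subgroup.mem_subgroupOf.2 (Subgroup.mem_centralizer_singleton_iff.2 (congrArg qv ha))⟩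
  have hofHK : ∀ h : KC, h ∈ HK → ∃ (a : Q) (ha : a * u = u * a), h = lift a ha := fun h hh =>
    ⟨⟨h, hh⟩, qv_injective (Subgroup.mem_centralizer_singleton_iff.1 (Subgroup.mem_subgroupOf.1 h.2)), rfl⟩
  have hliftR : ∀ (a : Q) (ha : a * u = u * a), ρ (lift a ha) ∈ R := fun a ha => ⟨_, a.2, rfl⟩
  have hczu : cz * u = u * cz := (Subgroup.mem_center_iff.1 hcz u).symm
  let zr : R := ⟨ρ (lift cz hczu), hliftR cz hczu⟩
  have hzr : ((zr : D) : ↥(Subgroup.centralizer ({qv u} : Set G)) ⧸ T) = zb :=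
    congrArg (QuotientGroup.mk' T) (Subtype.ext hczv)
  have hzb1 : zb ≠ 1 := fun h => by
    rcases hzp z (Subgroup.mem_subgroupOf.1 ((QuotientGroup.eq_one_iff zt).1 h)) with h' | h'
    · exact hz1 h'
    · exact huz h'.symm
  have hzr1 : zr ≠ 1 := fun h => hzb1 (by
    rw [← hzr, h]; rfl)
  have hzr2 : zr ^ 2 = 1 := Subtype.ext (by
    show ρ (lift cz hczu) ^ 2 = 1
    rw [← map_pow]
    have h2 : lift cz hczu ^ 2 = 1 := Subtype.ext (Subtype.ext (by
      show qv cz ^ 2 = 1
      rw [hczv, hz2]))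
    rw [h2, map_one])
  -- the image of a central element
  have hcenR : ∀ (a : Q) (ha : a * u = u * a), a ∈ Subgroup.center Q →
      ρ (lift a ha) = 1 ∨ ρ (lift a ha) = (zr : D) := fun a ha hac => by
    rcases (mon_center_iff hs a).1 hac with h | h
    · left
      rw [show lift a ha = 1 from Subtype.ext (Subtype.ext h), map_one]
    · right
      exact congrArg ρ (Subtype.ext (Subtype.ext (h.trans hczv.symm)))
  have hZmem : ∀ {r : R}, ((r : D) = 1 ∨ (r : D) = (zr : D)) → r ∈ Subgroup.zpowers zr := fun {r} h => by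
    rcases h with h | h
    · rw [show r = 1 from Subtype.ext h]; exact Subgroup.one_mem _
    · rw [show r = zr from Subtype.ext h]; exact Subgroup.mem_zpowers zr
  -- orders
  have hHK : Nat.card HK = 2 ^ 24 := by
    rw [← mon_card_fix hs huc]
    exact Nat.card_congr ⟨fun h => ⟨⟨((h : KC) : Subgroup.centralizer ({z} : Set G)), h.2⟩,
        qv_injective (Subgroup.mem_centralizer_singleton_iff.1
          (Subgroup.mem_subgroupOf.1 (h : KC).2))⟩,
      fun a => ⟨lift a.1 a.2, a.1.2⟩, fun h => rfl, fun a => rfl⟩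
  have hρker : ∀ h : KC, ρ h = 1 → h = 1 ∨ h = ⟨u, huKC⟩ := fun h hh => by
    rcases hzp _ (hρeq (hh.trans (map_one ρ).symm)) with h' | h'
    · left
      refine Subtype.ext (Subtype.ext ?_)
      simpa using h'
    · right
      refine Subtype.ext (Subtype.ext ?_)
      have h'' : ((h : Subgroup.centralizer ({z} : Set G)) : G)⁻¹ = qv u := by simpa using h'
      show ((h : Subgroup.centralizer ({z} : Set G)) : G) = qv u
      rw [← inv_inv ((h : Subgroup.centralizer ({z} : Set G)) : G), h'']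
      exact inv_eq_of_mul_eq_one_right (by rw [← sq]; exact ht2)
  have hkerle : ρ.ker ≤ HK := fun h hh => by
    rcases hρker h (MonoidHom.mem_ker.1 hh) with rfl | rfl
    · exact HK.one_mem
    · exact u.2
  have hkcard : Nat.card ρ.ker = 2 := by
    refine Nat.card_eq_two_iff.2 ⟨1, ⟨⟨u, huKC⟩, MonoidHom.mem_ker.2 hρu⟩, fun h => ?_, ?_⟩
    · exact hu1 (congrArg (fun w : ρ.ker => (((w : KC) : Subgroup.centralizer ({z} : Set G)) : G)) h).symm
    · refine Set.eq_univ_of_forall fun w => ?_
      rcases hρker w.1 (MonoidHom.mem_ker.1 w.2) with h | h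
      · exact Or.inl (Subtype.ext h)
      · exact Or.inr (Subtype.ext h)
  have hRcard : Nat.card R = 2 ^ 23 := by
    have h1 := (ρ.comp HK.subtype).ker.card_mul_index
    rw [Subgroup.index_ker, MonoidHom.range_comp, Subgroup.range_subtype, hHK] at h1
    have h2 : Nat.card (ρ.comp HK.subtype).ker = 2 := by
      rw [← hkcard]
      exact Nat.card_congr ⟨fun a => ⟨((a : HK) : KC), a.2⟩, fun a => ⟨⟨a, hkerle a.2⟩, a.2⟩,
        fun a => rfl, fun a => rfl⟩
    rw [h2] at h1
    show Nat.card ↥(HK.map ρ) = _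
    omega
  -- extraspecial
  haveI : Fact (Nat.Prime 2) := ⟨Nat.prime_two⟩
  have hrep : ∀ r : R, ∃ (a : Q) (ha : a * u = u * a), (r : D) = ρ (lift a ha) := fun r => by
    obtain ⟨h, hh, he⟩ := r.2
    obtain ⟨a, ha, rfl⟩ := hofHK h hh
    exact ⟨a, ha, he.symm⟩
  have hZc : Nat.card (Subgroup.zpowers zr) = 2 := by
    rw [Nat.card_zpowers, orderOf_eq_prime hzr2 hzr1]
  have hcomm : ∀ (a b : Q) (ha : a * u = u * a) (hb : b * u = u * b),
      ρ (lift a ha) * ρ (lift b hb) * (ρ (lift a ha))⁻¹ * (ρ (lift b hb))⁻¹ = 1 ∨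
      ρ (lift a ha) * ρ (lift b hb) * (ρ (lift a ha))⁻¹ * (ρ (lift b hb))⁻¹ = (zr : D) := by
    intro a b ha hb
    have hc := CfsgLib.Transfer.special_commutatorElement_mem_center hE.1 a b
    rw [← map_inv, ← map_inv, ← map_mul, ← map_mul, ← map_mul]
    exact hcenR ⁅a, b⁆ ((Subgroup.mem_center_iff.1 hc u).symm) hc
  have hcen : Subgroup.center R = Subgroup.zpowers zr := by
    refine le_antisymm (fun r hr => ?_) ((Subgroup.zpowers_le).2 (Subgroup.mem_center_iff.2 fun s => ?_))
    · obtain ⟨a, ha, he⟩ := hrep r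
      have hall : ∀ b : Q, b * u = u * b → a * b = b * a := by
        intro b hb
        have h1 := Subgroup.mem_center_iff.1 hr ⟨ρ (lift b hb), hliftR b hb⟩
        have h2 : ρ (lift b hb) * ρ (lift a ha) = ρ (lift a ha) * ρ (lift b hb) := by
          rw [← he]; exact congrArg Subtype.val h1
        have hc := CfsgLib.Transfer.special_commutatorElement_mem_center hE.1 a b
        rw [← commutatorElement_eq_one_iff_mul_comm]
        have h3 : ρ (lift ⁅a, b⁆ ((Subgroup.mem_center_iff.1 hc u).symm)) = 1 := by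
          show ρ (lift a ha * lift b hb * (lift a ha)⁻¹ * (lift b hb)⁻¹) = 1
          rw [map_mul, map_mul, map_mul, map_inv, map_inv, ← h2, mul_inv_cancel_right, mul_inv_cancel]
        rcases hρker _ h3 with h4 | h4
        · exact qv_injective (congrArg (fun w : KC => ((w : Subgroup.centralizer ({z} : Set G)) : G)) h4)
        · exfalso
          have h5 : qv ⁅a, b⁆ = qv u :=
            congrArg (fun w : KC => ((w : Subgroup.centralizer ({z} : Set G)) : G)) h4
          rw [show u = ⁅a, b⁆ from (qv_injective h5).symm] at huc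
          exact huc hc
      refine hZmem ?_
      rw [he]
      rcases mon_fix_centre hs huc ha hall with h | h
      · exact hcenR a ha h
      · have h' := hcenR (a * u) (Subgroup.mem_center_iff.1 h u).symm h
        have h2 : ρ (lift (a * u) (Subgroup.mem_center_iff.1 h u).symm) =
            ρ (lift a ha) * ρ ⟨u, huKC⟩ := map_mul ρ (lift a ha) ⟨u, huKC⟩
        rw [h2, hρu, mul_one] at h'
        exact h'
    · obtain ⟨b, hb, he⟩ := hrep s
      refine Subtype.ext ?_
      show (s : D) * ρ (lift cz hczu) = ρ (lift cz hczu) * (s : D)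
      rw [he, ← map_mul, ← map_mul]
      exact congrArg ρ (Subtype.ext (congrArg (fun w : Q => (w : Subgroup.centralizer ({z} : Set G)))
        (Subgroup.mem_center_iff.1 hcz b)))
  have hRE : IsExtraspecial 2 R := by
    refine CfsgLib.Coprime.isExtraspecial_of_central (IsPGroup.of_card hRcard) _ hZc hcen
      (fun r s => hZmem ?_) (fun r => hZmem ?_) (fun h => ?_)
    · obtain ⟨a, ha, he⟩ := hrep r
      obtain ⟨b, hb, he'⟩ := hrep s
      show (r : D) * s * (r : D)⁻¹ * (s : D)⁻¹ = 1 ∨ (r : D) * s * (r : D)⁻¹ * (s : D)⁻¹ = (zr : D)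
      rw [he, he']
      exact hcomm a b ha hb
    · obtain ⟨a, ha, he⟩ := hrep r
      show (r : D) ^ 2 = 1 ∨ (r : D) ^ 2 = (zr : D)
      rw [he, ← map_pow]
      exact hcenR (a ^ 2) ((Subgroup.mem_center_iff.1 (ex_sq_center hE a) u).symm) (ex_sq_center hE a)
    · rw [h, Subgroup.card_top, hRcard] at hZc
      norm_num at hZc
  -- the quotient
  have hsimple : IsSimpleGroup Spor.Co2 := by
    have h32 : sqNorm (Spor.leechU : GolayPt → ℤ) = 32 := by decide +kernel
    haveI := isSimple_stab32 h32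
    exact MulEquiv.isSimpleGroup (⟨⟨fun k => ⟨⟨(k : Equiv.Perm leechLattice), k.2.1⟩, k.2.2⟩,
      fun k => ⟨((k : Co0) : Equiv.Perm leechLattice), (k : Co0).2, k.2⟩, fun _ => rfl, fun _ => rfl⟩,
      fun _ _ => rfl⟩ : Spor.Co2 ≃* MulAction.stabilizer Co0 Spor.leechU)
  let φ : KC →* D ⧸ R := (QuotientGroup.mk' R).comp ρ
  have hφsurj : Function.Surjective φ := (QuotientGroup.mk'_surjective R).comp hρsurj
  have hφker : φ.ker = σ.ker := by
    rw [hσker, show φ = (QuotientGroup.mk' R).comp ρ from rfl, ← MonoidHom.comap_ker, QuotientGroup.ker_mk', hRdef,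
      Subgroup.comap_map_eq, sup_eq_left.2 hkerle]
  let e' : D ⧸ R ≃* Spor.Co2 := ((QuotientGroup.quotientKerEquivOfSurjective φ hφsurj).symm.trans
    (QuotientGroup.quotientMulEquivOfEq hφker)).trans (QuotientGroup.quotientKerEquivOfSurjective σ hσsurj)
  have he' : ∀ h : KC, e' (φ h) = σ h := fun h => by
    have h1 : (QuotientGroup.quotientKerEquivOfSurjective φ hφsurj).symm (φ h) = QuotientGroup.mk h :=
      (MulEquiv.symm_apply_eq _).2 rfl
    show (QuotientGroup.quotientKerEquivOfSurjective σ hσsurj)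
      ((QuotientGroup.quotientMulEquivOfEq hφker)
        ((QuotientGroup.quotientKerEquivOfSurjective φ hφsurj).symm (φ h))) = σ h
    rw [h1]
    rfl
  haveI hDsimple : IsSimpleGroup (D ⧸ R) :=
    haveI := hsimple
    e'.isSimpleGroup
  have hquot : ∀ a : R, ∀ w : KC, ∀ b : Q, ∀ hb : b * u = u * b, ρ w = (a : D) →
      ρ w * ρ (lift b hb) * (ρ w)⁻¹ = ρ (lift b hb) ∨
        ρ w * ρ (lift b hb) * (ρ w)⁻¹ = ρ (lift b hb) * (zr : D) := fun a w b hb hw => by
    obtain ⟨c, hc, he⟩ := hrep a
    rw [hw, he]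
    rcases hcomm c b hc hb with h | h
    · left; rw [mul_inv_eq_one] at h; exact h
    · right
      rw [mul_inv_eq_iff_eq_mul] at h
      rw [h]
      exact congrArg Subtype.val (Subgroup.mem_center_iff.1
        (hcen ▸ Subgroup.mem_zpowers zr) (⟨ρ (lift b hb), hliftR b hb⟩ : R)).symm
  -- the centralizer of `R`
  have hcR : Subgroup.centralizer (R : Set D) ≤ R := by
    haveI : (Subgroup.centralizer (R : Set D)).Normal := Subgroup.normal_centralizer
    haveI hXn : ((Subgroup.centralizer (R : Set D)).map (QuotientGroup.mk' R)).Normal :=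
      Subgroup.Normal.map inferInstance _ (QuotientGroup.mk'_surjective R)
    rcases hXn.eq_bot_or_eq_top with hX | hX
    · rw [Subgroup.map_eq_bot_iff, QuotientGroup.ker_mk'] at hX
      exact hX
    · exfalso
      obtain ⟨k, x, hne1, hne2⟩ := co2_moves
      obtain ⟨h, rfl⟩ := hσsurj k
      obtain ⟨c, hc, hce⟩ : QuotientGroup.mk (ρ h) ∈ (Subgroup.centralizer (R : Set D)).map
          (QuotientGroup.mk' R) := hX ▸ Subgroup.mem_top _
      obtain ⟨a, ha⟩ := QuotientGroup.mk_surjective (ψ (g₀ • (x : leechLattice)))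
      have hau : a * u = u * a := (mon_comm_iff hs hψ ha.symm hv).2 (by
        have h16 : (16 : ℤ) ∣ dotInt ((x : leechLattice) : GolayPt → ℤ) Spor.vecU := x.2
        have hm := leechB_mul (g₀ • (x : leechLattice)) v
        rw [← hg₀] at hm ⊢
        rw [co0_dot, show ((Spor.leechU : leechLattice) : GolayPt → ℤ) = Spor.vecU from rfl] at hm
        omega)
      -- `ρ h = c * r`
      obtain ⟨w, hw⟩ := hρsurj (c⁻¹ * ρ h)
      have hr : c⁻¹ * ρ h ∈ R := QuotientGroup.eq.1 hce
      have h1 := hquot ⟨_, hr⟩ w a hau hw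
      have hconj : ρ h * ρ (lift a hau) * (ρ h)⁻¹ = ρ w * ρ (lift a hau) * (ρ w)⁻¹ := by
        have hmem : ρ w * ρ (lift a hau) * (ρ w)⁻¹ ∈ R := hRn.conj_mem _ (hliftR a hau) _
        have hcm := Subgroup.mem_centralizer_iff.1 hc _ hmem
        have : ρ h = c * ρ w := by rw [hw, mul_inv_cancel_left]
        rw [this, show c * ρ w * ρ (lift a hau) * (c * ρ w)⁻¹ =
          c * (ρ w * ρ (lift a hau) * (ρ w)⁻¹) * c⁻¹ by group, ← hcm, mul_inv_cancel_right]
      set a' : Q := ⟨(h : Subgroup.centralizer ({z} : Set G)) * a * (h : Subgroup.centralizer ({z} : Set G))⁻¹,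
        (inferInstance : Q.Normal).conj_mem _ a.2 _⟩
      have ha'u : a' * u = u * a' := qv_injective (Subgroup.mem_centralizer_singleton_iff.1
        (Subgroup.mem_subgroupOf.1 (h * lift a hau * h⁻¹).2))
      have hA : ρ (lift a' ha'u) = ρ h * ρ (lift a hau) * (ρ h)⁻¹ := by
        rw [← map_inv, ← map_mul, ← map_mul]; rfl
      have hψx : ψ ((g₀ * ⟨(σ h : Equiv.Perm leechLattice), (σ h).2.1⟩ * g₀⁻¹ : Co0) •
          (g₀ • (x : leechLattice))) = QuotientGroup.mk a' :=
        hψ.2.2.2 _ _ (hσspec h) _ a ha.symm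
      rw [mul_smul, mul_smul, inv_smul_smul] at hψx
      -- both possibilities contradict the choice of `x`
      have key : ∀ b : Q, ∀ hb : b * u = u * b, ρ (lift a' ha'u) = ρ (lift b hb) →
          ψ (g₀ • ((σ h : Equiv.Perm leechLattice) • (x : leechLattice))) = QuotientGroup.mk b ∨
            ψ (g₀ • ((σ h : Equiv.Perm leechLattice) • (x : leechLattice))) = QuotientGroup.mk (b * u) := by
        intro b hb hab
        rcases hzp _ (hρeq hab.symm) with h' | h'
        · left
          rw [show b = a' from qv_injective (inv_mul_eq_one.1 h')]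
          exact hψx
        · right
          rw [show b * u = a' from qv_injective (inv_mul_eq_iff_eq_mul.1 h').symm]
          exact hψx
      have fin : ∀ b : Q, QuotientGroup.mk b = ψ (g₀ • (x : leechLattice)) →
          (ψ (g₀ • ((σ h : Equiv.Perm leechLattice) • (x : leechLattice))) = QuotientGroup.mk b ∨
            ψ (g₀ • ((σ h : Equiv.Perm leechLattice) • (x : leechLattice))) = QuotientGroup.mk (b * u)) →
          False := by
        intro b hb hcase
        rcases hcase with hh | hh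
        · rw [hb, psi_cls hψ] at hh
          have := co0_cls g₀⁻¹ hh
          rw [inv_smul_smul, inv_smul_smul] at this
          exact hne1 this
        · rw [QuotientGroup.mk_mul, hb, ← hv, ← hψ.1, psi_cls hψ, ← hg₀, ← co0_add] at hh
          have := co0_cls g₀⁻¹ hh
          rw [inv_smul_smul, inv_smul_smul] at this
          exact hne2 this
      rcases h1 with h1 | h1
      · exact fin a ha (key a hau (hA.trans (hconj.trans h1)))
      · refine fin (a * cz) (by
          rw [← ha]; exact QuotientGroup.eq.2 (by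
            rw [mul_inv_rev, inv_mul_cancel_right]; exact Subgroup.inv_mem _ hcz))
          (key (a * cz) ?_ ((hA.trans (hconj.trans h1)).trans (map_mul ρ _ _).symm))
        rw [mul_assoc, hczu, ← mul_assoc, hau, mul_assoc]
  have hFit : generalizedFittingSubgroup D = R := by
    have hR2 : IsPGroup 2 R := IsPGroup.of_card hRcard
    have hcore : pCore 2 D = R := by
      refine le_antisymm ?_ (le_sSup ⟨hRn, hR2⟩)
      refine sSup_le fun N hN => ?_
      haveI := hN.1
      haveI hNn : (N.map (QuotientGroup.mk' R)).Normal :=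
        Subgroup.Normal.map inferInstance _ (QuotientGroup.mk'_surjective R)
      rcases hNn.eq_bot_or_eq_top with h | h
      · rwa [Subgroup.map_eq_bot_iff, QuotientGroup.ker_mk'] at h
      · exfalso
        obtain ⟨n, hn'⟩ := IsPGroup.iff_card.1 (hN.2.map (QuotientGroup.mk' R))
        rw [h, Subgroup.card_top, Nat.card_congr e'.toEquiv] at hn'
        have h32 : sqNorm (Spor.leechU : GolayPt → ℤ) = 32 := by decide +kernel
        rw [show Nat.card Spor.Co2 = Nat.card (MulAction.stabilizer Co0 Spor.leechU) from Nat.card_congr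
          ⟨fun k => ⟨⟨(k : Equiv.Perm leechLattice), k.2.1⟩, k.2.2⟩,
            fun k => ⟨((k : Co0) : Equiv.Perm leechLattice), (k : Co0).2, k.2⟩, fun _ => rfl,
            fun _ => rfl⟩, card_stab32 h32] at hn'
        have hd : 23 ∣ 2 ^ n := hn' ▸ (by norm_num)
        exact absurd (Nat.Prime.dvd_of_dvd_pow (by norm_num) hd) (by norm_num)
    rw [← hcore]
    exact (CfsgLib.Comp.generalizedFitting_eq_pCore_iff 2 D).2 (by rw [hcore]; exact hcR)
  -- fusion
  obtain ⟨a, w, hau, hwz, hwne⟩ := four_fusion hs hψ hv4 hv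
  have haC : a ∈ Subgroup.centralizer ({qv u} : Set G) :=
    Subgroup.mem_centralizer_singleton_iff.2 (mul_inv_eq_iff_eq_mul.1 hau)
  have hwu : w * u = u * w := qv_injective (by
    show qv w * qv u = qv u * qv w
    rw [hwz]
    calc a * z * a⁻¹ * qv u = a * z * a⁻¹ * (a * qv u * a⁻¹) := by rw [hau]
      _ = a * (z * qv u) * a⁻¹ := by group
      _ = a * (qv u * z) * a⁻¹ := by rw [hzu]
      _ = a * qv u * a⁻¹ * (a * z * a⁻¹) := by group
      _ = qv u * (a * z * a⁻¹) := by rw [hau])
  refine ⟨zb, R, hRn, ⟨orderOf_eq_prime ?_ hzb1, hFit, hRE, hRcard,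
    QuotientGroup.mk ⟨a, haC⟩, ?_, ?_⟩, e', ?_⟩
  · show (QuotientGroup.mk zt : ↥(Subgroup.centralizer ({qv u} : Set G)) ⧸ T) ^ 2 = 1
    rw [← QuotientGroup.mk_pow, show zt ^ 2 = 1 from Subtype.ext (by simpa [zt] using hz2)]
    rfl
  · have he : QuotientGroup.mk (⟨a, haC⟩ : Subgroup.centralizer ({qv u} : Set G)) * zb *
        (QuotientGroup.mk (⟨a, haC⟩ : Subgroup.centralizer ({qv u} : Set G)))⁻¹ =
        ((ρ (lift w hwu) : D) : ↥(Subgroup.centralizer ({qv u} : Set G)) ⧸ T) := by
      show QuotientGroup.mk _ * QuotientGroup.mk zt * (QuotientGroup.mk _)⁻¹ = QuotientGroup.mk _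
      rw [← QuotientGroup.mk_mul, ← QuotientGroup.mk_inv, ← QuotientGroup.mk_mul]
      exact congrArg _ (Subtype.ext hwz.symm)
    refine ⟨he ▸ (ρ (lift w hwu)).2, ?_⟩
    rw [show (⟨_, _⟩ : D) = ρ (lift w hwu) from Subtype.ext he]
    exact hliftR w hwu
  · intro h
    have h1 : (a * z * a⁻¹)⁻¹ * z ∈ Subgroup.zpowers (qv u) :=
      Subgroup.mem_subgroupOf.1 (QuotientGroup.eq.1 (show QuotientGroup.mk
        (⟨a, haC⟩ * zt * (⟨a, haC⟩ : Subgroup.centralizer ({qv u} : Set G))⁻¹) = QuotientGroup.mk zt from h))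
    rcases hzp _ h1 with h2 | h2
    · exact hwne (hwz.trans (inv_mul_eq_one.1 h2))
    · refine hun' (isConj_iff.2 ⟨a⁻¹, ?_⟩)
      have h3 : z = a * z * a⁻¹ * qv u := inv_mul_eq_iff_eq_mul.1 h2
      rw [inv_inv]
      conv_lhs => rw [h3]
      calc a⁻¹ * (a * z * a⁻¹ * qv u) * a = z * (a⁻¹ * qv u * a) := by group
        _ = z * qv u := by
          congr 1
          conv_lhs => rw [← hau]
          group
        _ = qv u * z := hzu
  -- the module map
  have hperp : ∀ x : leechPerpU, ∀ b : Q, ψ (g₀ • (x : leechLattice)) = QuotientGroup.mk b →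
      b * u = u * b := fun x b hb => (mon_comm_iff hs hψ hb hv).2 (by
    have h16 : (16 : ℤ) ∣ dotInt ((x : leechLattice) : GolayPt → ℤ) Spor.vecU := x.2
    have hm := leechB_mul (g₀ • (x : leechLattice)) v
    rw [← hg₀] at hm ⊢
    rw [co0_dot, show ((Spor.leechU : leechLattice) : GolayPt → ℤ) = Spor.vecU from rfl] at hm
    omega)
  choose pick hpick using fun x : leechPerpU => QuotientGroup.mk_surjective (ψ (g₀ • (x : leechLattice)))
  let ψ' : leechPerpU → R ⧸ Subgroup.center R := fun x =>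
    QuotientGroup.mk ⟨ρ (lift (pick x) (hperp x (pick x) (hpick x).symm)), hliftR (pick x) (hperp x (pick x) (hpick x).symm)⟩
  have hwell : ∀ (x : leechPerpU) (b : Q) (hb : ψ (g₀ • (x : leechLattice)) = QuotientGroup.mk b),
      ψ' x = QuotientGroup.mk ⟨ρ (lift b (hperp x b hb)), hliftR b (hperp x b hb)⟩ := fun x b hb => by
    refine QuotientGroup.eq.2 ?_
    rw [hcen]
    refine hZmem ?_
    have hc : (pick x)⁻¹ * b ∈ Subgroup.center Q := QuotientGroup.eq.1 ((hpick x).trans hb)
    have h := hcenR _ (Subgroup.mem_center_iff.1 hc u).symm hc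
    show (ρ _)⁻¹ * ρ _ = 1 ∨ (ρ _)⁻¹ * ρ _ = (zr : D)
    rw [← map_inv, ← map_mul]
    exact h
  refine ⟨ψ', fun x y => ?_, fun r => ?_, fun x => ?_, fun h k hk x y hxy q hq => ?_⟩
  · have hb : ψ (g₀ • ((x + y : leechPerpU) : leechLattice)) = QuotientGroup.mk (pick x * pick y) := by
      rw [AddSubgroup.coe_add, co0_add, hψ.1, QuotientGroup.mk_mul, hpick, hpick]
    rw [hwell _ _ hb]
    show QuotientGroup.mk _ = QuotientGroup.mk _ * QuotientGroup.mk _
    rw [← QuotientGroup.mk_mul]
    exact congrArg _ (Subtype.ext (map_mul ρ (lift (pick x) (hperp x (pick x) (hpick x).symm))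
      (lift (pick y) (hperp y (pick y) (hpick y).symm))))
  · obtain ⟨r, rfl⟩ := QuotientGroup.mk_surjective r
    obtain ⟨b, hb, he⟩ := hrep r
    obtain ⟨x₁, hx₁⟩ := hψ.2.1 (QuotientGroup.mk b)
    have hev := (mon_comm_iff hs hψ hx₁ hv).1 hb
    have hmem : g₀⁻¹ • x₁ ∈ leechPerpU := by
      show (16 : ℤ) ∣ dotInt ((g₀⁻¹ • x₁ : leechLattice) : GolayPt → ℤ) Spor.vecU
      have hm := leechB_mul x₁ v
      have hd := co0_dot g₀ (g₀⁻¹ • x₁) Spor.leechU
      rw [smul_inv_smul, hg₀] at hd
      rw [show ((Spor.leechU : leechLattice) : GolayPt → ℤ) = Spor.vecU from rfl] at hd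
      omega
    refine ⟨⟨g₀⁻¹ • x₁, hmem⟩, ?_⟩
    rw [hwell _ b (by show ψ (g₀ • g₀⁻¹ • x₁) = _; rw [smul_inv_smul]; exact hx₁)]
    exact congrArg _ (Subtype.ext he.symm)
  · have hx := hperp x (pick x) (hpick x).symm
    show (QuotientGroup.mk _ : R ⧸ Subgroup.center R) = 1 ↔ _
    rw [QuotientGroup.eq_one_iff, hcen]
    have hiff : (⟨ρ (lift (pick x) hx), hliftR (pick x) hx⟩ : R) ∈ Subgroup.zpowers zr ↔
        (pick x ∈ Subgroup.center Q ∨ pick x * u ∈ Subgroup.center Q) := by
      constructor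
      · intro h
        have h' : ρ (lift (pick x) hx) = 1 ∨ ρ (lift (pick x) hx) = (zr : D) := by
          obtain ⟨n, hn'⟩ := Subgroup.mem_zpowers_iff.1 h
          have hn'' := congrArg (fun r : R => (r : D)) hn'.symm
          rcases Int.even_or_odd' n with ⟨m, rfl | rfl⟩
          · rw [zpow_mul, zpow_ofNat, hzr2, one_zpow] at hn''
            exact Or.inl hn''
          · rw [zpow_add, zpow_mul, zpow_ofNat, hzr2, one_zpow, one_mul, zpow_one] at hn''
            exact Or.inr hn''
        rcases h' with h' | h'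
        · rcases hρker _ h' with h3 | h3
          · left
            rw [show pick x = 1 from qv_injective
              (congrArg (fun w : KC => ((w : Subgroup.centralizer ({z} : Set G)) : G)) h3)]
            exact Subgroup.one_mem _
          · right
            rw [show pick x = u from qv_injective
              (congrArg (fun w : KC => ((w : Subgroup.centralizer ({z} : Set G)) : G)) h3), ← sq, hu2]
            exact Subgroup.one_mem _
        · rcases hzp _ (hρeq h'.symm) with h3 | h3
          · left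
            rw [show pick x = cz from (qv_injective (show qv cz = qv (pick x) from inv_mul_eq_one.1 h3)).symm]
            exact hcz
          · right
            rw [show pick x = cz * u from qv_injective (show qv (pick x) = qv cz * qv u from inv_mul_eq_iff_eq_mul.1 h3), mul_assoc, ← sq, hu2,
              mul_one]
            exact hcz
      · rintro (h | h)
        · exact hZmem (hcenR _ hx h)
        · refine hZmem ?_
          have h' := hcenR (pick x * u) (Subgroup.mem_center_iff.1 h u).symm h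
          have h2 : ρ (lift (pick x * u) (Subgroup.mem_center_iff.1 h u).symm) =
              ρ (lift (pick x) hx) * ρ ⟨u, huKC⟩ := map_mul ρ (lift (pick x) hx) ⟨u, huKC⟩
          rw [h2, hρu, mul_one] at h'
          exact h'
    rw [hiff]
    have hl : pick x ∈ Subgroup.center Q ↔ ∃ w : leechLattice, (x : leechLattice) = w + w := by
      rw [← QuotientGroup.eq_one_iff, hpick, ← psi_zero hψ, psi_cls hψ,
        show (0 : leechLattice) = g₀ • 0 from (co0_zero g₀).symm]
      constructor
      · intro h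
        have h' := co0_cls g₀⁻¹ h
        rw [inv_smul_smul, inv_smul_smul, leechR.cls_eq_iff] at h'
        obtain ⟨w, hw⟩ := h'
        exact ⟨w, hw.trans (zero_add _)⟩
      · rintro ⟨w, hw⟩
        exact co0_cls g₀ (leechR.cls_eq_iff.2 ⟨w, hw.trans (zero_add _).symm⟩)
    have hr' : pick x * u ∈ Subgroup.center Q ↔
        ∃ w : leechLattice, (x : leechLattice) = Spor.leechU + (w + w) := by
      have hinv : u⁻¹ = u := inv_eq_of_mul_eq_one_right (by rw [← sq]; exact hu2)
      rw [← QuotientGroup.eq_one_iff, QuotientGroup.mk_mul, hpick, ← hv, mul_eq_one_iff_eq_inv,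
        hv, ← QuotientGroup.mk_inv, hinv, ← hv, psi_cls hψ, ← hg₀]
      constructor
      · intro h
        have h' := co0_cls g₀⁻¹ h
        rw [inv_smul_smul, inv_smul_smul, leechR.cls_eq_iff] at h'
        exact h'
      · rintro ⟨w, hw⟩
        exact co0_cls g₀ (leechR.cls_eq_iff.2 ⟨w, hw⟩)
    rw [hl, hr']
  · obtain ⟨h₀, rfl⟩ := hρsurj h
    have hk' : σ h₀ = k := (he' h₀).symm.trans hk
    subst hk'
    set b : Q := ⟨(h₀ : Subgroup.centralizer ({z} : Set G)) * pick x *
      (h₀ : Subgroup.centralizer ({z} : Set G))⁻¹, (inferInstance : Q.Normal).conj_mem _ (pick x).2 _⟩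
    have hb : ψ (g₀ • (y : leechLattice)) = QuotientGroup.mk b := by
      have h1 := hψ.2.2.2 _ _ (hσspec h₀) _ (pick x) (hpick x).symm
      rw [mul_smul, mul_smul, inv_smul_smul] at h1
      rwa [← hxy]
    rw [hwell y b hb]
    have hq' : (⟨ρ (lift (pick x) (hperp x (pick x) (hpick x).symm)), hliftR (pick x) (hperp x (pick x) (hpick x).symm)⟩ : R)⁻¹ * q ∈
        Subgroup.center R := QuotientGroup.eq.1 hq
    refine QuotientGroup.eq.2 ?_
    rw [hcen] at hq' ⊢
    refine hZmem ?_
    have hcq : ((⟨ρ (lift (pick x) (hperp x (pick x) (hpick x).symm)), hliftR (pick x) (hperp x (pick x) (hpick x).symm)⟩ : R)⁻¹ * q : R) = 1 ∨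
        ((⟨ρ (lift (pick x) (hperp x (pick x) (hpick x).symm)), hliftR (pick x) (hperp x (pick x) (hpick x).symm)⟩ : R)⁻¹ * q : R) = zr := by
      obtain ⟨n, hn'⟩ := Subgroup.mem_zpowers_iff.1 hq'
      rw [← hn']
      rcases Int.even_or_odd' n with ⟨m, rfl | rfl⟩
      · left; rw [zpow_mul, zpow_ofNat, hzr2, one_zpow]
      · right; rw [zpow_add, zpow_mul, zpow_ofNat, hzr2, one_zpow, one_mul, zpow_one]
    have hρb : ρ (lift b (hperp y b hb)) =
        ρ h₀ * ρ (lift (pick x) (hperp x (pick x) (hpick x).symm)) * (ρ h₀)⁻¹ := by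
      rw [← map_inv, ← map_mul, ← map_mul]; rfl
    show (ρ (lift b (hperp y b hb)))⁻¹ * (ρ h₀ * (q : D) * (ρ h₀)⁻¹) = 1 ∨
      (ρ (lift b (hperp y b hb)))⁻¹ * (ρ h₀ * (q : D) * (ρ h₀)⁻¹) = (zr : D)
    rw [hρb]
    have hzc : ρ h₀ * (zr : D) * (ρ h₀)⁻¹ = (zr : D) := by
      show ρ h₀ * ρ (lift cz hczu) * (ρ h₀)⁻¹ = ρ (lift cz hczu)
      rw [← map_inv, ← map_mul, ← map_mul]
      refine congrArg ρ (Subtype.ext (Subtype.ext ?_))
      show ((h₀ : Subgroup.centralizer ({z} : Set G)) : G) * qv cz *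
        ((h₀ : Subgroup.centralizer ({z} : Set G)) : G)⁻¹ = qv cz
      rw [hczv, comm_z, mul_inv_cancel_right]
    rcases hcq with h1 | h1
    · left
      rw [show (q : D) = ρ (lift (pick x) (hperp x (pick x) (hpick x).symm)) from
        (congrArg Subtype.val (inv_mul_eq_one.1 h1)).symm, inv_mul_cancel]
    · right
      rw [show (q : D) = ρ (lift (pick x) (hperp x (pick x) (hpick x).symm)) * (zr : D) from
        congrArg Subtype.val (inv_mul_eq_iff_eq_mul.1 h1)]
      calc (ρ h₀ * ρ (lift (pick x) (hperp x (pick x) (hpick x).symm)) * (ρ h₀)⁻¹)⁻¹ *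
            (ρ h₀ * (ρ (lift (pick x) (hperp x (pick x) (hpick x).symm)) * (zr : D)) * (ρ h₀)⁻¹) =
            ρ h₀ * (zr : D) * (ρ h₀)⁻¹ := by group
        _ = (zr : D) := hzc

end CfsgLib.Trans3
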