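import Cfsg.Agent.Lib.Trans3.MonsterFour

/-!
# Groups of Monster type: the centralizer of the second involution of `Q`, preliminaries
-/

set_option autoImplicit false

namespace CfsgLib.Trans3

open Cfsg CfsgLib.Golay
open scoped commutatorElement

variable {G : Type*} [Group G] [Finite G] {z : G} {Q : Subgroup (Subgroup.centralizer ({z} : Set G))}
  [Q.Normal] {e : (Subgroup.centralizer ({z} : Set G)) ⧸ Q ≃* Spor.Co1}
  {ψ : leechLattice → Q ⧸ Subgroup.center Q}

/-- Commutation in `Q` follows the parity of the inner product. -/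
theorem mon_comm_iff (hs : IsExtraspecialCentralizerSetting z Q 12) (hψ : IsLeechModTwoIso Q e ψ)
    {a b : Q} {w v : leechLattice} (hw : ψ w = QuotientGroup.mk a) (hv : ψ v = QuotientGroup.mk b) :
    a * b = b * a ↔ (2 : ℤ) ∣ leechR.b w v := by
  have hQ : 2 < Nat.card Q := by rw [hs.2.2.2.1]; norm_num
  have hE := hs.2.2.1
  have hab : ψ (w + v) = QuotientGroup.mk (a * b) := by rw [hψ.1, hw, hv]; rfl
  have h := exSq_mul hE a b
  rw [monster_sq hE hQ hψ hab, monster_sq hE hQ hψ hw, monster_sq hE hQ hψ hv, leechF_add] at h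
  have hbit : exBit ⁅a⁻¹, b⁆ = (leechR.b w v : ZMod 2) := (add_left_cancel h).symm
  have h2 : a * b = b * a ↔ ⁅a⁻¹, b⁆ = 1 := by
    rw [commutatorElement_eq_one_iff_mul_comm]
    exact ⟨fun h => (show Commute a b from h).inv_left.eq,
      fun h => by simpa using (show Commute a⁻¹ b from h).inv_left.eq⟩
  rw [h2, ← exBit_eq_zero, hbit]
  exact ZMod.intCast_zmod_eq_zero_iff_dvd _ 2

/-- The centre of `C_Q(u)` is generated by the centre and `u`. -/
theorem mon_fix_centre (hs : IsExtraspecialCentralizerSetting z Q 12) {u a : Q}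
    (hu : u ∉ Subgroup.center Q) (ha : a * u = u * a)
    (hall : ∀ b : Q, b * u = u * b → a * b = b * a) :
    a ∈ Subgroup.center Q ∨ a * u ∈ Subgroup.center Q := by
  by_cases hac : a ∈ Subgroup.center Q
  · exact Or.inl hac
  right
  refine Subgroup.mem_center_iff.2 fun b => ?_
  by_cases hb : b * u = u * b
  · rw [← mul_assoc, ← hall b hb, mul_assoc, hb, mul_assoc]
  · have hab : a * b ≠ b * a := by
      intro hab
      have hsub : {c : Q | c * u = u * c} ⊆ {c : Q | c * a = a * c} := fun c hc => (hall c hc).symm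
      have h1 := mon_card_fix hs hu
      have h2 := mon_card_fix hs hac
      have heq : {c : Q | c * u = u * c} = {c : Q | c * a = a * c} := Set.eq_of_subset_of_ncard_le hsub
        (by rw [← Nat.card_coe_set_eq, ← Nat.card_coe_set_eq]; exact le_of_eq (h2.trans h1.symm))
          (Set.toFinite _)
      exact hb (heq ▸ (hab.symm : b ∈ {c : Q | c * a = a * c}) : b ∈ {c : Q | c * u = u * c})
    have hc := CfsgLib.Transfer.special_commutatorElement_mem_center hs.2.2.1.1
    have he : ⁅b, a⁆ = ⁅b, u⁆ := ex_center_cases hs.2.2.1 (hc b a) (hc b u)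
      (fun h => hab (commutatorElement_eq_one_iff_mul_comm.1 h).symm)
      (fun h => hb (commutatorElement_eq_one_iff_mul_comm.1 h))
    rw [← commutatorElement_eq_one_iff_mul_comm, CfsgLib.Transfer.commutatorElement_mul_right hc, he]
    rw [← sq]
    exact CfsgLib.Transfer.special_center_pow hs.2.2.1.1 (hc b u)

end CfsgLib.Trans3
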