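import Cfsg.Agent.Lib.Trans3.MonsterSquare
import Cfsg.Agent.Lib.Trans3.Co1Twenty3
import Cfsg.Agent.Lib.Trans3.ExtraAbelian
import Cfsg.Agent.Lib.Golay.Co0Co2

/-!
# Groups of Monster type: orbits of the involution centralizer on the large extraspecial subgroup
-/

set_option autoImplicit false

namespace CfsgLib.Trans3

open Cfsg CfsgLib.Golay
open scoped commutatorElement

variable {G : Type*} [Group G] [Finite G] {z : G} {Q : Subgroup (Subgroup.centralizer ({z} : Set G))}
  [Q.Normal] {e : (Subgroup.centralizer ({z} : Set G)) ⧸ Q ≃* Spor.Co1}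
  {ψ : leechLattice → Q ⧸ Subgroup.center Q}

/-- The element of `G` under an element of `Q`. -/
abbrev qv (x : Q) : G := ((x : ↥(Subgroup.centralizer ({z} : Set G))) : G)

omit [Finite G] [Q.Normal] in
theorem qv_injective : Function.Injective (qv : Q → G) :=
  fun _ _ h => Subtype.ext (Subtype.ext h)

omit [Finite G] [Q.Normal] in
theorem comm_z (h : ↥(Subgroup.centralizer ({z} : Set G))) : (h : G) * z = z * (h : G) :=
  Subgroup.mem_centralizer_singleton_iff.1 h.2

omit [Q.Normal] in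
/-- The centre of `Q` is generated by `z`. -/
theorem mon_center (hs : IsExtraspecialCentralizerSetting z Q 12) :
    (∃ c : Q, c ∈ Subgroup.center Q ∧ qv c = z) ∧
      ∀ x : Q, x ∈ Subgroup.center Q → qv x = 1 ∨ qv x = z := by
  obtain ⟨hz, hF, hE, -, -⟩ := hs
  have hz1 : z ≠ 1 := fun h => by rw [h, orderOf_one] at hz; omega
  let zC : ↥(Subgroup.centralizer ({z} : Set G)) := ⟨z, Subgroup.mem_centralizer_singleton_iff.2 rfl⟩
  have hzc : zC ∈ Subgroup.center ↥(Subgroup.centralizer ({z} : Set G)) := Subgroup.mem_center_iff.2 fun h => Subtype.ext (comm_z h)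
  have hle : Subgroup.center ↥(Subgroup.centralizer ({z} : Set G)) ≤ fittingSubgroup ↥(Subgroup.centralizer ({z} : Set G)) :=
    le_sSup ⟨inferInstance, Subgroup.isNilpotent_of_ker_le_center
      (1 : Subgroup.center ↥(Subgroup.centralizer ({z} : Set G)) →* Unit)
      (fun a _ => Subgroup.mem_center_iff.2 fun b => Subtype.ext (Subgroup.mem_center_iff.1 a.2 b))⟩
  have hzQ : zC ∈ Q := hF ▸ (le_sup_right : fittingSubgroup ↥(Subgroup.centralizer ({z} : Set G)) ≤ _) (hle hzc)
  have hc : (⟨zC, hzQ⟩ : Q) ∈ Subgroup.center Q :=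
    Subgroup.mem_center_iff.2 fun a => Subtype.ext (Subgroup.mem_center_iff.1 hzc a)
  refine ⟨⟨⟨zC, hzQ⟩, hc, rfl⟩, fun x hx => ?_⟩
  by_cases h1 : x = 1
  · exact Or.inl (by rw [h1]; rfl)
  · exact Or.inr (congrArg qv (ex_center_cases hE hx hc h1 fun e =>
      hz1 (congrArg qv e : qv (⟨zC, hzQ⟩ : Q) = qv (1 : Q))))

omit [Q.Normal] in
theorem mon_center_iff (hs : IsExtraspecialCentralizerSetting z Q 12) (x : Q) :
    x ∈ Subgroup.center Q ↔ qv x = 1 ∨ qv x = z := by
  obtain ⟨⟨c, hc, hcv⟩, h2⟩ := mon_center hs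
  refine ⟨h2 x, fun h => ?_⟩
  rcases h with h | h
  · rw [show x = 1 from qv_injective h]; exact Subgroup.one_mem _
  · rw [show x = c from qv_injective (h.trans hcv.symm)]; exact hc

/-- Short representatives. -/
theorem mon_rep (hψ : IsLeechModTwoIso Q e ψ) (x : Q) :
    ∃ v : leechLattice, leechR.q v ≤ 8 ∧ ψ v = QuotientGroup.mk x := by
  obtain ⟨w, hw⟩ := hψ.2.1 (QuotientGroup.mk x)
  obtain ⟨v, hv, hv8⟩ := leech_short_rep w
  exact ⟨v, hv8, ((psi_cls hψ).2 hv).trans hw⟩

omit [Finite G] in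
theorem psi_zero (hψ : IsLeechModTwoIso Q e ψ) : ψ 0 = 1 :=
  (hψ.2.2.1 0).2 ⟨0, (add_zero 0).symm⟩

omit [Finite G] in
theorem mon_ne_zero (hψ : IsLeechModTwoIso Q e ψ) {x : Q} {v : leechLattice}
    (h : ψ v = QuotientGroup.mk x) (hx : x ∉ Subgroup.center Q) : v ≠ 0 := fun e0 => by
  rw [e0, psi_zero hψ] at h
  exact hx ((QuotientGroup.eq_one_iff x).1 h.symm)

theorem mon_noncentral (hψ : IsLeechModTwoIso Q e ψ) {x : Q} {v : leechLattice}
    (h : ψ v = QuotientGroup.mk x) (hv : v ≠ 0) (hv8 : leechR.q v ≤ 8) : x ∉ Subgroup.center Q := by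
  intro hx
  rw [(QuotientGroup.eq_one_iff x).2 hx, ← psi_zero hψ, psi_cls hψ] at h
  rcases leechR.short_congr h hv8 (by rw [Rootless.q_zero]; norm_num) with e0 | e0 | e0
  · exact hv e0.symm
  · exact hv (neg_eq_zero.1 e0.symm)
  · rw [Rootless.q_zero] at e0; omega

/-- Elements with representatives of equal norm are conjugate in the centralizer. -/
theorem mon_conj (hs : IsExtraspecialCentralizerSetting z Q 12) (hψ : IsLeechModTwoIso Q e ψ)
    {x y : Q} {v w : leechLattice} (hv : ψ v = QuotientGroup.mk x) (hw : ψ w = QuotientGroup.mk y)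
    (hv0 : v ≠ 0) (hv8 : leechR.q v ≤ 8) (hq : leechR.q w = leechR.q v) :
    ∃ h : ↥(Subgroup.centralizer ({z} : Set G)), (h : G) * qv x * (h : G)⁻¹ = qv y := by
  obtain ⟨g, rfl⟩ := co0_shell_trans hv0 hv8 hq
  obtain ⟨h, -, hh⟩ := psi_smul hψ g
  set x' : Q := ⟨h * x * h⁻¹, (inferInstance : Q.Normal).conj_mem _ x.2 h⟩ with hx'
  have hc : x'⁻¹ * y ∈ Subgroup.center Q := QuotientGroup.eq.1 ((hh v x hv).symm.trans hw)
  by_cases h1 : x'⁻¹ * y = 1
  · refine ⟨h, ?_⟩
    rw [show y = x' from (inv_mul_eq_one.1 h1).symm]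
    rfl
  · have hg0 : g • v ≠ 0 := fun e0 => hv0 (by
      have := congrArg (g⁻¹ • ·) e0
      rwa [inv_smul_smul, co0_zero] at this)
    have hyc := mon_noncentral hψ hw hg0 (hq ▸ hv8)
    have hx'c : x' ∉ Subgroup.center Q := fun hm => hyc (by
      rw [show y = x' * (x'⁻¹ * y) by group]; exact Subgroup.mul_mem _ hm hc)
    obtain ⟨a, ha⟩ : ∃ a : Q, ⁅a, x'⁆ ≠ 1 := by
      by_contra hall
      simp only [not_exists, not_not, commutatorElement_eq_one_iff_mul_comm] at hall
      exact hx'c (Subgroup.mem_center_iff.2 hall)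
    have hac := CfsgLib.Transfer.special_commutatorElement_mem_center hs.2.2.1.1 a x'
    have he := ex_center_cases hs.2.2.1 hac hc ha h1
    refine ⟨(a : ↥(Subgroup.centralizer ({z} : Set G))) * h, ?_⟩
    have hy : a * x' * a⁻¹ = y := by
      have : a * x' * a⁻¹ = ⁅a, x'⁆ * x' := by rw [commutatorElement_def]; group
      rw [this, he, ← Subgroup.mem_center_iff.1 hc x', mul_inv_cancel_left]
    rw [← hy]
    show ((a : ↥(Subgroup.centralizer ({z} : Set G))) : G) * (h : G) * qv x * (((a : ↥(Subgroup.centralizer ({z} : Set G))) : G) * (h : G))⁻¹ =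
      ((a : ↥(Subgroup.centralizer ({z} : Set G))) : G) * ((h : G) * qv x * (h : G)⁻¹) * ((a : ↥(Subgroup.centralizer ({z} : Set G))) : G)⁻¹
    group

/-- An involution of `Q` outside the centre has a representative of norm 4 or 8. -/
theorem mon_invol_q (hs : IsExtraspecialCentralizerSetting z Q 12) (hψ : IsLeechModTwoIso Q e ψ)
    {x : Q} (hx : x ^ 2 = 1) (hxc : x ∉ Subgroup.center Q) :
    ∃ v : leechLattice, (leechR.q v = 4 ∨ leechR.q v = 8) ∧ ψ v = QuotientGroup.mk x := by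
  obtain ⟨v, hv8, hv⟩ := mon_rep hψ x
  have hQ : 2 < Nat.card Q := by rw [hs.2.2.2.1]; norm_num
  have h0 := (monster_sq_iff hs.2.2.1 hQ hψ hv).1 hx
  have h4 := leechR.q_ge_four (mon_ne_zero hψ hv hxc)
  obtain ⟨k, hk⟩ := leechR.even v
  have hk' : leechR.q v = 2 * k := hk
  refine ⟨v, ?_, hv⟩
  rw [leechF_of_q hk'] at h0
  have : k ≠ 3 := fun e3 => by subst e3; exact absurd h0 (by decide)
  omega

/-- The centralizer of a non-central element in `Q`. -/
theorem mon_card_fix (hs : IsExtraspecialCentralizerSetting z Q 12) {y : Q}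
    (hy : y ∉ Subgroup.center Q) : Nat.card {a : Q // a * y = y * a} = 2 ^ 24 := by
  have hc := CfsgLib.Transfer.special_commutatorElement_mem_center hs.2.2.1.1
  let f : Q →* Subgroup.center Q := MonoidHom.mk' (fun a => ⟨⁅y, a⁆, hc _ _⟩) fun a b =>
    Subtype.ext (CfsgLib.Transfer.commutatorElement_mul_right hc y a b)
  have hker : Nat.card f.ker = Nat.card {a : Q // a * y = y * a} := Nat.card_congr
    (Equiv.subtypeEquivRight fun a => by
      rw [MonoidHom.mem_ker]
      exact ⟨fun h => (commutatorElement_eq_one_iff_mul_comm.1 (congrArg Subtype.val h)).symm,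
        fun h => Subtype.ext (commutatorElement_eq_one_iff_mul_comm.2 h.symm)⟩)
  have h2 : f.ker.index = 2 := by
    rw [Subgroup.index_ker]
    have hle : Nat.card f.range ≤ 2 :=
      (Nat.card_le_card_of_injective _ Subtype.val_injective).trans hs.2.2.1.2.le
    have hne : f.range ≠ ⊥ := fun hb => hy (Subgroup.mem_center_iff.2 fun a => by
      have : f a = 1 := by rw [← Subgroup.mem_bot, ← hb]; exact ⟨a, rfl⟩
      exact (commutatorElement_eq_one_iff_mul_comm.1 (congrArg Subtype.val this)).symm)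
    have := (Subgroup.one_lt_card_iff_ne_bot f.range).2 hne
    omega
  have h1 := f.ker.card_mul_index
  rw [h2, hs.2.2.2.1] at h1
  omega

/-- The stabilizer of a class is induced by the centralizer of an element. -/
theorem mon_stab_lift (hs : IsExtraspecialCentralizerSetting z Q 12) (hψ : IsLeechModTwoIso Q e ψ)
    {x : Q} {v : leechLattice} (hv : ψ v = QuotientGroup.mk x) {g : Co0} (hg : g ∈ classStab v) :
    ∃ h : ↥(Subgroup.centralizer ({z} : Set G)), (QuotientGroup.mk g : Spor.Co1) = e (QuotientGroup.mk h) ∧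
      (h : G) * qv x = qv x * (h : G) := by
  obtain ⟨h, he, hh⟩ := psi_smul hψ g
  set x' : Q := ⟨h * x * h⁻¹, (inferInstance : Q.Normal).conj_mem _ x.2 h⟩ with hx'
  have hgv : ψ (g • v) = ψ v := (psi_cls hψ).2 (mem_classStab.1 hg)
  have hc : x'⁻¹ * x ∈ Subgroup.center Q :=
    QuotientGroup.eq.1 ((hh v x hv).symm.trans (hgv.trans hv))
  by_cases h1 : x'⁻¹ * x = 1
  · exact ⟨h, he, mul_inv_eq_iff_eq_mul.1 (congrArg qv (inv_mul_eq_one.1 h1))⟩
  · obtain ⟨a, ha⟩ : ∃ a : Q, ⁅a, x'⁆ ≠ 1 := by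
      by_contra hall
      simp only [not_exists, not_not, commutatorElement_eq_one_iff_mul_comm] at hall
      have hx'm : x' ∈ Subgroup.center Q := Subgroup.mem_center_iff.2 hall
      have hxm : x ∈ Subgroup.center Q := by
        rw [show x = x' * (x'⁻¹ * x) by group]; exact Subgroup.mul_mem _ hx'm hc
      have hfix : ∀ u : Q, u ∈ Subgroup.center Q → (h : G) * qv u * (h : G)⁻¹ = qv u := fun u hu => by
        rcases (mon_center hs).2 u hu with e1 | e1 <;> rw [e1]
        · group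
        · rw [comm_z h, mul_inv_cancel_right]
      exact h1 (inv_mul_eq_one.2 (qv_injective (hfix x hxm)))
    have hac := CfsgLib.Transfer.special_commutatorElement_mem_center hs.2.2.1.1 a x'
    have he2 := ex_center_cases hs.2.2.1 hac hc ha h1
    refine ⟨(a : ↥(Subgroup.centralizer ({z} : Set G))) * h, ?_, ?_⟩
    · rw [he, QuotientGroup.mk_mul, (QuotientGroup.eq_one_iff (a : ↥(Subgroup.centralizer ({z} : Set G)))).2 a.2, one_mul]
    · have hy : a * x' * a⁻¹ = x := by
        have : a * x' * a⁻¹ = ⁅a, x'⁆ * x' := by rw [commutatorElement_def]; group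
        rw [this, he2, ← Subgroup.mem_center_iff.1 hc x', mul_inv_cancel_left]
      have hy' := congrArg qv hy
      refine mul_inv_eq_iff_eq_mul.1 (Eq.trans ?_ hy')
      show ((a : ↥(Subgroup.centralizer ({z} : Set G))) : G) * (h : G) * qv x * (((a : ↥(Subgroup.centralizer ({z} : Set G))) : G) * (h : G))⁻¹ =
        ((a : ↥(Subgroup.centralizer ({z} : Set G))) : G) * ((h : G) * qv x * (h : G)⁻¹) * ((a : ↥(Subgroup.centralizer ({z} : Set G))) : G)⁻¹
      group

omit [Finite G] in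
/-- Conversely, the centralizer of an element stabilizes its class. -/
theorem mon_stab_of_comm (hψ : IsLeechModTwoIso Q e ψ) {x : Q} {v : leechLattice}
    (hv : ψ v = QuotientGroup.mk x) {g : Co0} {h : ↥(Subgroup.centralizer ({z} : Set G))}
    (he : (QuotientGroup.mk g : Spor.Co1) = e (QuotientGroup.mk h))
    (hc : (h : G) * qv x = qv x * (h : G)) : g ∈ classStab v := by
  refine mem_classStab.2 ((psi_cls hψ).1 ?_)
  rw [hψ.2.2.2 h g he v x hv, hv]
  congr 1
  apply qv_injective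
  show (h : G) * qv x * (h : G)⁻¹ = qv x
  rw [hc, mul_inv_cancel_right]

theorem classStab_twenty3 {v : leechLattice} (hv : leechR.q v = 4 ∨ leechR.q v = 8) :
    ∃ g ∈ classStab v, orderOf g = 23 := by
  haveI : Fact (Nat.Prime 23) := ⟨by norm_num⟩
  rcases hv with hv | hv
  · have h32 := (leech_q_iff v 4).1 hv
    obtain ⟨g, hg⟩ := exists_prime_orderOf_dvd_card' (G := MulAction.stabilizer Co0 v) 23
      (by rw [card_stab32 h32]; norm_num)
    exact ⟨g, mem_classStab.2 (by rw [MulAction.mem_stabilizer_iff.1 g.2]),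
      (Subgroup.orderOf_coe g).trans hg⟩
  · obtain ⟨h, rfl⟩ := co0_trans8 (vec8_q pinf) hv
    refine ⟨h * g23 * h⁻¹, ?_, ?_⟩
    · rw [classStab_conj, show h⁻¹ * (h * g23 * h⁻¹) * h = g23 by group]
      exact g23_mem_N0
    · exact (orderOf_injective (MulAut.conj h).toMonoidHom (MulAut.conj h).injective g23).trans
        orderOf_g23

/-- An element of order 23 centralizing an involution of `Q`. -/
theorem mon_twenty3 (hs : IsExtraspecialCentralizerSetting z Q 12) (hψ : IsLeechModTwoIso Q e ψ)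
    {x : Q} (hx : x ^ 2 = 1) (hxc : x ∉ Subgroup.center Q) :
    ∃ k : ↥(Subgroup.centralizer ({z} : Set G)), orderOf k = 23 ∧ (k : G) * qv x = qv x * (k : G) := by
  haveI : Fact (Nat.Prime 23) := ⟨by norm_num⟩
  obtain ⟨v, hq, hv⟩ := mon_invol_q hs hψ hx hxc
  obtain ⟨g, hg, ho⟩ := classStab_twenty3 hq
  obtain ⟨h, he, hh⟩ := mon_stab_lift hs hψ hv hg
  have hd : 23 ∣ orderOf h := by
    have h1 : orderOf (QuotientGroup.mk g : Spor.Co1) = 23 := by
      refine orderOf_eq_prime (by rw [← QuotientGroup.mk_pow, ← ho, pow_orderOf_eq_one]; rfl)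
        fun h1 => ?_
      rcases center_Co0 ((QuotientGroup.eq_one_iff g).1 h1) with e1 | e1
      · rw [e1, orderOf_one] at ho; omega
      · have h2 : g ^ 2 = 1 := by rw [e1, sq]; exact negCo0_sq
        have := Nat.le_of_dvd (by norm_num) (orderOf_dvd_of_pow_eq_one h2)
        omega
    rw [← h1, he, MulEquiv.orderOf_eq]
    exact orderOf_map_dvd (QuotientGroup.mk' Q) h
  refine ⟨h ^ (orderOf h / 23), orderOf_pow_orderOf_div (orderOf_pos h).ne' hd, ?_⟩
  rw [SubmonoidClass.coe_pow]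
  exact ((show Commute (h : G) (qv x) from hh).pow_left _).eq

/-- If `s = g z g⁻¹` lies in `Q` and is not `z`, then so does `g⁻¹ z g`. -/
theorem mon_reciprocal (hs : IsExtraspecialCentralizerSetting z Q 12) (hψ : IsLeechModTwoIso Q e ψ)
    {x : Q} {g : G} (hg : g * z * g⁻¹ = qv x) (hx1 : qv x ≠ z) :
    x ^ 2 = 1 ∧ x ∉ Subgroup.center Q ∧
      ∃ y : Q, qv y = g⁻¹ * z * g ∧ y ∉ Subgroup.center Q := by
  have hz2 : z ^ 2 = 1 := hs.1 ▸ pow_orderOf_eq_one z
  have hz1 : z ≠ 1 := fun h => by have := hs.1; rw [h, orderOf_one] at this; omega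
  have hx2 : x ^ 2 = 1 := qv_injective (by
    show qv x ^ 2 = 1
    rw [← hg, conj_pow, hz2, mul_one, mul_inv_cancel])
  have hxc : x ∉ Subgroup.center Q := fun h => by
    rcases (mon_center_iff hs x).1 h with h1 | h1
    · rw [← hg, conj_eq_one_iff] at h1; exact hz1 h1
    · exact hx1 h1
  obtain ⟨k, hk, hkx⟩ := mon_twenty3 hs hψ hx2 hxc
  have hzx : z * qv x = qv x * z := (comm_z (x : ↥(Subgroup.centralizer ({z} : Set G)))).symm
  let y₀ : ↥(Subgroup.centralizer ({z} : Set G)) := ⟨g⁻¹ * z * g, Subgroup.mem_centralizer_singleton_iff.2 (by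
    have h1 := congrArg (fun t => g⁻¹ * t * g) hzx
    rw [← hg] at h1
    simp only [mul_assoc, inv_mul_cancel_left, mul_inv_cancel, mul_one] at h1 ⊢
    simpa [mul_assoc] using h1)⟩
  let k' : ↥(Subgroup.centralizer ({z} : Set G)) := ⟨g⁻¹ * k * g, Subgroup.mem_centralizer_singleton_iff.2 (by
    have h1 := congrArg (fun t => g⁻¹ * t * g) hkx
    rw [← hg] at h1
    simpa [mul_assoc] using h1)⟩
  have hk' : orderOf k' = 23 := by
    rw [← Subgroup.orderOf_coe, ← hk, ← Subgroup.orderOf_coe k]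
    show orderOf (g⁻¹ * (k : G) * g) = _
    simpa using orderOf_injective (MulAut.conj g⁻¹).toMonoidHom (MulAut.conj g⁻¹).injective (k : G)
  have hy2 : y₀ * y₀ = 1 := Subtype.ext (by
    show g⁻¹ * z * g * (g⁻¹ * z * g) = 1
    rw [show g⁻¹ * z * g * (g⁻¹ * z * g) = g⁻¹ * (z * z) * g by group, ← sq, hz2]; group)
  have hcm : Commute y₀ k' := Subtype.ext (by
    show g⁻¹ * z * g * (g⁻¹ * k * g) = g⁻¹ * k * g * (g⁻¹ * z * g)
    rw [show g⁻¹ * z * g * (g⁻¹ * k * g) = g⁻¹ * (z * k) * g by group, ← comm_z k]; group)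
  have hy₀ : y₀ ∈ Q := by
    refine (QuotientGroup.eq_one_iff y₀).1 (e.injective ?_)
    rw [map_one]
    refine co1_no_commute23 (a := e (QuotientGroup.mk k')) ?_ ?_ ?_
    · haveI : Fact (Nat.Prime 23) := ⟨by norm_num⟩
      rw [MulEquiv.orderOf_eq]
      refine orderOf_eq_prime (by rw [← QuotientGroup.mk_pow, ← hk', pow_orderOf_eq_one]; rfl)
        fun h1 => ?_
      have h2 : (⟨k', (QuotientGroup.eq_one_iff k').1 h1⟩ : Q) ^ 2 ^ 25 = 1 :=
        orderOf_dvd_iff_pow_eq_one.1 (hs.2.2.2.1 ▸ orderOf_dvd_natCard _)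
      have h3 := orderOf_dvd_of_pow_eq_one h2
      rw [← Subgroup.orderOf_coe, hk'] at h3
      norm_num at h3
    · rw [← map_mul, ← QuotientGroup.mk_mul, hy2, QuotientGroup.mk_one, map_one]
    · exact ((hcm.map (QuotientGroup.mk' Q)).map e)
  refine ⟨hx2, hxc, ⟨y₀, hy₀⟩, rfl, fun h => ?_⟩
  rcases (mon_center_iff hs _).1 h with h1 | h1
  · have : g⁻¹ * z * g = 1 := h1
    rw [mul_eq_one_iff_eq_inv, mul_eq_left] at this
    exact hz1 this
  · have h2 : g⁻¹ * z * g = z := h1
    apply hx1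
    rw [← hg]
    conv_lhs => rw [← h2]
    group

end CfsgLib.Trans3
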