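import Cfsg.Agent.Lib.Trans3.MonsterInter
import Cfsg.Agent.Lib.Trans3.LeechLagrangian

/-!
# Groups of Monster type: fusion of `z` in the centralizer of the other class of involutions of `Q`
-/

set_option autoImplicit false

namespace CfsgLib.Trans3

open Cfsg CfsgLib.Golay

variable {G : Type*} [Group G] [Finite G] {z : G} {Q : Subgroup (Subgroup.centralizer ({z} : Set G))}
  [Q.Normal] {e : (Subgroup.centralizer ({z} : Set G)) ⧸ Q ≃* Spor.Co1}
  {ψ : leechLattice → Q ⧸ Subgroup.center Q}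

/-- An element of `Q` with a class of minimal vectors is an involution not conjugate to `z`. -/
theorem four_props (hs : IsExtraspecialCentralizerSetting z Q 12) (hψ : IsLeechModTwoIso Q e ψ)
    {x : Q} {v : leechLattice} (hv4 : leechR.q v = 4) (hv : ψ v = QuotientGroup.mk x) :
    x ^ 2 = 1 ∧ x ∉ Subgroup.center Q ∧ ¬ IsConj z (qv x) := by
  have hv0 : v ≠ 0 := fun e0 => by rw [e0, Rootless.q_zero] at hv4; omega
  have hxc := mon_noncentral hψ hv hv0 (by omega)
  have hQ : 2 < Nat.card Q := by rw [hs.2.2.2.1]; norm_num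
  refine ⟨(monster_sq_iff hs.2.2.1 hQ hψ hv).2 (by rw [leechF_of_q (k := 2) (by omega)]; rfl), hxc,
    fun hc => ?_⟩
  obtain ⟨w, hw8, hw⟩ := (mon_conj_iff hs hψ x).1
    ⟨hc, fun hz => hxc ((mon_center_iff hs x).2 (Or.inr hz))⟩
  rcases leechR.short_congr ((psi_cls hψ).1 (hv.trans hw.symm)) (by omega) (by omega) with h | h | h
  · rw [h] at hw8; omega
  · rw [h, Rootless.q_neg] at hw8; omega
  · omega

/-- An involution of `Q` not conjugate to `z` has a class of minimal vectors. -/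
theorem four_of_not_conj (hs : IsExtraspecialCentralizerSetting z Q 12)
    (hψ : IsLeechModTwoIso Q e ψ) {x : Q} (hx : orderOf (qv x) = 2) (hn : ¬ IsConj z (qv x)) :
    ∃ v : leechLattice, leechR.q v = 4 ∧ ψ v = QuotientGroup.mk x := by
  have hx2 : x ^ 2 = 1 := qv_injective
    (show qv x ^ 2 = 1 from orderOf_dvd_iff_pow_eq_one.1 (by rw [hx]))
  have hxz : qv x ≠ z := fun h => hn (isConj_iff.2 ⟨1, by simp [h]⟩)
  have hxc : x ∉ Subgroup.center Q := fun h => by
    rcases (mon_center_iff hs x).1 h with h1 | h1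
    · rw [h1, orderOf_one] at hx; omega
    · exact hxz h1
  obtain ⟨v, hq | hq, hv⟩ := mon_invol_q hs hψ hx2 hxc
  · exact ⟨v, hq, hv⟩
  · exact absurd ((mon_conj_iff hs hψ x).2 ⟨v, hq, hv⟩).1 hn

/-- Some intersection `Q ∩ Q^g` contains an element with a class of minimal vectors. -/
theorem exists_four_inter (hs : IsExtraspecialCentralizerSetting z Q 12)
    (hψ : IsLeechModTwoIso Q e ψ) :
    ∃ (g : G) (x a : Q) (v : leechLattice), g * z * g⁻¹ = qv x ∧ qv x ≠ z ∧
      (a : Subgroup.centralizer ({z} : Set G)) ∈ monN Q g ∧ leechR.q v = 4 ∧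
      ψ v = QuotientGroup.mk a := by
  obtain ⟨x, hx⟩ := QuotientGroup.mk_surjective (ψ (vec8 pinf))
  obtain ⟨hxc, hx1⟩ := (mon_conj_iff hs hψ x).2 ⟨vec8 pinf, vec8_q pinf, hx.symm⟩
  obtain ⟨g, hg⟩ := isConj_iff.1 hxc
  obtain ⟨-, hD, -, -⟩ := mon_main hs hψ hg hx1 hx.symm (by rw [vec8_q])
  obtain ⟨-, -, y, hy, -⟩ := mon_reciprocal hs hψ hg hx1
  obtain ⟨⟨c, hc, hcz⟩, -⟩ := mon_center hs
  set D := (monN Q g).subgroupOf Q
  have hcD : Subgroup.center Q ≤ D := fun w hw => by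
    refine Subgroup.mem_subgroupOf.2 ?_
    rcases (mon_center_iff hs w).1 hw with h | h
    · rw [show w = 1 from qv_injective h]; exact Subgroup.one_mem _
    · exact mem_monN.2 ⟨y, by rw [hy, show ((w : Subgroup.centralizer ({z} : Set G)) : G) = z from h]; group⟩
  set H := (D.map (QuotientGroup.mk' (Subgroup.center Q))).comap (psiHom hψ)
  let S : AddSubgroup leechLattice := Subgroup.toAddSubgroup' H
  have hmemS : ∀ {w : leechLattice} {a : Q}, ψ w = QuotientGroup.mk a → (w ∈ S ↔ a ∈ D) := by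
    intro w a hw
    show ψ w ∈ D.map (QuotientGroup.mk' (Subgroup.center Q)) ↔ a ∈ D
    rw [hw]
    refine ⟨?_, fun h => ⟨a, h, rfl⟩⟩
    rintro ⟨b, hb, e'⟩
    have h1 := QuotientGroup.eq.1 e'
    rw [show a = b * (b⁻¹ * a) by group]
    exact D.mul_mem hb (hcD h1)
  have hidx : S.index = 2 ^ 12 := by
    show (Subgroup.toAddSubgroup' H).index = _
    rw [show (Subgroup.toAddSubgroup' H).index = H.index from rfl,
      Subgroup.index_comap_of_surjective _ (fun q => by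
        obtain ⟨w, hw⟩ := hψ.2.1 q
        exact ⟨Multiplicative.ofAdd w, hw⟩),
      Subgroup.index_map_eq _ (QuotientGroup.mk'_surjective _) (by rwa [QuotientGroup.ker_mk'])]
    have h1 := D.card_mul_index
    rw [show Nat.card D = 2 ^ 13 from ?_, hs.2.2.2.1] at h1
    · exact Nat.eq_of_mul_eq_mul_left (by norm_num : 0 < 2 ^ 13) (h1.trans (by norm_num))
    · rw [← hD]
      exact Nat.card_congr ⟨fun a => ⟨((a : Q) : Subgroup.centralizer ({z} : Set G)), a.2, (a : Q).2⟩,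
        fun a => ⟨⟨a, a.2.2⟩, a.2.1⟩, fun a => rfl, fun a => rfl⟩
  obtain ⟨r, hr, hr4⟩ : ∃ r ∈ S, leechR.q r = 4 := by
    refine exists_minimal_mem S (fun w => ?_) (fun w hw => ?_) (fun d hd w hw => ?_)
      ((hmemS hx.symm).2 (Subgroup.mem_subgroupOf.2 (mem_monN.2 ⟨c, by
        rw [hcz, hg]⟩))) hidx
    · exact (hmemS (a := 1) ((hψ.2.2.1 _).2 ⟨w, rfl⟩)).2 D.one_mem
    · obtain ⟨a, ha⟩ := QuotientGroup.mk_surjective (ψ w)
      obtain ⟨a', ha'⟩ := mem_monN.1 ((hmemS ha.symm).1 hw)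
      have hQ : 2 < Nat.card Q := by rw [hs.2.2.2.1]; norm_num
      refine (monster_sq_iff hs.2.2.1 hQ hψ ha.symm).1 ?_
      rcases (mon_center_iff hs _).1 (ex_sq_center hs.2.2.1 a) with h | h
      · exact qv_injective h
      · exfalso
        have h2 : qv (a ^ 2) = g * qv (a' ^ 2) * g⁻¹ := by
          show qv a ^ 2 = g * qv a' ^ 2 * g⁻¹
          rw [show qv a = g * qv a' * g⁻¹ from ha'.symm, conj_pow]
        rw [h] at h2
        rcases (mon_center_iff hs _).1 (ex_sq_center hs.2.2.1 a') with h' | h'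
        · rw [h', mul_one, mul_inv_cancel] at h2
          have := hs.1
          rw [h2, orderOf_one] at this
          omega
        · rw [h', hg] at h2
          exact hx1 h2.symm
    · obtain ⟨a, ha⟩ := QuotientGroup.mk_surjective (ψ w)
      have hd' : sign0 d hd ∈ classStab (vec8 pinf) := mono_mem_N0 1 d hd
      obtain ⟨h, he, hh⟩ := mon_stab_lift hs hψ hx.symm hd'
      refine (hmemS (hψ.2.2.2 h _ he w a ha.symm)).2 (Subgroup.mem_subgroupOf.2 ?_)
      exact monN_conj hg hh (Subgroup.mem_subgroupOf.1 ((hmemS ha.symm).1 hw))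
  obtain ⟨a, ha⟩ := QuotientGroup.mk_surjective (ψ r)
  exact ⟨g, x, a, r, hg, hx1, (hmemS ha.symm).1 hr, hr4, ha.symm⟩

/-- The centralizer of an involution of `Q` not conjugate to `z` moves `z` inside `Q`. -/
theorem four_fusion (hs : IsExtraspecialCentralizerSetting z Q 12) (hψ : IsLeechModTwoIso Q e ψ)
    {u : Q} {v : leechLattice} (hv4 : leechR.q v = 4) (hv : ψ v = QuotientGroup.mk u) :
    ∃ (a : G) (w : Q), a * qv u * a⁻¹ = qv u ∧ qv w = a * z * a⁻¹ ∧ qv w ≠ z := by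
  obtain ⟨g, x, b, r, hg, hx1, hb, hr4, hr⟩ := exists_four_inter hs hψ
  obtain ⟨b', hb'⟩ := mem_monN.1 hb
  obtain ⟨hb2, hbc, hbn⟩ := four_props hs hψ hr4 hr
  have hqb : qv b = g * qv b' * g⁻¹ := hb'.symm
  have hb'o : orderOf (qv b') = 2 := by
    refine orderOf_eq_prime ?_ fun h1 => hbc ?_
    · have h2 : qv b ^ 2 = 1 := congrArg qv hb2
      rw [hqb, conj_pow, mul_inv_eq_one, mul_eq_left] at h2
      exact h2
    · rw [show b = 1 from qv_injective (by show qv b = 1; rw [hqb, h1]; group)]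
      exact Subgroup.one_mem _
  have hb'n : ¬ IsConj z (qv b') := fun h => hbn (h.trans (isConj_iff.2 ⟨g, hqb.symm⟩))
  obtain ⟨r', hr'4, hr'⟩ := four_of_not_conj hs hψ hb'o hb'n
  obtain ⟨h, hh⟩ := mon_conj hs hψ hv hr (fun e0 => by rw [e0, Rootless.q_zero] at hv4; omega)
    (by omega) (hr4.trans hv4.symm)
  obtain ⟨h', hh'⟩ := mon_conj hs hψ hv hr' (fun e0 => by rw [e0, Rootless.q_zero] at hv4; omega)
    (by omega) (hr'4.trans hv4.symm)
  refine ⟨(h : G)⁻¹ * g * h', ⟨h⁻¹ * x * h, ?_⟩, ?_, ?_, ?_⟩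
  · simpa using (inferInstance : Q.Normal).conj_mem _ x.2 h⁻¹
  · rw [show (h : G)⁻¹ * g * h' * qv u * ((h : G)⁻¹ * g * h')⁻¹ =
      (h : G)⁻¹ * (g * ((h' : G) * qv u * (h' : G)⁻¹) * g⁻¹) * h by group, hh', ← hqb, ← hh]
    group
  · show (h : G)⁻¹ * qv x * h = _
    rw [← hg, show (h : G)⁻¹ * g * h' * z * ((h : G)⁻¹ * g * h')⁻¹ =
      (h : G)⁻¹ * (g * ((h' : G) * z * (h' : G)⁻¹) * g⁻¹) * h by group, comm_z h', mul_inv_cancel_right]
  · show (h : G)⁻¹ * qv x * h ≠ z
    intro hz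
    apply hx1
    rw [mul_assoc, inv_mul_eq_iff_eq_mul, comm_z h, mul_left_inj] at hz
    exact hz.trans rfl

end CfsgLib.Trans3
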