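import Cfsg.Agent.Lib.Trans3.HeldGroup
import Cfsg.Agent.Lib.Trans3.MonsterBabyBase
import Cfsg.Agent.Lib.Trans3.MonsterInter
import Cfsg.Agent.Lib.Comp.Local
import Cfsg.Agent.Lib.Coprime.SymplecticType

/-!
# Groups of Monster type: the centralizer of the element of order seven is of Held type
-/

set_option autoImplicit false
set_option maxRecDepth 100000
set_option synthInstance.maxSize 2000

namespace CfsgLib.Trans3

open Cfsg CfsgLib.Golay
open scoped commutatorElement

variable {G : Type*} [Group G] [Finite G] {z : G} {Q : Subgroup (Subgroup.centralizer ({z} : Set G))}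
  [Q.Normal] {e : ↥(Subgroup.centralizer ({z} : Set G)) ⧸ Q ≃* Spor.Co1}
  {ψ : leechLattice → Q ⧸ Subgroup.center Q}

/-- Powers of `negCo0` are central. -/
theorem negCo0_mk : (QuotientGroup.mk negCo0 : Spor.Co1) = 1 :=
  (QuotientGroup.eq_one_iff negCo0).2 negCo0_central

theorem orderOf_mk_heldA : orderOf (QuotientGroup.mk heldA : Spor.Co1) = 7 := by
  haveI : Fact (Nat.Prime 7) := ⟨by norm_num⟩
  refine orderOf_eq_prime (by rw [← QuotientGroup.mk_pow, heldA_pow_seven]; rfl) fun h => ?_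
  rcases center_Co0 ((QuotientGroup.eq_one_iff heldA).1 h) with h | h
  · exact heldA_ne_one h
  · have h7 := heldA_pow_seven
    rw [h, show negCo0 ^ 7 = negCo0 by simp [pow_succ, negCo0_sq]] at h7
    exact negCo0_ne_one h7

omit [Finite G] [Q.Normal] in
/-- An element of order seven fixing the coset `{x, x z}` fixes `x`. -/
theorem conj_fix_of_coset {b : (Subgroup.centralizer ({z} : Set G))} (hb7 : b ^ 7 = 1) {x : G}
    (hz : z * z = 1) (hz1 : z ≠ 1)
    (h : (b : G) * x * (b : G)⁻¹ = x ∨ (b : G) * x * (b : G)⁻¹ = x * z) :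
    (b : G) * x = x * (b : G) := by
  rcases h with h | h
  · exact mul_inv_eq_iff_eq_mul.1 h
  · exfalso
    have step : ∀ k : ℕ, (b : G) ^ k * x * ((b : G) ^ k)⁻¹ = x * z ^ k := by
      intro k
      induction k with
      | zero => simp
      | succ k ih =>
        calc (b : G) ^ (k + 1) * x * ((b : G) ^ (k + 1))⁻¹
            = (b : G) * ((b : G) ^ k * x * ((b : G) ^ k)⁻¹) * (b : G)⁻¹ := by rw [pow_succ']; group
          _ = ((b : G) * x * (b : G)⁻¹) * ((b : G) * z ^ k * (b : G)⁻¹) := by rw [ih]; group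
          _ = x * z * z ^ k := by
            rw [h, ((show Commute (b : G) z from comm_z b).pow_right k).eq, mul_inv_cancel_right]
          _ = x * z ^ (k + 1) := by rw [pow_succ', mul_assoc]
    have := step 7
    rw [show (b : G) ^ 7 = 1 from congrArg Subtype.val hb7, inv_one, one_mul, mul_one,
      show z ^ 7 = z by simp [pow_succ, hz]] at this
    exact hz1 (mul_eq_left.1 this.symm)

variable {b : (Subgroup.centralizer ({z} : Set G))}

omit [Finite G] in
/-- The classes of the elements of `Q` commuting with `b`. -/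
theorem held_class_iff (hs : IsExtraspecialCentralizerSetting z Q 12) (hψ : IsLeechModTwoIso Q e ψ)
    (hb7 : b ^ 7 = 1) (hbA : e (QuotientGroup.mk b) = QuotientGroup.mk heldA) (y : Q)
    (hcen : ∀ w : Q, w ∈ Subgroup.center Q → qv w = 1 ∨ qv w = z) :
    (b : G) * qv y = qv y * (b : G) ↔ ∃ s, ψ (hv s) = QuotientGroup.mk y := by
  obtain ⟨hz, -, -, -, -⟩ := hs
  have hzz : z * z = 1 := by rw [← pow_two, ← hz]; exact pow_orderOf_eq_one z
  have hz1 : z ≠ 1 := fun h => by rw [h, orderOf_one] at hz; omega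
  set y' : Q := ⟨b * y * b⁻¹, (inferInstance : Q.Normal).conj_mem _ y.2 b⟩ with hy'
  have hact : ∀ v, ψ v = QuotientGroup.mk y → ψ (heldA • v) = QuotientGroup.mk y' := fun v hv' =>
    hψ.2.2.2 b heldA hbA.symm v y hv'
  constructor
  · intro hc
    obtain ⟨v, hv'⟩ := hψ.2.1 (QuotientGroup.mk y)
    have hyy : y' = y := qv_injective (show (b : G) * qv y * (b : G)⁻¹ = qv y by rw [hc, mul_inv_cancel_right])
    have := hact v hv'
    rw [hyy, ← hv', psi_cls hψ] at this
    obtain ⟨s, hs'⟩ := (held_cls_fixed v).1 this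
    exact ⟨s, ((psi_cls hψ).2 hs').symm.trans hv'⟩
  · rintro ⟨s, hs'⟩
    have := hact _ hs'
    rw [show heldA • hv s = hv s from heldA_fix _, hs'] at this
    have hm : y⁻¹ * y' ∈ Subgroup.center Q := QuotientGroup.eq.1 this
    refine conj_fix_of_coset hb7 hzz hz1 ?_
    rcases hcen _ hm with h | h
    · exact Or.inl (inv_mul_eq_one.1 h).symm
    · exact Or.inr (inv_mul_eq_iff_eq_mul.1 h)

/-- An element of `Co0` normalising the element of order seven is induced by the normaliser of `b`. -/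
theorem held_lift (hs : IsExtraspecialCentralizerSetting z Q 12) (hb7 : b ^ 7 = 1)
    (hbA : e (QuotientGroup.mk b) = QuotientGroup.mk heldA) {g : Co0} {j : ℕ}
    (hg : g * heldA * g⁻¹ = heldA ^ j) :
    ∃ n : (Subgroup.centralizer ({z} : Set G)), e (QuotientGroup.mk n) = QuotientGroup.mk g ∧
      n * b * n⁻¹ = b ^ j := by
  haveI : Fact (Nat.Prime 7) := ⟨by norm_num⟩
  obtain ⟨n₀, hn₀⟩ := QuotientGroup.mk_surjective (e.symm (QuotientGroup.mk g))
  have hn : e (QuotientGroup.mk n₀) = QuotientGroup.mk g := by rw [hn₀, MulEquiv.apply_symm_apply]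
  have hbq : orderOf (QuotientGroup.mk b : ↥(Subgroup.centralizer ({z} : Set G)) ⧸ Q) = 7 := by
    rw [← MulEquiv.orderOf_eq e, hbA]; exact orderOf_mk_heldA
  have hbo : orderOf b = 7 := orderOf_eq_prime hb7 fun h => by
    rw [h, QuotientGroup.mk_one, orderOf_one] at hbq; omega
  set T := (Subgroup.zpowers (QuotientGroup.mk b : ↥(Subgroup.centralizer ({z} : Set G)) ⧸ Q)).comap (QuotientGroup.mk' Q)
  have hbT : b ∈ T := Subgroup.mem_zpowers _
  have him : (QuotientGroup.mk (n₀ * b * n₀⁻¹) : ↥(Subgroup.centralizer ({z} : Set G)) ⧸ Q) = (QuotientGroup.mk b) ^ j := by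
    apply e.injective
    rw [map_pow, hbA, QuotientGroup.mk_mul, QuotientGroup.mk_mul, QuotientGroup.mk_inv, map_mul,
      map_mul, map_inv, hn, hbA, ← QuotientGroup.mk_inv, ← QuotientGroup.mk_mul,
      ← QuotientGroup.mk_mul, hg, QuotientGroup.mk_pow]
  have hb0T : n₀ * b * n₀⁻¹ ∈ T := by
    show (QuotientGroup.mk (n₀ * b * n₀⁻¹) : ↥(Subgroup.centralizer ({z} : Set G)) ⧸ Q) ∈ Subgroup.zpowers (QuotientGroup.mk b)
    rw [him]; exact Subgroup.pow_mem _ (Subgroup.mem_zpowers _) _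
  have hTcard : Nat.card T = 2 ^ 25 * 7 := by
    have h := ((QuotientGroup.mk' Q).comp T.subtype).ker.card_mul_index
    rw [Subgroup.index_ker, MonoidHom.range_comp, Subgroup.range_subtype,
      Subgroup.map_comap_eq_self_of_surjective (QuotientGroup.mk'_surjective Q), Nat.card_zpowers, hbq] at h
    rw [← h, ← hs.2.2.2.1]
    congr 1
    refine Nat.card_congr ⟨fun a => ⟨((a : T) : (Subgroup.centralizer ({z} : Set G))), (QuotientGroup.eq_one_iff ((a : T) : (Subgroup.centralizer ({z} : Set G)))).1 (MonoidHom.mem_ker.1 a.2)⟩,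
      fun a => ⟨⟨a, ?_⟩, MonoidHom.mem_ker.2 ((QuotientGroup.eq_one_iff (a : (Subgroup.centralizer ({z} : Set G)))).2 a.2)⟩,
      fun _ => rfl, fun _ => rfl⟩
    show (QuotientGroup.mk (a : (Subgroup.centralizer ({z} : Set G))) : ↥(Subgroup.centralizer ({z} : Set G)) ⧸ Q) ∈ Subgroup.zpowers (QuotientGroup.mk b)
    rw [(QuotientGroup.eq_one_iff (a : (Subgroup.centralizer ({z} : Set G)))).2 a.2]; exact Subgroup.one_mem _
  have hfac : (Nat.card T).factorization 7 = 1 := by
    rw [hTcard, show (2 : ℕ) ^ 25 * 7 = 7 ^ 1 * 2 ^ 25 by norm_num,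
      Nat.factorization_mul (by norm_num) (by norm_num), Finsupp.add_apply,
      Nat.Prime.factorization_pow (by norm_num), Finsupp.single_eq_same,
      Nat.factorization_eq_zero_of_not_dvd (by norm_num)]
  have hb0o : orderOf (n₀ * b * n₀⁻¹) = 7 := by
    rw [← hbo]; exact MulEquiv.orderOf_eq (MulAut.conj n₀) b
  let P₁ : Sylow 7 T := Sylow.ofCard (Subgroup.zpowers ⟨n₀ * b * n₀⁻¹, hb0T⟩)
    (by rw [Nat.card_zpowers, ← Subgroup.orderOf_coe, hb0o, hfac]; norm_num)
  let P₂ : Sylow 7 T := Sylow.ofCard (Subgroup.zpowers ⟨b, hbT⟩)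
    (by rw [Nat.card_zpowers, ← Subgroup.orderOf_coe, hbo, hfac]; norm_num)
  obtain ⟨t, ht⟩ := MulAction.exists_smul_eq T P₁ P₂
  have hmem : t * ⟨n₀ * b * n₀⁻¹, hb0T⟩ * t⁻¹ ∈ Subgroup.zpowers (⟨b, hbT⟩ : T) := by
    have h1 : MulAut.conj t (⟨n₀ * b * n₀⁻¹, hb0T⟩ : T) ∈ ((t • P₁ : Sylow 7 T) : Subgroup T) :=
      Subgroup.mem_map_of_mem _ (Subgroup.mem_zpowers _)
    rw [ht] at h1
    exact h1
  obtain ⟨l, hl⟩ := Subgroup.mem_zpowers_iff.1 hmem
  have hl' : b ^ l = (t : (Subgroup.centralizer ({z} : Set G))) * (n₀ * b * n₀⁻¹) * (t : (Subgroup.centralizer ({z} : Set G)))⁻¹ := by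
    simpa using congrArg Subtype.val hl
  obtain ⟨i, hi⟩ := Subgroup.mem_zpowers_iff.1 (Subgroup.mem_comap.1 t.2)
  have hlj : b ^ l = b ^ j := by
    have h1 : (QuotientGroup.mk b : ↥(Subgroup.centralizer ({z} : Set G)) ⧸ Q) ^ l = (QuotientGroup.mk b) ^ (j : ℤ) := by
      rw [← QuotientGroup.mk_zpow, hl', QuotientGroup.mk_mul, QuotientGroup.mk_mul, QuotientGroup.mk_inv,
        him, show (QuotientGroup.mk (t : (Subgroup.centralizer ({z} : Set G))) : ↥(Subgroup.centralizer ({z} : Set G)) ⧸ Q) = QuotientGroup.mk b ^ i from hi.symm, zpow_natCast]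
      group
    rw [← zpow_natCast b j, zpow_eq_zpow_iff_modEq, hbo]
    rw [zpow_eq_zpow_iff_modEq, hbq] at h1
    exact h1
  refine ⟨b ^ (-i) * t * n₀, ?_, ?_⟩
  · rw [QuotientGroup.mk_mul, QuotientGroup.mk_mul, QuotientGroup.mk_zpow,
      show (QuotientGroup.mk (t : (Subgroup.centralizer ({z} : Set G))) : ↥(Subgroup.centralizer ({z} : Set G)) ⧸ Q) = QuotientGroup.mk b ^ i from hi.symm, ← zpow_add,
      neg_add_cancel, zpow_zero, one_mul, hn]
  · calc b ^ (-i) * t * n₀ * b * (b ^ (-i) * t * n₀)⁻¹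
        = b ^ (-i) * ((t : (Subgroup.centralizer ({z} : Set G))) * (n₀ * b * n₀⁻¹) * (t : (Subgroup.centralizer ({z} : Set G)))⁻¹) * (b ^ (-i))⁻¹ := by group
      _ = b ^ (-i) * b ^ j * (b ^ (-i))⁻¹ := by rw [← hl', hlj]
      _ = b ^ j := by
        rw [(((Commute.refl b).zpow_left (-i)).pow_right j).eq, mul_inv_cancel_right]

/-- The joint centralizer of `z` and a second conjugate of `z` in `Q` has no subgroup of order 49. -/
theorem held_seven_part (hs : IsExtraspecialCentralizerSetting z Q 12) (hψ : IsLeechModTwoIso Q e ψ)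
    {x : Q} {v : leechLattice} (hv8 : leechR.q v = 8) (hv' : ψ v = QuotientGroup.mk x) :
    ¬ 7 ^ 2 ∣ Nat.card ↥(Subgroup.centralizer ({z, qv x} : Set G)) := by
  set L := Subgroup.centralizer ({z, qv x} : Set G)
  have hLC : L ≤ (Subgroup.centralizer ({z} : Set G)) := Subgroup.centralizer_le (by simp)
  let f : L →* Spor.Co1 := e.toMonoidHom.comp ((QuotientGroup.mk' Q).comp (Subgroup.inclusion hLC))
  have hrange : f.range ≤ (classStab v).map (QuotientGroup.mk' (Subgroup.center Co0)) := by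
    rintro _ ⟨y, rfl⟩
    obtain ⟨g, hg⟩ := QuotientGroup.mk_surjective (f y)
    refine ⟨g, mon_stab_of_comm hψ hv' (h := Subgroup.inclusion hLC y) hg ?_, hg⟩
    exact (Subgroup.mem_centralizer_iff.1 y.2 (qv x) (by simp)).symm
  have h1 : Nat.card f.range ∣ Nat.card N0 := by
    refine (Subgroup.card_dvd_of_le hrange).trans ((Subgroup.card_map_dvd _ _).trans ?_)
    obtain ⟨h, rfl⟩ := co0_trans8 (vec8_q pinf) hv8
    rw [Nat.card_congr (frameIso h).toEquiv]
  have h2 : Nat.card f.ker ∣ 2 ^ 25 := by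
    rw [← hs.2.2.2.1]
    let ι : f.ker →* Q := MonoidHom.mk' (fun a => ⟨Subgroup.inclusion hLC a,
      (QuotientGroup.eq_one_iff (Subgroup.inclusion hLC (a : L))).1 (e.map_eq_one_iff.1 (MonoidHom.mem_ker.1 a.2))⟩)
      fun _ _ => rfl
    exact Subgroup.card_dvd_of_injective ι fun a c h =>
      Subtype.ext (Subgroup.inclusion_injective hLC (congrArg Subtype.val h))
  intro h49
  rw [← f.ker.card_mul_index, Subgroup.index_ker] at h49
  have h3 : 7 ^ 2 ∣ 2 ^ 25 * (4096 * 244823040) := by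
    refine h49.trans (mul_dvd_mul h2 (h1.trans ?_))
    have hN : Nat.card N0 ≤ 4096 * 244823040 ∧ Nat.card N0 ∣ Nat.card permPart.ker * 244823040 := by
      have h := permPart.ker.card_mul_index
      rw [Subgroup.index_ker, MonoidHom.range_eq_top.2 permPart_surjective, Subgroup.card_top,
        card_M24] at h
      exact ⟨by rw [← h]; exact Nat.mul_le_mul_right _ permPart_ker_le_card, by rw [h]⟩
    refine hN.2.trans (Nat.mul_dvd_mul_right ?_ _)
    obtain ⟨n, hn⟩ : ∃ n, Nat.card permPart.ker = 2 ^ n := by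
      haveI : Fact (Nat.Prime 2) := ⟨Nat.prime_two⟩
      refine IsPGroup.iff_card.1 fun a => ⟨1, ?_⟩
      obtain ⟨c, hc, he⟩ := permPart_eq_one (MonoidHom.mem_ker.1 a.2)
      refine Subtype.ext (Subtype.ext ?_)
      show ((a : N0) : Co0) ^ (2 ^ 1) = 1
      rw [pow_one, pow_two, he, sign0_sq]
    have h4 := permPart_ker_le_card
    rw [hn] at h4 ⊢
    exact Nat.pow_dvd_pow 2 ((Nat.pow_le_pow_iff_right (by norm_num : 1 < 2)).1
      (h4.trans_eq (by norm_num : (4096 : ℕ) = 2 ^ 12)))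
  norm_num at h3

/-- Conjugates of `z` in `C_Q(b)` are conjugate to `z` under the centralizer of `b`. -/
theorem held_fusion (hs : IsExtraspecialCentralizerSetting z Q 12) (hψ : IsLeechModTwoIso Q e ψ)
    (hb7 : b ^ 7 = 1) (hbA : e (QuotientGroup.mk b) = QuotientGroup.mk heldA) {x : Q}
    (hxb : (b : G) * qv x = qv x * (b : G)) (hx : IsConj z (qv x)) (hx1 : qv x ≠ z) :
    ∃ c : G, c * (b : G) = (b : G) * c ∧ c * z * c⁻¹ = qv x := by
  haveI : Fact (Nat.Prime 7) := ⟨by norm_num⟩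
  obtain ⟨v, hv8, hv'⟩ := (mon_conj_iff hs hψ x).1 ⟨hx, hx1⟩
  obtain ⟨g, hg⟩ := isConj_iff.1 hx
  obtain ⟨-, -, y, hy, hyc⟩ := mon_reciprocal hs hψ hg hx1
  have hyz : qv y ≠ z := fun h => hyc ((mon_center_iff hs y).2 (Or.inr h))
  obtain ⟨w, hw8, hw⟩ := (mon_conj_iff hs hψ y).1 ⟨isConj_iff.2 ⟨g⁻¹, by rw [hy, inv_inv]⟩, hyz⟩
  obtain ⟨h, hh⟩ := mon_conj hs hψ hw hv' (fun e0 => by rw [e0, Rootless.q_zero] at hw8; omega) hw8.le
    (hv8.trans hw8.symm)
  set L := Subgroup.centralizer ({z, qv x} : Set G)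
  set β : G := (b : G)
  have hbz : β * z = z * β := comm_z b
  have hbL : β ∈ L := by
    refine Subgroup.mem_centralizer_iff.2 fun a ha => ?_
    rcases (show a = z ∨ a = qv x by simpa using ha) with h' | h' <;> rw [h']
    · exact hbz.symm
    · exact hxb.symm
  set γ : G := (h : G) * (g⁻¹ * β * g) * (h : G)⁻¹
  have hγL : γ ∈ L := by
    refine Subgroup.mem_centralizer_iff.2 fun a ha => ?_
    have h1 : z * (g⁻¹ * β * g) = g⁻¹ * β * g * z := by
      have e1 : qv x * β = β * qv x := hxb.symm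
      rw [← hg] at e1
      calc z * (g⁻¹ * β * g) = g⁻¹ * (g * z * g⁻¹ * β) * g := by (try simp only [m]); (try simp only [u]); (try simp only [γ]); group
        _ = g⁻¹ * β * g * z := by rw [e1]; (try simp only [m]); (try simp only [u]); (try simp only [γ]); group
    have h2 : qv y * (g⁻¹ * β * g) = g⁻¹ * β * g * qv y := by
      rw [hy]
      calc g⁻¹ * z * g * (g⁻¹ * β * g) = g⁻¹ * (z * β) * g := by (try simp only [m]); (try simp only [u]); (try simp only [γ]); group
        _ = g⁻¹ * β * g * (g⁻¹ * z * g) := by rw [← hbz]; (try simp only [m]); (try simp only [u]); (try simp only [γ]); group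
    rcases (show a = z ∨ a = qv x by simpa using ha) with h' | h' <;> rw [h']
    · calc z * γ = (h : G) * (z * (g⁻¹ * β * g)) * (h : G)⁻¹ := by
            show z * ((h : G) * (g⁻¹ * β * g) * (h : G)⁻¹) = _
            rw [← mul_assoc, ← mul_assoc, ← comm_z h, mul_assoc (h : G) z]
        _ = (h : G) * (g⁻¹ * β * g) * (z * (h : G)⁻¹) := by rw [h1]; (try simp only [m]); (try simp only [u]); (try simp only [γ]); group
        _ = γ * z := by
            rw [show z * (h : G)⁻¹ = (h : G)⁻¹ * z from ((show Commute (h : G) z from comm_z h).inv_left.eq).symm]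
            (try simp only [m]); (try simp only [u]); (try simp only [γ]); group
    · rw [← hh]
      calc (h : G) * qv y * (h : G)⁻¹ * γ = (h : G) * (qv y * (g⁻¹ * β * g)) * (h : G)⁻¹ := by
            show _ * ((h : G) * (g⁻¹ * β * g) * (h : G)⁻¹) = _
            (try simp only [m]); (try simp only [u]); (try simp only [γ]); group
        _ = γ * ((h : G) * qv y * (h : G)⁻¹) := by rw [h2]; (try simp only [m]); (try simp only [u]); (try simp only [γ]); group
  have hbo : orderOf β = 7 := orderOf_eq_prime (congrArg Subtype.val hb7) fun h1 => by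
    have : b = 1 := Subtype.ext h1
    rw [this, QuotientGroup.mk_one, map_one] at hbA
    have := orderOf_mk_heldA
    rw [← hbA, orderOf_one] at this
    omega
  have hγo : orderOf γ = 7 := by
    rw [← hbo]
    have e1 : γ = MulAut.conj ((h : G) * g⁻¹) β := by show _ = _ * β * _; (try simp only [m]); (try simp only [u]); (try simp only [γ]); group
    rw [e1]
    exact MulEquiv.orderOf_eq (MulAut.conj ((h : G) * g⁻¹)) β
  have hfac : (Nat.card L).factorization 7 = 1 := by
    have hne : Nat.card L ≠ 0 := Nat.card_pos.ne'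
    refine le_antisymm ?_ ?_
    · by_contra hlt
      exact held_seven_part hs hψ hv8 hv' ((Nat.Prime.pow_dvd_iff_le_factorization (by norm_num) hne).2 (by omega))
    · refine (Nat.Prime.pow_dvd_iff_le_factorization (by norm_num) hne).1 ?_
      rw [pow_one, ← hbo, show orderOf β = orderOf (⟨β, hbL⟩ : L) from (Subgroup.orderOf_mk β hbL).symm]
      exact orderOf_dvd_natCard _
  let P₁ : Sylow 7 L := Sylow.ofCard (Subgroup.zpowers ⟨γ, hγL⟩)
    (by rw [Nat.card_zpowers, ← Subgroup.orderOf_coe, hγo, hfac]; norm_num)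
  let P₂ : Sylow 7 L := Sylow.ofCard (Subgroup.zpowers ⟨β, hbL⟩)
    (by rw [Nat.card_zpowers, ← Subgroup.orderOf_coe, hbo, hfac]; norm_num)
  obtain ⟨l, hl⟩ := MulAction.exists_smul_eq L P₁ P₂
  have hmem : l * ⟨γ, hγL⟩ * l⁻¹ ∈ Subgroup.zpowers (⟨β, hbL⟩ : L) := by
    have h1 : MulAut.conj l (⟨γ, hγL⟩ : L) ∈ ((l • P₁ : Sylow 7 L) : Subgroup L) :=
      Subgroup.mem_map_of_mem _ (Subgroup.mem_zpowers _)
    rw [hl] at h1
    exact h1
  obtain ⟨k, hk⟩ := (mem_powers_iff_mem_zpowers (x := (⟨β, hbL⟩ : L))).2 hmem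
  have hk' : β ^ k = (l : G) * γ * (l : G)⁻¹ := by simpa using congrArg Subtype.val hk
  set u : G := (l : G) * (h : G) * g⁻¹
  have hub : u * β * u⁻¹ = β ^ k := by rw [hk']; (try simp only [m]); (try simp only [u]); (try simp only [γ]); group
  have hux : u * qv x * u⁻¹ = z := by
    rw [← hg, show u * (g * z * g⁻¹) * u⁻¹ = (l : G) * ((h : G) * z * (h : G)⁻¹) * (l : G)⁻¹ by (try simp only [m]); (try simp only [u]); (try simp only [γ]); group,
      comm_z h, mul_inv_cancel_right,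
      ← Subgroup.mem_centralizer_iff.1 l.2 z (by simp), mul_inv_cancel_right]
  have hk7 : k % 7 ≠ 0 := by
    intro h0
    have h1 : u * β * u⁻¹ = 1 := by
      rw [hub, ← Nat.mod_add_div k 7, h0, zero_add, pow_mul,
        show β ^ 7 = 1 from congrArg Subtype.val hb7, one_pow]
    rw [conj_eq_one_iff] at h1
    rw [h1, orderOf_one] at hbo
    omega
  obtain ⟨j, hj⟩ := held_conj_power k hk7
  obtain ⟨n, -, hn⟩ := held_lift hs hb7 hbA hj
  set m : G := (n : G)⁻¹
  have hn' : (n : G) * β * (n : G)⁻¹ = β ^ k := congrArg Subtype.val hn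
  refine ⟨(m * u)⁻¹, ?_, ?_⟩
  · have h1 : m * u * β * (m * u)⁻¹ = β := by
      rw [show m * u * β * (m * u)⁻¹ = (n : G)⁻¹ * (u * β * u⁻¹) * (n : G) by (try simp only [m]); (try simp only [u]); (try simp only [γ]); group, hub, ← hn']
      (try simp only [m]); (try simp only [u]); (try simp only [γ]); group
    have h2 : m * u * β = β * (m * u) := mul_inv_eq_iff_eq_mul.1 h1
    exact ((show Commute (m * u) β from h2).inv_left).eq
  · rw [inv_inv]
    calc (m * u)⁻¹ * z * (m * u) = u⁻¹ * ((n : G) * z * (n : G)⁻¹) * u := by (try simp only [m]); (try simp only [u]); (try simp only [γ]); group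
      _ = u⁻¹ * z * u := by rw [comm_z n, mul_inv_cancel_right]
      _ = u⁻¹ * (u * qv x * u⁻¹) * u := by rw [hux]
      _ = qv x := by (try simp only [m]); (try simp only [u]); (try simp only [γ]); group

theorem sl3_two_no_normal {N : Subgroup (Matrix.SpecialLinearGroup (Fin 3) (ZMod 2))} [N.Normal]
    (hN : IsPGroup 2 N) : N = ⊥ := by
  haveI : Fact (Nat.Prime 2) := ⟨Nat.prime_two⟩
  obtain ⟨n, hn⟩ := IsPGroup.iff_card.1 hN
  have h168 : Nat.card (Matrix.SpecialLinearGroup (Fin 3) (ZMod 2)) = 168 := by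
    rw [Nat.card_eq_fintype_card]; decide +kernel
  have hn3 : n ≤ 3 := by
    by_contra h
    have h16 : 2 ^ 4 ∣ 168 := (Nat.pow_dvd_pow 2 (by omega : 4 ≤ n)).trans (h168 ▸ hn ▸ Subgroup.card_subgroup_dvd_card N)
    norm_num at h16
  have key : ∀ a : Matrix.SpecialLinearGroup (Fin 3) (ZMod 2), a ^ 8 = 1 → a ≠ 1 →
      ∃ g, (a * (g * a * g⁻¹)) ^ 8 ≠ 1 := by decide +kernel
  have h8 : ∀ a ∈ N, a ^ 8 = 1 := fun a ha => by
    have h1 : (⟨a, ha⟩ : N) ^ 2 ^ n = 1 := hn ▸ pow_card_eq_one'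
    have h2 : a ^ 2 ^ n = 1 := congrArg Subtype.val h1
    rw [show 8 = 2 ^ n * 2 ^ (3 - n) by rw [← pow_add, show n + (3 - n) = 3 by omega]; norm_num,
      pow_mul, h2, one_pow]
  refine (Subgroup.eq_bot_iff_forall _).2 fun a ha => ?_
  by_contra h1
  obtain ⟨g, hg⟩ := key a (h8 a ha) h1
  exact hg (h8 _ (N.mul_mem ha ((inferInstance : N.Normal).conj_mem a ha g)))

theorem held_count : (Finset.univ.filter fun p : (Fin 6 → ZMod 2) × Fin 2 =>
    p = (0, 1) ∨ hEight p.1).card = 29 := by decide +kernel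

theorem held_he0_ne : ¬ (he0 : Fin 6 → ZMod 2) = 0 := by decide

/-- The centralizer of `b` modulo `b` is of Held type. -/
theorem mon_held (hs : IsExtraspecialCentralizerSetting z Q 12) (hψ : IsLeechModTwoIso Q e ψ)
    (hb7 : b ^ 7 = 1) (hbA : e (QuotientGroup.mk b) = QuotientGroup.mk heldA)
    [hn : ((Subgroup.zpowers (b : G)).subgroupOf
      (Subgroup.centralizer (Subgroup.zpowers (b : G) : Set G))).Normal] :
    IsOfHeldType (↥(Subgroup.centralizer (Subgroup.zpowers (b : G) : Set G)) ⧸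
      (Subgroup.zpowers (b : G)).subgroupOf (Subgroup.centralizer (Subgroup.zpowers (b : G) : Set G))) := by
  classical
  haveI : Fact (Nat.Prime 7) := ⟨by norm_num⟩
  haveI : Fact (Nat.Prime 2) := ⟨Nat.prime_two⟩
  set CB := Subgroup.centralizer (Subgroup.zpowers (b : G) : Set G) with hCBdef
  have hCB : ∀ a : G, a ∈ CB ↔ (b : G) * a = a * (b : G) := fun a => by
    rw [hCBdef, Subgroup.mem_centralizer_iff]
    refine ⟨fun h => h _ (Subgroup.mem_zpowers _), fun h c hc => ?_⟩
    obtain ⟨i, rfl⟩ := Subgroup.mem_zpowers_iff.1 hc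
    exact (show Commute (b : G) a from h).zpow_left i
  obtain ⟨⟨cz, hcz, hczv⟩, hcen⟩ := mon_center hs
  have hE := hs.2.2.1
  have hz1 : z ≠ 1 := fun h => by have := hs.1; rw [h, orderOf_one] at this; omega
  have hz2 : z ^ 2 = 1 := hs.1 ▸ pow_orderOf_eq_one z
  have hbq : orderOf (QuotientGroup.mk b : ↥(Subgroup.centralizer ({z} : Set G)) ⧸ Q) = 7 := by
    rw [← MulEquiv.orderOf_eq e, hbA]; exact orderOf_mk_heldA
  have hbo : orderOf b = 7 := orderOf_eq_prime hb7 fun h => by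
    rw [h, QuotientGroup.mk_one, orderOf_one] at hbq; omega
  -- `Q` meets `⟨b⟩` trivially
  have hQb : ∀ a : Q, qv a ∈ Subgroup.zpowers (b : G) → a = 1 := by
    intro a ha
    obtain ⟨i, hi⟩ := Subgroup.mem_zpowers_iff.1 ha
    have h1 : (b ^ i : (Subgroup.centralizer ({z} : Set G))) = (a : (Subgroup.centralizer ({z} : Set G))) := Subtype.ext (by simpa using hi)
    have h2 : (QuotientGroup.mk b : ↥(Subgroup.centralizer ({z} : Set G)) ⧸ Q) ^ i = 1 := by
      rw [← QuotientGroup.mk_zpow, h1]; exact (QuotientGroup.eq_one_iff _).2 a.2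
    have h3 : ((orderOf b : ℕ) : ℤ) ∣ i := by
      rw [hbo, ← hbq]; exact orderOf_dvd_iff_zpow_eq_one.2 h2
    refine Subtype.ext ?_
    rw [← h1, orderOf_dvd_iff_zpow_eq_one.1 h3]
    rfl
  -- the centralizer of `b` in `(Subgroup.centralizer ({z} : Set G))`
  set KC := Subgroup.centralizer ({b} : Set (Subgroup.centralizer ({z} : Set G))) with hKC
  have hKCG : ∀ y : (Subgroup.centralizer ({z} : Set G)), y ∈ KC → (b : G) * (y : G) = (y : G) * (b : G) := fun y hy =>
    (congrArg Subtype.val (Subgroup.mem_centralizer_singleton_iff.1 hy)).symm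
  -- the action on the seven classes
  obtain ⟨φ, hφsurj, hφker, hφact, hφneg⟩ := held_centralizer
  have hlift : ∀ y : KC, ∃ g : heldH, (QuotientGroup.mk (g : Co0) : Spor.Co1) = e (QuotientGroup.mk (y : (Subgroup.centralizer ({z} : Set G)))) := by
    intro y
    obtain ⟨g, hg⟩ := QuotientGroup.mk_surjective (e (QuotientGroup.mk (y : (Subgroup.centralizer ({z} : Set G)))))
    refine ⟨⟨g, mem_heldH.2 ?_⟩, hg⟩
    have h1 : (QuotientGroup.mk (g * heldA * g⁻¹) : Spor.Co1) = QuotientGroup.mk heldA := by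
      rw [QuotientGroup.mk_mul, QuotientGroup.mk_mul, QuotientGroup.mk_inv, hg, ← hbA, ← map_inv,
        ← map_mul, ← map_mul, ← QuotientGroup.mk_inv, ← QuotientGroup.mk_mul, ← QuotientGroup.mk_mul,
        Subgroup.mem_centralizer_singleton_iff.1 y.2, mul_inv_cancel_right]
    have h2 : heldA⁻¹ * (g * heldA * g⁻¹) ∈ Subgroup.center Co0 := QuotientGroup.eq.1 h1.symm
    rcases center_Co0 h2 with h3 | h3
    · exact mul_inv_eq_iff_eq_mul.1 (inv_mul_eq_one.1 h3).symm
    · exfalso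
      have h4 : g * heldA * g⁻¹ = heldA * negCo0 := inv_mul_eq_iff_eq_mul.1 h3
      have h5 := congrArg (· ^ 7) h4
      simp only [conj_pow, heldA_pow_seven, mul_one, mul_inv_cancel] at h5
      rw [(show Commute heldA negCo0 from Subgroup.mem_center_iff.1 negCo0_central heldA).mul_pow,
        heldA_pow_seven, one_mul, show negCo0 ^ 7 = negCo0 by simp [pow_succ, negCo0_sq]] at h5
      exact negCo0_ne_one h5.symm
  choose lg hlg using hlift
  have hwell : ∀ (y : KC) (g : heldH),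
      (QuotientGroup.mk (g : Co0) : Spor.Co1) = e (QuotientGroup.mk (y : (Subgroup.centralizer ({z} : Set G)))) → φ g = φ (lg y) := by
    intro y g hg
    have h1 : ((lg y : Co0))⁻¹ * (g : Co0) ∈ Subgroup.center Co0 :=
      QuotientGroup.eq.1 ((hlg y).trans hg.symm)
    rcases center_Co0 h1 with h2 | h2
    · rw [show lg y = g from Subtype.ext (inv_mul_eq_one.1 h2)]
    · have hN : negCo0 ∈ heldH := mem_heldH.2 (Subgroup.mem_center_iff.1 negCo0_central heldA).symm
      rw [show g = lg y * ⟨negCo0, hN⟩ from Subtype.ext (inv_mul_eq_iff_eq_mul.1 h2), map_mul,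
        hφneg ⟨negCo0, hN⟩ (Or.inl rfl), mul_one]
  let χ : KC →* Matrix.SpecialLinearGroup (Fin 3) (ZMod 2) := MonoidHom.mk' (fun y => φ (lg y))
    fun y w => by
      rw [← map_mul]
      refine (hwell (y * w) (lg y * lg w) ?_).symm
      show (QuotientGroup.mk ((lg y : Co0) * (lg w : Co0)) : Spor.Co1) = _
      rw [QuotientGroup.mk_mul, hlg, hlg, ← map_mul, ← QuotientGroup.mk_mul]
      rfl
  have hχsurj : Function.Surjective χ := by
    intro M
    obtain ⟨g, rfl⟩ := hφsurj M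
    have hg : (g : Co0) * heldA * (g : Co0)⁻¹ = heldA ^ 1 := by
      rw [pow_one, mem_heldH.1 g.2, mul_inv_cancel_right]
    obtain ⟨n, hn1, hn2⟩ := held_lift hs hb7 hbA hg
    rw [pow_one] at hn2
    refine ⟨⟨n, Subgroup.mem_centralizer_singleton_iff.2 (mul_inv_eq_iff_eq_mul.1 hn2)⟩, ?_⟩
    exact (hwell _ g hn1.symm).symm
  have hχker : ∀ y : KC, χ y = 1 ↔ ∃ i : ℤ, (b ^ i)⁻¹ * (y : (Subgroup.centralizer ({z} : Set G))) ∈ Q := by
    intro y
    constructor
    · intro hy
      obtain ⟨i, -, hi⟩ := hφker (lg y) hy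
      refine ⟨(i : ℤ), QuotientGroup.eq.1 (e.injective ?_)⟩
      rw [zpow_natCast, QuotientGroup.mk_pow, map_pow, hbA, ← hlg y]
      rcases hi with hi | hi <;> rw [hi]
      · rw [QuotientGroup.mk_pow]
      · rw [QuotientGroup.mk_mul, negCo0_mk, one_mul, QuotientGroup.mk_pow]
    · rintro ⟨i, hi⟩
      have hA : heldA ∈ heldH := mem_heldH.2 rfl
      refine (hwell y (⟨heldA, hA⟩ ^ i) ?_).symm.trans ?_
      · show (QuotientGroup.mk (heldA ^ i) : Spor.Co1) = _
        rw [QuotientGroup.mk_zpow, ← hbA, ← map_zpow, ← QuotientGroup.mk_zpow]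
        exact congrArg e (QuotientGroup.eq.2 hi)
      · rw [map_zpow, hφneg ⟨heldA, hA⟩ (Or.inr rfl), one_zpow]
  -- the quotient
  set T := (Subgroup.zpowers (b : G)).subgroupOf CB with hT
  have hzb' : z ∈ CB := (hCB z).2 (comm_z b)
  let zt : CB := ⟨z, hzb'⟩
  set zb : ↥CB ⧸ T := QuotientGroup.mk zt
  set D := Subgroup.centralizer ({zb} : Set (↥CB ⧸ T))
  let j : KC →* CB := MonoidHom.mk' (fun h => ⟨((h : (Subgroup.centralizer ({z} : Set G))) : G), (hCB _).2 (hKCG _ h.2)⟩) fun _ _ => rfl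
  have hjD : ∀ h : KC, QuotientGroup.mk' T (j h) ∈ D := fun h => by
    refine Subgroup.mem_centralizer_singleton_iff.2 ?_
    show QuotientGroup.mk (j h) * QuotientGroup.mk zt = QuotientGroup.mk zt * QuotientGroup.mk (j h)
    rw [← QuotientGroup.mk_mul, ← QuotientGroup.mk_mul]
    exact congrArg _ (Subtype.ext (comm_z (h : (Subgroup.centralizer ({z} : Set G)))))
  let ρ : KC →* D := ((QuotientGroup.mk' T).comp j).codRestrict D hjD
  have hb7G : (b : G) ^ 7 = 1 := congrArg Subtype.val hb7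
  -- an involution times a power of `b`
  have hinv2 : ∀ (a : G) (i : ℤ), a * a = 1 → (b : G) * a = a * (b : G) →
      (a * (b : G) ^ i) * (a * (b : G) ^ i) = 1 → (b : G) ^ i = 1 := by
    intro a i ha hc h
    have hc' : Commute a ((b : G) ^ i) := ((show Commute (b : G) a from hc).zpow_left i).symm
    rw [hc'.symm.mul_mul_mul_comm, ha, one_mul, ← pow_two] at h
    have h7 : ((b : G) ^ i) ^ 7 = 1 := by
      rw [← zpow_natCast, ← zpow_mul, mul_comm, zpow_mul, zpow_natCast, hb7G, one_zpow]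
    calc (b : G) ^ i = ((b : G) ^ i) ^ (2 * 4) := by
          rw [show 2 * 4 = 7 + 1 from rfl, pow_add, h7, one_mul, pow_one]
      _ = 1 := by rw [pow_mul, h, one_pow]
  have hzz : z * z = 1 := by rw [← pow_two, hz2]
  have hρsurj : Function.Surjective ρ := by
    rintro ⟨a, ha⟩
    obtain ⟨a, rfl⟩ := QuotientGroup.mk_surjective a
    have h1 : QuotientGroup.mk (zt * a) = (QuotientGroup.mk (a * zt) : ↥CB ⧸ T) :=
      (Subgroup.mem_centralizer_singleton_iff.1 ha).symm
    obtain ⟨i, hi⟩ := Subgroup.mem_zpowers_iff.1 (Subgroup.mem_subgroupOf.1 (QuotientGroup.eq.1 h1))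
    have hi' : (b : G) ^ i = (z * (a : G))⁻¹ * ((a : G) * z) := hi
    have h2 : (a : G)⁻¹ * z * (a : G) * (b : G) ^ i = z := by
      rw [hi']; group
    have hba : (b : G) * ((a : G)⁻¹ * z * (a : G)) = (a : G)⁻¹ * z * (a : G) * (b : G) :=
      ((show Commute (b : G) (a : G) from (hCB _).1 a.2).inv_right.mul_right (comm_z b)).mul_right
        ((hCB _).1 a.2)
    have h3 := hinv2 _ i (by
      calc (a : G)⁻¹ * z * (a : G) * ((a : G)⁻¹ * z * (a : G)) = (a : G)⁻¹ * (z * z) * (a : G) := by group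
        _ = 1 := by rw [hzz]; group) hba (by rw [h2, hzz])
    rw [h3, mul_one] at h2
    have haz : (a : G) * z = z * (a : G) := by
      calc (a : G) * z = (a : G) * ((a : G)⁻¹ * z * (a : G)) := by rw [h2]
        _ = z * (a : G) := by group
    refine ⟨⟨⟨a, Subgroup.mem_centralizer_singleton_iff.2 haz⟩,
      Subgroup.mem_centralizer_singleton_iff.2 (Subtype.ext ((hCB _).1 a.2).symm)⟩, Subtype.ext rfl⟩
  have hρeq : ∀ {h h' : KC}, ρ h = ρ h' →
      ((h : (Subgroup.centralizer ({z} : Set G))) : G)⁻¹ * ((h' : (Subgroup.centralizer ({z} : Set G))) : G) ∈ Subgroup.zpowers (b : G) := fun {h h'} he =>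
    Subgroup.mem_subgroupOf.1 (QuotientGroup.eq.1 (congrArg (fun w : D => (w : _ ⧸ T)) he))
  -- the elements of `C_Q(b)`
  let mk : ∀ a : Q, (b : G) * qv a = qv a * (b : G) → KC := fun a ha =>
    ⟨a, Subgroup.mem_centralizer_singleton_iff.2 (Subtype.ext ha.symm)⟩
  have hρinj : ∀ a a' ha ha', ρ (mk a ha) = ρ (mk a' ha') → a = a' := fun a a' ha ha' he => by
    have h1 : qv (a⁻¹ * a') ∈ Subgroup.zpowers (b : G) := hρeq he
    exact inv_mul_eq_one.1 (hQb _ h1)
  have hiff := fun a : Q => held_class_iff hs hψ hb7 hbA a hcen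
  set HK := Q.subgroupOf KC
  set R := HK.map ρ with hRdef
  haveI hRn : R.Normal := Subgroup.Normal.map inferInstance ρ hρsurj
  have hmkR : ∀ a ha, ρ (mk a ha) ∈ R := fun a ha => ⟨_, a.2, rfl⟩
  have hrep : ∀ r : R, ∃ (a : Q) (ha : _), (r : D) = ρ (mk a ha) := fun r => by
    obtain ⟨h, hh, he⟩ := r.2
    exact ⟨⟨h, hh⟩, hKCG _ h.2, he.symm⟩
  have hczb : (b : G) * qv cz = qv cz * (b : G) := by rw [hczv]; exact comm_z b
  let zr : R := ⟨ρ (mk cz hczb), hmkR cz hczb⟩
  have hzr : ((zr : D) : ↥CB ⧸ T) = zb := congrArg (QuotientGroup.mk' T) (Subtype.ext hczv)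
  have hcz1 : cz ≠ 1 := fun h => hz1 (by rw [← hczv, h]; rfl)
  have hcz2 : cz * cz = 1 := qv_injective (by show qv cz * qv cz = 1; rw [hczv, hzz])
  have hzr1 : zr ≠ 1 := fun h => hcz1 (hρinj cz 1 hczb (by show _ * (1 : G) = (1 : G) * _; rw [mul_one, one_mul]) (by
    have h' : ρ (mk cz hczb) = 1 := congrArg Subtype.val h
    rw [h']
    exact (map_one ρ).symm))
  -- the parametrisation of `C_Q(b)`
  choose pick0 hpick0 using fun s : Fin 6 → ZMod 2 => QuotientGroup.mk_surjective (ψ (hv s))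
  let pick : (Fin 6 → ZMod 2) → Q := fun s => if s = 0 then 1 else pick0 s
  have hpick : ∀ s, QuotientGroup.mk (pick s) = ψ (hv s) := fun s => by
    show QuotientGroup.mk (if s = 0 then (1 : Q) else pick0 s) = _
    split_ifs with h
    · subst h; rw [hv_zero, psi_zero hψ]; rfl
    · exact hpick0 s
  let P : (Fin 6 → ZMod 2) × Fin 2 → Q := fun p => pick p.1 * cz ^ p.2.val
  have hPψ : ∀ p, ψ (hv p.1) = QuotientGroup.mk (P p) := fun p => by
    rw [← hpick]; exact QuotientGroup.eq.2 (by rw [inv_mul_cancel_left]; exact Subgroup.pow_mem _ hcz _)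
  have hPinj : Function.Injective P := by
    rintro ⟨s, t⟩ ⟨s', t'⟩ h
    have hs' : s = s' := hv_inj ((psi_cls hψ).1 ((hPψ (s, t)).trans ((congrArg QuotientGroup.mk h).trans (hPψ (s', t')).symm)))
    subst hs'
    have h' : cz ^ t.val = cz ^ t'.val := mul_left_cancel h
    fin_cases t <;> fin_cases t' <;> first | rfl | (exfalso; simp at h'; exact hcz1 (by simpa using h')) | (exfalso; simp at h'; exact hcz1 (by simpa using h'.symm))
  have hPb : ∀ p, (b : G) * qv (P p) = qv (P p) * (b : G) := fun p => (hiff _).2 ⟨p.1, hPψ p⟩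
  have hPsurj : ∀ a : Q, (b : G) * qv a = qv a * (b : G) → ∃ p, P p = a := by
    intro a ha
    obtain ⟨s, hs'⟩ := (hiff a).1 ha
    have h1 : (pick s)⁻¹ * a ∈ Subgroup.center Q := QuotientGroup.eq.1 ((hpick s).trans hs')
    rcases hcen _ h1 with h2 | h2
    · exact ⟨(s, 0), by
        show pick s * cz ^ 0 = a
        rw [pow_zero, mul_one]; exact qv_injective (inv_mul_eq_one.1 h2)⟩
    · exact ⟨(s, 1), by
        show pick s * cz ^ 1 = a
        rw [pow_one]; exact qv_injective (show qv (pick s) * qv cz = qv a by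
          rw [hczv]; exact (inv_mul_eq_iff_eq_mul.1 h2).symm)⟩
  let F : (Fin 6 → ZMod 2) × Fin 2 → R := fun p => ⟨ρ (mk (P p) (hPb p)), hmkR (P p) (hPb p)⟩
  have hFbij : Function.Bijective F := by
    refine ⟨fun p q h => hPinj (hρinj (P p) (P q) (hPb p) (hPb q) (congrArg Subtype.val h)), fun r => ?_⟩
    obtain ⟨a, ha, he⟩ := hrep r
    obtain ⟨p, rfl⟩ := hPsurj a ha
    exact ⟨p, Subtype.ext he.symm⟩
  have hRcard : Nat.card R = 2 ^ 7 := by
    rw [← Nat.card_congr (Equiv.ofBijective F hFbij)]; simp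
  have hcenR : ∀ (a : Q) (ha : _), a ∈ Subgroup.center Q →
      ρ (mk a ha) = 1 ∨ ρ (mk a ha) = (zr : D) := fun a ha hac => by
    rcases hcen a hac with h | h
    · left; rw [show mk a ha = 1 from Subtype.ext (Subtype.ext h), map_one]
    · right; exact congrArg ρ (Subtype.ext (Subtype.ext (h.trans hczv.symm)))
  have hZmem : ∀ {r : R}, ((r : D) = 1 ∨ (r : D) = (zr : D)) → r ∈ Subgroup.zpowers zr := fun {r} h => by
    rcases h with h | h
    · rw [show r = 1 from Subtype.ext h]; exact Subgroup.one_mem _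
    · rw [show r = zr from Subtype.ext h]; exact Subgroup.mem_zpowers zr
  have hzr2 : zr ^ 2 = 1 := Subtype.ext (by
    show ρ (mk cz hczb) ^ 2 = 1
    rw [← map_pow, show mk cz hczb ^ 2 = 1 from Subtype.ext (Subtype.ext (by
      show qv cz ^ 2 = 1
      rw [hczv, hz2])), map_one])
  have hZc : Nat.card (Subgroup.zpowers zr) = 2 := by rw [Nat.card_zpowers, orderOf_eq_prime hzr2 hzr1]
  have hcomb : ∀ {a c : Q}, (b : G) * qv a = qv a * (b : G) → (b : G) * qv c = qv c * (b : G) →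
      (b : G) * qv (a * c) = qv (a * c) * (b : G) := fun {a c} ha hc =>
    ((show Commute (b : G) (qv a) from ha).mul_right hc).eq
  have hinvb : ∀ {a : Q}, (b : G) * qv a = qv a * (b : G) → (b : G) * qv a⁻¹ = qv a⁻¹ * (b : G) :=
    fun {a} ha => (show Commute (b : G) (qv a) from ha).inv_right.eq
  have hcentre : Subgroup.center R = Subgroup.zpowers zr := by
    refine le_antisymm (fun r hr => ?_) ((Subgroup.zpowers_le).2 (Subgroup.mem_center_iff.2 fun s => ?_))
    · obtain ⟨a, ha, he⟩ := hrep r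
      refine hZmem ?_
      rw [he]
      refine hcenR a ha ?_
      obtain ⟨s, hs'⟩ := (hiff a).1 ha
      by_cases h0 : s = 0
      · subst h0
        rw [hv_zero, psi_zero hψ] at hs'
        exact (QuotientGroup.eq_one_iff a).1 hs'.symm
      · exfalso
        obtain ⟨t, ht⟩ := hv_pair s h0
        apply ht
        refine (mon_comm_iff hs hψ hs' (hPψ (t, 0))).1 ?_
        have h1 := congrArg Subtype.val (Subgroup.mem_center_iff.1 hr ⟨ρ (mk (P (t, 0)) (hPb _)), hmkR (P (t, 0)) (hPb _)⟩)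
        have h2 : ρ (mk (P (t, 0)) (hPb _) * mk a ha) = ρ (mk a ha * mk (P (t, 0)) (hPb _)) := by
          rw [map_mul, map_mul, ← he]; exact h1
        exact (hρinj (P (t, 0) * a) (a * P (t, 0)) (hcomb (hPb _) ha) (hcomb ha (hPb _)) h2).symm
    · obtain ⟨c, hc, he⟩ := hrep s
      refine Subtype.ext ?_
      show (s : D) * ρ (mk cz hczb) = ρ (mk cz hczb) * (s : D)
      rw [he, ← map_mul, ← map_mul]
      exact congrArg ρ (Subtype.ext (congrArg (fun w : Q => (w : (Subgroup.centralizer ({z} : Set G)))) (Subgroup.mem_center_iff.1 hcz c)))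
  have hRE : IsExtraspecial 2 R := by
    refine CfsgLib.Coprime.isExtraspecial_of_central (IsPGroup.of_card hRcard) _ hZc hcentre
      (fun r s => hZmem ?_) (fun r => hZmem ?_) (fun h => ?_)
    · obtain ⟨a, ha, he⟩ := hrep r
      obtain ⟨c, hc, he'⟩ := hrep s
      show (r : D) * s * (r : D)⁻¹ * (s : D)⁻¹ = 1 ∨ (r : D) * s * (r : D)⁻¹ * (s : D)⁻¹ = (zr : D)
      rw [he, he', ← map_inv, ← map_inv, ← map_mul, ← map_mul, ← map_mul]
      exact hcenR ⁅a, c⁆ (hcomb (hcomb (hcomb ha hc) (hinvb ha)) (hinvb hc))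
        (CfsgLib.Transfer.special_commutatorElement_mem_center hE.1 a c)
    · obtain ⟨a, ha, he⟩ := hrep r
      show (r : D) ^ 2 = 1 ∨ (r : D) ^ 2 = (zr : D)
      rw [he, ← map_pow]
      exact hcenR (a ^ 2) ((show Commute (b : G) (qv a) from ha).pow_right 2).eq (ex_sq_center hE a)
    · rw [h, Subgroup.card_top, hRcard] at hZc
      norm_num at hZc
  -- `D / R`
  have hρkey : ∀ y : KC, ρ y ∈ R ↔ χ y = 1 := by
    intro y
    rw [hχker]
    constructor
    · intro hy
      obtain ⟨a, ha, he⟩ := hrep ⟨_, hy⟩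
      obtain ⟨i, hi⟩ := Subgroup.mem_zpowers_iff.1 (hρeq (show ρ (mk a ha) = ρ y from he.symm))
      refine ⟨i, ?_⟩
      have h1 : (b ^ i : (Subgroup.centralizer ({z} : Set G))) = (a : (Subgroup.centralizer ({z} : Set G)))⁻¹ * (y : (Subgroup.centralizer ({z} : Set G))) := Subtype.ext (by simpa using hi)
      rw [h1, mul_inv_rev, inv_inv, mul_assoc]
      have := (inferInstance : Q.Normal).conj_mem _ a.2 (y : (Subgroup.centralizer ({z} : Set G)))⁻¹
      rwa [inv_inv, mul_assoc] at this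
    · rintro ⟨i, hi⟩
      have hbK : b ∈ KC := Subgroup.mem_centralizer_singleton_iff.2 rfl
      have h1 : ρ ((⟨b, hbK⟩ : KC) ^ i) = 1 := Subtype.ext ((QuotientGroup.eq_one_iff _).2
        (Subgroup.mem_subgroupOf.2 (by
          show (((⟨b, hbK⟩ : KC) ^ i : KC) : (Subgroup.centralizer ({z} : Set G))).1 ∈ _
          simpa using Subgroup.zpow_mem _ (Subgroup.mem_zpowers (b : G)) i)))
      refine ⟨((⟨b, hbK⟩ : KC) ^ i)⁻¹ * y, ?_, by rw [map_mul, map_inv, h1, inv_one, one_mul]⟩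
      show (((⟨b, hbK⟩ : KC) ^ i)⁻¹ * y : (Subgroup.centralizer ({z} : Set G))) ∈ Q
      simpa using hi
  let π : KC →* D ⧸ R := (QuotientGroup.mk' R).comp ρ
  have hπsurj : Function.Surjective π := (QuotientGroup.mk'_surjective R).comp hρsurj
  have hπker : π.ker = χ.ker := by
    ext y
    rw [MonoidHom.mem_ker, MonoidHom.mem_ker]
    exact (QuotientGroup.eq_one_iff _).trans (hρkey y)
  let e' : D ⧸ R ≃* Matrix.SpecialLinearGroup (Fin 3) (ZMod 2) :=
    ((QuotientGroup.quotientKerEquivOfSurjective π hπsurj).symm.trans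
      (QuotientGroup.quotientMulEquivOfEq hπker)).trans (QuotientGroup.quotientKerEquivOfSurjective χ hχsurj)
  have hcR : Subgroup.centralizer (R : Set D) ≤ R := by
    intro c hc
    obtain ⟨y, rfl⟩ := hρsurj c
    rw [hρkey]
    by_contra hne
    obtain ⟨s, hs'⟩ := hφact (lg y) hne
    set a := P (s, 0)
    have h1 : ρ (mk a (hPb _) * y) = ρ (y * mk a (hPb _)) := by
      rw [map_mul, map_mul]; exact Subgroup.mem_centralizer_iff.1 hc _ (hmkR a (hPb _))
    set a' : Q := ⟨(y : (Subgroup.centralizer ({z} : Set G))) * a * (y : (Subgroup.centralizer ({z} : Set G)))⁻¹, (inferInstance : Q.Normal).conj_mem _ a.2 _⟩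
    have ha' : (b : G) * qv a' = qv a' * (b : G) := hKCG _ (y * mk a (hPb _) * y⁻¹).2
    have h2 : ρ (mk a' ha') = ρ (mk a (hPb _)) := by
      rw [show mk a' ha' = y * mk a (hPb _) * y⁻¹ from Subtype.ext rfl, map_mul, map_inv, ← h1, map_mul,
        mul_inv_cancel_right]
    have h3 := hρinj a' a ha' (hPb _) h2
    apply hs'
    apply (psi_cls hψ).1
    rw [hψ.2.2.2 (y : (Subgroup.centralizer ({z} : Set G))) _ (hlg y) (hv s) a (hPψ (s, 0))]
    show QuotientGroup.mk a' = _
    rw [h3, ← hPψ (s, 0)]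
  have hFit : generalizedFittingSubgroup D = R := by
    have hR2 : IsPGroup 2 R := IsPGroup.of_card hRcard
    have hcore : pCore 2 D = R := by
      refine le_antisymm ?_ (le_sSup ⟨hRn, hR2⟩)
      refine sSup_le fun N hN => ?_
      haveI := hN.1
      haveI : (N.map (e'.toMonoidHom.comp (QuotientGroup.mk' R))).Normal :=
        Subgroup.Normal.map inferInstance _ (e'.surjective.comp (QuotientGroup.mk'_surjective R))
      have := sl3_two_no_normal (hN.2.map (e'.toMonoidHom.comp (QuotientGroup.mk' R)))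
      intro a ha
      rw [Subgroup.map_eq_bot_iff] at this
      have h1 : e' (QuotientGroup.mk a) = 1 := MonoidHom.mem_ker.1 (this ha)
      exact (QuotientGroup.eq_one_iff a).1 (e'.map_eq_one_iff.1 h1)
    rw [← hcore]
    exact (CfsgLib.Comp.generalizedFitting_eq_pCore_iff 2 D).2 (by rw [hcore]; exact hcR)
  -- conjugates of `z`
  have hconjzb : ∀ a ha, IsConj zb ((ρ (mk a ha) : D) : ↥CB ⧸ T) ↔ IsConj z (qv a) := by
    intro a ha
    constructor
    · intro h
      obtain ⟨c, hc⟩ := isConj_iff.1 h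
      obtain ⟨c, rfl⟩ := QuotientGroup.mk_surjective c
      rw [← QuotientGroup.mk_inv, ← QuotientGroup.mk_mul, ← QuotientGroup.mk_mul] at hc
      obtain ⟨i, hi⟩ := Subgroup.mem_zpowers_iff.1 (Subgroup.mem_subgroupOf.1 (QuotientGroup.eq.1 hc.symm))
      have hi' : (b : G) ^ i = (qv a)⁻¹ * ((c : G) * z * (c : G)⁻¹) := hi
      have hsq : qv a * qv a = 1 := by
        have h1 : ρ (mk a ha) * ρ (mk a ha) = 1 := Subtype.ext (by
          show (QuotientGroup.mk (j (mk a ha)) : ↥CB ⧸ T) * QuotientGroup.mk (j (mk a ha)) = 1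
          have hc' : (QuotientGroup.mk (j (mk a ha)) : ↥CB ⧸ T) = QuotientGroup.mk (c * zt * c⁻¹) := hc.symm
          rw [hc', ← QuotientGroup.mk_mul, show c * zt * c⁻¹ * (c * zt * c⁻¹) = 1 from Subtype.ext (by
            show (c : G) * z * (c : G)⁻¹ * ((c : G) * z * (c : G)⁻¹) = 1
            calc _ = (c : G) * (z * z) * (c : G)⁻¹ := by group
              _ = 1 := by rw [hzz]; group)]
          rfl)
        exact congrArg qv (hρinj (a * a) 1 (hcomb ha ha) (by show _ * (1 : G) = 1 * _; rw [mul_one, one_mul]) (by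
          rw [show mk (a * a) (hcomb ha ha) = mk a ha * mk a ha from rfl, map_mul, h1]
          exact (map_one ρ).symm))
      have h1 : qv a * (b : G) ^ i = (c : G) * z * (c : G)⁻¹ := by rw [hi']; group
      have h2 := hinv2 (qv a) i hsq ha (by
        rw [h1]
        calc _ = (c : G) * (z * z) * (c : G)⁻¹ := by group
          _ = 1 := by rw [hzz]; group)
      rw [h2, mul_one] at h1
      exact isConj_iff.2 ⟨c, h1.symm⟩
    · intro h
      by_cases h1 : qv a = z
      · refine isConj_iff.2 ⟨1, ?_⟩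
        rw [one_mul, inv_one, mul_one]
        exact congrArg (QuotientGroup.mk' T) (Subtype.ext h1.symm)
      · obtain ⟨c, hc1, hc2⟩ := held_fusion hs hψ hb7 hbA ha h h1
        refine isConj_iff.2 ⟨QuotientGroup.mk (⟨c, (hCB c).2 hc1.symm⟩ : CB), ?_⟩
        rw [← QuotientGroup.mk_inv, ← QuotientGroup.mk_mul, ← QuotientGroup.mk_mul]
        exact congrArg (QuotientGroup.mk' T) (Subtype.ext hc2)
  have hP01 : P ((0 : Fin 6 → ZMod 2), (1 : Fin 2)) = cz := by
    show (if (0 : Fin 6 → ZMod 2) = 0 then (1 : Q) else pick0 0) * cz ^ 1 = cz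
    rw [if_pos rfl, one_mul, pow_one]
  let S : Set ((Fin 6 → ZMod 2) × Fin 2) := {p | p = (0, 1) ∨ hEight p.1}
  have hconjP : ∀ p, IsConj z (qv (P p)) ↔ p ∈ S := by
    intro p
    constructor
    · intro h
      by_cases h1 : qv (P p) = z
      · exact Or.inl (hPinj ((qv_injective (h1.trans hczv.symm)).trans hP01.symm))
      · obtain ⟨w, hw, hwψ⟩ := (mon_conj_iff hs hψ (P p)).1 ⟨h, h1⟩
        exact Or.inr ((hv_norm8 _).1 ⟨w, hw, (psi_cls hψ).1 (hwψ.trans (hPψ p).symm)⟩)
    · rintro (h | h)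
      · rw [h, hP01, hczv]
      · obtain ⟨w, hw, hwc⟩ := (hv_norm8 _).2 h
        exact ((mon_conj_iff hs hψ (P p)).2 ⟨w, hw, ((psi_cls hψ).2 hwc).trans (hPψ p)⟩).1
  refine ⟨zb, R, hRn, ⟨?_, hFit, hRE, hRcard, ?_⟩, ⟨e'⟩, ?_⟩
  · rw [← hzr]
    exact (Subgroup.orderOf_coe (zr : D)).trans ((Subgroup.orderOf_coe zr).trans (orderOf_eq_prime hzr2 hzr1))
  · obtain ⟨c, hc⟩ := isConj_iff.1 ((hconjzb (P (he0, 0)) (hPb _)).2 ((hconjP _).2 (Or.inr (by decide))))
    refine ⟨c, ⟨hc ▸ (ρ (mk (P (he0, 0)) (hPb _))).2, ?_⟩, ?_⟩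
    · rw [show (⟨_, _⟩ : D) = ρ (mk (P (he0, 0)) (hPb _)) from Subtype.ext hc]
      exact hmkR (P (he0, 0)) (hPb _)
    · intro h
      have h' : ρ (mk (P (he0, 0)) (hPb _)) = (zr : D) := Subtype.ext (hc.symm.trans (h.trans hzr.symm))
      have := hPinj ((hρinj (P (he0, 0)) cz (hPb _) hczb h').trans hP01.symm)
      exact held_he0_ne (congrArg Prod.fst this)
  · have hset : {x : D | x ∈ R ∧ IsConj zb (x : ↥CB ⧸ T)} = (fun p => ρ (mk (P p) (hPb p))) '' S := by
      ext x
      constructor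
      · rintro ⟨hx, hxc⟩
        obtain ⟨a, ha, he⟩ := hrep ⟨x, hx⟩
        have he' : x = ρ (mk a ha) := he
        obtain ⟨p, rfl⟩ := hPsurj a ha
        rw [he'] at hxc
        exact ⟨p, (hconjP p).1 ((hconjzb _ ha).1 hxc), he'.symm⟩
      · rintro ⟨p, hp, rfl⟩
        exact ⟨hmkR (P p) (hPb p), (hconjzb (P p) (hPb p)).2 ((hconjP p).2 hp)⟩
    rw [hset, Set.ncard_image_of_injective _
      (fun p q h => hPinj (hρinj (P p) (P q) (hPb p) (hPb q) h))]
    rw [show S = ↑(Finset.univ.filter fun p : (Fin 6 → ZMod 2) × Fin 2 => p = (0, 1) ∨ hEight p.1) by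
      ext p; simp [S], Set.ncard_coe_finset]
    convert held_count

end CfsgLib.Trans3
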