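import Cfsg.Agent.Lib.Trans3.LocalGroup
import Cfsg.Agent.Lib.Trans3.MonsterBabyBase
import Cfsg.Agent.Lib.Trans3.MonsterInter
import Cfsg.Agent.Lib.Comp.Local
import Cfsg.Agent.Lib.Coprime.SymplecticType

/-!
# Groups of Monster type: the centralizer of an element of odd prime order with a certificate
-/

set_option autoImplicit false
set_option maxRecDepth 100000
set_option synthInstance.maxSize 2000

namespace CfsgLib.Trans3

open Cfsg CfsgLib.Golay
open scoped commutatorElement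

/-- Elements of odd prime order with the same image modulo a 2-group are conjugate. -/
theorem coprime_lift {L M : Type*} [Group L] [Finite L] [Group M] {p : ℕ} (hp : p.Prime)
    (hodd : p % 2 = 1) (f : L →* M) {n : ℕ} (hker : Nat.card f.ker = 2 ^ n) {x y : L}
    (hx : orderOf x = p) (hy : orderOf y = p) (hxy : f x = f y) :
    ∃ t : L, t * x * t⁻¹ = y ∧ ∃ j : ℤ, f t = f y ^ j := by
  haveI := Fact.mk hp
  have hyk : f y ≠ 1 := fun h1 => by
    have h2 : orderOf (⟨y, h1⟩ : f.ker) ∣ 2 ^ n := hker ▸ orderOf_dvd_natCard _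
    rw [← Subgroup.orderOf_coe, hy] at h2
    have := (Nat.prime_dvd_prime_iff_eq hp Nat.prime_two).1 (hp.dvd_of_dvd_pow h2)
    omega
  have hfo : orderOf (f y) = p := orderOf_eq_prime
    (by rw [← map_pow, ← hy, pow_orderOf_eq_one, map_one]) hyk
  set T := (Subgroup.zpowers (f y)).comap f
  have hyT : y ∈ T := Subgroup.mem_zpowers _
  have hxT : x ∈ T := by show f x ∈ Subgroup.zpowers (f y); rw [hxy]; exact Subgroup.mem_zpowers _
  have hT : Nat.card T = 2 ^ n * p := by
    have h := (f.comp T.subtype).ker.card_mul_index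
    rw [Subgroup.index_ker] at h
    have e1 : Nat.card (f.comp T.subtype).range = p := by
      have : (f.comp T.subtype).range = Subgroup.zpowers (f y) := by
        refine le_antisymm ?_ (Subgroup.zpowers_le.2 ⟨⟨y, hyT⟩, rfl⟩)
        rintro _ ⟨a, rfl⟩
        exact a.2
      rw [this, Nat.card_zpowers, hfo]
    have e2 : Nat.card (f.comp T.subtype).ker = Nat.card f.ker := by
      refine Nat.card_congr ⟨fun a => ⟨((a : T) : L), MonoidHom.mem_ker.1 a.2⟩,
        fun a => ⟨⟨a, ?_⟩, a.2⟩, fun _ => rfl, fun _ => rfl⟩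
      show f (a : L) ∈ Subgroup.zpowers (f y)
      rw [MonoidHom.mem_ker.1 a.2]; exact Subgroup.one_mem _
    rw [← h, e1, e2, hker]
  have hfac : (Nat.card T).factorization p = 1 := by
    rw [hT, Nat.factorization_mul (pow_ne_zero _ (by norm_num)) hp.pos.ne', Finsupp.add_apply,
      Nat.factorization_eq_zero_of_not_dvd (fun hd => by
        have := (Nat.prime_dvd_prime_iff_eq hp Nat.prime_two).1 (hp.dvd_of_dvd_pow hd)
        omega), zero_add, hp.factorization_self]
  let P₁ : Sylow p T := Sylow.ofCard (Subgroup.zpowers ⟨x, hxT⟩)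
    (by rw [Nat.card_zpowers, ← Subgroup.orderOf_coe, hx, hfac, pow_one])
  let P₂ : Sylow p T := Sylow.ofCard (Subgroup.zpowers ⟨y, hyT⟩)
    (by rw [Nat.card_zpowers, ← Subgroup.orderOf_coe, hy, hfac, pow_one])
  obtain ⟨t, ht⟩ := MulAction.exists_smul_eq T P₁ P₂
  have hmem : t * ⟨x, hxT⟩ * t⁻¹ ∈ Subgroup.zpowers (⟨y, hyT⟩ : T) := by
    have h1 : MulAut.conj t (⟨x, hxT⟩ : T) ∈ ((t • P₁ : Sylow p T) : Subgroup T) :=
      Subgroup.mem_map_of_mem _ (Subgroup.mem_zpowers _)
    rw [ht] at h1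
    exact h1
  obtain ⟨l, hl⟩ := Subgroup.mem_zpowers_iff.1 hmem
  have hl' : y ^ l = (t : L) * x * (t : L)⁻¹ := by simpa using congrArg Subtype.val hl
  obtain ⟨i, hi⟩ := Subgroup.mem_zpowers_iff.1 (Subgroup.mem_comap.1 t.2)
  refine ⟨(t : L), ?_, i, hi.symm⟩
  have h1 : f y ^ l = f y ^ (1 : ℤ) := by
    rw [← map_zpow, hl', map_mul, map_mul, map_inv, hxy, ← hi, zpow_one]
    rw [((Commute.refl (f y)).zpow_left i).eq, mul_inv_cancel_right]
  rw [← hl']
  conv_rhs => rw [← zpow_one y]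
  rw [zpow_eq_zpow_iff_modEq, hy]
  rw [zpow_eq_zpow_iff_modEq, hfo] at h1
  simpa using h1

variable {G : Type*} [Group G] [Finite G] {z : G} {Q : Subgroup (Subgroup.centralizer ({z} : Set G))}
  [Q.Normal] {e : ↥(Subgroup.centralizer ({z} : Set G)) ⧸ Q ≃* Spor.Co1}
  {ψ : leechLattice → Q ⧸ Subgroup.center Q} {D : LocalData}

omit [Finite G] in
theorem negCo0_mk_one : (QuotientGroup.mk negCo0 : Spor.Co1) = 1 :=
  (QuotientGroup.eq_one_iff negCo0).2 negCo0_central

theorem negCo0_pow_odd {n : ℕ} (hn : n % 2 = 1) : negCo0 ^ n = negCo0 := by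
  obtain ⟨r, hr⟩ : ∃ r, n = 2 * r + 1 := ⟨n / 2, by omega⟩
  rw [hr, pow_succ, pow_mul, pow_two, negCo0_sq, one_pow, one_mul]

theorem orderOf_mk_local (h : D.LatticeOK) : orderOf (QuotientGroup.mk (D.A h) : Spor.Co1) = D.p := by
  haveI : Fact D.p.Prime := ⟨h.prime⟩
  refine orderOf_eq_prime (by rw [← QuotientGroup.mk_pow, LocalData.A_pow h]; rfl) fun h1 => ?_
  rcases center_Co0 ((QuotientGroup.eq_one_iff (D.A h)).1 h1) with h2 | h2
  · exact LocalData.A_ne_one h h2
  · have h7 := LocalData.A_pow h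
    rw [h2, negCo0_pow_odd h.odd] at h7
    exact negCo0_ne_one h7

omit [Finite G] [Q.Normal] in
/-- An element of odd order fixing the coset `{x, x z}` fixes `x`. -/
theorem conj_fix_of_coset_odd {p : ℕ} (hodd : p % 2 = 1) {b : (Subgroup.centralizer ({z} : Set G))} (hbp : b ^ p = 1) {x : G}
    (hz : z * z = 1) (hz1 : z ≠ 1)
    (h : (b : G) * x * (b : G)⁻¹ = x ∨ (b : G) * x * (b : G)⁻¹ = x * z) :
    (b : G) * x = x * (b : G) := by
  rcases h with h | h
  · exact mul_inv_eq_iff_eq_mul.1 h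
  · exfalso
    have step : ∀ k : ℕ, (b : G) ^ k * x * ((b : G) ^ k)⁻¹ = x * z ^ k := by
      intro k
      induction k with
      | zero => simp
      | succ k ih =>
        calc (b : G) ^ (k + 1) * x * ((b : G) ^ (k + 1))⁻¹
            = (b : G) * ((b : G) ^ k * x * ((b : G) ^ k)⁻¹) * (b : G)⁻¹ := by rw [pow_succ']; group
          _ = ((b : G) * x * (b : G)⁻¹) * ((b : G) * z ^ k * (b : G)⁻¹) := by rw [ih]; group
          _ = x * z * z ^ k := by
            rw [h, ((show Commute (b : G) z from comm_z b).pow_right k).eq, mul_inv_cancel_right]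
          _ = x * z ^ (k + 1) := by rw [pow_succ', mul_assoc]
    have := step p
    rw [show (b : G) ^ p = 1 from congrArg Subtype.val hbp, inv_one, one_mul, mul_one,
      show z ^ p = z by
        obtain ⟨r, hr⟩ : ∃ r, p = 2 * r + 1 := ⟨p / 2, by omega⟩
        rw [hr, pow_succ, pow_mul, pow_two, hz, one_pow, one_mul]] at this
    exact hz1 (mul_eq_left.1 this.symm)

variable {b : (Subgroup.centralizer ({z} : Set G))}

omit [Finite G] in
/-- The classes of the elements of `Q` commuting with `b`. -/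
theorem local_class_iff (hs : IsExtraspecialCentralizerSetting z Q 12) (hψ : IsLeechModTwoIso Q e ψ)
    (h : D.LatticeOK) (hbp : b ^ D.p = 1) (hbA : e (QuotientGroup.mk b) = QuotientGroup.mk (D.A h)) (y : Q)
    (hcen : ∀ w : Q, w ∈ Subgroup.center Q → qv w = 1 ∨ qv w = z) :
    (b : G) * qv y = qv y * (b : G) ↔ ∃ s, ψ (D.hv h s) = QuotientGroup.mk y := by
  obtain ⟨hz, -, -, -, -⟩ := hs
  have hzz : z * z = 1 := by rw [← pow_two, ← hz]; exact pow_orderOf_eq_one z
  have hz1 : z ≠ 1 := fun h => by rw [h, orderOf_one] at hz; omega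
  set y' : Q := ⟨b * y * b⁻¹, (inferInstance : Q.Normal).conj_mem _ y.2 b⟩ with hy'
  have hact : ∀ v, ψ v = QuotientGroup.mk y → ψ (D.A h • v) = QuotientGroup.mk y' := fun v hv' =>
    hψ.2.2.2 b (D.A h) hbA.symm v y hv'
  constructor
  · intro hc
    obtain ⟨v, hv'⟩ := hψ.2.1 (QuotientGroup.mk y)
    have hyy : y' = y := qv_injective (show (b : G) * qv y * (b : G)⁻¹ = qv y by rw [hc, mul_inv_cancel_right])
    have := hact v hv'
    rw [hyy, ← hv', psi_cls hψ] at this
    obtain ⟨s, hs'⟩ := (LocalData.cls_fixed h v).1 this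
    exact ⟨s, ((psi_cls hψ).2 hs').symm.trans hv'⟩
  · rintro ⟨s, hs'⟩
    have := hact _ hs'
    rw [show D.A h • D.hv h s = D.hv h s from LocalData.A_fix h _, hs'] at this
    have hm : y⁻¹ * y' ∈ Subgroup.center Q := QuotientGroup.eq.1 this
    refine conj_fix_of_coset_odd h.odd hbp hzz hz1 ?_
    rcases hcen _ hm with h' | h'
    · exact Or.inl (inv_mul_eq_one.1 h').symm
    · exact Or.inr (inv_mul_eq_iff_eq_mul.1 h')

/-- An element of `Co0` commuting with the element is induced by the centraliser of `b`. -/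
theorem local_lift (hs : IsExtraspecialCentralizerSetting z Q 12) (h : D.LatticeOK)
    (hbp : b ^ D.p = 1) (hbA : e (QuotientGroup.mk b) = QuotientGroup.mk (D.A h)) {g : Co0}
    (hg : g * D.A h = D.A h * g) :
    ∃ n : (Subgroup.centralizer ({z} : Set G)), e (QuotientGroup.mk n) = QuotientGroup.mk g ∧
      n * b = b * n := by
  haveI : Fact D.p.Prime := ⟨h.prime⟩
  obtain ⟨n₀, hn₀⟩ := QuotientGroup.mk_surjective (e.symm (QuotientGroup.mk g))
  have hn : e (QuotientGroup.mk n₀) = QuotientGroup.mk g := by rw [hn₀, MulEquiv.apply_symm_apply]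
  have hbq : orderOf (QuotientGroup.mk b : ↥(Subgroup.centralizer ({z} : Set G)) ⧸ Q) = D.p := by
    rw [← MulEquiv.orderOf_eq e, hbA]; exact orderOf_mk_local h
  have hbo : orderOf b = D.p := orderOf_eq_prime hbp fun h1 => by
    rw [h1, QuotientGroup.mk_one, orderOf_one] at hbq; exact h.prime.ne_one hbq.symm
  obtain ⟨q, hq, j, hj⟩ := coprime_lift h.prime h.odd (QuotientGroup.mk' Q) (n := 25)
    (by rw [QuotientGroup.ker_mk']; exact hs.2.2.2.1)
    (x := n₀ * b * n₀⁻¹) (y := b)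
    (by rw [← hbo]; exact MulEquiv.orderOf_eq (MulAut.conj n₀) b) hbo (by
      refine e.injective ?_
      show e (QuotientGroup.mk (n₀ * b * n₀⁻¹)) = e (QuotientGroup.mk b)
      rw [QuotientGroup.mk_mul, QuotientGroup.mk_mul, QuotientGroup.mk_inv, map_mul, map_mul, map_inv,
        hn, hbA, ← QuotientGroup.mk_inv, ← QuotientGroup.mk_mul, ← QuotientGroup.mk_mul, hg,
        mul_inv_cancel_right])
  refine ⟨b ^ (-j) * (q * n₀), ?_, ?_⟩
  · rw [QuotientGroup.mk_mul, QuotientGroup.mk_mul, QuotientGroup.mk_zpow,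
      show (QuotientGroup.mk q : ↥(Subgroup.centralizer ({z} : Set G)) ⧸ Q) = QuotientGroup.mk b ^ j from hj,
      ← mul_assoc, ← zpow_add, neg_add_cancel, zpow_zero, one_mul, hn]
  · refine mul_inv_eq_iff_eq_mul.1 ?_
    calc b ^ (-j) * (q * n₀) * b * (b ^ (-j) * (q * n₀))⁻¹
        = b ^ (-j) * (q * (n₀ * b * n₀⁻¹) * q⁻¹) * (b ^ (-j))⁻¹ := by group
      _ = b ^ (-j) * b * (b ^ (-j))⁻¹ := by rw [hq]
      _ = b := by rw [((Commute.refl b).zpow_left (-j)).eq, mul_inv_cancel_right]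


/-- A conjugate of `z` is fused to `z` inside the centralizer of `b`. -/
theorem local_fusion (hs : IsExtraspecialCentralizerSetting z Q 12) (hψ : IsLeechModTwoIso Q e ψ)
    {x : Q} (hxv : ψ (vec8 pinf) = QuotientGroup.mk x) (hx : IsConj z (qv x)) (hx1 : qv x ≠ z)
    {β : G} (hfus : ∀ γ u : G, γ ∈ Subgroup.centralizer ({z, qv x} : Set G) →
      (∀ a ∈ Subgroup.centralizer ({z, qv x} : Set G), u * a * u⁻¹ ∈ Subgroup.centralizer ({z, qv x} : Set G)) →
      u * β * u⁻¹ = γ →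
      ∃ l ∈ Subgroup.centralizer ({z, qv x} : Set G), l * γ * l⁻¹ = β)
    (hbz : β * z = z * β) (hbx : β * qv x = qv x * β) :
    ∃ c : G, c * β = β * c ∧ c * z * c⁻¹ = qv x := by
  have hv8 : leechR.q (vec8 pinf) = 8 := vec8_q pinf
  obtain ⟨g, hg⟩ := isConj_iff.1 hx
  obtain ⟨-, -, y, hy, hyc⟩ := mon_reciprocal hs hψ hg hx1
  have hyz : qv y ≠ z := fun h => hyc ((mon_center_iff hs y).2 (Or.inr h))
  obtain ⟨w, hw8, hw⟩ := (mon_conj_iff hs hψ y).1 ⟨isConj_iff.2 ⟨g⁻¹, by rw [hy, inv_inv]⟩, hyz⟩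
  obtain ⟨h, hh⟩ := mon_conj hs hψ hw hxv (fun e0 => by rw [e0, Rootless.q_zero] at hw8; omega) hw8.le
    (hv8.trans hw8.symm)
  set L := Subgroup.centralizer ({z, qv x} : Set G)
  set u : G := (h : G) * g⁻¹
  have hmem : ∀ a : G, a ∈ L ↔ z * a = a * z ∧ qv x * a = a * qv x := fun a => by
    constructor
    · exact fun ha => ⟨Subgroup.mem_centralizer_iff.1 ha z (by simp),
        Subgroup.mem_centralizer_iff.1 ha (qv x) (by simp)⟩
    · rintro ⟨h1, h2⟩
      refine Subgroup.mem_centralizer_iff.2 fun a' ha' => ?_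
      rcases (show a' = z ∨ a' = qv x by simpa using ha') with h' | h' <;> rw [h']
      · exact h1
      · exact h2
  have huz : u * qv x * u⁻¹ = z := by
    rw [← hg, show u * (g * z * g⁻¹) * u⁻¹ = (h : G) * z * (h : G)⁻¹ by simp only [u]; group,
      comm_z h, mul_inv_cancel_right]
  have hux : u * z * u⁻¹ = qv x := by
    rw [show u * z * u⁻¹ = (h : G) * (g⁻¹ * z * g) * (h : G)⁻¹ by simp only [u]; group, ← hy, hh]
  have huL : ∀ a ∈ L, u * a * u⁻¹ ∈ L := fun a ha => by
    obtain ⟨h1, h2⟩ := (hmem a).1 ha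
    refine (hmem _).2 ⟨?_, ?_⟩
    · conv_lhs => rw [← huz]
      conv_rhs => rw [← huz]
      calc u * qv x * u⁻¹ * (u * a * u⁻¹) = u * (qv x * a) * u⁻¹ := by group
        _ = u * a * u⁻¹ * (u * qv x * u⁻¹) := by rw [h2]; group
    · conv_lhs => rw [← hux]
      conv_rhs => rw [← hux]
      calc u * z * u⁻¹ * (u * a * u⁻¹) = u * (z * a) * u⁻¹ := by group
        _ = u * a * u⁻¹ * (u * z * u⁻¹) := by rw [h1]; group
  obtain ⟨l, hlL, hl⟩ := hfus _ u (huL β ((hmem β).2 ⟨hbz.symm, hbx.symm⟩)) huL rfl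
  obtain ⟨hlz, -⟩ := (hmem l).1 hlL
  refine ⟨(l * u)⁻¹, ?_, ?_⟩
  · have h1 : l * u * β = β * (l * u) := mul_inv_eq_iff_eq_mul.1 (by
      rw [show l * u * β * (l * u)⁻¹ = l * (u * β * u⁻¹) * l⁻¹ by group, hl])
    exact ((show Commute (l * u) β from h1).inv_left).eq
  · rw [inv_inv]
    calc (l * u)⁻¹ * z * (l * u) = u⁻¹ * (l⁻¹ * (z * l)) * u := by group
      _ = u⁻¹ * z * u := by rw [hlz]; group
      _ = u⁻¹ * (u * qv x * u⁻¹) * u := by rw [huz]
      _ = qv x := by group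

/-- The centralizer of `b` modulo `b`, from a certificate: the setting of width 4 with quotient `X`. -/
theorem mon_local (hs : IsExtraspecialCentralizerSetting z Q 12) (hψ : IsLeechModTwoIso Q e ψ)
    (h : D.LatticeOK) {X : Type*} [Group X] (φ : D.cent h →* X) (hφsurj : Function.Surjective φ)
    (hφker : ∀ g : D.cent h, φ g = 1 → ∃ i < D.p, (g : Co0) = D.A h ^ i ∨ (g : Co0) = negCo0 * D.A h ^ i)
    (hφact : ∀ g : D.cent h, φ g ≠ 1 →
      ∃ s, leechR.cls ((g : Co0) • D.hv h s) ≠ leechR.cls (D.hv h s))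
    (hφneg : ∀ g : D.cent h, ((g : Co0) = negCo0 ∨ (g : Co0) = D.A h) → φ g = 1)
    (hX : ∀ N : Subgroup X, N.Normal → IsPGroup 2 N → N = ⊥)
    (hbp : b ^ D.p = 1) (hbA : e (QuotientGroup.mk b) = QuotientGroup.mk (D.A h))
    {x : Q} (hxv : ψ (vec8 pinf) = QuotientGroup.mk x) (hxb : (b : G) * qv x = qv x * (b : G))
    (hfus : ∀ γ u : G, γ ∈ Subgroup.centralizer ({z, qv x} : Set G) →
      (∀ a ∈ Subgroup.centralizer ({z, qv x} : Set G), u * a * u⁻¹ ∈ Subgroup.centralizer ({z, qv x} : Set G)) →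
      u * (b : G) * u⁻¹ = γ →
      ∃ l ∈ Subgroup.centralizer ({z, qv x} : Set G), l * γ * l⁻¹ = (b : G))
    [hn : ((Subgroup.zpowers (b : G)).subgroupOf
      (Subgroup.centralizer (Subgroup.zpowers (b : G) : Set G))).Normal] :
    ∃ (zb : ↥(Subgroup.centralizer (Subgroup.zpowers (b : G) : Set G)) ⧸
      (Subgroup.zpowers (b : G)).subgroupOf (Subgroup.centralizer (Subgroup.zpowers (b : G) : Set G)))
      (R : Subgroup (Subgroup.centralizer ({zb} : Set _))) (_ : R.Normal),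
      IsExtraspecialCentralizerSetting zb R 4 ∧
        Nonempty ((Subgroup.centralizer ({zb} : Set _)) ⧸ R ≃* X) := by
  classical
  haveI : Fact D.p.Prime := ⟨h.prime⟩
  haveI : Fact (Nat.Prime 2) := ⟨Nat.prime_two⟩
  set CB := Subgroup.centralizer (Subgroup.zpowers (b : G) : Set G) with hCBdef
  have hCB : ∀ a : G, a ∈ CB ↔ (b : G) * a = a * (b : G) := fun a => by
    rw [hCBdef, Subgroup.mem_centralizer_iff]
    refine ⟨fun h => h _ (Subgroup.mem_zpowers _), fun h c hc => ?_⟩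
    obtain ⟨i, rfl⟩ := Subgroup.mem_zpowers_iff.1 hc
    exact (show Commute (b : G) a from h).zpow_left i
  obtain ⟨⟨cz, hcz, hczv⟩, hcen⟩ := mon_center hs
  have hE := hs.2.2.1
  have hz1 : z ≠ 1 := fun h => by have := hs.1; rw [h, orderOf_one] at this; omega
  have hz2 : z ^ 2 = 1 := hs.1 ▸ pow_orderOf_eq_one z
  have hbq : orderOf (QuotientGroup.mk b : ↥(Subgroup.centralizer ({z} : Set G)) ⧸ Q) = D.p := by
    rw [← MulEquiv.orderOf_eq e, hbA]; exact orderOf_mk_local h
  have hbo : orderOf b = D.p := orderOf_eq_prime hbp fun h' => by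
    rw [h', QuotientGroup.mk_one, orderOf_one] at hbq; exact h.prime.ne_one hbq.symm
  -- `Q` meets `⟨b⟩` trivially
  have hQb : ∀ a : Q, qv a ∈ Subgroup.zpowers (b : G) → a = 1 := by
    intro a ha
    obtain ⟨i, hi⟩ := Subgroup.mem_zpowers_iff.1 ha
    have h1 : (b ^ i : (Subgroup.centralizer ({z} : Set G))) = (a : (Subgroup.centralizer ({z} : Set G))) := Subtype.ext (by simpa using hi)
    have h2 : (QuotientGroup.mk b : ↥(Subgroup.centralizer ({z} : Set G)) ⧸ Q) ^ i = 1 := by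
      rw [← QuotientGroup.mk_zpow, h1]; exact (QuotientGroup.eq_one_iff _).2 a.2
    have h3 : ((orderOf b : ℕ) : ℤ) ∣ i := by
      rw [hbo, ← hbq]; exact orderOf_dvd_iff_zpow_eq_one.2 h2
    refine Subtype.ext ?_
    rw [← h1, orderOf_dvd_iff_zpow_eq_one.1 h3]
    rfl
  -- the centralizer of `b` in `(Subgroup.centralizer ({z} : Set G))`
  set KC := Subgroup.centralizer ({b} : Set (Subgroup.centralizer ({z} : Set G))) with hKC
  have hKCG : ∀ y : (Subgroup.centralizer ({z} : Set G)), y ∈ KC → (b : G) * (y : G) = (y : G) * (b : G) := fun y hy =>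
    (congrArg Subtype.val (Subgroup.mem_centralizer_singleton_iff.1 hy)).symm
  -- the action on the seven classes
  have hlift : ∀ y : KC, ∃ g : D.cent h, (QuotientGroup.mk (g : Co0) : Spor.Co1) = e (QuotientGroup.mk (y : (Subgroup.centralizer ({z} : Set G)))) := by
    intro y
    obtain ⟨g, hg⟩ := QuotientGroup.mk_surjective (e (QuotientGroup.mk (y : (Subgroup.centralizer ({z} : Set G)))))
    refine ⟨⟨g, (LocalData.mem_cent h).2 ?_⟩, hg⟩
    have h1 : (QuotientGroup.mk (g * (D.A h) * g⁻¹) : Spor.Co1) = QuotientGroup.mk (D.A h) := by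
      rw [QuotientGroup.mk_mul, QuotientGroup.mk_mul, QuotientGroup.mk_inv, hg, ← hbA, ← map_inv,
        ← map_mul, ← map_mul, ← QuotientGroup.mk_inv, ← QuotientGroup.mk_mul, ← QuotientGroup.mk_mul,
        Subgroup.mem_centralizer_singleton_iff.1 y.2, mul_inv_cancel_right]
    have h2 : (D.A h)⁻¹ * (g * (D.A h) * g⁻¹) ∈ Subgroup.center Co0 := QuotientGroup.eq.1 h1.symm
    rcases center_Co0 h2 with h3 | h3
    · exact mul_inv_eq_iff_eq_mul.1 (inv_mul_eq_one.1 h3).symm
    · exfalso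
      have h4 : g * (D.A h) * g⁻¹ = (D.A h) * negCo0 := inv_mul_eq_iff_eq_mul.1 h3
      have h5 := congrArg (· ^ D.p) h4
      simp only [conj_pow, LocalData.A_pow h, mul_one, mul_inv_cancel] at h5
      rw [(show Commute (D.A h) negCo0 from Subgroup.mem_center_iff.1 negCo0_central (D.A h)).mul_pow,
        LocalData.A_pow h, one_mul, negCo0_pow_odd h.odd] at h5
      exact negCo0_ne_one h5.symm
  choose lg hlg using hlift
  have hwell : ∀ (y : KC) (g : D.cent h),
      (QuotientGroup.mk (g : Co0) : Spor.Co1) = e (QuotientGroup.mk (y : (Subgroup.centralizer ({z} : Set G)))) → φ g = φ (lg y) := by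
    intro y g hg
    have h1 : ((lg y : Co0))⁻¹ * (g : Co0) ∈ Subgroup.center Co0 :=
      QuotientGroup.eq.1 ((hlg y).trans hg.symm)
    rcases center_Co0 h1 with h2 | h2
    · rw [show lg y = g from Subtype.ext (inv_mul_eq_one.1 h2)]
    · have hN : negCo0 ∈ (D.cent h) := (LocalData.mem_cent h).2 (Subgroup.mem_center_iff.1 negCo0_central (D.A h)).symm
      rw [show g = lg y * ⟨negCo0, hN⟩ from Subtype.ext (inv_mul_eq_iff_eq_mul.1 h2), map_mul,
        hφneg ⟨negCo0, hN⟩ (Or.inl rfl), mul_one]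
  let χ : KC →* X := MonoidHom.mk' (fun y => φ (lg y))
    fun y w => by
      rw [← map_mul]
      refine (hwell (y * w) (lg y * lg w) ?_).symm
      show (QuotientGroup.mk ((lg y : Co0) * (lg w : Co0)) : Spor.Co1) = _
      rw [QuotientGroup.mk_mul, hlg, hlg, ← map_mul, ← QuotientGroup.mk_mul]
      rfl
  have hχsurj : Function.Surjective χ := by
    intro M
    obtain ⟨g, rfl⟩ := hφsurj M
    obtain ⟨n, hn1, hn2⟩ := local_lift hs h hbp hbA ((LocalData.mem_cent h).1 g.2)
    refine ⟨⟨n, Subgroup.mem_centralizer_singleton_iff.2 hn2⟩, ?_⟩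
    exact (hwell _ g hn1.symm).symm
  have hχker : ∀ y : KC, χ y = 1 ↔ ∃ i : ℤ, (b ^ i)⁻¹ * (y : (Subgroup.centralizer ({z} : Set G))) ∈ Q := by
    intro y
    constructor
    · intro hy
      obtain ⟨i, -, hi⟩ := hφker (lg y) hy
      refine ⟨(i : ℤ), QuotientGroup.eq.1 (e.injective ?_)⟩
      rw [zpow_natCast, QuotientGroup.mk_pow, map_pow, hbA, ← hlg y]
      rcases hi with hi | hi <;> rw [hi]
      · rw [QuotientGroup.mk_pow]
      · rw [QuotientGroup.mk_mul, negCo0_mk_one, one_mul, QuotientGroup.mk_pow]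
    · rintro ⟨i, hi⟩
      have hA : (D.A h) ∈ (D.cent h) := (LocalData.mem_cent h).2 rfl
      refine (hwell y (⟨(D.A h), hA⟩ ^ i) ?_).symm.trans ?_
      · show (QuotientGroup.mk ((D.A h) ^ i) : Spor.Co1) = _
        rw [QuotientGroup.mk_zpow, ← hbA, ← map_zpow, ← QuotientGroup.mk_zpow]
        exact congrArg e (QuotientGroup.eq.2 hi)
      · rw [map_zpow, hφneg ⟨(D.A h), hA⟩ (Or.inr rfl), one_zpow]
  -- the quotient
  set T := (Subgroup.zpowers (b : G)).subgroupOf CB with hT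
  have hzb' : z ∈ CB := (hCB z).2 (comm_z b)
  let zt : CB := ⟨z, hzb'⟩
  set zb : ↥CB ⧸ T := QuotientGroup.mk zt
  set D' := Subgroup.centralizer ({zb} : Set (↥CB ⧸ T))
  let j : KC →* CB := MonoidHom.mk' (fun h => ⟨((h : (Subgroup.centralizer ({z} : Set G))) : G), (hCB _).2 (hKCG _ h.2)⟩) fun _ _ => rfl
  have hjD : ∀ h : KC, QuotientGroup.mk' T (j h) ∈ D' := fun h => by
    refine Subgroup.mem_centralizer_singleton_iff.2 ?_
    show QuotientGroup.mk (j h) * QuotientGroup.mk zt = QuotientGroup.mk zt * QuotientGroup.mk (j h)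
    rw [← QuotientGroup.mk_mul, ← QuotientGroup.mk_mul]
    exact congrArg _ (Subtype.ext (comm_z (h : (Subgroup.centralizer ({z} : Set G)))))
  let ρ : KC →* D' := ((QuotientGroup.mk' T).comp j).codRestrict D' hjD
  have hbpG : (b : G) ^ D.p = 1 := congrArg Subtype.val hbp
  -- an involution times a power of `b`
  have hodd := h.odd
  have hinv2 : ∀ (a : G) (i : ℤ), a * a = 1 → (b : G) * a = a * (b : G) →
      (a * (b : G) ^ i) * (a * (b : G) ^ i) = 1 → (b : G) ^ i = 1 := by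
    intro a i ha hc h
    have hc' : Commute a ((b : G) ^ i) := ((show Commute (b : G) a from hc).zpow_left i).symm
    rw [hc'.symm.mul_mul_mul_comm, ha, one_mul, ← pow_two] at h
    have h7 : ((b : G) ^ i) ^ D.p = 1 := by
      rw [← zpow_natCast, ← zpow_mul, mul_comm, zpow_mul, zpow_natCast, hbpG, one_zpow]
    obtain ⟨r, hr⟩ : ∃ r, D.p = 2 * r + 1 := ⟨D.p / 2, by have := hodd; omega⟩
    rw [hr, pow_succ, pow_mul, h, one_pow, one_mul] at h7
    exact h7
  have hzz : z * z = 1 := by rw [← pow_two, hz2]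
  have hρsurj : Function.Surjective ρ := by
    rintro ⟨a, ha⟩
    obtain ⟨a, rfl⟩ := QuotientGroup.mk_surjective a
    have h1 : QuotientGroup.mk (zt * a) = (QuotientGroup.mk (a * zt) : ↥CB ⧸ T) :=
      (Subgroup.mem_centralizer_singleton_iff.1 ha).symm
    obtain ⟨i, hi⟩ := Subgroup.mem_zpowers_iff.1 (Subgroup.mem_subgroupOf.1 (QuotientGroup.eq.1 h1))
    have hi' : (b : G) ^ i = (z * (a : G))⁻¹ * ((a : G) * z) := hi
    have h2 : (a : G)⁻¹ * z * (a : G) * (b : G) ^ i = z := by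
      rw [hi']; group
    have hba : (b : G) * ((a : G)⁻¹ * z * (a : G)) = (a : G)⁻¹ * z * (a : G) * (b : G) :=
      ((show Commute (b : G) (a : G) from (hCB _).1 a.2).inv_right.mul_right (comm_z b)).mul_right
        ((hCB _).1 a.2)
    have h3 := hinv2 _ i (by
      calc (a : G)⁻¹ * z * (a : G) * ((a : G)⁻¹ * z * (a : G)) = (a : G)⁻¹ * (z * z) * (a : G) := by group
        _ = 1 := by rw [hzz]; group) hba (by rw [h2, hzz])
    rw [h3, mul_one] at h2
    have haz : (a : G) * z = z * (a : G) := by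
      calc (a : G) * z = (a : G) * ((a : G)⁻¹ * z * (a : G)) := by rw [h2]
        _ = z * (a : G) := by group
    refine ⟨⟨⟨a, Subgroup.mem_centralizer_singleton_iff.2 haz⟩,
      Subgroup.mem_centralizer_singleton_iff.2 (Subtype.ext ((hCB _).1 a.2).symm)⟩, Subtype.ext rfl⟩
  have hρeq : ∀ {h h' : KC}, ρ h = ρ h' →
      ((h : (Subgroup.centralizer ({z} : Set G))) : G)⁻¹ * ((h' : (Subgroup.centralizer ({z} : Set G))) : G) ∈ Subgroup.zpowers (b : G) := fun {h h'} he =>
    Subgroup.mem_subgroupOf.1 (QuotientGroup.eq.1 (congrArg (fun w : D' => (w : _ ⧸ T)) he))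
  -- the elements of `C_Q(b)`
  let mk : ∀ a : Q, (b : G) * qv a = qv a * (b : G) → KC := fun a ha =>
    ⟨a, Subgroup.mem_centralizer_singleton_iff.2 (Subtype.ext ha.symm)⟩
  have hρinj : ∀ a a' ha ha', ρ (mk a ha) = ρ (mk a' ha') → a = a' := fun a a' ha ha' he => by
    have h1 : qv (a⁻¹ * a') ∈ Subgroup.zpowers (b : G) := hρeq he
    exact inv_mul_eq_one.1 (hQb _ h1)
  have hiff := fun a : Q => local_class_iff hs hψ h hbp hbA a hcen
  set HK := Q.subgroupOf KC
  set R := HK.map ρ with hRdef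
  haveI hRn : R.Normal := Subgroup.Normal.map inferInstance ρ hρsurj
  have hmkR : ∀ a ha, ρ (mk a ha) ∈ R := fun a ha => ⟨_, a.2, rfl⟩
  have hrep : ∀ r : R, ∃ (a : Q) (ha : _), (r : D') = ρ (mk a ha) := fun r => by
    obtain ⟨h, hh, he⟩ := r.2
    exact ⟨⟨h, hh⟩, hKCG _ h.2, he.symm⟩
  have hczb : (b : G) * qv cz = qv cz * (b : G) := by rw [hczv]; exact comm_z b
  let zr : R := ⟨ρ (mk cz hczb), hmkR cz hczb⟩
  have hzr : ((zr : D') : ↥CB ⧸ T) = zb := congrArg (QuotientGroup.mk' T) (Subtype.ext hczv)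
  have hcz1 : cz ≠ 1 := fun h => hz1 (by rw [← hczv, h]; rfl)
  have hcz2 : cz * cz = 1 := qv_injective (by show qv cz * qv cz = 1; rw [hczv, hzz])
  have hzr1 : zr ≠ 1 := fun h => hcz1 (hρinj cz 1 hczb (by show _ * (1 : G) = (1 : G) * _; rw [mul_one, one_mul]) (by
    have h' : ρ (mk cz hczb) = 1 := congrArg Subtype.val h
    rw [h']
    exact (map_one ρ).symm))
  -- the parametrisation of `C_Q(b)`
  choose pick0 hpick0 using fun s : Fin 256 => QuotientGroup.mk_surjective (ψ ((D.hv h) s))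
  let pick : (Fin 256) → Q := fun s => if s = 0 then 1 else pick0 s
  have hpick : ∀ s, QuotientGroup.mk (pick s) = ψ ((D.hv h) s) := fun s => by
    show QuotientGroup.mk (if s = 0 then (1 : Q) else pick0 s) = _
    split_ifs with h
    · subst h; rw [LocalData.hv_zero h, psi_zero hψ]; rfl
    · exact hpick0 s
  let P : (Fin 256) × Fin 2 → Q := fun p => pick p.1 * cz ^ p.2.val
  have hPψ : ∀ p, ψ ((D.hv h) p.1) = QuotientGroup.mk (P p) := fun p => by
    rw [← hpick]; exact QuotientGroup.eq.2 (by rw [inv_mul_cancel_left]; exact Subgroup.pow_mem _ hcz _)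
  have hPinj : Function.Injective P := by
    rintro ⟨s, t⟩ ⟨s', t'⟩ hPP
    have hs' : s = s' := LocalData.hv_inj h ((psi_cls hψ).1 ((hPψ (s, t)).trans ((congrArg QuotientGroup.mk hPP).trans (hPψ (s', t')).symm)))
    subst hs'
    have h' : cz ^ t.val = cz ^ t'.val := mul_left_cancel hPP
    fin_cases t <;> fin_cases t' <;> first | rfl | (exfalso; simp at h'; exact hcz1 (by simpa using h')) | (exfalso; simp at h'; exact hcz1 (by simpa using h'.symm))
  have hPb : ∀ p, (b : G) * qv (P p) = qv (P p) * (b : G) := fun p => (hiff _).2 ⟨p.1, hPψ p⟩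
  have hPsurj : ∀ a : Q, (b : G) * qv a = qv a * (b : G) → ∃ p, P p = a := by
    intro a ha
    obtain ⟨s, hs'⟩ := (hiff a).1 ha
    have h1 : (pick s)⁻¹ * a ∈ Subgroup.center Q := QuotientGroup.eq.1 ((hpick s).trans hs')
    rcases hcen _ h1 with h2 | h2
    · exact ⟨(s, 0), by
        show pick s * cz ^ 0 = a
        rw [pow_zero, mul_one]; exact qv_injective (inv_mul_eq_one.1 h2)⟩
    · exact ⟨(s, 1), by
        show pick s * cz ^ 1 = a
        rw [pow_one]; exact qv_injective (show qv (pick s) * qv cz = qv a by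
          rw [hczv]; exact (inv_mul_eq_iff_eq_mul.1 h2).symm)⟩
  let F : (Fin 256) × Fin 2 → R := fun p => ⟨ρ (mk (P p) (hPb p)), hmkR (P p) (hPb p)⟩
  have hFbij : Function.Bijective F := by
    refine ⟨fun p q h => hPinj (hρinj (P p) (P q) (hPb p) (hPb q) (congrArg Subtype.val h)), fun r => ?_⟩
    obtain ⟨a, ha, he⟩ := hrep r
    obtain ⟨p, rfl⟩ := hPsurj a ha
    exact ⟨p, Subtype.ext he.symm⟩
  have hRcard : Nat.card R = 2 ^ 9 := by
    rw [← Nat.card_congr (Equiv.ofBijective F hFbij)]; simp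
  have hcenR : ∀ (a : Q) (ha : _), a ∈ Subgroup.center Q →
      ρ (mk a ha) = 1 ∨ ρ (mk a ha) = (zr : D') := fun a ha hac => by
    rcases hcen a hac with h | h
    · left; rw [show mk a ha = 1 from Subtype.ext (Subtype.ext h), map_one]
    · right; exact congrArg ρ (Subtype.ext (Subtype.ext (h.trans hczv.symm)))
  have hZmem : ∀ {r : R}, ((r : D') = 1 ∨ (r : D') = (zr : D')) → r ∈ Subgroup.zpowers zr := fun {r} h => by
    rcases h with h | h
    · rw [show r = 1 from Subtype.ext h]; exact Subgroup.one_mem _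
    · rw [show r = zr from Subtype.ext h]; exact Subgroup.mem_zpowers zr
  have hzr2 : zr ^ 2 = 1 := Subtype.ext (by
    show ρ (mk cz hczb) ^ 2 = 1
    rw [← map_pow, show mk cz hczb ^ 2 = 1 from Subtype.ext (Subtype.ext (by
      show qv cz ^ 2 = 1
      rw [hczv, hz2])), map_one])
  have hZc : Nat.card (Subgroup.zpowers zr) = 2 := by rw [Nat.card_zpowers, orderOf_eq_prime hzr2 hzr1]
  have hcomb : ∀ {a c : Q}, (b : G) * qv a = qv a * (b : G) → (b : G) * qv c = qv c * (b : G) →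
      (b : G) * qv (a * c) = qv (a * c) * (b : G) := fun {a c} ha hc =>
    ((show Commute (b : G) (qv a) from ha).mul_right hc).eq
  have hinvb : ∀ {a : Q}, (b : G) * qv a = qv a * (b : G) → (b : G) * qv a⁻¹ = qv a⁻¹ * (b : G) :=
    fun {a} ha => (show Commute (b : G) (qv a) from ha).inv_right.eq
  have hcentre : Subgroup.center R = Subgroup.zpowers zr := by
    refine le_antisymm (fun r hr => ?_) ((Subgroup.zpowers_le).2 (Subgroup.mem_center_iff.2 fun s => ?_))
    · obtain ⟨a, ha, he⟩ := hrep r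
      refine hZmem ?_
      rw [he]
      refine hcenR a ha ?_
      obtain ⟨s, hs'⟩ := (hiff a).1 ha
      by_cases h0 : s = 0
      · subst h0
        rw [LocalData.hv_zero h, psi_zero hψ] at hs'
        exact (QuotientGroup.eq_one_iff a).1 hs'.symm
      · exfalso
        obtain ⟨t, ht⟩ := LocalData.hv_pair h s h0
        apply ht
        refine (mon_comm_iff hs hψ hs' (hPψ (t, 0))).1 ?_
        have h1 := congrArg Subtype.val (Subgroup.mem_center_iff.1 hr ⟨ρ (mk (P (t, 0)) (hPb _)), hmkR (P (t, 0)) (hPb _)⟩)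
        have h2 : ρ (mk (P (t, 0)) (hPb _) * mk a ha) = ρ (mk a ha * mk (P (t, 0)) (hPb _)) := by
          rw [map_mul, map_mul, ← he]; exact h1
        exact (hρinj (P (t, 0) * a) (a * P (t, 0)) (hcomb (hPb _) ha) (hcomb ha (hPb _)) h2).symm
    · obtain ⟨c, hc, he⟩ := hrep s
      refine Subtype.ext ?_
      show (s : D') * ρ (mk cz hczb) = ρ (mk cz hczb) * (s : D')
      rw [he, ← map_mul, ← map_mul]
      exact congrArg ρ (Subtype.ext (congrArg (fun w : Q => (w : (Subgroup.centralizer ({z} : Set G)))) (Subgroup.mem_center_iff.1 hcz c)))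
  have hRE : IsExtraspecial 2 R := by
    refine CfsgLib.Coprime.isExtraspecial_of_central (IsPGroup.of_card hRcard) _ hZc hcentre
      (fun r s => hZmem ?_) (fun r => hZmem ?_) (fun h => ?_)
    · obtain ⟨a, ha, he⟩ := hrep r
      obtain ⟨c, hc, he'⟩ := hrep s
      show (r : D') * s * (r : D')⁻¹ * (s : D')⁻¹ = 1 ∨ (r : D') * s * (r : D')⁻¹ * (s : D')⁻¹ = (zr : D')
      rw [he, he', ← map_inv, ← map_inv, ← map_mul, ← map_mul, ← map_mul]
      exact hcenR ⁅a, c⁆ (hcomb (hcomb (hcomb ha hc) (hinvb ha)) (hinvb hc))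
        (CfsgLib.Transfer.special_commutatorElement_mem_center hE.1 a c)
    · obtain ⟨a, ha, he⟩ := hrep r
      show (r : D') ^ 2 = 1 ∨ (r : D') ^ 2 = (zr : D')
      rw [he, ← map_pow]
      exact hcenR (a ^ 2) ((show Commute (b : G) (qv a) from ha).pow_right 2).eq (ex_sq_center hE a)
    · rw [h, Subgroup.card_top, hRcard] at hZc
      norm_num at hZc
  -- `D' / R`
  have hρkey : ∀ y : KC, ρ y ∈ R ↔ χ y = 1 := by
    intro y
    rw [hχker]
    constructor
    · intro hy
      obtain ⟨a, ha, he⟩ := hrep ⟨_, hy⟩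
      obtain ⟨i, hi⟩ := Subgroup.mem_zpowers_iff.1 (hρeq (show ρ (mk a ha) = ρ y from he.symm))
      refine ⟨i, ?_⟩
      have h1 : (b ^ i : (Subgroup.centralizer ({z} : Set G))) = (a : (Subgroup.centralizer ({z} : Set G)))⁻¹ * (y : (Subgroup.centralizer ({z} : Set G))) := Subtype.ext (by simpa using hi)
      rw [h1, mul_inv_rev, inv_inv, mul_assoc]
      have := (inferInstance : Q.Normal).conj_mem _ a.2 (y : (Subgroup.centralizer ({z} : Set G)))⁻¹
      rwa [inv_inv, mul_assoc] at this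
    · rintro ⟨i, hi⟩
      have hbK : b ∈ KC := Subgroup.mem_centralizer_singleton_iff.2 rfl
      have h1 : ρ ((⟨b, hbK⟩ : KC) ^ i) = 1 := Subtype.ext ((QuotientGroup.eq_one_iff _).2
        (Subgroup.mem_subgroupOf.2 (by
          show (((⟨b, hbK⟩ : KC) ^ i : KC) : (Subgroup.centralizer ({z} : Set G))).1 ∈ _
          simpa using Subgroup.zpow_mem _ (Subgroup.mem_zpowers (b : G)) i)))
      refine ⟨((⟨b, hbK⟩ : KC) ^ i)⁻¹ * y, ?_, by rw [map_mul, map_inv, h1, inv_one, one_mul]⟩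
      show (((⟨b, hbK⟩ : KC) ^ i)⁻¹ * y : (Subgroup.centralizer ({z} : Set G))) ∈ Q
      simpa using hi
  let π : KC →* D' ⧸ R := (QuotientGroup.mk' R).comp ρ
  have hπsurj : Function.Surjective π := (QuotientGroup.mk'_surjective R).comp hρsurj
  have hπker : π.ker = χ.ker := by
    ext y
    rw [MonoidHom.mem_ker, MonoidHom.mem_ker]
    exact (QuotientGroup.eq_one_iff _).trans (hρkey y)
  let e' : D' ⧸ R ≃* X :=
    ((QuotientGroup.quotientKerEquivOfSurjective π hπsurj).symm.trans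
      (QuotientGroup.quotientMulEquivOfEq hπker)).trans (QuotientGroup.quotientKerEquivOfSurjective χ hχsurj)
  have hcR : Subgroup.centralizer (R : Set D') ≤ R := by
    intro c hc
    obtain ⟨y, rfl⟩ := hρsurj c
    rw [hρkey]
    by_contra hne
    obtain ⟨s, hs'⟩ := hφact (lg y) hne
    set a := P (s, 0)
    have h1 : ρ (mk a (hPb _) * y) = ρ (y * mk a (hPb _)) := by
      rw [map_mul, map_mul]; exact Subgroup.mem_centralizer_iff.1 hc _ (hmkR a (hPb _))
    set a' : Q := ⟨(y : (Subgroup.centralizer ({z} : Set G))) * a * (y : (Subgroup.centralizer ({z} : Set G)))⁻¹, (inferInstance : Q.Normal).conj_mem _ a.2 _⟩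
    have ha' : (b : G) * qv a' = qv a' * (b : G) := hKCG _ (y * mk a (hPb _) * y⁻¹).2
    have h2 : ρ (mk a' ha') = ρ (mk a (hPb _)) := by
      rw [show mk a' ha' = y * mk a (hPb _) * y⁻¹ from Subtype.ext rfl, map_mul, map_inv, ← h1, map_mul,
        mul_inv_cancel_right]
    have h3 := hρinj a' a ha' (hPb _) h2
    apply hs'
    apply (psi_cls hψ).1
    rw [hψ.2.2.2 (y : (Subgroup.centralizer ({z} : Set G))) _ (hlg y) ((D.hv h) s) a (hPψ (s, 0))]
    show QuotientGroup.mk a' = _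
    rw [h3, ← hPψ (s, 0)]
  have hFit : generalizedFittingSubgroup D' = R := by
    have hR2 : IsPGroup 2 R := IsPGroup.of_card hRcard
    have hcore : pCore 2 D' = R := by
      refine le_antisymm ?_ (le_sSup ⟨hRn, hR2⟩)
      refine sSup_le fun N hN => ?_
      haveI := hN.1
      haveI : (N.map (e'.toMonoidHom.comp (QuotientGroup.mk' R))).Normal :=
        Subgroup.Normal.map inferInstance _ (e'.surjective.comp (QuotientGroup.mk'_surjective R))
      have := hX _ inferInstance (hN.2.map (e'.toMonoidHom.comp (QuotientGroup.mk' R)))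
      intro a ha
      rw [Subgroup.map_eq_bot_iff] at this
      have h1 : e' (QuotientGroup.mk a) = 1 := MonoidHom.mem_ker.1 (this ha)
      exact (QuotientGroup.eq_one_iff a).1 (e'.map_eq_one_iff.1 h1)
    rw [← hcore]
    exact (CfsgLib.Comp.generalizedFitting_eq_pCore_iff 2 D').2 (by rw [hcore]; exact hcR)
  -- a conjugate of `z` in `R`
  set es : Fin 256 := Fin.ofNat 256 D.e0
  have hψe : ψ (D.hv h es) = QuotientGroup.mk x :=
    ((psi_cls hψ).2 (LocalData.e0_cls h)).trans hxv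
  obtain ⟨hxc, hxz⟩ := (mon_conj_iff hs hψ x).2 ⟨vec8 pinf, vec8_q pinf, hxv⟩
  obtain ⟨c, hc1, hc2⟩ := local_fusion hs hψ hxv hxc hxz hfus (comm_z b) hxb
  refine ⟨zb, R, hRn, ⟨?_, hFit, hRE, hRcard, ?_⟩, ⟨e'⟩⟩
  · rw [← hzr]
    exact (Subgroup.orderOf_coe (zr : D')).trans ((Subgroup.orderOf_coe zr).trans (orderOf_eq_prime hzr2 hzr1))
  · refine ⟨QuotientGroup.mk (⟨c, (hCB c).2 hc1.symm⟩ : CB), ?_, ?_⟩
    · have e1 : (QuotientGroup.mk (⟨c, (hCB c).2 hc1.symm⟩ : CB) : ↥CB ⧸ T) * zb *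
          (QuotientGroup.mk (⟨c, (hCB c).2 hc1.symm⟩ : CB))⁻¹ = ((ρ (mk x hxb) : D') : ↥CB ⧸ T) := by
        rw [← QuotientGroup.mk_inv, ← QuotientGroup.mk_mul, ← QuotientGroup.mk_mul]
        exact congrArg (QuotientGroup.mk' T) (Subtype.ext hc2)
      refine ⟨e1 ▸ (ρ (mk x hxb)).2, ?_⟩
      rw [show (⟨_, _⟩ : D') = ρ (mk x hxb) from Subtype.ext e1]
      exact hmkR x hxb
    · intro h'
      rw [← QuotientGroup.mk_inv, ← QuotientGroup.mk_mul, ← QuotientGroup.mk_mul] at h'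
      have h1 : ρ (mk x hxb) = (zr : D') := Subtype.ext ((congrArg (QuotientGroup.mk' T)
        (Subtype.ext hc2.symm : j (mk x hxb) = ⟨c, (hCB c).2 hc1.symm⟩ * zt * ⟨c, (hCB c).2 hc1.symm⟩⁻¹)).trans
        (h'.trans hzr.symm))
      have h2 := hρinj x cz hxb hczb h1
      exact hxz (by rw [h2, hczv])

end CfsgLib.Trans3
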