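import Cfsg.Agent.Lib.Trans3.MonsterHeld
import Cfsg.Agent.Lib.Trans3.MonsterLocal
import Cfsg.Agent.Lib.Trans3.HeldFrame
import Cfsg.Agent.Lib.Comp.FStar

/-!
# Groups of Monster type: an involution inverting the element of order seven
-/

set_option autoImplicit false
set_option maxRecDepth 100000

namespace CfsgLib.Trans3

open Cfsg CfsgLib.Golay
open scoped commutatorElement

variable {G : Type*} [Group G] [Finite G] {z : G} {Q : Subgroup (Subgroup.centralizer ({z} : Set G))}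
  [Q.Normal] {e : ↥(Subgroup.centralizer ({z} : Set G)) ⧸ Q ≃* Spor.Co1}
  {ψ : leechLattice → Q ⧸ Subgroup.center Q}

/-- A sign change of some frame lifts to an involution of the centralizer. -/
theorem mon_sign_lift (hs : IsExtraspecialCentralizerSetting z Q 12) (hψ : IsLeechModTwoIso Q e ψ)
    {g₀ h : Co0} (hm : h⁻¹ * g₀ * h ∈ N0) (hp : permPart ⟨h⁻¹ * g₀ * h, hm⟩ = 1) :
    ∃ a : ↥(Subgroup.centralizer ({z} : Set G)), a * a = 1 ∧
      e (QuotientGroup.mk a) = QuotientGroup.mk g₀ := by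
  classical
  set v := h • vec8 pinf with hv'
  have hv8 : leechR.q v = 8 := by rw [hv', co0_q, vec8_q]
  obtain ⟨x, hx⟩ := QuotientGroup.mk_surjective (ψ v)
  obtain ⟨hxc, hx1⟩ := (mon_conj_iff hs hψ x).2 ⟨v, hv8, hx.symm⟩
  obtain ⟨g, hg⟩ := isConj_iff.1 hxc
  obtain ⟨-, hD13, -, hP⟩ := mon_main hs hψ hg hx1 hx.symm hv8.le
  obtain ⟨-, hnorm, h2⟩ := mon_image hs hψ hg hx.symm
  haveI := hnorm
  set P := ((monN Q g).map (QuotientGroup.mk' Q)).comap (monF e v)
  set P' := P.comap (frameIso h).toMonoidHom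
  have hle : P' ≤ permPart.ker := N0_two_group (h2.comap_of_injective _ (frameIso h).injective)
  have hcard : Nat.card P' = 4096 := by
    rw [← hP]
    exact (Nat.card_congr (Equiv.subtypeEquiv (frameIso h).toEquiv fun a => Iff.rfl))
  have heq : P' = permPart.ker :=
    Subgroup.eq_of_le_of_card_ge hle (by rw [hcard]; exact permPart_ker_le_card)
  have hmem : (⟨h⁻¹ * g₀ * h, hm⟩ : N0) ∈ P' := by rw [heq]; exact hp
  have hmem' : frameIso h ⟨h⁻¹ * g₀ * h, hm⟩ ∈ P := hmem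
  obtain ⟨a, ha, hae⟩ := hmem'
  have hea : e (QuotientGroup.mk a) = QuotientGroup.mk g₀ := by
    rw [← (monF_eq (e := e)).1 hae.symm]
    congr 1
    show h * (h⁻¹ * g₀ * h) * h⁻¹ = g₀
    group
  obtain ⟨a', ha'⟩ := mem_monN.1 ha
  obtain ⟨⟨cz, hcz, hczv⟩, -⟩ := mon_center hs
  have hcen := fun c => (mon_center_iff hs c).1
  have hsp := CfsgLib.Transfer.special_commutatorElement_mem_center hs.2.2.1.1
  have hsq : ∀ c : Q, qv c * qv c = 1 ∨ qv c * qv c = z := fun c => by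
    have := hcen _ (ex_sq_center hs.2.2.1 c)
    rwa [pow_two] at this
  by_cases hga : (QuotientGroup.mk g₀ : Spor.Co1) = 1
  · exact ⟨1, one_mul 1, by rw [hga]; exact map_one e⟩
  rcases hsq a' with h' | h'
  · refine ⟨a, Subtype.ext ?_, hea⟩
    show (a : G) * (a : G) = 1
    rw [← ha']
    calc g * qv a' * g⁻¹ * (g * qv a' * g⁻¹) = g * (qv a' * qv a') * g⁻¹ := by group
      _ = 1 := by rw [h']; group
  -- the elements of `Q` whose conjugates by `g` stay in `Q`
  let ι : Q →* G := (Subgroup.centralizer ({z} : Set G)).subtype.comp Q.subtype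
  let A₀ : Subgroup Q := (ι.range).comap ((MulAut.conj g).toMonoidHom.comp ι)
  have hA₀ : ∀ c : Q, c ∈ A₀ ↔ ∃ d : Q, qv d = g * qv c * g⁻¹ := fun c => Iff.rfl
  have hzx : z ≠ 1 ∧ qv x ≠ 1 := by
    refine ⟨fun h0 => ?_, fun h0 => ?_⟩
    · have := hs.1
      rw [h0, orderOf_one] at this
      omega
    · rw [← hg, conj_eq_one_iff] at h0
      have := hs.1
      rw [h0, orderOf_one] at this
      omega
  have hab : ∀ c₁ ∈ A₀, ∀ c₂ ∈ A₀, c₁ * c₂ = c₂ * c₁ := by
    intro c₁ h₁ c₂ h₂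
    obtain ⟨d₁, hd₁⟩ := (hA₀ _).1 h₁
    obtain ⟨d₂, hd₂⟩ := (hA₀ _).1 h₂
    rw [← commutatorElement_eq_one_iff_mul_comm]
    rcases hcen _ (hsp c₁ c₂) with h3 | h3
    · exact qv_injective h3
    · exfalso
      have e1 : qv ⁅d₁, d₂⁆ = g * qv ⁅c₁, c₂⁆ * g⁻¹ := by
        show qv d₁ * qv d₂ * (qv d₁)⁻¹ * (qv d₂)⁻¹ =
          g * (qv c₁ * qv c₂ * (qv c₁)⁻¹ * (qv c₂)⁻¹) * g⁻¹
        rw [hd₁, hd₂]; group
      rw [h3, hg] at e1
      rcases hcen _ (hsp d₁ d₂) with h4 | h4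
      · exact hzx.2 (e1.symm.trans h4)
      · exact hx1 (e1.symm.trans h4)
  have hA₀card : Nat.card A₀ = 2 ^ 13 := by
    rw [← hD13]
    have hto : ∀ c : A₀, ∃ d : ↥(monN Q g ⊓ Q), ((d : ↥(Subgroup.centralizer ({z} : Set G))) : G) = g * qv (c : Q) * g⁻¹ := by
      intro c
      obtain ⟨d, hd⟩ := (hA₀ _).1 c.2
      exact ⟨⟨d, mem_monN.2 ⟨c, hd.symm⟩, d.2⟩, hd⟩
    choose tf hto using hto
    refine Nat.card_congr (Equiv.ofBijective tf ⟨fun c₁ c₂ hc => ?_, fun d => ?_⟩)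
    · have := (hto c₁).symm.trans ((congrArg (fun d : ↥(monN Q g ⊓ Q) => ((d : ↥(Subgroup.centralizer ({z} : Set G))) : G)) hc).trans (hto c₂))
      exact Subtype.ext (qv_injective (mul_left_cancel (mul_right_cancel this)))
    · obtain ⟨c, hc⟩ := mem_monN.1 d.2.1
      refine ⟨⟨c, (hA₀ c).2 ⟨⟨_, d.2.2⟩, hc.symm⟩⟩, Subtype.ext (Subtype.ext ?_)⟩
      rw [hto]; exact hc
  have hna : a' ∉ A₀ := fun h0 => hga (by
    obtain ⟨d, hd⟩ := (hA₀ _).1 h0
    have : a = (d : ↥(Subgroup.centralizer ({z} : Set G))) := Subtype.ext (ha'.symm.trans hd.symm)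
    rw [← hea, this, (QuotientGroup.eq_one_iff _).2 d.2]
    exact map_one e)
  obtain ⟨k', hk', hne⟩ : ∃ k' ∈ A₀, a' * k' ≠ k' * a' := by
    by_contra hall
    push Not at hall
    set A := Subgroup.closure ((A₀ : Set Q) ∪ {a'})
    have hA : ∀ c ∈ A, ∀ d ∈ A, c * d = d * c := by
      intro c hc d hd
      refine Subgroup.closure_induction₂ (p := fun c d _ _ => Commute c d) ?_ (fun _ _ => Commute.one_left _)
        (fun _ _ => Commute.one_right _) (fun _ _ _ _ _ _ h1 h2 => h1.mul_left h2)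
        (fun _ _ _ _ _ _ h1 h2 => h1.mul_right h2) (fun _ _ _ _ h1 => h1.inv_left)
        (fun _ _ _ _ h1 => h1.inv_right) hc hd
      rintro p q (hp | hp) (hq | hq)
      · exact hab p hp q hq
      · rw [Set.mem_singleton_iff.1 hq]; exact (hall p hp).symm
      · rw [Set.mem_singleton_iff.1 hp]; exact hall q hq
      · rw [Set.mem_singleton_iff.1 hp, Set.mem_singleton_iff.1 hq]
        exact Commute.refl _
    have hlt : A₀ < A := lt_of_le_of_ne (fun c hc => Subgroup.subset_closure (Or.inl hc)) fun h0 =>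
      hna (h0 ▸ Subgroup.subset_closure (Or.inr rfl))
    have h1 := ex_abelian_sq_le hs.2.2.1 A hA
    rw [hs.2.2.2.1] at h1
    obtain ⟨j, hj⟩ := Subgroup.card_dvd_of_le hlt.le
    have hj2 : 2 ≤ j := by
      rcases j with _ | _ | j
      · rw [mul_zero] at hj; exact absurd hj Nat.card_pos.ne'
      · exact absurd (Subgroup.eq_of_le_of_card_ge hlt.le (by rw [hj]; simp)) hlt.ne
      · omega
    rw [hj, hA₀card] at h1
    have := Nat.pow_le_pow_left (Nat.mul_le_mul_left (2 ^ 13) hj2) 2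
    norm_num at h1 this ⊢
    omega
  obtain ⟨d, hd⟩ := (hA₀ _).1 hk'
  have hc : qv k' * qv a' = z * (qv a' * qv k') := by
    rcases hcen _ (hsp k' a') with h3 | h3
    · exact absurd (commutatorElement_eq_one_iff_mul_comm.1 (qv_injective (a₂ := 1) h3)).symm hne
    · refine Eq.trans ?_ (congrArg (· * (qv a' * qv k')) h3)
      show _ = qv k' * qv a' * (qv k')⁻¹ * (qv a')⁻¹ * (qv a' * qv k')
      group
  have hk2 : qv k' * qv k' = 1 := by
    refine (hsq k').resolve_right fun h3 => ?_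
    have h4 : qv d * qv d = qv x := by
      calc qv d * qv d = g * (qv k' * qv k') * g⁻¹ := by rw [hd]; group
        _ = g * z * g⁻¹ := congrArg (fun w => g * w * g⁻¹) h3
        _ = qv x := hg
    rcases hsq d with h5 | h5
    · exact hzx.2 (h4.symm.trans h5)
    · exact hx1 (h4.symm.trans h5)
  refine ⟨a * (d : ↥(Subgroup.centralizer ({z} : Set G))), Subtype.ext ?_, ?_⟩
  · show (a : G) * qv d * ((a : G) * qv d) = 1
    rw [hd, ← ha']
    calc g * qv a' * g⁻¹ * (g * qv k' * g⁻¹) * (g * qv a' * g⁻¹ * (g * qv k' * g⁻¹))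
        = g * (qv a' * (qv k' * qv a') * qv k') * g⁻¹ := by group
      _ = g * ((z * (qv a' * qv a')) * (qv k' * qv k')) * g⁻¹ := by
        rw [hc, ← mul_assoc (qv a') z, comm_z (a' : ↥(Subgroup.centralizer ({z} : Set G)))]; group
      _ = 1 := by rw [h', hk2, mul_one, ← pow_two, ← hs.1, pow_orderOf_eq_one]; group
  · rw [QuotientGroup.mk_mul, (QuotientGroup.eq_one_iff _).2 d.2, mul_one, hea]

variable {b : ↥(Subgroup.centralizer ({z} : Set G))}

/-- Some involution inverts `b`. -/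
theorem held_inverter (hs : IsExtraspecialCentralizerSetting z Q 12) (hψ : IsLeechModTwoIso Q e ψ)
    (hb7 : b ^ 7 = 1) (hbA : e (QuotientGroup.mk b) = QuotientGroup.mk heldA) :
    ∃ t : G, orderOf t = 2 ∧ t * (b : G) * t⁻¹ = (b : G)⁻¹ := by
  obtain ⟨h, hm, hp⟩ := heldE_sign
  obtain ⟨a, ha2, hae⟩ := mon_sign_lift hs hψ hm hp
  have hai : a⁻¹ = a := inv_eq_of_mul_eq_one_right ha2
  set d := a * (b ^ 4 * a * (b ^ 4)⁻¹)
  have had : a * d * a⁻¹ = d⁻¹ := by
    simp only [d, mul_inv_rev, inv_inv, hai, ← mul_assoc, ha2, one_mul]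
  have hed : e (QuotientGroup.mk d) = (QuotientGroup.mk heldA : Spor.Co1) ^ 6 := by
    simp only [d, QuotientGroup.mk_mul, QuotientGroup.mk_inv, QuotientGroup.mk_pow, map_mul, map_inv,
      map_pow, hae, hbA]
    rw [← QuotientGroup.mk_pow, ← QuotientGroup.mk_inv, ← QuotientGroup.mk_mul, ← QuotientGroup.mk_mul,
      ← QuotientGroup.mk_mul, ← QuotientGroup.mk_pow]
    congr 1
    calc heldE * (heldA ^ 4 * heldE * (heldA ^ 4)⁻¹)
        = (heldE * heldA * heldE⁻¹) ^ 4 * (heldE * heldE) * (heldA ^ 4)⁻¹ := by rw [conj_pow]; group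
      _ = heldA ^ 6 := by
        rw [inv_eq_of_mul_eq_one_right heldE_sq, heldE_inv, heldE_sq, mul_one, inv_pow, ← mul_inv_rev,
          ← pow_add, inv_eq_iff_mul_eq_one, ← pow_add,
          show 4 + 4 + 6 = 7 * 2 from rfl, pow_mul, heldA_pow_seven, one_pow]
  set c := d ^ (3 * 2 ^ 25) with hcdef
  have hec : e (QuotientGroup.mk c) = QuotientGroup.mk heldA := by
    rw [hcdef, QuotientGroup.mk_pow, map_pow, hed, ← pow_mul, ← QuotientGroup.mk_pow,
      show 6 * (3 * 2 ^ 25) = 7 * ((6 * (3 * 2 ^ 25)) / 7) + 1 by norm_num, pow_succ, pow_mul,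
      heldA_pow_seven, one_pow, one_mul]
  have hc7 : c ^ 7 = 1 := by
    have h7 : d ^ 7 ∈ Q := by
      rw [← QuotientGroup.eq_one_iff, ← e.map_eq_one_iff, QuotientGroup.mk_pow, map_pow, hed, ← pow_mul,
        mul_comm, pow_mul, ← QuotientGroup.mk_pow, heldA_pow_seven]
      exact one_pow _
    have h1 : (⟨d ^ 7, h7⟩ : Q) ^ Nat.card Q = 1 := pow_card_eq_one'
    rw [hs.2.2.2.1] at h1
    have h2 : (d ^ 7) ^ (2 ^ 25) = 1 := congrArg Subtype.val h1
    rw [hcdef, ← pow_mul, show 3 * 2 ^ 25 * 7 = 7 * 2 ^ 25 * 3 by ring, pow_mul, pow_mul, h2, one_pow]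
  have hA1 : (QuotientGroup.mk heldA : Spor.Co1) ≠ 1 := fun h0 => by
    have := orderOf_mk_heldA
    rw [h0, orderOf_one] at this
    omega
  haveI : Fact (Nat.Prime 7) := ⟨by norm_num⟩
  have hco : orderOf c = 7 := orderOf_eq_prime hc7 fun h0 => hA1 (by
    rw [← hec, h0]; exact map_one e)
  have hbo : orderOf b = 7 := orderOf_eq_prime hb7 fun h0 => hA1 (by
    rw [← hbA, h0]; exact map_one e)
  obtain ⟨τ, hτ, -⟩ := coprime_lift (p := 7) (by norm_num) (by norm_num) (QuotientGroup.mk' Q)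
    (n := 25) (by rw [QuotientGroup.ker_mk']; exact hs.2.2.2.1) hco hbo (e.injective (hec.trans hbA.symm))
  set t := τ * a * τ⁻¹
  have ht : t * b * t⁻¹ = b⁻¹ := by
    rw [← hτ]
    calc τ * a * τ⁻¹ * (τ * c * τ⁻¹) * (τ * a * τ⁻¹)⁻¹ = τ * (a * c * a⁻¹) * τ⁻¹ := by group
      _ = (τ * c * τ⁻¹)⁻¹ := by rw [hcdef, ← conj_pow, had, inv_pow]; group
  have ht2 : t * t = 1 := by
    calc τ * a * τ⁻¹ * (τ * a * τ⁻¹) = τ * (a * a) * τ⁻¹ := by group
      _ = 1 := by rw [ha2]; group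
  refine ⟨(t : G), ?_, congrArg Subtype.val ht⟩
  refine orderOf_eq_prime (by rw [pow_two]; exact congrArg Subtype.val ht2) fun h0 => ?_
  have h1 : b = b⁻¹ := by
    have : t = 1 := Subtype.ext h0
    rw [this] at ht
    simpa using ht
  have h2 : orderOf b ∣ 2 := orderOf_dvd_of_pow_eq_one (by rw [pow_two]; exact mul_eq_one_iff_eq_inv.2 h1)
  rw [hbo] at h2
  omega

/-- Nothing inverting `b` acts on its centralizer modulo `b` as an inner element. -/
theorem held_outer (hs : IsExtraspecialCentralizerSetting z Q 12) (hψ : IsLeechModTwoIso Q e ψ)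
    (hb7 : b ^ 7 = 1) (hbA : e (QuotientGroup.mk b) = QuotientGroup.mk heldA) {u : G}
    (hu : u * (b : G) * u⁻¹ = (b : G)⁻¹)
    (hcen : ∀ k : G, (b : G) * k = k * (b : G) → k⁻¹ * (u * k * u⁻¹) ∈ Subgroup.zpowers (b : G)) :
    False := by
  haveI : Fact (Nat.Prime 7) := ⟨by norm_num⟩
  have hz2 : z * z = 1 := by rw [← pow_two, ← hs.1, pow_orderOf_eq_one]
  have hb7G : (b : G) ^ 7 = 1 := congrArg Subtype.val hb7
  have huz : u * z * u⁻¹ = z := by
    obtain ⟨i, hi⟩ := Subgroup.mem_zpowers_iff.1 (hcen z (comm_z b))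
    have h1 : u * z * u⁻¹ = z * (b : G) ^ i := by rw [hi]; group
    have hc : Commute z ((b : G) ^ i) := ((show Commute (b : G) z from comm_z b).zpow_left i).symm
    have h2 : ((b : G) ^ i) ^ 2 = 1 := by
      have h3 : (z * (b : G) ^ i) * (z * (b : G) ^ i) = 1 := by
        rw [← h1]
        calc u * z * u⁻¹ * (u * z * u⁻¹) = u * (z * z) * u⁻¹ := by group
          _ = 1 := by rw [hz2]; group
      rwa [hc.symm.mul_mul_mul_comm, hz2, one_mul, ← pow_two] at h3
    have h7 : ((b : G) ^ i) ^ 7 = 1 := by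
      rw [← zpow_natCast, ← zpow_mul, mul_comm, zpow_mul, zpow_natCast, hb7G, one_zpow]
    rw [h1, show (b : G) ^ i = 1 from by
      calc (b : G) ^ i = ((b : G) ^ i) ^ (2 * 4) := by
            rw [show 2 * 4 = 7 + 1 from rfl, pow_add, h7, one_mul, pow_one]
        _ = 1 := by rw [pow_mul, h2, one_pow], mul_one]
  let uC : ↥(Subgroup.centralizer ({z} : Set G)) :=
    ⟨u, Subgroup.mem_centralizer_singleton_iff.2 (mul_inv_eq_iff_eq_mul.1 huz)⟩
  have huC : uC * b * uC⁻¹ = b⁻¹ := Subtype.ext hu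
  obtain ⟨g, hg⟩ := QuotientGroup.mk_surjective (e (QuotientGroup.mk uC))
  have hgA : g * heldA * g⁻¹ = heldA⁻¹ := by
    have h1 : (QuotientGroup.mk (g * heldA * g⁻¹) : Spor.Co1) = QuotientGroup.mk heldA⁻¹ := by
      rw [QuotientGroup.mk_mul, QuotientGroup.mk_mul, QuotientGroup.mk_inv, QuotientGroup.mk_inv, hg,
        ← hbA, ← map_inv, ← map_inv, ← map_mul, ← map_mul, ← QuotientGroup.mk_inv,
        ← QuotientGroup.mk_inv, ← QuotientGroup.mk_mul, ← QuotientGroup.mk_mul, huC]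
    have h2 : heldA * (g * heldA * g⁻¹) ∈ Subgroup.center Co0 := by
      have := QuotientGroup.eq.1 h1.symm
      rwa [inv_inv] at this
    rcases center_Co0 h2 with h3 | h3
    · exact eq_inv_of_mul_eq_one_right h3
    · exfalso
      have h4 : g * heldA * g⁻¹ = negCo0 * heldA⁻¹ := by
        rw [(Subgroup.mem_center_iff.1 negCo0_central heldA⁻¹).symm]
        exact eq_inv_mul_of_mul_eq h3
      have h5 := congrArg (· ^ 7) h4
      simp only [conj_pow, heldA_pow_seven, mul_one, mul_inv_cancel] at h5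
      rw [(show Commute negCo0 heldA⁻¹ from (Subgroup.mem_center_iff.1 negCo0_central heldA⁻¹).symm).mul_pow,
        inv_pow, heldA_pow_seven, inv_one, mul_one, show negCo0 ^ 7 = negCo0 by simp [pow_succ, negCo0_sq]] at h5
      exact negCo0_ne_one h5.symm
  have hiff := fun a : Q => held_class_iff hs hψ hb7 hbA a (mon_center hs).2
  obtain ⟨q, hq⟩ := QuotientGroup.mk_surjective (ψ (hv he0))
  have hqb : (b : G) * qv q = qv q * (b : G) := (hiff q).2 ⟨he0, hq.symm⟩
  have hfix : (⟨uC * q * uC⁻¹, (inferInstance : Q.Normal).conj_mem _ q.2 uC⟩ : Q) = q := by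
    set q' : Q := ⟨uC * q * uC⁻¹, (inferInstance : Q.Normal).conj_mem _ q.2 uC⟩
    have h1 : qv (q⁻¹ * q') ∈ Subgroup.zpowers (b : G) := hcen (qv q) hqb
    have h2 : orderOf (qv (q⁻¹ * q')) ∣ 7 := by
      refine orderOf_dvd_of_pow_eq_one ?_
      obtain ⟨i, hi⟩ := Subgroup.mem_zpowers_iff.1 h1
      rw [← hi, ← zpow_natCast, ← zpow_mul, mul_comm, zpow_mul, zpow_natCast, hb7G, one_zpow]
    have h3 : orderOf (qv (q⁻¹ * q')) ∣ 2 ^ 25 := by
      rw [← hs.2.2.2.1]
      rw [show orderOf (qv (q⁻¹ * q')) = orderOf (q⁻¹ * q') from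
        (Subgroup.orderOf_coe ((q⁻¹ * q' : Q) : ↥(Subgroup.centralizer ({z} : Set G)))).trans
          (Subgroup.orderOf_coe (q⁻¹ * q'))]
      exact orderOf_dvd_natCard _
    have h4 := Nat.dvd_gcd h2 h3
    rw [show Nat.gcd 7 (2 ^ 25) = 1 by norm_num, Nat.dvd_one, orderOf_eq_one_iff] at h4
    exact (inv_mul_eq_one.1 (qv_injective (a₂ := 1) h4)).symm
  have hcls : leechR.cls (g • hv he0) = leechR.cls (hv he0) := by
    apply (psi_cls hψ).1
    rw [hψ.2.2.2 uC g hg (hv he0) q hq.symm, hfix, hq]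
  have hgN : g ∈ N0 := mem_N0_cls.2 hcls
  apply CfsgLib.Mathieu.seven_no_inverter (permPart ⟨g, hgN⟩)
  rw [← permPart_heldA, ← map_inv, ← map_mul, ← map_mul]
  exact congrArg permPart (Subtype.ext (mul_inv_eq_iff_eq_mul.1 hgA))

end CfsgLib.Trans3
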