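import Cfsg.Agent.Lib.Trans3.MonsterLocal

/-!
# Groups of Monster type: the joint centralizer of `z` and a conjugate of `z` in `Q` maps onto `M24`
-/

set_option autoImplicit false
set_option maxRecDepth 100000
set_option synthInstance.maxSize 2000

namespace CfsgLib.Trans3

open Cfsg CfsgLib.Golay

variable {G : Type*} [Group G] [Finite G] {z : G} {Q : Subgroup (Subgroup.centralizer ({z} : Set G))}
  [Q.Normal] {e : ↥(Subgroup.centralizer ({z} : Set G)) ⧸ Q ≃* Spor.Co1}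
  {ψ : leechLattice → Q ⧸ Subgroup.center Q} {D : LocalData}

omit [Finite G] in
/-- Changing the identification by an element of `Co0`. -/
theorem mon_change (hψ : IsLeechModTwoIso Q e ψ) (g : Co0) :
    IsLeechModTwoIso Q (e.trans (MulAut.conj (QuotientGroup.mk g : Spor.Co1)⁻¹)) (fun w => ψ (g • w)) := by
  set gq : Spor.Co1 := QuotientGroup.mk g
  obtain ⟨h1, h2, h3, h4⟩ := hψ
  refine ⟨fun u w => ?_, fun q => ?_, fun u => ?_, fun y k' hy u q hq => ?_⟩
  · show ψ (g • (u + w)) = _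
    rw [CfsgLib.Golay.co0_add, h1]
  · obtain ⟨u, rfl⟩ := h2 q
    exact ⟨g⁻¹ • u, by show ψ (g • g⁻¹ • u) = _; rw [smul_inv_smul]⟩
  · show ψ (g • u) = 1 ↔ _
    rw [h3]
    constructor
    · rintro ⟨w, hw⟩
      exact ⟨g⁻¹ • w, by rw [← CfsgLib.Golay.co0_add, ← hw, inv_smul_smul]⟩
    · rintro ⟨w, hw⟩
      exact ⟨g • w, by rw [hw, CfsgLib.Golay.co0_add]⟩
  · show ψ (g • k' • u) = _
    have hy' : (QuotientGroup.mk k' : Spor.Co1) = gq⁻¹ * e (QuotientGroup.mk y) * gq := by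
      rw [hy]; show gq⁻¹ * e (QuotientGroup.mk y) * (gq⁻¹)⁻¹ = _; rw [inv_inv]
    have hg' : (QuotientGroup.mk (g * k' * g⁻¹) : Spor.Co1) = e (QuotientGroup.mk y) := by
      rw [QuotientGroup.mk_mul, QuotientGroup.mk_mul, QuotientGroup.mk_inv, hy']
      show gq * (gq⁻¹ * e (QuotientGroup.mk y) * gq) * gq⁻¹ = _
      group
    have := h4 y (g * k' * g⁻¹) hg' (g • u) q hq
    rwa [mul_smul, mul_smul, inv_smul_smul] at this

/-- A conjugate of `z` in `Q` other than `z` lies over the class of `8 e_∞` for some identification. -/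
theorem mon_frame (hs : IsExtraspecialCentralizerSetting z Q 12) (hψ : IsLeechModTwoIso Q e ψ) {x : Q}
    (hx : IsConj z (qv x)) (hx1 : qv x ≠ z) :
    ∃ (e' : ↥(Subgroup.centralizer ({z} : Set G)) ⧸ Q ≃* Spor.Co1) (ψ' : leechLattice → Q ⧸ Subgroup.center Q),
      IsLeechModTwoIso Q e' ψ' ∧ ψ' (vec8 pinf) = QuotientGroup.mk x := by
  obtain ⟨v, hv8, hv⟩ := (mon_conj_iff hs hψ x).1 ⟨hx, hx1⟩
  obtain ⟨g, rfl⟩ := co0_trans8 (vec8_q pinf) hv8
  exact ⟨_, _, mon_change hψ g, hv⟩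

theorem permPart_negCo0 (hm : negCo0 ∈ N0) : permPart ⟨negCo0, hm⟩ = 1 :=
  permPart_mono (1 : M24) Finset.univ univ_code

theorem permPart_ker_card : ∃ n, Nat.card permPart.ker = 2 ^ n := by
  haveI : Fact (Nat.Prime 2) := ⟨Nat.prime_two⟩
  refine IsPGroup.iff_card.1 fun a => ⟨1, ?_⟩
  obtain ⟨c, hc, he⟩ := permPart_eq_one (MonoidHom.mem_ker.1 a.2)
  refine Subtype.ext (Subtype.ext ?_)
  show ((a : N0) : Co0) ^ (2 ^ 1) = 1
  rw [pow_one, pow_two, he, sign0_sq]

/-- The joint centralizer maps onto `M24` with kernel a 2-group. -/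
theorem mon_joint (hs : IsExtraspecialCentralizerSetting z Q 12) (hψ : IsLeechModTwoIso Q e ψ)
    {x : Q} (hxv : ψ (vec8 pinf) = QuotientGroup.mk x) :
    ∃ f : Subgroup.centralizer ({z, qv x} : Set G) →* M24, Function.Surjective f ∧
      (∃ n, Nat.card f.ker = 2 ^ n) ∧
      ∀ (y : Subgroup.centralizer ({z, qv x} : Set G)) (hy : (y : G) ∈ Subgroup.centralizer ({z} : Set G))
        (a : N0), (QuotientGroup.mk (a : Co0) : Spor.Co1) = e (QuotientGroup.mk ⟨(y : G), hy⟩) →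
        permPart a = f y := by
  classical
  set L := Subgroup.centralizer ({z, qv x} : Set G)
  have hLC : L ≤ Subgroup.centralizer ({z} : Set G) := Subgroup.centralizer_le (by simp)
  have hlift : ∀ y : L, ∃ a : N0,
      (QuotientGroup.mk (a : Co0) : Spor.Co1) = e (QuotientGroup.mk (Subgroup.inclusion hLC y)) := by
    intro y
    obtain ⟨g, hg⟩ := QuotientGroup.mk_surjective (e (QuotientGroup.mk (Subgroup.inclusion hLC y)))
    exact ⟨⟨g, mon_stab_of_comm hψ hxv (h := Subgroup.inclusion hLC y) hg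
      (Subgroup.mem_centralizer_iff.1 y.2 (qv x) (by simp)).symm⟩, hg⟩
  choose la hla using hlift
  have hwell : ∀ (y : L) (a : N0),
      (QuotientGroup.mk (a : Co0) : Spor.Co1) = e (QuotientGroup.mk (Subgroup.inclusion hLC y)) →
      permPart a = permPart (la y) := by
    intro y a ha
    rcases center_Co0 (QuotientGroup.eq.1 ((hla y).trans ha.symm)) with h2 | h2
    · rw [show la y = a from Subtype.ext (inv_mul_eq_one.1 h2)]
    · have hm : negCo0 ∈ N0 := negCo0_mem_classStab _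
      rw [show a = la y * ⟨negCo0, hm⟩ from Subtype.ext (inv_mul_eq_iff_eq_mul.1 h2), map_mul,
        permPart_negCo0, mul_one]
  let f : L →* M24 := MonoidHom.mk' (fun y => permPart (la y)) fun y w => by
    rw [← map_mul]
    refine (hwell (y * w) (la y * la w) ?_).symm
    rw [Subgroup.coe_mul, QuotientGroup.mk_mul, hla, hla, ← map_mul, ← QuotientGroup.mk_mul, map_mul]
  refine ⟨f, fun σ => ?_, ?_, fun y hy a ha => hwell y a ha⟩
  · obtain ⟨a, ha⟩ := permPart_surjective σ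
    obtain ⟨h, he, hh⟩ := mon_stab_lift hs hψ hxv (g := (a : Co0)) a.2
    have hhL : (h : G) ∈ L := Subgroup.mem_centralizer_iff.2 fun w hw => by
      rcases (show w = z ∨ w = qv x by simpa using hw) with h' | h' <;> rw [h']
      · exact (comm_z h).symm
      · exact hh.symm
    exact ⟨⟨h, hhL⟩, (hwell ⟨h, hhL⟩ a he).symm.trans ha⟩
  · haveI : Fact (Nat.Prime 2) := ⟨Nat.prime_two⟩
    refine IsPGroup.iff_card.1 fun y => ?_
    obtain ⟨c, hc, hce⟩ := permPart_eq_one (MonoidHom.mem_ker.1 y.2)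
    have h1 : e (QuotientGroup.mk (Subgroup.inclusion hLC (y : L) ^ 2)) = 1 := by
      rw [QuotientGroup.mk_pow, map_pow, ← hla, hce, ← QuotientGroup.mk_pow, pow_two, sign0_sq]
      rfl
    have h2 := (QuotientGroup.eq_one_iff _).1 (e.map_eq_one_iff.1 h1)
    obtain ⟨m, hm⟩ := (IsPGroup.of_card (n := 25) hs.2.2.2.1 : IsPGroup 2 Q) ⟨_, h2⟩
    refine ⟨m + 1, Subtype.ext (Subgroup.inclusion_injective hLC ?_)⟩
    rw [OneMemClass.coe_one, map_one, SubgroupClass.coe_pow, map_pow, pow_succ', pow_mul]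
    exact congrArg Subtype.val hm

/-- An element of the joint centralizer over a conjugate of the standard permutation is carried to
the standard element by a change of identification keeping the class. -/
theorem mon_locate (hψ : IsLeechModTwoIso Q e ψ) (h : D.LatticeOK)
    {x : Q} (hxv : ψ (vec8 pinf) = QuotientGroup.mk x)
    {f : Subgroup.centralizer ({z, qv x} : Set G) →* M24}
    (hf : ∀ (y : Subgroup.centralizer ({z, qv x} : Set G)) (hy : (y : G) ∈ Subgroup.centralizer ({z} : Set G))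
        (a : N0), (QuotientGroup.mk (a : Co0) : Spor.Co1) = e (QuotientGroup.mk ⟨(y : G), hy⟩) →
        permPart a = f y)
    {b : Subgroup.centralizer ({z} : Set G)} (hbL : (b : G) ∈ Subgroup.centralizer ({z, qv x} : Set G))
    (hbp : b ^ D.p = 1) {σ : M24} (hσ : σ * f ⟨(b : G), hbL⟩ * σ⁻¹ = D.perm h) :
    ∃ (e' : ↥(Subgroup.centralizer ({z} : Set G)) ⧸ Q ≃* Spor.Co1) (ψ' : leechLattice → Q ⧸ Subgroup.center Q),
      IsLeechModTwoIso Q e' ψ' ∧ ψ' (vec8 pinf) = QuotientGroup.mk x ∧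
        e' (QuotientGroup.mk b) = QuotientGroup.mk (D.A h) := by
  haveI : Fact D.p.Prime := ⟨h.prime⟩
  obtain ⟨a, ha⟩ := QuotientGroup.mk_surjective (e (QuotientGroup.mk b))
  have haN : a ∈ N0 := mon_stab_of_comm hψ hxv (h := b) ha
    (Subgroup.mem_centralizer_iff.1 hbL (qv x) (by simp)).symm
  have hap : a ^ D.p ∈ Subgroup.center Co0 := by
    rw [← QuotientGroup.eq_one_iff, QuotientGroup.mk_pow, ha, ← map_pow, ← QuotientGroup.mk_pow, hbp]
    exact map_one e
  have hneg : negCo0 ∈ N0 := negCo0_mem_classStab _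
  obtain ⟨a', ha', ha'p, ha'N⟩ : ∃ a' : Co0, (QuotientGroup.mk a' : Spor.Co1) = e (QuotientGroup.mk b) ∧
      a' ^ D.p = 1 ∧ a' ∈ N0 := by
    rcases center_Co0 hap with h1 | h1
    · exact ⟨a, ha, h1, haN⟩
    · refine ⟨negCo0 * a, ?_, ?_, N0.mul_mem hneg haN⟩
      · rw [QuotientGroup.mk_mul, negCo0_mk_one, one_mul, ha]
      · rw [(show Commute negCo0 a from (Subgroup.mem_center_iff.1 negCo0_central a).symm).mul_pow, h1,
          negCo0_pow_odd h.odd, negCo0_sq]
  have hpa : permPart ⟨a', ha'N⟩ = f ⟨(b : G), hbL⟩ := hf ⟨(b : G), hbL⟩ b.2 ⟨a', ha'N⟩ ha'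
  obtain ⟨n, hn⟩ := permPart_surjective σ
  set a₂ : N0 := n * ⟨a', ha'N⟩ * n⁻¹
  have hp2 : permPart a₂ = D.perm h := by
    rw [map_mul, map_mul, map_inv, hn, hpa, hσ]
  have ho2 : orderOf a₂ = D.p := by
    refine orderOf_eq_prime ?_ fun h1 => LocalData.perm_ne_one h ?_
    · rw [conj_pow, show (⟨a', ha'N⟩ : N0) ^ D.p = 1 from Subtype.ext ha'p, mul_one, mul_inv_cancel]
    · rw [← hp2, h1, map_one]
  obtain ⟨k, hk⟩ := permPart_ker_card
  obtain ⟨t, ht, -⟩ := coprime_lift h.prime h.odd permPart hk ho2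
    (y := ⟨D.A h, LocalData.A_mem_N0 h⟩) (by rw [← Subgroup.orderOf_coe]; exact LocalData.orderOf_A h)
    (by rw [hp2, LocalData.permPart_A h])
  set g : N0 := (t * n)⁻¹
  refine ⟨_, _, mon_change hψ (g : Co0), ?_, ?_⟩
  · rw [← hxv]
    exact (psi_cls hψ).2 (mem_classStab.1 g.2)
  · show (QuotientGroup.mk (g : Co0) : Spor.Co1)⁻¹ * e (QuotientGroup.mk b) *
      ((QuotientGroup.mk (g : Co0) : Spor.Co1)⁻¹)⁻¹ = _
    rw [← ha', ← QuotientGroup.mk_inv, ← QuotientGroup.mk_inv, ← QuotientGroup.mk_mul,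
      ← QuotientGroup.mk_mul]
    congr 1
    have e1 := congrArg Subtype.val ht
    simp only [a₂, Subgroup.coe_mul, Subgroup.coe_inv] at e1
    rw [← e1]
    simp only [g, Subgroup.coe_mul, Subgroup.coe_inv]
    group

/-- The centralizer of a subgroup of prime order, from a certificate and an invariant property of the
standard conjugacy class in the joint centralizer. -/
theorem mon_local_of_class (hs : IsExtraspecialCentralizerSetting z Q 12) (hψ : IsLeechModTwoIso Q e ψ)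
    (h : D.LatticeOK) {X : Type*} [Group X] (φ : D.cent h →* X) (hφsurj : Function.Surjective φ)
    (hφker : ∀ g : D.cent h, φ g = 1 → ∃ i < D.p, (g : Co0) = D.A h ^ i ∨ (g : Co0) = negCo0 * D.A h ^ i)
    (hφact : ∀ g : D.cent h, φ g ≠ 1 →
      ∃ s, leechR.cls ((g : Co0) • D.hv h s) ≠ leechR.cls (D.hv h s))
    (hφneg : ∀ g : D.cent h, ((g : Co0) = negCo0 ∨ (g : Co0) = D.A h) → φ g = 1)
    (hX : ∀ N : Subgroup X, N.Normal → IsPGroup 2 N → N = ⊥)
    {x : Q} (hxv : ψ (vec8 pinf) = QuotientGroup.mk x)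
    {f : Subgroup.centralizer ({z, qv x} : Set G) →* M24} (hfs : Function.Surjective f) {n : ℕ}
    (hfk : Nat.card f.ker = 2 ^ n)
    (hf : ∀ (y : Subgroup.centralizer ({z, qv x} : Set G)) (hy : (y : G) ∈ Subgroup.centralizer ({z} : Set G))
        (a : N0), (QuotientGroup.mk (a : Co0) : Spor.Co1) = e (QuotientGroup.mk ⟨(y : G), hy⟩) →
        permPart a = f y)
    (Pr : G → Prop)
    (hclass : ∀ y : Subgroup.centralizer ({z, qv x} : Set G), orderOf y = D.p → Pr y →
      ∃ σ : M24, σ * f y * σ⁻¹ = D.perm h)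
    (hinv : ∀ u a : G, (∀ a ∈ Subgroup.centralizer ({z, qv x} : Set G),
        u * a * u⁻¹ ∈ Subgroup.centralizer ({z, qv x} : Set G)) →
      a ∈ Subgroup.centralizer ({z, qv x} : Set G) → Pr a → Pr (u * a * u⁻¹))
    (B : Subgroup G) (hB : B ≤ Subgroup.centralizer ({z, qv x} : Set G)) (hBc : Nat.card B = D.p)
    (hPB : ∀ β ∈ B, β ≠ 1 → Pr β)
    [hn : (B.subgroupOf (Subgroup.centralizer (B : Set G))).Normal] :
    ∃ (zb : ↥(Subgroup.centralizer (B : Set G)) ⧸ B.subgroupOf (Subgroup.centralizer (B : Set G)))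
      (R : Subgroup (Subgroup.centralizer ({zb} : Set _))) (_ : R.Normal),
      IsExtraspecialCentralizerSetting zb R 4 ∧
        Nonempty ((Subgroup.centralizer ({zb} : Set _)) ⧸ R ≃* X) := by
  haveI : Fact D.p.Prime := ⟨h.prime⟩
  obtain ⟨β, hβ⟩ := (isCyclic_of_prime_card hBc).exists_generator
  have hβo : orderOf β = D.p := by rw [orderOf_eq_card_of_forall_mem_zpowers hβ, hBc]
  have hLC : Subgroup.centralizer ({z, qv x} : Set G) ≤ Subgroup.centralizer ({z} : Set G) :=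
    Subgroup.centralizer_le (by simp)
  set bC : Subgroup.centralizer ({z} : Set G) := ⟨β, hLC (hB β.2)⟩
  have hbG : orderOf (β : G) = D.p := (Subgroup.orderOf_coe β).trans hβo
  have hbp : bC ^ D.p = 1 := Subtype.ext (by
    show (β : G) ^ D.p = 1
    rw [← hbG, pow_orderOf_eq_one])
  have hyo : orderOf (⟨(β : G), hB β.2⟩ : Subgroup.centralizer ({z, qv x} : Set G)) = D.p := by
    rw [← Subgroup.orderOf_coe]; exact hbG
  have hPβ : Pr (β : G) := hPB β β.2 fun h1 => by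
    rw [h1, orderOf_one] at hbG; exact h.prime.ne_one hbG.symm
  obtain ⟨σ, hσ⟩ := hclass ⟨(β : G), hB β.2⟩ hyo hPβ
  obtain ⟨e', ψ', hψ', hxv', hbA⟩ := mon_locate hψ h hxv hf (b := bC) (hB β.2) hbp hσ
  have key : ∀ (B' : Subgroup G), B' = Subgroup.zpowers (bC : G) →
      ∀ [(B'.subgroupOf (Subgroup.centralizer (B' : Set G))).Normal],
      ∃ (zb : ↥(Subgroup.centralizer (B' : Set G)) ⧸ B'.subgroupOf (Subgroup.centralizer (B' : Set G)))
        (R : Subgroup (Subgroup.centralizer ({zb} : Set _))) (_ : R.Normal),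
        IsExtraspecialCentralizerSetting zb R 4 ∧
          Nonempty ((Subgroup.centralizer ({zb} : Set _)) ⧸ R ≃* X) := by
    rintro _ rfl hn'
    refine mon_local hs hψ' h φ hφsurj hφker hφact hφneg hX hbp hbA hxv'
      (Subgroup.mem_centralizer_iff.1 (hB β.2) (qv x) (by simp)).symm ?_ (hn := hn')
    intro γ u hγ hu hγe
    have hγo : orderOf (⟨γ, hγ⟩ : Subgroup.centralizer ({z, qv x} : Set G)) = D.p := by
      rw [← Subgroup.orderOf_coe]
      show orderOf γ = _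
      rw [← hγe, ← hbG]
      exact MulEquiv.orderOf_eq (MulAut.conj u) _
    obtain ⟨σ', hσ'⟩ := hclass ⟨γ, hγ⟩ hγo (hγe ▸ hinv u _ hu (hB β.2) hPβ)
    obtain ⟨l₀, hl₀⟩ := hfs (σ⁻¹ * σ')
    have hconj : f (l₀ * ⟨γ, hγ⟩ * l₀⁻¹) = f ⟨(β : G), hB β.2⟩ := by
      rw [map_mul, map_mul, map_inv, hl₀]
      calc σ⁻¹ * σ' * f ⟨γ, hγ⟩ * (σ⁻¹ * σ')⁻¹ = σ⁻¹ * (σ' * f ⟨γ, hγ⟩ * σ'⁻¹) * σ := by group
        _ = σ⁻¹ * (σ * f ⟨(β : G), hB β.2⟩ * σ⁻¹) * σ := by rw [hσ, hσ']
        _ = f ⟨(β : G), hB β.2⟩ := by group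
    obtain ⟨t, ht, -⟩ := coprime_lift h.prime h.odd f hfk
      (by rw [← hγo]; exact MulEquiv.orderOf_eq (MulAut.conj l₀) _) hyo hconj
    refine ⟨((t * l₀ : Subgroup.centralizer ({z, qv x} : Set G)) : G), (t * l₀).2, ?_⟩
    have e1 := congrArg Subtype.val ht
    simp only [Subgroup.coe_mul, Subgroup.coe_inv] at e1 ⊢
    show _ = (β : G)
    rw [← e1]; group
  refine key B ?_
  refine (Subgroup.eq_of_le_of_card_ge ?_ ?_).symm
  · rw [Subgroup.zpowers_le]; exact β.2
  · rw [hBc, Nat.card_zpowers]; exact hbG.ge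

end CfsgLib.Trans3
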