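import Cfsg.Agent.Lib.Trans3.SixGroup
import Cfsg.Agent.Lib.Trans3.MonsterJoint

/-!
# Groups of Monster type: the centralizer of an element of order three with six fixed points
-/

set_option autoImplicit false
set_option maxRecDepth 100000
set_option synthInstance.maxSize 2000

namespace CfsgLib.Trans3

open Cfsg CfsgLib.Golay
open scoped commutatorElement

theorem six_odd : 3 % 2 = 1 := rfl

/-- The inverse of the form modulo two. -/
def sixGramInv : List ℕ := [2048, 800, 768, 1664, 384, 2114, 1184, 3672, 2070, 142, 200, 417]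

/-- The pairing modulo two is non-degenerate on the fixed classes. -/
theorem shv_pair (s : Fin 12 → ZMod 2) (hs : s ≠ 0) : ∃ t, ¬ (2 : ℤ) ∣ leechR.b (shv s) (shv t) := by
  classical
  by_contra hall
  push Not at hall
  let g : Fin 12 → Fin 12 → ℤ := fun k l => dotInt (sVec (Pi.single k 1)) (sVec (Pi.single l 1)) / 8
  let H : Fin 12 → Fin 12 → ℤ := fun l j => if (sixGramInv.getD l 0).testBit j then 1 else 0
  have key : ∀ k l : Fin 12, dotInt (sVec (Pi.single k 1)) (sVec (Pi.single l 1)) % 8 = 0 := by decide +kernel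
  have key' : ∀ k j : Fin 12, (∑ l, dotInt (sVec (Pi.single k 1)) (sVec (Pi.single l 1)) / 8 *
      (if (sixGramInv.getD l 0).testBit j then 1 else 0)) % 2 = if k = j then 1 else 0 := by decide +kernel
  have hl : ∀ l, (2 : ℤ) ∣ ∑ k, ((s k).val : ℤ) * g k l := fun l => by
    obtain ⟨c, hc⟩ := hall (Pi.single l 1)
    have h1 := leechB_mul (shv s) (shv (Pi.single l 1))
    rw [hc, shv, shv, sLift_coe, sLift_coe] at h1
    have e1 : sVec (fun k => ((s k).val : ℤ)) = ∑ k, ((s k).val : ℤ) • sVec (Pi.single k 1) := by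
      funext q
      simp only [sVec, Finset.sum_apply, Pi.smul_apply, smul_eq_mul, Pi.single_apply, ite_mul, one_mul,
        zero_mul, Finset.sum_ite_eq', Finset.mem_univ, if_true]
    have e2 : (fun k => (((Pi.single l 1 : Fin 12 → ZMod 2) k).val : ℤ)) = Pi.single l 1 := by
      funext k
      by_cases hk : k = l <;> simp [hk, ZMod.val_one]
    rw [e1, e2] at h1
    have e3 : dotInt (∑ k, ((s k).val : ℤ) • sVec (Pi.single k 1)) (sVec (Pi.single l 1)) =
        ∑ k, ((s k).val : ℤ) * dotInt (sVec (Pi.single k 1)) (sVec (Pi.single l 1)) := by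
      simp only [dotInt, Finset.sum_apply, Pi.smul_apply, smul_eq_mul, Finset.sum_mul, Finset.mul_sum]
      rw [Finset.sum_comm]
      simp [mul_assoc]
    rw [e3] at h1
    refine ⟨c, ?_⟩
    have e4 : ∀ k, dotInt (sVec (Pi.single k 1)) (sVec (Pi.single l 1)) = 8 * g k l := fun k => by
      have := key k l
      simp only [g]; omega
    simp only [e4, mul_left_comm _ (8 : ℤ), ← Finset.mul_sum] at h1
    omega
  apply hs
  funext j
  have h2 : (2 : ℤ) ∣ ∑ k, ((s k).val : ℤ) * ∑ l, g k l * H l j := by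
    simp only [Finset.mul_sum, ← mul_assoc]
    rw [Finset.sum_comm]
    exact Finset.dvd_sum fun l _ => by rw [← Finset.sum_mul]; exact (hl l).mul_right _
  have h3 : ((∑ k, ((s k).val : ℤ) * ∑ l, g k l * H l j : ℤ) : ZMod 2) = s j := by
    rw [Int.cast_sum, Finset.sum_eq_single j]
    · rw [Int.cast_mul, ← ZMod.intCast_mod (∑ l, g j l * H l j) 2, Nat.cast_ofNat, key' j j, if_pos rfl]
      simp
    · intro k _ hk
      rw [Int.cast_mul, ← ZMod.intCast_mod (∑ l, g k l * H l j) 2, Nat.cast_ofNat, key' k j, if_neg hk]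
      simp
    · simp
  rw [← h3]
  exact (ZMod.intCast_zmod_eq_zero_iff_dvd _ 2).2 h2

theorem six_moves (g : sixH) (hg : (QuotientGroup.mk g : sixX) ≠ 1) :
    ∃ s, leechR.cls ((g : Co0) • shv s) ≠ leechR.cls (shv s) := by
  by_contra hall
  push Not at hall
  apply hg
  rw [QuotientGroup.eq_one_iff]
  obtain ⟨t, -, ht | ht⟩ := six_faithful g.2 hall
  · rw [show g = sixAH ^ t from Subtype.ext ht]
    exact pow_mem sixAH_mem t
  · rw [show g = sixNH * sixAH ^ t from Subtype.ext ht]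
    exact mul_mem sixNH_mem (pow_mem sixAH_mem t)

theorem orderOf_mk_six : orderOf (QuotientGroup.mk sixA : Spor.Co1) = 3 := by
  haveI : Fact (Nat.Prime 3) := ⟨Nat.prime_three⟩
  refine orderOf_eq_prime (by rw [← QuotientGroup.mk_pow, sixA_cube]; rfl) fun h1 => ?_
  rcases center_Co0 ((QuotientGroup.eq_one_iff sixA).1 h1) with h2 | h2
  · exact sixA_ne_one h2
  · have h7 := sixA_cube
    rw [h2, negCo0_pow_odd six_odd] at h7
    exact negCo0_ne_one h7

variable {G : Type*} [Group G] [Finite G] {z : G} {Q : Subgroup (Subgroup.centralizer ({z} : Set G))}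
  [Q.Normal] {e : ↥(Subgroup.centralizer ({z} : Set G)) ⧸ Q ≃* Spor.Co1}
  {ψ : leechLattice → Q ⧸ Subgroup.center Q} {b : (Subgroup.centralizer ({z} : Set G))}

omit [Finite G] in
/-- The classes of the elements of `Q` commuting with `b`. -/
theorem six_class_iff (hs : IsExtraspecialCentralizerSetting z Q 12) (hψ : IsLeechModTwoIso Q e ψ)
    (hbp : b ^ 3 = 1) (hbA : e (QuotientGroup.mk b) = QuotientGroup.mk sixA) (y : Q)
    (hcen : ∀ w : Q, w ∈ Subgroup.center Q → qv w = 1 ∨ qv w = z) :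
    (b : G) * qv y = qv y * (b : G) ↔ ∃ s, ψ (shv s) = QuotientGroup.mk y := by
  obtain ⟨hz, -, -, -, -⟩ := hs
  have hzz : z * z = 1 := by rw [← pow_two, ← hz]; exact pow_orderOf_eq_one z
  have hz1 : z ≠ 1 := fun h => by rw [h, orderOf_one] at hz; omega
  set y' : Q := ⟨b * y * b⁻¹, (inferInstance : Q.Normal).conj_mem _ y.2 b⟩ with hy'
  have hact : ∀ v, ψ v = QuotientGroup.mk y → ψ (sixA • v) = QuotientGroup.mk y' := fun v hv' =>
    hψ.2.2.2 b sixA hbA.symm v y hv'
  constructor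
  · intro hc
    obtain ⟨v, hv'⟩ := hψ.2.1 (QuotientGroup.mk y)
    have hyy : y' = y := qv_injective (show (b : G) * qv y * (b : G)⁻¹ = qv y by rw [hc, mul_inv_cancel_right])
    have := hact v hv'
    rw [hyy, ← hv', psi_cls hψ] at this
    obtain ⟨s, hs'⟩ := (six_cls_fixed v).1 this
    exact ⟨s, ((psi_cls hψ).2 hs').symm.trans hv'⟩
  · rintro ⟨s, hs'⟩
    have := hact _ hs'
    rw [show sixA • shv s = shv s from sixA_fix _, hs'] at this
    have hm : y⁻¹ * y' ∈ Subgroup.center Q := QuotientGroup.eq.1 this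
    refine conj_fix_of_coset_odd six_odd hbp hzz hz1 ?_
    rcases hcen _ hm with h' | h'
    · exact Or.inl (inv_mul_eq_one.1 h').symm
    · exact Or.inr (inv_mul_eq_iff_eq_mul.1 h')

/-- An element of `Co0` commuting with the element is induced by the centraliser of `b`. -/
theorem six_lift_comm (hs : IsExtraspecialCentralizerSetting z Q 12)
    (hbp : b ^ 3 = 1) (hbA : e (QuotientGroup.mk b) = QuotientGroup.mk sixA) {g : Co0}
    (hg : g * sixA = sixA * g) :
    ∃ n : (Subgroup.centralizer ({z} : Set G)), e (QuotientGroup.mk n) = QuotientGroup.mk g ∧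
      n * b = b * n := by
  haveI : Fact (Nat.Prime 3) := ⟨Nat.prime_three⟩
  obtain ⟨n₀, hn₀⟩ := QuotientGroup.mk_surjective (e.symm (QuotientGroup.mk g))
  have hn : e (QuotientGroup.mk n₀) = QuotientGroup.mk g := by rw [hn₀, MulEquiv.apply_symm_apply]
  have hbq : orderOf (QuotientGroup.mk b : ↥(Subgroup.centralizer ({z} : Set G)) ⧸ Q) = 3 := by
    rw [← MulEquiv.orderOf_eq e, hbA]; exact orderOf_mk_six
  have hbo : orderOf b = 3 := orderOf_eq_prime hbp fun h1 => by
    rw [h1, QuotientGroup.mk_one, orderOf_one] at hbq; exact Nat.prime_three.ne_one hbq.symm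
  obtain ⟨q, hq, j, hj⟩ := coprime_lift Nat.prime_three six_odd (QuotientGroup.mk' Q) (n := 25)
    (by rw [QuotientGroup.ker_mk']; exact hs.2.2.2.1)
    (x := n₀ * b * n₀⁻¹) (y := b)
    (by rw [← hbo]; exact MulEquiv.orderOf_eq (MulAut.conj n₀) b) hbo (by
      refine e.injective ?_
      show e (QuotientGroup.mk (n₀ * b * n₀⁻¹)) = e (QuotientGroup.mk b)
      rw [QuotientGroup.mk_mul, QuotientGroup.mk_mul, QuotientGroup.mk_inv, map_mul, map_mul, map_inv,
        hn, hbA, ← QuotientGroup.mk_inv, ← QuotientGroup.mk_mul, ← QuotientGroup.mk_mul, hg,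
        mul_inv_cancel_right])
  refine ⟨b ^ (-j) * (q * n₀), ?_, ?_⟩
  · rw [QuotientGroup.mk_mul, QuotientGroup.mk_mul, QuotientGroup.mk_zpow,
      show (QuotientGroup.mk q : ↥(Subgroup.centralizer ({z} : Set G)) ⧸ Q) = QuotientGroup.mk b ^ j from hj,
      ← mul_assoc, ← zpow_add, neg_add_cancel, zpow_zero, one_mul, hn]
  · refine mul_inv_eq_iff_eq_mul.1 ?_
    calc b ^ (-j) * (q * n₀) * b * (b ^ (-j) * (q * n₀))⁻¹
        = b ^ (-j) * (q * (n₀ * b * n₀⁻¹) * q⁻¹) * (b ^ (-j))⁻¹ := by group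
      _ = b ^ (-j) * b * (b ^ (-j))⁻¹ := by rw [hq]
      _ = b := by rw [((Commute.refl b).zpow_left (-j)).eq, mul_inv_cancel_right]



/-- The centralizer of `b` modulo `b`: of large Fischer type. -/
theorem six_local (hs : IsExtraspecialCentralizerSetting z Q 12) (hψ : IsLeechModTwoIso Q e ψ)
    (hbp : b ^ 3 = 1) (hbA : e (QuotientGroup.mk b) = QuotientGroup.mk sixA)
    {x : Q} (hxv : ψ (vec8 pinf) = QuotientGroup.mk x) (hxb : (b : G) * qv x = qv x * (b : G))
    (hfus : ∀ γ u : G, γ ∈ Subgroup.centralizer ({z, qv x} : Set G) →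
      (∀ a ∈ Subgroup.centralizer ({z, qv x} : Set G), u * a * u⁻¹ ∈ Subgroup.centralizer ({z, qv x} : Set G)) →
      u * (b : G) * u⁻¹ = γ →
      ∃ l ∈ Subgroup.centralizer ({z, qv x} : Set G), l * γ * l⁻¹ = (b : G))
    [hn : ((Subgroup.zpowers (b : G)).subgroupOf
      (Subgroup.centralizer (Subgroup.zpowers (b : G) : Set G))).Normal] :
    IsOfLargeFischerType (↥(Subgroup.centralizer (Subgroup.zpowers (b : G) : Set G)) ⧸
      (Subgroup.zpowers (b : G)).subgroupOf (Subgroup.centralizer (Subgroup.zpowers (b : G) : Set G))) := by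
  classical
  let φ : sixH →* sixX := QuotientGroup.mk' sixT
  haveI : Fact (Nat.Prime 3) := ⟨Nat.prime_three⟩
  haveI : Fact (Nat.Prime 2) := ⟨Nat.prime_two⟩
  set CB := Subgroup.centralizer (Subgroup.zpowers (b : G) : Set G) with hCBdef
  have hCB : ∀ a : G, a ∈ CB ↔ (b : G) * a = a * (b : G) := fun a => by
    rw [hCBdef, Subgroup.mem_centralizer_iff]
    refine ⟨fun h => h _ (Subgroup.mem_zpowers _), fun h c hc => ?_⟩
    obtain ⟨i, rfl⟩ := Subgroup.mem_zpowers_iff.1 hc
    exact (show Commute (b : G) a from h).zpow_left i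
  obtain ⟨⟨cz, hcz, hczv⟩, hcen⟩ := mon_center hs
  have hE := hs.2.2.1
  have hz1 : z ≠ 1 := fun h => by have := hs.1; rw [h, orderOf_one] at this; omega
  have hz2 : z ^ 2 = 1 := hs.1 ▸ pow_orderOf_eq_one z
  have hbq : orderOf (QuotientGroup.mk b : ↥(Subgroup.centralizer ({z} : Set G)) ⧸ Q) = 3 := by
    rw [← MulEquiv.orderOf_eq e, hbA]; exact orderOf_mk_six
  have hbo : orderOf b = 3 := orderOf_eq_prime hbp fun h' => by
    rw [h', QuotientGroup.mk_one, orderOf_one] at hbq; exact Nat.prime_three.ne_one hbq.symm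
  -- `Q` meets `⟨b⟩` trivially
  have hQb : ∀ a : Q, qv a ∈ Subgroup.zpowers (b : G) → a = 1 := by
    intro a ha
    obtain ⟨i, hi⟩ := Subgroup.mem_zpowers_iff.1 ha
    have h1 : (b ^ i : (Subgroup.centralizer ({z} : Set G))) = (a : (Subgroup.centralizer ({z} : Set G))) := Subtype.ext (by simpa using hi)
    have h2 : (QuotientGroup.mk b : ↥(Subgroup.centralizer ({z} : Set G)) ⧸ Q) ^ i = 1 := by
      rw [← QuotientGroup.mk_zpow, h1]; exact (QuotientGroup.eq_one_iff _).2 a.2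
    have h3 : ((orderOf b : ℕ) : ℤ) ∣ i := by
      rw [hbo, ← hbq]; exact orderOf_dvd_iff_zpow_eq_one.2 h2
    refine Subtype.ext ?_
    rw [← h1, orderOf_dvd_iff_zpow_eq_one.1 h3]
    rfl
  -- the centralizer of `b` in `(Subgroup.centralizer ({z} : Set G))`
  set KC := Subgroup.centralizer ({b} : Set (Subgroup.centralizer ({z} : Set G))) with hKC
  have hKCG : ∀ y : (Subgroup.centralizer ({z} : Set G)), y ∈ KC → (b : G) * (y : G) = (y : G) * (b : G) := fun y hy =>
    (congrArg Subtype.val (Subgroup.mem_centralizer_singleton_iff.1 hy)).symm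
  -- the action on the seven classes
  have hlift : ∀ y : KC, ∃ g : sixH, (QuotientGroup.mk (g : Co0) : Spor.Co1) = e (QuotientGroup.mk (y : (Subgroup.centralizer ({z} : Set G)))) := by
    intro y
    obtain ⟨g, hg⟩ := QuotientGroup.mk_surjective (e (QuotientGroup.mk (y : (Subgroup.centralizer ({z} : Set G)))))
    refine ⟨⟨g, (mem_sixH).2 ?_⟩, hg⟩
    have h1 : (QuotientGroup.mk (g * sixA * g⁻¹) : Spor.Co1) = QuotientGroup.mk sixA := by
      rw [QuotientGroup.mk_mul, QuotientGroup.mk_mul, QuotientGroup.mk_inv, hg, ← hbA, ← map_inv,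
        ← map_mul, ← map_mul, ← QuotientGroup.mk_inv, ← QuotientGroup.mk_mul, ← QuotientGroup.mk_mul,
        Subgroup.mem_centralizer_singleton_iff.1 y.2, mul_inv_cancel_right]
    have h2 : sixA⁻¹ * (g * sixA * g⁻¹) ∈ Subgroup.center Co0 := QuotientGroup.eq.1 h1.symm
    rcases center_Co0 h2 with h3 | h3
    · exact mul_inv_eq_iff_eq_mul.1 (inv_mul_eq_one.1 h3).symm
    · exfalso
      have h4 : g * sixA * g⁻¹ = sixA * negCo0 := inv_mul_eq_iff_eq_mul.1 h3
      have h5 := congrArg (· ^ 3) h4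
      simp only [conj_pow, sixA_cube, mul_one, mul_inv_cancel] at h5
      rw [(show Commute sixA negCo0 from Subgroup.mem_center_iff.1 negCo0_central sixA).mul_pow,
        sixA_cube, one_mul, negCo0_pow_odd six_odd] at h5
      exact negCo0_ne_one h5.symm
  choose lg hlg using hlift
  have hwell : ∀ (y : KC) (g : sixH),
      (QuotientGroup.mk (g : Co0) : Spor.Co1) = e (QuotientGroup.mk (y : (Subgroup.centralizer ({z} : Set G)))) → φ g = φ (lg y) := by
    intro y g hg
    have h1 : ((lg y : Co0))⁻¹ * (g : Co0) ∈ Subgroup.center Co0 :=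
      QuotientGroup.eq.1 ((hlg y).trans hg.symm)
    rcases center_Co0 h1 with h2 | h2
    · rw [show lg y = g from Subtype.ext (inv_mul_eq_one.1 h2)]
    · have hN : negCo0 ∈ sixH := (mem_sixH).2 (Subgroup.mem_center_iff.1 negCo0_central sixA).symm
      rw [show g = lg y * ⟨negCo0, hN⟩ from Subtype.ext (inv_mul_eq_iff_eq_mul.1 h2), map_mul,
        show φ ⟨negCo0, hN⟩ = 1 from (QuotientGroup.eq_one_iff _).2 sixNH_mem, mul_one]
  let χ : KC →* sixX := MonoidHom.mk' (fun y => φ (lg y))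
    fun y w => by
      rw [← map_mul]
      refine (hwell (y * w) (lg y * lg w) ?_).symm
      show (QuotientGroup.mk ((lg y : Co0) * (lg w : Co0)) : Spor.Co1) = _
      rw [QuotientGroup.mk_mul, hlg, hlg, ← map_mul, ← QuotientGroup.mk_mul]
      rfl
  have hχsurj : Function.Surjective χ := by
    intro M
    obtain ⟨g, rfl⟩ := QuotientGroup.mk'_surjective sixT M
    obtain ⟨n, hn1, hn2⟩ := six_lift_comm hs hbp hbA ((mem_sixH).1 g.2)
    refine ⟨⟨n, Subgroup.mem_centralizer_singleton_iff.2 hn2⟩, ?_⟩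
    exact (hwell _ g hn1.symm).symm
  have hχker : ∀ y : KC, χ y = 1 ↔ ∃ i : ℤ, (b ^ i)⁻¹ * (y : (Subgroup.centralizer ({z} : Set G))) ∈ Q := by
    intro y
    constructor
    · intro hy
      obtain ⟨i, -, hi⟩ := mem_sixT ((QuotientGroup.eq_one_iff (lg y)).1 hy)
      refine ⟨(i : ℤ), QuotientGroup.eq.1 (e.injective ?_)⟩
      rw [zpow_natCast, QuotientGroup.mk_pow, map_pow, hbA, ← hlg y]
      rcases hi with hi | hi <;> rw [hi]
      · rw [QuotientGroup.mk_pow]
      · rw [QuotientGroup.mk_mul, negCo0_mk_one, one_mul, QuotientGroup.mk_pow]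
    · rintro ⟨i, hi⟩
      have hA : sixA ∈ sixH := (mem_sixH).2 rfl
      refine (hwell y (⟨sixA, hA⟩ ^ i) ?_).symm.trans ?_
      · show (QuotientGroup.mk (sixA ^ i) : Spor.Co1) = _
        rw [QuotientGroup.mk_zpow, ← hbA, ← map_zpow, ← QuotientGroup.mk_zpow]
        exact congrArg e (QuotientGroup.eq.2 hi)
      · rw [map_zpow, show φ ⟨sixA, hA⟩ = 1 from (QuotientGroup.eq_one_iff _).2 sixAH_mem, one_zpow]
  -- the quotient
  set T := (Subgroup.zpowers (b : G)).subgroupOf CB with hT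
  have hzb' : z ∈ CB := (hCB z).2 (comm_z b)
  let zt : CB := ⟨z, hzb'⟩
  set zb : ↥CB ⧸ T := QuotientGroup.mk zt
  set D' := Subgroup.centralizer ({zb} : Set (↥CB ⧸ T))
  let j : KC →* CB := MonoidHom.mk' (fun h => ⟨((h : (Subgroup.centralizer ({z} : Set G))) : G), (hCB _).2 (hKCG _ h.2)⟩) fun _ _ => rfl
  have hjD : ∀ h : KC, QuotientGroup.mk' T (j h) ∈ D' := fun h => by
    refine Subgroup.mem_centralizer_singleton_iff.2 ?_
    show QuotientGroup.mk (j h) * QuotientGroup.mk zt = QuotientGroup.mk zt * QuotientGroup.mk (j h)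
    rw [← QuotientGroup.mk_mul, ← QuotientGroup.mk_mul]
    exact congrArg _ (Subtype.ext (comm_z (h : (Subgroup.centralizer ({z} : Set G)))))
  let ρ : KC →* D' := ((QuotientGroup.mk' T).comp j).codRestrict D' hjD
  have hbpG : (b : G) ^ 3 = 1 := congrArg Subtype.val hbp
  -- an involution times a power of `b`
  have hodd := six_odd
  have hinv2 : ∀ (a : G) (i : ℤ), a * a = 1 → (b : G) * a = a * (b : G) →
      (a * (b : G) ^ i) * (a * (b : G) ^ i) = 1 → (b : G) ^ i = 1 := by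
    intro a i ha hc h
    have hc' : Commute a ((b : G) ^ i) := ((show Commute (b : G) a from hc).zpow_left i).symm
    rw [hc'.symm.mul_mul_mul_comm, ha, one_mul, ← pow_two] at h
    have h7 : ((b : G) ^ i) ^ 3 = 1 := by
      rw [← zpow_natCast, ← zpow_mul, mul_comm, zpow_mul, zpow_natCast, hbpG, one_zpow]
    obtain ⟨r, hr⟩ : ∃ r, 3 = 2 * r + 1 := ⟨3 / 2, by have := hodd; omega⟩
    rw [hr, pow_succ, pow_mul, h, one_pow, one_mul] at h7
    exact h7
  have hzz : z * z = 1 := by rw [← pow_two, hz2]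
  have hρsurj : Function.Surjective ρ := by
    rintro ⟨a, ha⟩
    obtain ⟨a, rfl⟩ := QuotientGroup.mk_surjective a
    have h1 : QuotientGroup.mk (zt * a) = (QuotientGroup.mk (a * zt) : ↥CB ⧸ T) :=
      (Subgroup.mem_centralizer_singleton_iff.1 ha).symm
    obtain ⟨i, hi⟩ := Subgroup.mem_zpowers_iff.1 (Subgroup.mem_subgroupOf.1 (QuotientGroup.eq.1 h1))
    have hi' : (b : G) ^ i = (z * (a : G))⁻¹ * ((a : G) * z) := hi
    have h2 : (a : G)⁻¹ * z * (a : G) * (b : G) ^ i = z := by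
      rw [hi']; group
    have hba : (b : G) * ((a : G)⁻¹ * z * (a : G)) = (a : G)⁻¹ * z * (a : G) * (b : G) :=
      ((show Commute (b : G) (a : G) from (hCB _).1 a.2).inv_right.mul_right (comm_z b)).mul_right
        ((hCB _).1 a.2)
    have h3 := hinv2 _ i (by
      calc (a : G)⁻¹ * z * (a : G) * ((a : G)⁻¹ * z * (a : G)) = (a : G)⁻¹ * (z * z) * (a : G) := by group
        _ = 1 := by rw [hzz]; group) hba (by rw [h2, hzz])
    rw [h3, mul_one] at h2
    have haz : (a : G) * z = z * (a : G) := by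
      calc (a : G) * z = (a : G) * ((a : G)⁻¹ * z * (a : G)) := by rw [h2]
        _ = z * (a : G) := by group
    refine ⟨⟨⟨a, Subgroup.mem_centralizer_singleton_iff.2 haz⟩,
      Subgroup.mem_centralizer_singleton_iff.2 (Subtype.ext ((hCB _).1 a.2).symm)⟩, Subtype.ext rfl⟩
  have hρeq : ∀ {h h' : KC}, ρ h = ρ h' →
      ((h : (Subgroup.centralizer ({z} : Set G))) : G)⁻¹ * ((h' : (Subgroup.centralizer ({z} : Set G))) : G) ∈ Subgroup.zpowers (b : G) := fun {h h'} he =>
    Subgroup.mem_subgroupOf.1 (QuotientGroup.eq.1 (congrArg (fun w : D' => (w : _ ⧸ T)) he))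
  -- the elements of `C_Q(b)`
  let mk : ∀ a : Q, (b : G) * qv a = qv a * (b : G) → KC := fun a ha =>
    ⟨a, Subgroup.mem_centralizer_singleton_iff.2 (Subtype.ext ha.symm)⟩
  have hρinj : ∀ a a' ha ha', ρ (mk a ha) = ρ (mk a' ha') → a = a' := fun a a' ha ha' he => by
    have h1 : qv (a⁻¹ * a') ∈ Subgroup.zpowers (b : G) := hρeq he
    exact inv_mul_eq_one.1 (hQb _ h1)
  have hiff := fun a : Q => six_class_iff hs hψ hbp hbA a hcen
  set HK := Q.subgroupOf KC
  set R := HK.map ρ with hRdef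
  haveI hRn : R.Normal := Subgroup.Normal.map inferInstance ρ hρsurj
  have hmkR : ∀ a ha, ρ (mk a ha) ∈ R := fun a ha => ⟨_, a.2, rfl⟩
  have hrep : ∀ r : R, ∃ (a : Q) (ha : _), (r : D') = ρ (mk a ha) := fun r => by
    obtain ⟨h, hh, he⟩ := r.2
    exact ⟨⟨h, hh⟩, hKCG _ h.2, he.symm⟩
  have hczb : (b : G) * qv cz = qv cz * (b : G) := by rw [hczv]; exact comm_z b
  let zr : R := ⟨ρ (mk cz hczb), hmkR cz hczb⟩
  have hzr : ((zr : D') : ↥CB ⧸ T) = zb := congrArg (QuotientGroup.mk' T) (Subtype.ext hczv)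
  have hcz1 : cz ≠ 1 := fun h => hz1 (by rw [← hczv, h]; rfl)
  have hcz2 : cz * cz = 1 := qv_injective (by show qv cz * qv cz = 1; rw [hczv, hzz])
  have hzr1 : zr ≠ 1 := fun h => hcz1 (hρinj cz 1 hczb (by show _ * (1 : G) = (1 : G) * _; rw [mul_one, one_mul]) (by
    have h' : ρ (mk cz hczb) = 1 := congrArg Subtype.val h
    rw [h']
    exact (map_one ρ).symm))
  -- the parametrisation of `C_Q(b)`
  choose pick0 hpick0 using fun s : (Fin 12 → ZMod 2) => QuotientGroup.mk_surjective (ψ (shv s))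
  let pick : (Fin 12 → ZMod 2) → Q := fun s => if s = 0 then 1 else pick0 s
  have hpick : ∀ s, QuotientGroup.mk (pick s) = ψ (shv s) := fun s => by
    show QuotientGroup.mk (if s = 0 then (1 : Q) else pick0 s) = _
    split_ifs with h
    · subst h; rw [shv_zero, psi_zero hψ]; rfl
    · exact hpick0 s
  let P : (Fin 12 → ZMod 2) × Fin 2 → Q := fun p => pick p.1 * cz ^ p.2.val
  have hPψ : ∀ p, ψ (shv p.1) = QuotientGroup.mk (P p) := fun p => by
    rw [← hpick]; exact QuotientGroup.eq.2 (by rw [inv_mul_cancel_left]; exact Subgroup.pow_mem _ hcz _)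
  have hPinj : Function.Injective P := by
    rintro ⟨s, t⟩ ⟨s', t'⟩ hPP
    have hs' : s = s' := shv_inj ((psi_cls hψ).1 ((hPψ (s, t)).trans ((congrArg QuotientGroup.mk hPP).trans (hPψ (s', t')).symm)))
    subst hs'
    have h' : cz ^ t.val = cz ^ t'.val := mul_left_cancel hPP
    fin_cases t <;> fin_cases t' <;> first | rfl | (exfalso; simp at h'; exact hcz1 (by simpa using h')) | (exfalso; simp at h'; exact hcz1 (by simpa using h'.symm))
  have hPb : ∀ p, (b : G) * qv (P p) = qv (P p) * (b : G) := fun p => (hiff _).2 ⟨p.1, hPψ p⟩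
  have hPsurj : ∀ a : Q, (b : G) * qv a = qv a * (b : G) → ∃ p, P p = a := by
    intro a ha
    obtain ⟨s, hs'⟩ := (hiff a).1 ha
    have h1 : (pick s)⁻¹ * a ∈ Subgroup.center Q := QuotientGroup.eq.1 ((hpick s).trans hs')
    rcases hcen _ h1 with h2 | h2
    · exact ⟨(s, 0), by
        show pick s * cz ^ 0 = a
        rw [pow_zero, mul_one]; exact qv_injective (inv_mul_eq_one.1 h2)⟩
    · exact ⟨(s, 1), by
        show pick s * cz ^ 1 = a
        rw [pow_one]; exact qv_injective (show qv (pick s) * qv cz = qv a by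
          rw [hczv]; exact (inv_mul_eq_iff_eq_mul.1 h2).symm)⟩
  let F : (Fin 12 → ZMod 2) × Fin 2 → R := fun p => ⟨ρ (mk (P p) (hPb p)), hmkR (P p) (hPb p)⟩
  have hFbij : Function.Bijective F := by
    refine ⟨fun p q h => hPinj (hρinj (P p) (P q) (hPb p) (hPb q) (congrArg Subtype.val h)), fun r => ?_⟩
    obtain ⟨a, ha, he⟩ := hrep r
    obtain ⟨p, rfl⟩ := hPsurj a ha
    exact ⟨p, Subtype.ext he.symm⟩
  have hRcard : Nat.card R = 2 ^ 13 := by
    rw [← Nat.card_congr (Equiv.ofBijective F hFbij)]; simp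
  have hcenR : ∀ (a : Q) (ha : _), a ∈ Subgroup.center Q →
      ρ (mk a ha) = 1 ∨ ρ (mk a ha) = (zr : D') := fun a ha hac => by
    rcases hcen a hac with h | h
    · left; rw [show mk a ha = 1 from Subtype.ext (Subtype.ext h), map_one]
    · right; exact congrArg ρ (Subtype.ext (Subtype.ext (h.trans hczv.symm)))
  have hZmem : ∀ {r : R}, ((r : D') = 1 ∨ (r : D') = (zr : D')) → r ∈ Subgroup.zpowers zr := fun {r} h => by
    rcases h with h | h
    · rw [show r = 1 from Subtype.ext h]; exact Subgroup.one_mem _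
    · rw [show r = zr from Subtype.ext h]; exact Subgroup.mem_zpowers zr
  have hzr2 : zr ^ 2 = 1 := Subtype.ext (by
    show ρ (mk cz hczb) ^ 2 = 1
    rw [← map_pow, show mk cz hczb ^ 2 = 1 from Subtype.ext (Subtype.ext (by
      show qv cz ^ 2 = 1
      rw [hczv, hz2])), map_one])
  have hZc : Nat.card (Subgroup.zpowers zr) = 2 := by rw [Nat.card_zpowers, orderOf_eq_prime hzr2 hzr1]
  have hcomb : ∀ {a c : Q}, (b : G) * qv a = qv a * (b : G) → (b : G) * qv c = qv c * (b : G) →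
      (b : G) * qv (a * c) = qv (a * c) * (b : G) := fun {a c} ha hc =>
    ((show Commute (b : G) (qv a) from ha).mul_right hc).eq
  have hinvb : ∀ {a : Q}, (b : G) * qv a = qv a * (b : G) → (b : G) * qv a⁻¹ = qv a⁻¹ * (b : G) :=
    fun {a} ha => (show Commute (b : G) (qv a) from ha).inv_right.eq
  have hcentre : Subgroup.center R = Subgroup.zpowers zr := by
    refine le_antisymm (fun r hr => ?_) ((Subgroup.zpowers_le).2 (Subgroup.mem_center_iff.2 fun s => ?_))
    · obtain ⟨a, ha, he⟩ := hrep r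
      refine hZmem ?_
      rw [he]
      refine hcenR a ha ?_
      obtain ⟨s, hs'⟩ := (hiff a).1 ha
      by_cases h0 : s = 0
      · subst h0
        rw [shv_zero, psi_zero hψ] at hs'
        exact (QuotientGroup.eq_one_iff a).1 hs'.symm
      · exfalso
        obtain ⟨t, ht⟩ := shv_pair s h0
        apply ht
        refine (mon_comm_iff hs hψ hs' (hPψ (t, 0))).1 ?_
        have h1 := congrArg Subtype.val (Subgroup.mem_center_iff.1 hr ⟨ρ (mk (P (t, 0)) (hPb _)), hmkR (P (t, 0)) (hPb _)⟩)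
        have h2 : ρ (mk (P (t, 0)) (hPb _) * mk a ha) = ρ (mk a ha * mk (P (t, 0)) (hPb _)) := by
          rw [map_mul, map_mul, ← he]; exact h1
        exact (hρinj (P (t, 0) * a) (a * P (t, 0)) (hcomb (hPb _) ha) (hcomb ha (hPb _)) h2).symm
    · obtain ⟨c, hc, he⟩ := hrep s
      refine Subtype.ext ?_
      show (s : D') * ρ (mk cz hczb) = ρ (mk cz hczb) * (s : D')
      rw [he, ← map_mul, ← map_mul]
      exact congrArg ρ (Subtype.ext (congrArg (fun w : Q => (w : (Subgroup.centralizer ({z} : Set G)))) (Subgroup.mem_center_iff.1 hcz c)))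
  have hRE : IsExtraspecial 2 R := by
    refine CfsgLib.Coprime.isExtraspecial_of_central (IsPGroup.of_card hRcard) _ hZc hcentre
      (fun r s => hZmem ?_) (fun r => hZmem ?_) (fun h => ?_)
    · obtain ⟨a, ha, he⟩ := hrep r
      obtain ⟨c, hc, he'⟩ := hrep s
      show (r : D') * s * (r : D')⁻¹ * (s : D')⁻¹ = 1 ∨ (r : D') * s * (r : D')⁻¹ * (s : D')⁻¹ = (zr : D')
      rw [he, he', ← map_inv, ← map_inv, ← map_mul, ← map_mul, ← map_mul]
      exact hcenR ⁅a, c⁆ (hcomb (hcomb (hcomb ha hc) (hinvb ha)) (hinvb hc))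
        (CfsgLib.Transfer.special_commutatorElement_mem_center hE.1 a c)
    · obtain ⟨a, ha, he⟩ := hrep r
      show (r : D') ^ 2 = 1 ∨ (r : D') ^ 2 = (zr : D')
      rw [he, ← map_pow]
      exact hcenR (a ^ 2) ((show Commute (b : G) (qv a) from ha).pow_right 2).eq (ex_sq_center hE a)
    · rw [h, Subgroup.card_top, hRcard] at hZc
      norm_num at hZc
  -- `D' / R`
  have hρkey : ∀ y : KC, ρ y ∈ R ↔ χ y = 1 := by
    intro y
    rw [hχker]
    constructor
    · intro hy
      obtain ⟨a, ha, he⟩ := hrep ⟨_, hy⟩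
      obtain ⟨i, hi⟩ := Subgroup.mem_zpowers_iff.1 (hρeq (show ρ (mk a ha) = ρ y from he.symm))
      refine ⟨i, ?_⟩
      have h1 : (b ^ i : (Subgroup.centralizer ({z} : Set G))) = (a : (Subgroup.centralizer ({z} : Set G)))⁻¹ * (y : (Subgroup.centralizer ({z} : Set G))) := Subtype.ext (by simpa using hi)
      rw [h1, mul_inv_rev, inv_inv, mul_assoc]
      have := (inferInstance : Q.Normal).conj_mem _ a.2 (y : (Subgroup.centralizer ({z} : Set G)))⁻¹
      rwa [inv_inv, mul_assoc] at this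
    · rintro ⟨i, hi⟩
      have hbK : b ∈ KC := Subgroup.mem_centralizer_singleton_iff.2 rfl
      have h1 : ρ ((⟨b, hbK⟩ : KC) ^ i) = 1 := Subtype.ext ((QuotientGroup.eq_one_iff _).2
        (Subgroup.mem_subgroupOf.2 (by
          show (((⟨b, hbK⟩ : KC) ^ i : KC) : (Subgroup.centralizer ({z} : Set G))).1 ∈ _
          simpa using Subgroup.zpow_mem _ (Subgroup.mem_zpowers (b : G)) i)))
      refine ⟨((⟨b, hbK⟩ : KC) ^ i)⁻¹ * y, ?_, by rw [map_mul, map_inv, h1, inv_one, one_mul]⟩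
      show (((⟨b, hbK⟩ : KC) ^ i)⁻¹ * y : (Subgroup.centralizer ({z} : Set G))) ∈ Q
      simpa using hi
  let π : KC →* D' ⧸ R := (QuotientGroup.mk' R).comp ρ
  have hπsurj : Function.Surjective π := (QuotientGroup.mk'_surjective R).comp hρsurj
  have hπker : π.ker = χ.ker := by
    ext y
    rw [MonoidHom.mem_ker, MonoidHom.mem_ker]
    exact (QuotientGroup.eq_one_iff _).trans (hρkey y)
  let e' : D' ⧸ R ≃* sixX :=
    ((QuotientGroup.quotientKerEquivOfSurjective π hπsurj).symm.trans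
      (QuotientGroup.quotientMulEquivOfEq hπker)).trans (QuotientGroup.quotientKerEquivOfSurjective χ hχsurj)
  have hcR : Subgroup.centralizer (R : Set D') ≤ R := by
    intro c hc
    obtain ⟨y, rfl⟩ := hρsurj c
    rw [hρkey]
    by_contra hne
    obtain ⟨s, hs'⟩ := six_moves (lg y) hne
    set a := P (s, 0)
    have h1 : ρ (mk a (hPb _) * y) = ρ (y * mk a (hPb _)) := by
      rw [map_mul, map_mul]; exact Subgroup.mem_centralizer_iff.1 hc _ (hmkR a (hPb _))
    set a' : Q := ⟨(y : (Subgroup.centralizer ({z} : Set G))) * a * (y : (Subgroup.centralizer ({z} : Set G)))⁻¹, (inferInstance : Q.Normal).conj_mem _ a.2 _⟩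
    have ha' : (b : G) * qv a' = qv a' * (b : G) := hKCG _ (y * mk a (hPb _) * y⁻¹).2
    have h2 : ρ (mk a' ha') = ρ (mk a (hPb _)) := by
      rw [show mk a' ha' = y * mk a (hPb _) * y⁻¹ from Subtype.ext rfl, map_mul, map_inv, ← h1, map_mul,
        mul_inv_cancel_right]
    have h3 := hρinj a' a ha' (hPb _) h2
    apply hs'
    apply (psi_cls hψ).1
    rw [hψ.2.2.2 (y : (Subgroup.centralizer ({z} : Set G))) _ (hlg y) (shv s) a (hPψ (s, 0))]
    show QuotientGroup.mk a' = _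
    rw [h3, ← hPψ (s, 0)]
  have hFit : generalizedFittingSubgroup D' = R := by
    have hR2 : IsPGroup 2 R := IsPGroup.of_card hRcard
    have hcore : pCore 2 D' = R := by
      refine le_antisymm ?_ (le_sSup ⟨hRn, hR2⟩)
      refine sSup_le fun N hN => ?_
      haveI := hN.1
      haveI : (N.map (e'.toMonoidHom.comp (QuotientGroup.mk' R))).Normal :=
        Subgroup.Normal.map inferInstance _ (e'.surjective.comp (QuotientGroup.mk'_surjective R))
      have := sixX_no_two_normal _ inferInstance (hN.2.map (e'.toMonoidHom.comp (QuotientGroup.mk' R)))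
      intro a ha
      rw [Subgroup.map_eq_bot_iff] at this
      have h1 : e' (QuotientGroup.mk a) = 1 := MonoidHom.mem_ker.1 (this ha)
      exact (QuotientGroup.eq_one_iff a).1 (e'.map_eq_one_iff.1 h1)
    rw [← hcore]
    exact (CfsgLib.Comp.generalizedFitting_eq_pCore_iff 2 D').2 (by rw [hcore]; exact hcR)
  -- a conjugate of `z` in `R`
  obtain ⟨es, hes⟩ := six_e0
  have hψe : ψ (shv es) = QuotientGroup.mk x :=
    ((psi_cls hψ).2 hes.symm).trans hxv
  obtain ⟨hxc, hxz⟩ := (mon_conj_iff hs hψ x).2 ⟨vec8 pinf, vec8_q pinf, hxv⟩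
  obtain ⟨c, hc1, hc2⟩ := local_fusion hs hψ hxv hxc hxz hfus (comm_z b) hxb
  obtain ⟨N₀, M₀, hN₀, hM₀, h1, h2, h3, h4, h5⟩ :=
    six_struct (e'.toMonoidHom.comp (QuotientGroup.mk' R)) (e'.surjective.comp (QuotientGroup.mk'_surjective R))
  have hkR : (e'.toMonoidHom.comp (QuotientGroup.mk' R)).ker = R := by
    ext a
    simp
  rw [hkR] at h1 h3
  refine ⟨zb, R, hRn, ⟨?_, hFit, hRE, hRcard, ?_⟩, N₀, M₀, hN₀, hM₀, h1, h2, h3, h4, h5⟩
  · rw [← hzr]
    exact (Subgroup.orderOf_coe (zr : D')).trans ((Subgroup.orderOf_coe zr).trans (orderOf_eq_prime hzr2 hzr1))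
  · refine ⟨QuotientGroup.mk (⟨c, (hCB c).2 hc1.symm⟩ : CB), ?_, ?_⟩
    · have e1 : (QuotientGroup.mk (⟨c, (hCB c).2 hc1.symm⟩ : CB) : ↥CB ⧸ T) * zb *
          (QuotientGroup.mk (⟨c, (hCB c).2 hc1.symm⟩ : CB))⁻¹ = ((ρ (mk x hxb) : D') : ↥CB ⧸ T) := by
        rw [← QuotientGroup.mk_inv, ← QuotientGroup.mk_mul, ← QuotientGroup.mk_mul]
        exact congrArg (QuotientGroup.mk' T) (Subtype.ext hc2)
      refine ⟨e1 ▸ (ρ (mk x hxb)).2, ?_⟩
      rw [show (⟨_, _⟩ : D') = ρ (mk x hxb) from Subtype.ext e1]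
      exact hmkR x hxb
    · intro h'
      rw [← QuotientGroup.mk_inv, ← QuotientGroup.mk_mul, ← QuotientGroup.mk_mul] at h'
      have h1 : ρ (mk x hxb) = (zr : D') := Subtype.ext ((congrArg (QuotientGroup.mk' T)
        (Subtype.ext hc2.symm : j (mk x hxb) = ⟨c, (hCB c).2 hc1.symm⟩ * zt * ⟨c, (hCB c).2 hc1.symm⟩⁻¹)).trans
        (h'.trans hzr.symm))
      have h2 := hρinj x cz hxb hczb h1
      exact hxz (by rw [h2, hczv])


/-- An element of the joint centralizer over a conjugate of the standard permutation is carried to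
the standard element by a change of identification keeping the class. -/
theorem six_locate (hψ : IsLeechModTwoIso Q e ψ)
    {x : Q} (hxv : ψ (vec8 pinf) = QuotientGroup.mk x)
    {f : Subgroup.centralizer ({z, qv x} : Set G) →* M24}
    (hf : ∀ (y : Subgroup.centralizer ({z, qv x} : Set G)) (hy : (y : G) ∈ Subgroup.centralizer ({z} : Set G))
        (a : N0), (QuotientGroup.mk (a : Co0) : Spor.Co1) = e (QuotientGroup.mk ⟨(y : G), hy⟩) →
        permPart a = f y)
    {b : Subgroup.centralizer ({z} : Set G)} (hbL : (b : G) ∈ Subgroup.centralizer ({z, qv x} : Set G))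
    (hbp : b ^ 3 = 1) {σ : M24} (hσ : σ * f ⟨(b : G), hbL⟩ * σ⁻¹ = sixPerm) :
    ∃ (e' : ↥(Subgroup.centralizer ({z} : Set G)) ⧸ Q ≃* Spor.Co1) (ψ' : leechLattice → Q ⧸ Subgroup.center Q),
      IsLeechModTwoIso Q e' ψ' ∧ ψ' (vec8 pinf) = QuotientGroup.mk x ∧
        e' (QuotientGroup.mk b) = QuotientGroup.mk sixA := by
  haveI : Fact (Nat.Prime 3) := ⟨Nat.prime_three⟩
  obtain ⟨a, ha⟩ := QuotientGroup.mk_surjective (e (QuotientGroup.mk b))
  have haN : a ∈ N0 := mon_stab_of_comm hψ hxv (h := b) ha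
    (Subgroup.mem_centralizer_iff.1 hbL (qv x) (by simp)).symm
  have hap : a ^ 3 ∈ Subgroup.center Co0 := by
    rw [← QuotientGroup.eq_one_iff, QuotientGroup.mk_pow, ha, ← map_pow, ← QuotientGroup.mk_pow, hbp]
    exact map_one e
  have hneg : negCo0 ∈ N0 := negCo0_mem_classStab _
  obtain ⟨a', ha', ha'p, ha'N⟩ : ∃ a' : Co0, (QuotientGroup.mk a' : Spor.Co1) = e (QuotientGroup.mk b) ∧
      a' ^ 3 = 1 ∧ a' ∈ N0 := by
    rcases center_Co0 hap with h1 | h1
    · exact ⟨a, ha, h1, haN⟩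
    · refine ⟨negCo0 * a, ?_, ?_, N0.mul_mem hneg haN⟩
      · rw [QuotientGroup.mk_mul, negCo0_mk_one, one_mul, ha]
      · rw [(show Commute negCo0 a from (Subgroup.mem_center_iff.1 negCo0_central a).symm).mul_pow, h1,
          negCo0_pow_odd six_odd, negCo0_sq]
  have hpa : permPart ⟨a', ha'N⟩ = f ⟨(b : G), hbL⟩ := hf ⟨(b : G), hbL⟩ b.2 ⟨a', ha'N⟩ ha'
  obtain ⟨n, hn⟩ := permPart_surjective σ
  set a₂ : N0 := n * ⟨a', ha'N⟩ * n⁻¹
  have hp2 : permPart a₂ = sixPerm := by
    rw [map_mul, map_mul, map_inv, hn, hpa, hσ]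
  have ho2 : orderOf a₂ = 3 := by
    refine orderOf_eq_prime ?_ fun h1 => sixPerm_ne_one ?_
    · rw [conj_pow, show (⟨a', ha'N⟩ : N0) ^ 3 = 1 from Subtype.ext ha'p, mul_one, mul_inv_cancel]
    · rw [← hp2, h1, map_one]
  obtain ⟨k, hk⟩ := permPart_ker_card
  obtain ⟨t, ht, -⟩ := coprime_lift Nat.prime_three six_odd permPart hk ho2
    (y := ⟨sixA, sixA_mem_N0⟩) (by rw [← Subgroup.orderOf_coe]; exact orderOf_sixA)
    (by rw [hp2, permPart_sixA])
  set g : N0 := (t * n)⁻¹
  refine ⟨_, _, mon_change hψ (g : Co0), ?_, ?_⟩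
  · rw [← hxv]
    exact (psi_cls hψ).2 (mem_classStab.1 g.2)
  · show (QuotientGroup.mk (g : Co0) : Spor.Co1)⁻¹ * e (QuotientGroup.mk b) *
      ((QuotientGroup.mk (g : Co0) : Spor.Co1)⁻¹)⁻¹ = _
    rw [← ha', ← QuotientGroup.mk_inv, ← QuotientGroup.mk_inv, ← QuotientGroup.mk_mul,
      ← QuotientGroup.mk_mul]
    congr 1
    have e1 := congrArg Subtype.val ht
    simp only [a₂, Subgroup.coe_mul, Subgroup.coe_inv] at e1
    rw [← e1]
    simp only [g, Subgroup.coe_mul, Subgroup.coe_inv]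
    group


/-- The centralizer of a subgroup of order three of the class with six fixed points. -/
theorem six_local_of_class (hs : IsExtraspecialCentralizerSetting z Q 12) (hψ : IsLeechModTwoIso Q e ψ)
    {x : Q} (hxv : ψ (vec8 pinf) = QuotientGroup.mk x)
    {f : Subgroup.centralizer ({z, qv x} : Set G) →* M24} (hfs : Function.Surjective f) {n : ℕ}
    (hfk : Nat.card f.ker = 2 ^ n)
    (hf : ∀ (y : Subgroup.centralizer ({z, qv x} : Set G)) (hy : (y : G) ∈ Subgroup.centralizer ({z} : Set G))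
        (a : N0), (QuotientGroup.mk (a : Co0) : Spor.Co1) = e (QuotientGroup.mk ⟨(y : G), hy⟩) →
        permPart a = f y)
    (Pr : G → Prop)
    (hclass : ∀ y : Subgroup.centralizer ({z, qv x} : Set G), orderOf y = 3 → Pr y →
      ∃ σ : M24, σ * f y * σ⁻¹ = sixPerm)
    (hinv : ∀ u a : G, (∀ a ∈ Subgroup.centralizer ({z, qv x} : Set G),
        u * a * u⁻¹ ∈ Subgroup.centralizer ({z, qv x} : Set G)) →
      a ∈ Subgroup.centralizer ({z, qv x} : Set G) → Pr a → Pr (u * a * u⁻¹))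
    (B : Subgroup G) (hB : B ≤ Subgroup.centralizer ({z, qv x} : Set G)) (hBc : Nat.card B = 3)
    (hPB : ∀ β ∈ B, β ≠ 1 → Pr β)
    [hn : (B.subgroupOf (Subgroup.centralizer (B : Set G))).Normal] :
    IsOfLargeFischerType (↥(Subgroup.centralizer (B : Set G)) ⧸ B.subgroupOf (Subgroup.centralizer (B : Set G))) := by
  haveI : Fact (Nat.Prime 3) := ⟨Nat.prime_three⟩
  obtain ⟨β, hβ⟩ := (isCyclic_of_prime_card hBc).exists_generator
  have hβo : orderOf β = 3 := by rw [orderOf_eq_card_of_forall_mem_zpowers hβ, hBc]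
  have hLC : Subgroup.centralizer ({z, qv x} : Set G) ≤ Subgroup.centralizer ({z} : Set G) :=
    Subgroup.centralizer_le (by simp)
  set bC : Subgroup.centralizer ({z} : Set G) := ⟨β, hLC (hB β.2)⟩
  have hbG : orderOf (β : G) = 3 := (Subgroup.orderOf_coe β).trans hβo
  have hbp : bC ^ 3 = 1 := Subtype.ext (by
    show (β : G) ^ 3 = 1
    rw [← hbG, pow_orderOf_eq_one])
  have hyo : orderOf (⟨(β : G), hB β.2⟩ : Subgroup.centralizer ({z, qv x} : Set G)) = 3 := by
    rw [← Subgroup.orderOf_coe]; exact hbG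
  have hPβ : Pr (β : G) := hPB β β.2 fun h1 => by
    rw [h1, orderOf_one] at hbG; exact Nat.prime_three.ne_one hbG.symm
  obtain ⟨σ, hσ⟩ := hclass ⟨(β : G), hB β.2⟩ hyo hPβ
  obtain ⟨e', ψ', hψ', hxv', hbA⟩ := six_locate hψ hxv hf (b := bC) (hB β.2) hbp hσ
  have key : ∀ (B' : Subgroup G), B' = Subgroup.zpowers (bC : G) →
      ∀ [(B'.subgroupOf (Subgroup.centralizer (B' : Set G))).Normal],
      IsOfLargeFischerType (↥(Subgroup.centralizer (B' : Set G)) ⧸ B'.subgroupOf (Subgroup.centralizer (B' : Set G))) := by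
    rintro _ rfl hn'
    refine six_local hs hψ' hbp hbA hxv'
      (Subgroup.mem_centralizer_iff.1 (hB β.2) (qv x) (by simp)).symm ?_ (hn := hn')
    intro γ u hγ hu hγe
    have hγo : orderOf (⟨γ, hγ⟩ : Subgroup.centralizer ({z, qv x} : Set G)) = 3 := by
      rw [← Subgroup.orderOf_coe]
      show orderOf γ = _
      rw [← hγe, ← hbG]
      exact MulEquiv.orderOf_eq (MulAut.conj u) _
    obtain ⟨σ', hσ'⟩ := hclass ⟨γ, hγ⟩ hγo (hγe ▸ hinv u _ hu (hB β.2) hPβ)
    obtain ⟨l₀, hl₀⟩ := hfs (σ⁻¹ * σ')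
    have hconj : f (l₀ * ⟨γ, hγ⟩ * l₀⁻¹) = f ⟨(β : G), hB β.2⟩ := by
      rw [map_mul, map_mul, map_inv, hl₀]
      calc σ⁻¹ * σ' * f ⟨γ, hγ⟩ * (σ⁻¹ * σ')⁻¹ = σ⁻¹ * (σ' * f ⟨γ, hγ⟩ * σ'⁻¹) * σ := by group
        _ = σ⁻¹ * (σ * f ⟨(β : G), hB β.2⟩ * σ⁻¹) * σ := by rw [hσ, hσ']
        _ = f ⟨(β : G), hB β.2⟩ := by group
    obtain ⟨t, ht, -⟩ := coprime_lift Nat.prime_three six_odd f hfk
      (by rw [← hγo]; exact MulEquiv.orderOf_eq (MulAut.conj l₀) _) hyo hconj
    refine ⟨((t * l₀ : Subgroup.centralizer ({z, qv x} : Set G)) : G), (t * l₀).2, ?_⟩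
    have e1 := congrArg Subtype.val ht
    simp only [Subgroup.coe_mul, Subgroup.coe_inv] at e1 ⊢
    show _ = (β : G)
    rw [← e1]; group
  refine key B ?_
  refine (Subgroup.eq_of_le_of_card_ge ?_ ?_).symm
  · rw [Subgroup.zpowers_le]; exact β.2
  · rw [hBc, Nat.card_zpowers]; exact hbG.ge


end CfsgLib.Trans3
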