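import Cfsg.Prelude.Def_MonsterType
import Cfsg.Agent.Lib.Trans3.ExtraSquare
import Cfsg.Agent.Lib.Trans3.LeechQuad
import Cfsg.Agent.Lib.Trans3.LeechSingular

/-!
# Groups of Monster type: the squaring map of the large extraspecial subgroup
-/

set_option autoImplicit false

namespace CfsgLib.Trans3

open Cfsg CfsgLib.Golay

section

variable {G : Type*} [Group G] {z : G} {Q : Subgroup (Subgroup.centralizer ({z} : Set G))} [Q.Normal]
  {e : (Subgroup.centralizer ({z} : Set G)) ⧸ Q ≃* Spor.Co1}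
  {ψ : leechLattice → Q ⧸ Subgroup.center Q}

/-- The identification as a homomorphism. -/
def psiHom (hψ : IsLeechModTwoIso Q e ψ) : Multiplicative leechLattice →* Q ⧸ Subgroup.center Q :=
  MonoidHom.mk' (fun v => ψ v.toAdd) fun v w => hψ.1 v.toAdd w.toAdd

theorem psiHom_ofAdd (hψ : IsLeechModTwoIso Q e ψ) (v : leechLattice) :
    psiHom hψ (Multiplicative.ofAdd v) = ψ v := rfl

theorem psi_cls (hψ : IsLeechModTwoIso Q e ψ) {v w : leechLattice} :
    ψ v = ψ w ↔ leechR.cls v = leechR.cls w := by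
  have hsub : ψ (v - w) = ψ v / ψ w := map_div (psiHom hψ) (Multiplicative.ofAdd v) (Multiplicative.ofAdd w)
  rw [← div_eq_one, ← hsub, hψ.2.2.1, leechR.cls_eq_iff]
  exact exists_congr fun u => by rw [sub_eq_iff_eq_add']

/-- Each element of the first Conway group is induced by the centralizer. -/
theorem psi_smul (hψ : IsLeechModTwoIso Q e ψ) (g : Co0) :
    ∃ h : Subgroup.centralizer ({z} : Set G), (QuotientGroup.mk g : Spor.Co1) = e (QuotientGroup.mk h) ∧
      ∀ (v : leechLattice) (q : Q), ψ v = QuotientGroup.mk q →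
        ψ (g • v) = QuotientGroup.mk
          ⟨h * q * h⁻¹, (inferInstance : Q.Normal).conj_mem (q : Subgroup.centralizer ({z} : Set G)) q.2 h⟩ := by
  obtain ⟨h, hh⟩ := QuotientGroup.mk_surjective (e.symm (QuotientGroup.mk g : Spor.Co1))
  have he : (QuotientGroup.mk g : Spor.Co1) = e (QuotientGroup.mk h) := by
    rw [hh, MulEquiv.apply_symm_apply]
  exact ⟨h, he, hψ.2.2.2 h g he⟩

/-- The squares in the extraspecial subgroup follow the norm. -/
theorem monster_sq [Finite G] (hE : IsExtraspecial 2 Q) (hQ : 2 < Nat.card Q)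
    (hψ : IsLeechModTwoIso Q e ψ) {x : Q} {v : leechLattice} (h : ψ v = QuotientGroup.mk x) :
    exSq x = leechF v := by
  choose lift hlift using fun v : leechLattice => QuotientGroup.mk_surjective (ψ v)
  have hwell : ∀ {a b : Q}, (QuotientGroup.mk a : Q ⧸ Subgroup.center Q) = QuotientGroup.mk b →
      exSq a = exSq b := fun {a b} hab => by
    have := QuotientGroup.eq.1 hab
    rw [← exSq_mul_center hE a this, mul_inv_cancel_left]
  let S : leechLattice → ZMod 2 := fun v => exSq (lift v)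
  have hS : ∀ {v : leechLattice} {a : Q}, ψ v = QuotientGroup.mk a → S v = exSq a := fun {v a} hv =>
    hwell ((hlift v).trans hv)
  have hadd : ∀ v w : leechLattice, ψ (v + w) = QuotientGroup.mk (lift v * lift w) := fun v w => by
    rw [hψ.1, QuotientGroup.mk_mul, hlift, hlift]
  have key := invariant_quad S (fun v w => ?_) (fun u v w => ?_) (fun g v => ?_) ?_ v
  · rw [← key, hS h]
  · refine (hS ?_).trans rfl
    rw [hlift, psi_cls hψ]
    exact leechR.cls_eq_iff.2 ⟨w, rfl⟩
  · have e3 : ψ (u + v + w) = QuotientGroup.mk (lift u * lift v * lift w) := by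
      rw [hψ.1, hadd, ← hlift w, ← QuotientGroup.mk_mul]
    rw [hS e3, hS (hadd u v), hS (hadd u w), hS (hadd v w)]
    exact exSq_quad hE _ _ _
  · obtain ⟨k, -, hk⟩ := psi_smul hψ g
    rw [hS (hk v (lift v) (hlift v).symm)]
    have hinj : Function.Injective (MulAut.conjNormal (H := Q) k) := MulEquiv.injective _
    rw [show S v = exSq (lift v) from rfl]
    have e2 : ∀ a : Q, exSq (MulAut.conjNormal (H := Q) k a) = exSq a := fun a => by
      by_cases ha : a ^ 2 = 1
      · rw [exSq_eq_zero.2 ha, exSq_eq_zero.2 (by rw [← map_pow, ha, map_one])]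
      · have hn : MulAut.conjNormal (H := Q) k a ^ 2 ≠ 1 := fun h1 =>
          ha (hinj (by rw [map_pow, h1, map_one]))
        have h1 : ∀ t : ZMod 2, t ≠ 0 → t = 1 := by decide
        rw [h1 _ (mt exSq_eq_zero.1 ha), h1 _ (mt exSq_eq_zero.1 hn)]
    refine Eq.trans (congrArg exSq (Subtype.ext ?_)) (e2 (lift v))
    exact (MulAut.conjNormal_apply k (lift v)).symm
  · obtain ⟨a, ha⟩ := exists_exSq_ne hE
    obtain ⟨v, hv⟩ := hψ.2.1 (QuotientGroup.mk a)
    exact ⟨v, by rw [hS hv]; exact ha⟩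

/-- An element of the extraspecial subgroup is of order at most two iff its class is singular. -/
theorem monster_sq_iff [Finite G] (hE : IsExtraspecial 2 Q) (hQ : 2 < Nat.card Q)
    (hψ : IsLeechModTwoIso Q e ψ) {x : Q} {v : leechLattice} (h : ψ v = QuotientGroup.mk x) :
    x ^ 2 = 1 ↔ leechF v = 0 := by
  rw [← monster_sq hE hQ hψ h, exSq_eq_zero]

/-- The preimage of a totally singular subgroup. -/
theorem monster_plus_type [Finite G] (hE : IsExtraspecial 2 Q) (hQ : Nat.card Q = 2 ^ 25)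
    (hψ : IsLeechModTwoIso Q e ψ) : ∃ E : Subgroup Q, IsElementaryAbelian 2 E ∧ Nat.card E = 2 ^ 13 := by
  let A := (singA.addSubgroupOf leechLattice).toSubgroup
  let H := A.map (psiHom hψ)
  have hsurj : Function.Surjective (psiHom hψ) := fun q => by
    obtain ⟨v, hv⟩ := hψ.2.1 q
    exact ⟨Multiplicative.ofAdd v, hv⟩
  have hker : (psiHom hψ).ker ≤ A := fun v hv => by
    obtain ⟨w, hw⟩ := (hψ.2.2.1 v.toAdd).1 hv
    show ((v.toAdd : leechLattice) : GolayPt → ℤ) ∈ singA
    rw [hw, AddSubgroup.coe_add, ← two_zsmul]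
    exact singA_double w.2
  have hidx : H.index = 2 ^ 12 := by
    show (A.map (psiHom hψ)).index = _
    rw [Subgroup.index_map_eq _ hsurj hker, ← singA_relIndex]
    exact AddSubgroup.index_toSubgroup (singA.addSubgroupOf leechLattice)
  refine ⟨H.comap (QuotientGroup.mk' (Subgroup.center Q)), ?_, ?_⟩
  · have hsq : ∀ x ∈ H.comap (QuotientGroup.mk' (Subgroup.center Q)), x ^ 2 = 1 := fun x hx => by
      obtain ⟨v, hv, hvx⟩ := hx
      rw [monster_sq_iff hE (by rw [hQ]; norm_num) hψ (v := v.toAdd) hvx, leechF]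
      obtain ⟨k, hk⟩ := singA_norm (show ((v.toAdd : leechLattice) : GolayPt → ℤ) ∈ singA from hv)
      rw [hk, show 32 * k / 16 = 2 * k by omega]
      push_cast
      rw [show (2 : ZMod 2) = 0 from rfl, zero_mul]
    refine ⟨⟨⟨fun a b => Subtype.ext ?_⟩⟩, hsq⟩
    have hi : ∀ g ∈ H.comap (QuotientGroup.mk' (Subgroup.center Q)), g⁻¹ = g := fun g hg =>
      inv_eq_of_mul_eq_one_right (by rw [← sq]; exact hsq g hg)
    show (a : Q) * b = b * a
    rw [← hi _ (mul_mem a.2 b.2), mul_inv_rev, hi _ a.2, hi _ b.2]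
  · have h1 := (H.comap (QuotientGroup.mk' (Subgroup.center Q))).card_mul_index
    rw [Subgroup.index_comap_of_surjective _ (QuotientGroup.mk'_surjective _), hidx, hQ,
      show (2 : ℕ) ^ 25 = 2 ^ 13 * 2 ^ 12 by rw [← pow_add]] at h1
    exact Nat.eq_of_mul_eq_mul_right (by positivity) h1

end

end CfsgLib.Trans3
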