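import Cfsg.Agent.Lib.Trans3.MonsterInter

/-!
# Groups of Monster type: the image of the centralizer of a second conjugate
-/

set_option autoImplicit false

namespace CfsgLib.Trans3

open Cfsg CfsgLib.Golay
open scoped Pointwise

/-- The permutation matrices in the monomial group. -/
noncomputable def permN0 : M24 →* N0 :=
  MonoidHom.mk' (fun σ => ⟨monoCo0 σ σ.2 ∅ empty_code, mono_mem_N0 σ ∅ empty_code⟩) fun σ τ =>
    Subtype.ext (by
      show monoCo0 (σ * τ : M24) (σ * τ : M24).2 ∅ empty_code =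
        monoCo0 σ σ.2 ∅ empty_code * monoCo0 τ τ.2 ∅ empty_code
      rw [monoCo0_mul]
      exact monoCo0_congr rfl (by simp))

theorem permPart_permN0 (σ : M24) : permPart (permN0 σ) = σ := permPart_mono σ ∅ empty_code

theorem sign0_commute {g k : N0} (hg : permPart g = 1) (hk : permPart k = 1) :
    g * k = k * g ∧ g * g = 1 := by
  obtain ⟨c, hc, e⟩ := permPart_eq_one hg
  obtain ⟨d, hd, e'⟩ := permPart_eq_one hk
  refine ⟨Subtype.ext ?_, Subtype.ext ?_⟩
  · show (g : Co0) * k = k * g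
    rw [e, e', sign0_mul, sign0_mul]
    exact sign0_congr (symmDiff_comm _ _)
  · show (g : Co0) * g = 1
    rw [e]; exact sign0_sq c hc

variable {G : Type*} [Group G] [Finite G] {z : G} {Q : Subgroup (Subgroup.centralizer ({z} : Set G))}
  [Q.Normal] {e : (Subgroup.centralizer ({z} : Set G)) ⧸ Q ≃* Spor.Co1}
  {ψ : leechLattice → Q ⧸ Subgroup.center Q}

/-- The image of the centralizer of `s` is a split extension of the image of `Q^g` by `M24`. -/
theorem mon_split (hs : IsExtraspecialCentralizerSetting z Q 12) (hψ : IsLeechModTwoIso Q e ψ)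
    {g : G} {x : Q} (hg : g * z * g⁻¹ = qv x) (hx1 : qv x ≠ z) :
    let X := ((Subgroup.centralizer ({z} : Set G) ⊓ Subgroup.centralizer ({qv x} : Set G)).subgroupOf
      (Subgroup.centralizer ({z} : Set G))).map (QuotientGroup.mk' Q)
    let E := (monN Q g).map (QuotientGroup.mk' Q)
    E ≤ X ∧ (∀ a ∈ X, ∀ b ∈ E, a * b * a⁻¹ ∈ E) ∧ IsElementaryAbelian 2 E ∧
      Nat.card E = 2 ^ 11 ∧
      ∃ K : Subgroup ((Subgroup.centralizer ({z} : Set G)) ⧸ Q), K ≤ X ∧ E ⊓ K = ⊥ ∧ E ⊔ K = X ∧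
        Nonempty (K ≃* M24) := by
  intro X E
  obtain ⟨v, hv8, hv⟩ := mon_rep hψ x
  obtain ⟨hq, -, hE, hP⟩ := mon_main hs hψ hg hx1 hv hv8
  obtain ⟨hMle, hnorm, h2⟩ := mon_image hs hψ hg hv
  haveI := hnorm
  have hXr : X = (monF e v).range := by
    refine le_antisymm ?_ ?_
    · rintro _ ⟨a, ha, rfl⟩
      obtain ⟨c, hc⟩ := QuotientGroup.mk_surjective (e (QuotientGroup.mk a))
      exact ⟨⟨c, mon_stab_of_comm hψ hv hc (Subgroup.mem_centralizer_singleton_iff.1
        (Subgroup.mem_subgroupOf.1 ha).2)⟩, monF_eq.2 hc⟩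
    · rintro _ ⟨c, rfl⟩
      obtain ⟨h, he, hh⟩ := mon_stab_lift hs hψ hv c.2
      exact ⟨h, Subgroup.mem_subgroupOf.2 ⟨h.2, Subgroup.mem_centralizer_singleton_iff.2 hh⟩,
        (monF_eq.2 he).symm⟩
  obtain ⟨h, rfl⟩ := co0_trans8 (vec8_q pinf) hq
  set f := monF e (h • vec8 pinf) with hf
  set φ : N0 →* (Subgroup.centralizer ({z} : Set G)) ⧸ Q := f.comp (frameIso h).toMonoidHom with hφ
  have hker : E.comap φ = permPart.ker := by
    have hle : E.comap φ ≤ permPart.ker := by
      have heq : E.comap φ = (E.comap f).comap (frameIso h).toMonoidHom := rfl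
      haveI : (E.comap φ).Normal := heq ▸ Subgroup.Normal.comap hnorm (frameIso h).toMonoidHom
      exact N0_two_group (heq ▸ h2.comap_of_injective (frameIso h).toMonoidHom (frameIso h).injective)
    refine Subgroup.eq_of_le_of_card_ge hle ?_
    refine le_trans permPart_ker_le_card (le_of_eq ?_)
    rw [← hP]
    exact Nat.card_congr ⟨fun a => ⟨(frameIso h).symm a, by
        show f ((frameIso h) ((frameIso h).symm (a : classStab (h • vec8 pinf)))) ∈ E
        rw [MulEquiv.apply_symm_apply]; exact a.2⟩,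
      fun a => ⟨frameIso h a, a.2⟩, fun a => Subtype.ext ((frameIso h).apply_symm_apply _),
      fun a => Subtype.ext ((frameIso h).symm_apply_apply _)⟩
  have hrange : φ.range = X := by
    rw [hXr, hφ, MonoidHom.range_comp,
      MonoidHom.range_eq_top.2 (show Function.Surjective (frameIso h).toMonoidHom from
        (frameIso h).surjective), ← MonoidHom.range_eq_map]
  have hEX : E ≤ X := hXr ▸ hMle
  have hpre : ∀ b ∈ E, ∃ u, permPart u = 1 ∧ φ u = b := fun b hb => by
    obtain ⟨u, rfl⟩ := (hrange ▸ hEX) hb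
    exact ⟨u, MonoidHom.mem_ker.1 (hker ▸ Subgroup.mem_comap.2 hb), rfl⟩
  refine ⟨hEX, ?_, ?_, hE, ?_⟩
  · rintro _ ⟨a, ha, rfl⟩ _ ⟨b, hb, rfl⟩
    exact ⟨a * b * a⁻¹, monN_conj hg (Subgroup.mem_centralizer_singleton_iff.1
      (Subgroup.mem_subgroupOf.1 ha).2) hb, by rw [map_mul, map_mul, map_inv]⟩
  · refine ⟨⟨⟨fun a b => Subtype.ext ?_⟩⟩, fun a ha => ?_⟩
    · obtain ⟨u, hu, hua⟩ := hpre a a.2
      obtain ⟨w, hw, hwb⟩ := hpre b b.2
      show (a : _ ⧸ Q) * b = b * a
      rw [← hua, ← hwb, ← map_mul, (sign0_commute hu hw).1, map_mul]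
    · obtain ⟨u, hu, rfl⟩ := hpre a ha
      rw [sq, ← map_mul, (sign0_commute hu hu).2, map_one]
  · have hinj : Function.Injective (φ.comp permN0) := by
      rw [injective_iff_map_eq_one]
      intro σ hσ
      have h1 : permN0 σ ∈ permPart.ker := by
        rw [← hker, Subgroup.mem_comap]
        exact (show φ (permN0 σ) = 1 from hσ) ▸ E.one_mem
      rwa [MonoidHom.mem_ker, permPart_permN0] at h1
    refine ⟨(φ.comp permN0).range, ?_, ?_, ?_, ⟨(MonoidHom.ofInjective hinj).symm⟩⟩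
    · rintro _ ⟨σ, rfl⟩
      exact hrange ▸ ⟨_, rfl⟩
    · refine (Subgroup.eq_bot_iff_forall _).2 ?_
      rintro _ ⟨ha, σ, rfl⟩
      have h1 : permN0 σ ∈ permPart.ker := by rw [← hker]; exact ha
      rw [MonoidHom.mem_ker, permPart_permN0] at h1
      rw [h1, map_one]
    · refine le_antisymm (sup_le hEX ?_) ?_
      · rintro _ ⟨σ, rfl⟩
        exact hrange ▸ ⟨_, rfl⟩
      · rw [← hrange]
        rintro _ ⟨u, rfl⟩
        have h1 : u * (permN0 (permPart u))⁻¹ ∈ E.comap φ := by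
          rw [hker, MonoidHom.mem_ker, map_mul, map_inv, permPart_permN0, mul_inv_cancel]
        rw [show φ u = φ (u * (permN0 (permPart u))⁻¹) * φ (permN0 (permPart u)) by
          rw [← map_mul, inv_mul_cancel_right]]
        exact Subgroup.mul_mem_sup h1 ⟨_, rfl⟩

end CfsgLib.Trans3
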