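import Cfsg.Agent.Lib.Trans3.Classes
import Cfsg.Agent.Lib.Trans3.Sym

/-! A class of 3-transpositions in which every member commutes with exactly one other. -/

set_option autoImplicit false

namespace CfsgLib.Trans3

variable {G : Type*} [Group G] [Finite G] {D : Set G}

theorem iso_sym_four (hD : Cfsg.IsThreeTranspositionClass D) (hD2 : ∃ a ∈ D, ∃ b ∈ D, a ≠ b)
    {d : G} (hd : d ∈ D) (hV : ∀ y ∈ D, Commute d y → VRel D d y)
    (hm : {y : G | y ∈ D ∧ Commute d y}.ncard = 2) : Nonempty (G ≃* Equiv.Perm (Fin 4)) := by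
  have hG := class_isGroup hD
  have hone : ∀ x ∈ D, ∃ y, y ∈ D ∧ y ≠ x ∧ Commute x y ∧
      ∀ z ∈ D, z ≠ x → Commute x z → z = y := by
    obtain ⟨a, b, hab, hs⟩ := Set.ncard_eq_two.1 hm
    obtain ⟨v, hv, hvd, hdv, hu⟩ : ∃ v, v ∈ D ∧ v ≠ d ∧ Commute d v ∧
        ∀ z ∈ D, z ≠ d → Commute d z → z = v := by
      have hdm : d ∈ ({a, b} : Set G) := hs ▸ ⟨hd, Commute.refl d⟩
      rcases hdm with rfl | hdm
      · have hb : b ∈ {y : G | y ∈ D ∧ Commute d y} := by rw [hs]; exact Or.inr rfl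
        refine ⟨b, hb.1, fun h => hab h.symm, hb.2, fun z hz hzd hc => ?_⟩
        have : z ∈ ({d, b} : Set G) := hs ▸ ⟨hz, hc⟩
        exact this.resolve_left hzd
      · rw [Set.mem_singleton_iff] at hdm
        subst hdm
        have ha : a ∈ {y : G | y ∈ D ∧ Commute d y} := by rw [hs]; exact Or.inl rfl
        refine ⟨a, ha.1, hab, ha.2, fun z hz hzd hc => ?_⟩
        have : z ∈ ({a, d} : Set G) := hs ▸ ⟨hz, hc⟩
        exact this.resolve_right hzd
    intro x hx
    obtain ⟨g, rfl⟩ := class_exists_conj hD hd hx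
    refine ⟨g * v * g⁻¹, class_conj_mem hD g hv, fun h => hvd (by simpa using h),
      (commute_conj_iff g d v).2 hdv, fun z hz hzd hc => ?_⟩
    have hc' := (commute_conj_left g d z).1 hc
    rw [← hu (g⁻¹ * z * g) (by simpa using class_conj_mem hD g⁻¹ hz)
      (fun h => hzd (by rw [← h]; group)) hc']
    group
  choose! p hpD hpne hpc hpu using hone
  have hpconj : ∀ g : G, ∀ x ∈ D, p (g * x * g⁻¹) = g * p x * g⁻¹ := fun g x hx =>
    (hpu _ (class_conj_mem hD g hx) _ (class_conj_mem hD g (hpD x hx))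
      (fun h => hpne x hx (by simpa using h)) ((commute_conj_iff g x _).2 (hpc x hx))).symm
  have hVall : ∀ x ∈ D, VRel D x (p x) := by
    intro x hx
    obtain ⟨g, rfl⟩ := class_exists_conj hD hd hx
    rw [hpconj g d hd]
    exact (hV _ (hpD d hd) (hpc d hd)).conj hG g
  let t : G → G := fun x => x * p x
  have htO : ∀ x ∈ D, t x ∈ Cfsg.pCore 2 G := fun x hx => ((vRel_iff hG hx).1 (hVall x hx)).2
  have htsq : ∀ x ∈ D, t x * t x = 1 := fun x hx => by
    show x * p x * (x * p x) = 1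
    rw [← pow_two, (hpc x hx).mul_pow, pow_two, pow_two, sq_one hD.1 hx,
      sq_one hD.1 (hpD x hx), one_mul]
  have hnp : ∀ x ∈ D, ∀ y ∈ D, ¬ Commute x y → ¬ Commute (t x) y := fun x hx y hy hn hc =>
    hn (((commute_mul_iff hD.1 hx (hpD x hx) hy (hpne x hx).symm (hpc x hx)).1 hc.symm).1.symm)
  have hmove : ∀ x ∈ D, ∀ y ∈ D, ¬ Commute x y → t x * y * t x = p y := by
    intro x hx y hy hn
    have hinv : (t x)⁻¹ = t x := inv_eq_of_mul_eq_one_right (htsq x hx)
    have hmem : t x * y * t x ∈ D := by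
      have := class_conj_mem hD (t x) hy; rwa [hinv] at this
    have hrel : VRel D y (t x * y * t x) := (vRel_iff hG hy).2 ⟨hmem, by
      rw [show y * (t x * y * t x) = (y * t x * y) * t x by group]
      have := (CfsgLib.Amalgam.normal_pCore (G := G) (p := 2)).conj_mem _ (htO x hx) y
      rw [inv_eq hD.1 hy] at this
      exact mul_mem this (htO x hx)⟩
    refine hpu y hy _ hmem (fun h => hnp x hx y hy hn ?_) hrel.commute
    exact mul_inv_eq_iff_eq_mul.1 (by rwa [hinv])
  have hline : ∀ x ∈ D, ∀ y ∈ D, ¬ Commute x y → t (y * x * y) = t y * t x := by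
    intro x hx y hy hn
    show y * x * y * p (y * x * y) = _
    have h2 : p (y * x * y) = y * p x * y := by
      have := hpconj y x hx; rwa [inv_eq hD.1 hy] at this
    rw [h2, show t y = y * (t x * y * t x) by rw [hmove x hx y hy hn],
      show y * (t x * y * t x) * t x = y * t x * y * (t x * t x) by group, htsq x hx, mul_one]
    show y * x * y * (y * p x * y) = y * (x * p x) * y
    rw [show y * x * y * (y * p x * y) = y * x * (y * y) * p x * y by group, sq_one hD.1 hy]
    group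
  obtain ⟨e, he, hde⟩ := exists_noncomm hD hD2 hd
  have hclass : ∀ z ∈ D, ∀ x ∈ D, Commute x z → z = x ∨ z = p x := fun z hz x hx hc =>
    or_iff_not_imp_left.2 fun h => hpu x hx z hz h hc
  let x₀ := e * d * e
  have hx₀ : x₀ ∈ D := self_conj_mem hG he hd
  have hsix : ∀ z ∈ D, Commute d z ∨ Commute e z ∨ Commute x₀ z := by
    intro z hz
    by_contra h
    obtain ⟨hdz, hez, hxz⟩ : ¬ Commute d z ∧ ¬ Commute e z ∧ ¬ Commute x₀ z := by tauto
    have h1 : t (z * x₀ * z) = t z * (t e * t d) := by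
      rw [hline x₀ hx₀ z hz hxz, hline d hd e he hde]
    have hd' := self_conj_mem hG hz hd
    have he' := self_conj_mem hG hz he
    have hn : ¬ Commute (z * d * z) (z * e * z) := fun hc => hde (by
      have hcc := (commute_conj_iff z d e).1 (by rwa [inv_eq hD.1 hz])
      exact hcc)
    have heq : z * x₀ * z = (z * e * z) * (z * d * z) * (z * e * z) := by
      calc z * x₀ * z = z * e * (z * z) * d * (z * z) * e * z := by
            rw [sq_one hD.1 hz]; simp only [x₀]; group
        _ = _ := by group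
    rw [heq, hline _ hd' _ he' hn, hline e he z hz hez, hline d hd z hz hdz] at h1
    -- `t z * t e * (t z * t d) = t z * (t e * t d)`
    rw [mul_assoc] at h1
    have h2 : t z * t d = t d := mul_left_cancel (mul_left_cancel h1)
    have h3 : t z = 1 := mul_eq_right.1 h2
    exact hpne z hz (by
      rw [eq_inv_of_mul_eq_one_right (show z * p z = 1 from h3), inv_eq hD.1 hz])
  have hnv : ¬ Commute (p d) e := fun h => hde (((hVall d hd).2.2 e he).1 h)
  obtain ⟨φ, f1, f2, f3⟩ := exists_hom_perm_four (sq_one hD.1 hd) (sq_one hD.1 he)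
    (sq_one hD.1 (hpD d hd)) (hpc d hd).eq (braid hD.1 hd he hde)
    (braid hD.1 he (hpD d hd) fun h => hnv h.symm)
  have hinj : Function.Injective φ := injective_of_hom_perm_four φ (by
    rw [map_mul, f1, f3]
    intro h
    exact hpne d hd (by rw [eq_inv_of_mul_eq_one_right h, inv_eq hD.1 hd]))
  refine ⟨(MulEquiv.ofBijective φ ⟨hinj, MonoidHom.range_eq_top.1 (top_le_iff.1 ?_)⟩).symm⟩
  rw [← hD.2.2, Subgroup.closure_le]
  have hpe : p e ∈ φ.range := by
    rw [← hmove d hd e he hde]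
    exact ⟨Equiv.swap 0 1 * Equiv.swap 2 3 * Equiv.swap 1 2 * (Equiv.swap 0 1 * Equiv.swap 2 3),
      by simp only [map_mul, f1, f2, f3]; rfl⟩
  intro z hz
  rcases hsix z hz with h | h | h
  · rcases hclass z hz d hd h with rfl | rfl
    exacts [⟨_, f1⟩, ⟨_, f3⟩]
  · rcases hclass z hz e he h with rfl | rfl
    exacts [⟨_, f2⟩, hpe]
  · rcases hclass z hz x₀ hx₀ h with rfl | rfl
    · exact φ.range.mul_mem (φ.range.mul_mem ⟨_, f2⟩ ⟨_, f1⟩) ⟨_, f2⟩
    · have := hpconj e d hd
      rw [inv_eq hD.1 he] at this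
      show p (e * d * e) ∈ φ.range
      rw [this]
      exact φ.range.mul_mem (φ.range.mul_mem ⟨_, f2⟩ ⟨_, f3⟩) ⟨_, f2⟩

end CfsgLib.Trans3
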