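import Cfsg.Agent.Lib.Trans3.Group
import Cfsg.Agent.Lib.Trans3.Sym

/-! The two kinds of planes spanned by two intersecting lines of a 3-transposition set. -/

set_option autoImplicit false

namespace CfsgLib.Trans3

variable {G : Type*} [Group G] {D : Set G}

/-- `{a, b, c}` is a line: `a`, `b` are non-commuting members and `c` is their third point. -/
def OnLine (D : Set G) (a b c : G) : Prop :=
  a ∈ D ∧ b ∈ D ∧ c ∈ D ∧ ¬ Commute a b ∧ a * b * a = c ∧ b * a * b = c

theorem onLine_of (hD : Cfsg.IsThreeTranspositionGroup D) {a b : G} (ha : a ∈ D) (hb : b ∈ D)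
    (h : ¬ Commute a b) : OnLine D a b (a * b * a) :=
  ⟨ha, hb, self_conj_mem hD ha hb, h, rfl, (braid hD.1 ha hb h).symm⟩

theorem OnLine.swap {a b c : G} (h : OnLine D a b c) : OnLine D b a c :=
  ⟨h.2.1, h.1, h.2.2.1, fun h' => h.2.2.2.1 h'.symm, h.2.2.2.2.2, h.2.2.2.2.1⟩

theorem OnLine.rot (hD : Cfsg.IsThreeTranspositionGroup D) {a b c : G} (h : OnLine D a b c) :
    OnLine D c a b := by
  obtain ⟨ha, hb, hc, hn, h1, h2⟩ := h
  have haa := sq_one hD.1 ha
  have hback : a * c * a = b := by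
    rw [← h1, show a * (a * b * a) * a = (a * a) * b * (a * a) by group, haa, one_mul, mul_one]
  have hn' : ¬ Commute c a := fun hc' => hn (by
    have : Commute a (a * c * a) := ((Commute.refl a).mul_right hc'.symm).mul_right (Commute.refl a)
    rwa [hback] at this)
  exact ⟨hc, ha, hb, hn', (braid hD.1 hc ha hn').trans hback, hback⟩

theorem OnLine.conj (hD : Cfsg.IsThreeTranspositionGroup D) {a b c a' b' c' h : G} (hh : h ∈ D)
    (hl : OnLine D a b c) (ha : h * a * h = a') (hb : h * b * h = b') (hc : h * c * h = c') :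
    OnLine D a' b' c' := by
  obtain ⟨mA, mB, mC, hn, h1, h2⟩ := hl
  subst ha hb hc
  have e : ∀ x y : G, h * x * h * (h * y * h) * (h * x * h) = h * (x * y * x) * h := fun x y => by
    calc h * x * h * (h * y * h) * (h * x * h) = h * x * (h * h) * y * (h * h) * x * h := by group
      _ = _ := by rw [sq_one hD.1 hh]; group
  refine ⟨self_conj_mem hD hh mA, self_conj_mem hD hh mB, self_conj_mem hD hh mC, fun h' => hn ?_,
    by rw [e, h1], by rw [e, h2]⟩
  have := h'.map (MulAut.conj h).toMonoidHom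
  simpa [inv_eq hD.1 hh, mul_assoc, invol_cancel (hD.1.1 h hh), sq_one hD.1 hh] using this

/-- The third point in the affine plane of order three, points coded in base three. -/
def thirdPt (p q : Fin 9) : Fin 9 :=
  ⟨((6 - p.1 % 3 - q.1 % 3) % 3) + 3 * ((6 - p.1 / 3 - q.1 / 3) % 3), by omega⟩

/-- Three members spanning an affine plane. -/
theorem exists_affine (hD : Cfsg.IsThreeTranspositionGroup D) {x a b : G} (hx : x ∈ D) (ha : a ∈ D)
    (hb : b ∈ D) (hxa : ¬ Commute x a) (hxb : ¬ Commute x b) (hab : ¬ Commute a b)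
    (hae : ¬ Commute a (x * b * x)) :
    ∃ Y : Fin 9 → G, (Y 0 = x ∧ Y 1 = a ∧ Y 3 = b) ∧
      ∀ p q, p ≠ q → OnLine D (Y p) (Y q) (Y (thirdPt p q)) := by
  -- the points other than `x = 00`, `a = 10`, `b = 01`
  let c := x * a * x
  let e := x * b * x
  let f := a * b * a
  let g := a * e * a
  let u := x * f * x
  let v := x * g * x
  have hxx := sq_one hD.1 hx
  have hxi : ∀ y : G, x * (x * y * x) * x = y := fun y => by
    rw [show x * (x * y * x) * x = (x * x) * y * (x * x) by group, hxx, one_mul, mul_one]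
  have h1 : OnLine D x a c := onLine_of hD hx ha hxa
  have h2 : OnLine D x b e := onLine_of hD hx hb hxb
  have h3 : OnLine D a b f := onLine_of hD ha hb hab
  have h4 : OnLine D a e g := onLine_of hD ha h2.2.2.1 hae
  have h5 : OnLine D c e u := h3.conj hD hx rfl rfl rfl
  have h6 : OnLine D c b v := h4.conj hD hx rfl (hxi b) rfl
  have h7 : OnLine D e f v := h1.conj hD hb h2.2.2.2.2.2 h3.2.2.2.2.2 h6.2.2.2.2.2
  have h8 : OnLine D c f g := h2.conj hD ha h1.2.2.2.2.2 h3.2.2.2.2.1 h4.2.2.2.2.1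
  have h9 : OnLine D b g u := h1.conj hD h2.2.2.1 (h2.rot hD).2.2.2.2.1 h4.2.2.2.2.2 h5.2.2.2.2.2
  have h10 : OnLine D a v u := h2.conj hD h1.2.2.1 (h1.rot hD).2.2.2.2.1 h6.2.2.2.2.1 h5.2.2.2.2.1
  have h11 : OnLine D x f u :=
    (h4.conj hD hb h3.2.2.2.2.2 (h2.swap.rot hD).2.2.2.2.2 h9.2.2.2.2.1).swap
  have h12 : OnLine D x g v :=
    ((h5.conj hD hb h6.2.2.2.2.2 (h2.swap.rot hD).2.2.2.2.2
      (h9.rot hD).2.2.2.2.2).swap.rot hD).swap
  refine ⟨![x, a, c, b, u, g, e, v, f], ⟨rfl, rfl, rfl⟩, fun p q hpq => ?_⟩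
  match p, q with
  | 0, 0 => exact absurd rfl hpq
  | 0, 1 => exact h1
  | 0, 2 => exact (h1.rot hD).swap
  | 0, 3 => exact h2
  | 0, 4 => exact (h11.rot hD).swap
  | 0, 5 => exact h12
  | 0, 6 => exact (h2.rot hD).swap
  | 0, 7 => exact (h12.rot hD).swap
  | 0, 8 => exact h11
  | 1, 0 => exact h1.swap
  | 1, 1 => exact absurd rfl hpq
  | 1, 2 => exact (h1.swap.rot hD).swap
  | 1, 3 => exact h3
  | 1, 4 => exact (h10.rot hD).swap
  | 1, 5 => exact (h4.rot hD).swap
  | 1, 6 => exact h4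
  | 1, 7 => exact h10
  | 1, 8 => exact (h3.rot hD).swap
  | 2, 0 => exact (h1.rot hD)
  | 2, 1 => exact (h1.swap.rot hD)
  | 2, 2 => exact absurd rfl hpq
  | 2, 3 => exact h6
  | 2, 4 => exact (h5.rot hD).swap
  | 2, 5 => exact (h8.rot hD).swap
  | 2, 6 => exact h5
  | 2, 7 => exact (h6.rot hD).swap
  | 2, 8 => exact h8
  | 3, 0 => exact h2.swap
  | 3, 1 => exact h3.swap
  | 3, 2 => exact h6.swap
  | 3, 3 => exact absurd rfl hpq
  | 3, 4 => exact (h9.rot hD).swap
  | 3, 5 => exact h9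
  | 3, 6 => exact (h2.swap.rot hD).swap
  | 3, 7 => exact (h6.swap.rot hD).swap
  | 3, 8 => exact (h3.swap.rot hD).swap
  | 4, 0 => exact (h11.rot hD)
  | 4, 1 => exact (h10.rot hD)
  | 4, 2 => exact (h5.rot hD)
  | 4, 3 => exact (h9.rot hD)
  | 4, 4 => exact absurd rfl hpq
  | 4, 5 => exact (h9.swap.rot hD)
  | 4, 6 => exact (h5.swap.rot hD)
  | 4, 7 => exact (h10.swap.rot hD)
  | 4, 8 => exact (h11.swap.rot hD)
  | 5, 0 => exact h12.swap
  | 5, 1 => exact (h4.rot hD)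
  | 5, 2 => exact (h8.rot hD)
  | 5, 3 => exact h9.swap
  | 5, 4 => exact (h9.swap.rot hD).swap
  | 5, 5 => exact absurd rfl hpq
  | 5, 6 => exact (h4.swap.rot hD)
  | 5, 7 => exact (h12.swap.rot hD).swap
  | 5, 8 => exact (h8.swap.rot hD)
  | 6, 0 => exact (h2.rot hD)
  | 6, 1 => exact h4.swap
  | 6, 2 => exact h5.swap
  | 6, 3 => exact (h2.swap.rot hD)
  | 6, 4 => exact (h5.swap.rot hD).swap
  | 6, 5 => exact (h4.swap.rot hD).swap
  | 6, 6 => exact absurd rfl hpq
  | 6, 7 => exact (h7.rot hD).swap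
  | 6, 8 => exact h7
  | 7, 0 => exact (h12.rot hD)
  | 7, 1 => exact h10.swap
  | 7, 2 => exact (h6.rot hD)
  | 7, 3 => exact (h6.swap.rot hD)
  | 7, 4 => exact (h10.swap.rot hD).swap
  | 7, 5 => exact (h12.swap.rot hD)
  | 7, 6 => exact (h7.rot hD)
  | 7, 7 => exact absurd rfl hpq
  | 7, 8 => exact (h7.swap.rot hD)
  | 8, 0 => exact h11.swap
  | 8, 1 => exact (h3.rot hD)
  | 8, 2 => exact h8.swap
  | 8, 3 => exact (h3.swap.rot hD)
  | 8, 4 => exact (h11.swap.rot hD).swap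
  | 8, 5 => exact (h8.swap.rot hD).swap
  | 8, 6 => exact h7.swap
  | 8, 7 => exact (h7.swap.rot hD).swap
  | 8, 8 => exact absurd rfl hpq

end CfsgLib.Trans3
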