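import Cfsg.Agent.Lib.Trans3.RootSub

/-!
# Rank one groups acting quadratically on an abelian group
-/

set_option autoImplicit false

namespace CfsgLib.Trans3.RankOne

open Cfsg
open scoped commutatorElement

variable {X : Type*} [Group X] {N : Type*} [AddCommGroup N] [DistribMulAction X N]

/-- The additive subgroup generated by `g • n - n`, `g ∈ H`, `n ∈ T`. -/
def moduleComm (H : Set X) (T : Set N) : AddSubgroup N :=
  AddSubgroup.closure {m | ∃ g ∈ H, ∃ n ∈ T, g • n - n = m}

theorem smul_sub_mem_moduleComm {H : Set X} {T : Set N} {g : X} {n : N} (hg : g ∈ H)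
    (hn : n ∈ T) : g • n - n ∈ moduleComm H T :=
  AddSubgroup.subset_closure ⟨g, hg, n, hn, rfl⟩

theorem moduleComm_le {H : Set X} {T : Set N} {M : AddSubgroup N}
    (h : ∀ g ∈ H, ∀ n ∈ T, g • n - n ∈ M) : moduleComm H T ≤ M :=
  (AddSubgroup.closure_le _).2 (by rintro _ ⟨g, hg, n, hn, rfl⟩; exact h g hg n hn)

/-- The vectors fixed by `X`. -/
def fixedAdd (X N : Type*) [Group X] [AddCommGroup N] [DistribMulAction X N] : AddSubgroup N where
  carrier := {n | ∀ x : X, x • n = n}
  zero_mem' x := smul_zero x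
  add_mem' ha hb x := by rw [smul_add, ha x, hb x]
  neg_mem' ha x := by rw [smul_neg, ha x]

theorem mem_fixedAdd {n : N} : n ∈ fixedAdd X N ↔ ∀ x : X, x • n = n := Iff.rfl

/-- A property of elements closed under multiplication and inversion holds on `A ⊔ B`. -/
theorem forall_of_gen {A B : Subgroup X} (htop : A ⊔ B = ⊤) {P : X → Prop} (h1 : P 1)
    (hm : ∀ x y, P x → P y → P (x * y)) (hA : ∀ a ∈ A, P a) (hB : ∀ b ∈ B, P b) :
    ∀ x, P x := by
  intro x
  have hx : x ∈ Subgroup.closure ((A : Set X) ∪ B) := by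
    rw [← Subgroup.sup_eq_closure, htop]; trivial
  induction hx using Subgroup.closure_induction'' with
  | mem y hy => rcases hy with hy | hy; exacts [hA y hy, hB y hy]
  | inv_mem y hy =>
      rcases hy with hy | hy
      exacts [hA _ (A.inv_mem hy), hB _ (B.inv_mem hy)]
  | one => exact h1
  | mul y z _ _ hy hz => exact hm y z hy hz

/-- A rank one group with quadratically acting unipotent subgroups that is not itself quadratic. -/
structure QuadData (X N : Type*) [Group X] [AddCommGroup N] [DistribMulAction X N]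
    (A B : Subgroup X) : Prop where
  rankOne : IsRankOneGroup X A B
  quadA : ∀ a ∈ A, ∀ a' ∈ A, ∀ n : N, a' • (a • n - n) = a • n - n
  quadB : ∀ a ∈ B, ∀ a' ∈ B, ∀ n : N, a' • (a • n - n) = a • n - n
  notQuad : ∃ x y : X, ∃ n : N, y • (x • n - n) ≠ x • n - n

variable {A B : Subgroup X}

theorem QuadData.mk' (h : IsRankOneGroup X A B)
    (hq : ∀ a ∈ A, ∀ a' ∈ A, ∀ n : N, a' • (a • n - n) = a • n - n)
    (hX : ∃ x y : X, ∃ n : N, y • (x • n - n) ≠ x • n - n) : QuadData X N A B := by
  refine ⟨h, hq, fun b hb b' hb' n => ?_, hX⟩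
  obtain ⟨g, -, hg⟩ := right_mem h.2
  rw [hg, mem_conjBy] at hb hb'
  have := congrArg (g • ·) (hq _ hb _ hb' (g⁻¹ • n))
  simpa [smul_sub, ← mul_smul, mul_assoc] using this

theorem QuadData.symm (h : QuadData X N A B) : QuadData X N B A :=
  ⟨⟨sup_comm A B ▸ h.rankOne.1, RankOnePair_symm h.rankOne.2⟩, h.quadB, h.quadA, h.notQuad⟩

variable (A B) in
/-- The generators of `[N, X]`. -/
def genComm (N : Type*) [AddCommGroup N] [DistribMulAction X N] : AddSubgroup N :=
  moduleComm (A : Set X) (Set.univ : Set N) ⊔ moduleComm (B : Set X) Set.univ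

variable (A B) in
/-- `[[N, X], A]`. -/
def doubleComm (N : Type*) [AddCommGroup N] [DistribMulAction X N] : AddSubgroup N :=
  moduleComm (A : Set X) (genComm A B N : Set N)

theorem genComm_comm : genComm B A N = genComm A B N := sup_comm _ _

theorem smul_sub_mem_genComm (h : QuadData X N A B) (x : X) :
    ∀ n : N, x • n - n ∈ genComm A B N :=
  forall_of_gen h.rankOne.1 (P := fun x => ∀ n : N, x • n - n ∈ genComm A B N)
    (fun n => by simp)
    (fun x y hx hy n => by
      rw [mul_smul, ← sub_add_sub_cancel (x • y • n) (y • n) n]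
      exact add_mem (hx _) (hy _))
    (fun a ha n => AddSubgroup.mem_sup_left (smul_sub_mem_moduleComm ha (Set.mem_univ n)))
    (fun b hb n => AddSubgroup.mem_sup_right (smul_sub_mem_moduleComm hb (Set.mem_univ n))) x

theorem smul_mem_genComm (h : QuadData X N A B) (x : X) {w : N} (hw : w ∈ genComm A B N) :
    x • w ∈ genComm A B N := by
  simpa using add_mem (smul_sub_mem_genComm h x w) hw

theorem smul_eq_of_mem (h : QuadData X N A B) {a : X} (ha : a ∈ A) {u : N}
    (hu : u ∈ moduleComm (A : Set X) (Set.univ : Set N)) : a • u = u := by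
  induction hu using AddSubgroup.closure_induction with
  | mem x hx => obtain ⟨g, hg, n, -, rfl⟩ := hx; exact h.quadA g hg a ha n
  | zero => simp
  | add x y _ _ hx hy => rw [smul_add, hx, hy]
  | neg x _ hx => rw [smul_neg, hx]

theorem doubleComm_le : doubleComm A B N ≤ moduleComm (A : Set X) (Set.univ : Set N) :=
  moduleComm_le fun _ hg n _ => smul_sub_mem_moduleComm hg (Set.mem_univ n)

theorem smul_eq_of_doubleComm (h : QuadData X N A B) {a : X} (ha : a ∈ A) {u : N}
    (hu : u ∈ doubleComm A B N) : a • u = u :=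
  smul_eq_of_mem h ha (doubleComm_le hu)

theorem doubleComm_le_genComm : doubleComm A B N ≤ genComm A B N :=
  doubleComm_le.trans le_sup_left

theorem inter_le_fixed (h : QuadData X N A B) {n : N}
    (hA : n ∈ moduleComm (A : Set X) (Set.univ : Set N))
    (hB : n ∈ moduleComm (B : Set X) (Set.univ : Set N)) : n ∈ fixedAdd X N :=
  forall_of_gen h.rankOne.1 (P := fun x => x • n = n) (one_smul _ n)
    (fun x y hx hy => by rw [mul_smul, hy, hx]) (fun _ ha => smul_eq_of_mem h ha hA)
    (fun _ hb => smul_eq_of_mem h.symm hb hB)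

theorem smul_smul_mem (h : QuadData X N A B) {a b : X} (ha : a ∈ A)
    (he : conjBy A b⁻¹ = conjBy B a⁻¹) {u : N} (hu : u ∈ doubleComm A B N) :
    a • b⁻¹ • u ∈ doubleComm B A N := by
  induction hu using AddSubgroup.closure_induction with
  | mem x hx =>
      obtain ⟨g, hg, w, hw, rfl⟩ := hx
      have hb' : a * (b⁻¹ * g * b) * a⁻¹ ∈ B := by
        have h1 := conj_mem_conjBy (g := b⁻¹) hg
        rw [he, mem_conjBy] at h1
        simpa [mul_assoc] using h1
      have := smul_sub_mem_moduleComm (T := (genComm B A N : Set N)) (n := (a * b⁻¹) • w) hb'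
        (by rw [genComm_comm]; exact smul_mem_genComm h _ hw)
      change _ ∈ moduleComm (B : Set X) (genComm B A N : Set N)
      simpa [smul_sub, ← mul_smul, mul_assoc] using this
  | zero => simp [zero_mem]
  | add x y _ _ hx hy => rw [smul_add, smul_add]; exact add_mem hx hy
  | neg x _ hx => rw [smul_neg, smul_neg]; exact neg_mem hx

/-- `α β ≡ 1` on `[[N, X], A]` modulo the fixed points. -/
theorem pair_inverse (h : QuadData X N A B) {a b : X} (ha : a ∈ A) (hb : b ∈ B)
    (he : conjBy A b⁻¹ = conjBy B a⁻¹) {u : N} (hu : u ∈ doubleComm A B N) :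
    a • (b • u - u) - (b • u - u) - u ∈ fixedAdd X N := by
  have hbinv : b⁻¹ • u = u - (b • u - u) := by
    have h1 := h.quadB b hb b⁻¹ (inv_mem hb) u
    rw [smul_sub, inv_smul_smul] at h1
    rw [← h1]; abel
  have hv := smul_smul_mem h ha he hu
  rw [hbinv, smul_sub, smul_eq_of_doubleComm h ha hu] at hv
  refine inter_le_fixed h ?_ ?_
  · exact sub_mem (smul_sub_mem_moduleComm ha (Set.mem_univ _)) (doubleComm_le hu)
  · have hβ : b • u - u ∈ moduleComm (B : Set X) (Set.univ : Set N) :=
      smul_sub_mem_moduleComm hb (Set.mem_univ _)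
    have h2 := neg_mem (add_mem (doubleComm_le hv) hβ)
    have h3 : a • (b • u - u) - (b • u - u) - u
        = -(u - a • (b • u - u) + (b • u - u)) := by abel
    rwa [h3]

theorem inv_smul_eq (h : QuadData X N A B) {a : X} (ha : a ∈ A) (n : N) :
    a⁻¹ • n = n - (a • n - n) := by
  have h1 := h.quadA a ha a⁻¹ (inv_mem ha) n
  rw [smul_sub, inv_smul_smul] at h1
  rw [← h1]; abel

theorem special_relation_left (h : QuadData X N A B) {a b : X} (ha : a ∈ A) (hb : b ∈ B)
    (he : conjBy A b⁻¹ = conjBy B a⁻¹) {u : N} (hu : u ∈ doubleComm A B N) :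
    (b⁻¹ * a * b) • u = (a⁻¹ * b⁻¹ * a) • u := by
  have hz := pair_inverse h ha hb he hu
  have hau := smul_eq_of_doubleComm h ha hu
  obtain ⟨β, hβ⟩ : ∃ β, b • u - u = β := ⟨_, rfl⟩
  rw [hβ] at hz
  obtain ⟨z, hzd, hz⟩ : ∃ z, a • β = β + u + z ∧ z ∈ fixedAdd X N :=
    ⟨_, by abel, hz⟩
  have hbu : b • u = u + β := by rw [← hβ]; abel
  have hbinvu : b⁻¹ • u = u - β := by rw [inv_smul_eq h.symm hb, hβ]
  have hbinvβ : b⁻¹ • β = β := by rw [← hβ]; exact h.quadB b hb _ (inv_mem hb) u
  have haiu : a⁻¹ • u = u := by rw [inv_smul_eq h ha, hau]; abel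
  rw [mul_smul, mul_smul, hbu, smul_add a, hau, hzd, mul_smul, mul_smul, hau, hbinvu]
  simp only [smul_add, smul_sub, hbinvu, hbinvβ, hz b⁻¹, haiu]
  rw [inv_smul_eq h ha β, hzd]
  abel

theorem special_relation_right (h : QuadData X N A B) {a b : X} (ha : a ∈ A) (hb : b ∈ B)
    (he : conjBy A b⁻¹ = conjBy B a⁻¹) {v : N} (hv : v ∈ doubleComm B A N) :
    (b⁻¹ * a * b) • v = (a⁻¹ * b⁻¹ * a) • v := by
  have hz := pair_inverse h.symm hb ha he.symm hv
  have hbv := smul_eq_of_doubleComm h.symm hb hv
  obtain ⟨α, hα⟩ : ∃ α, a • v - v = α := ⟨_, rfl⟩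
  rw [hα] at hz
  obtain ⟨z, hzd, hz⟩ : ∃ z, b • α = α + v + z ∧ z ∈ fixedAdd X N :=
    ⟨_, by abel, hz⟩
  have hav : a • v = v + α := by rw [← hα]; abel
  have hbiv : b⁻¹ • v = v := by rw [inv_smul_eq h.symm hb, hbv]; abel
  have hbiα : b⁻¹ • α = α - (v + z) := by rw [inv_smul_eq h.symm hb, hzd]; abel
  have haiα : a⁻¹ • α = α := by rw [← hα]; exact h.quadA a ha _ (inv_mem ha) v
  rw [mul_smul, mul_smul, hbv, hav, mul_smul, mul_smul, hav]
  simp only [smul_add, smul_sub, hbiv, hbiα, haiα, hz a⁻¹]
  abel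

variable (A B) in
/-- `[[N, X], A] + [[N, X], B]`. -/
def coreModule (N : Type*) [AddCommGroup N] [DistribMulAction X N] : AddSubgroup N :=
  doubleComm A B N ⊔ doubleComm B A N

theorem coreModule_comm : coreModule B A N = coreModule A B N := sup_comm _ _

theorem coreModule_le : coreModule A B N ≤ genComm A B N :=
  sup_le doubleComm_le_genComm (doubleComm_le_genComm.trans genComm_comm.le)

theorem smul_mem_core (h : QuadData X N A B) (x : X) :
    ∀ m ∈ coreModule A B N, x • m ∈ coreModule A B N := by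
  refine forall_of_gen h.rankOne.1 (P := fun x => ∀ m ∈ coreModule A B N, x • m ∈ coreModule A B N)
    (fun m hm => by rwa [one_smul]) (fun x y hx hy m hm => by rw [mul_smul]; exact hx _ (hy m hm))
    ?_ ?_ x
  · intro a ha m hm
    have h1 : a • m - m ∈ coreModule A B N :=
      AddSubgroup.mem_sup_left (smul_sub_mem_moduleComm ha (coreModule_le hm))
    simpa using add_mem h1 hm
  · intro b hb m hm
    have h1 : b • m - m ∈ coreModule A B N := AddSubgroup.mem_sup_right
      (smul_sub_mem_moduleComm hb (genComm_comm (A := A) (B := B) (N := N) ▸ coreModule_le hm))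
    simpa using add_mem h1 hm

/-- The elements trivial on the core module modulo fixed points. -/
def coreKernel (h : QuadData X N A B) : Subgroup X where
  carrier := {g | ∀ m ∈ coreModule A B N, g • m - m ∈ fixedAdd X N}
  one_mem' m _ := by simp [zero_mem]
  mul_mem' {x y} hx hy m hm := by
    rw [mul_smul, ← sub_add_sub_cancel (x • y • m) (y • m) m]
    exact add_mem (hx _ (smul_mem_core h y m hm)) (hy m hm)
  inv_mem' {x} hx m hm := by
    have h1 := hx _ (smul_mem_core h x⁻¹ m hm)
    rw [smul_inv_smul] at h1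
    simpa using neg_mem h1

theorem coreKernel_normal (h : QuadData X N A B) : (coreKernel h).Normal where
  conj_mem k hk g m hm := by
    have h1 := hk _ (smul_mem_core h g⁻¹ m hm)
    have h2 : g • (k • g⁻¹ • m - g⁻¹ • m) ∈ fixedAdd X N := by rw [h1 g]; exact h1
    simpa [smul_sub, ← mul_smul, mul_assoc] using h2

theorem core_not_le_fixed (h : QuadData X N A B) : ¬ coreModule A B N ≤ fixedAdd X N := by
  intro hle
  have hW : ∀ (x : X), ∀ w ∈ genComm A B N, x • w - w ∈ fixedAdd X N := by
    intro x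
    refine forall_of_gen h.rankOne.1 (P := fun x => ∀ w ∈ genComm A B N, x • w - w ∈ fixedAdd X N)
      (fun w _ => by simp [zero_mem]) (fun x y hx hy w hw => by
        rw [mul_smul, ← sub_add_sub_cancel (x • y • w) (y • w) w]
        exact add_mem (hx _ (smul_mem_genComm h y hw)) (hy w hw)) ?_ ?_ x
    · exact fun a ha w hw => hle (AddSubgroup.mem_sup_left (smul_sub_mem_moduleComm ha hw))
    · exact fun b hb w hw => hle (AddSubgroup.mem_sup_right
        (smul_sub_mem_moduleComm hb (genComm_comm (A := A) (B := B) (N := N) ▸ hw)))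
  let f := (MulAction.toPermHom X N).ker
  have hK : ∀ g : X, g ∈ f ↔ ∀ n : N, g • n = n := by
    intro g
    simp [f, MonoidHom.mem_ker, Equiv.ext_iff]
  rcases normal_dichotomy h.rankOne f with hf | hf
  · obtain ⟨x, y, n, hne⟩ := h.notQuad
    have hdec : ∀ z : X, ∃ a ∈ A, ∀ m : N, z • m = a • m := by
      intro z
      have hz : z ∈ ((f ⊔ A : Subgroup X) : Set X) := by rw [hf]; trivial
      rw [Subgroup.normal_mul] at hz
      obtain ⟨k, hk, a, ha, rfl⟩ := hz
      exact ⟨a, ha, fun m => by rw [mul_smul, (hK k).1 hk]⟩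
    obtain ⟨a, ha, hax⟩ := hdec x
    obtain ⟨a', ha', hay⟩ := hdec y
    exact hne (by rw [hax n, hay]; exact h.quadA a ha a' ha' n)
  · have hcomm : ∀ x y : X, x * y * x⁻¹ * y⁻¹ ∈ Subgroup.upperCentralSeries X 2 := by
      intro x y
      have hc : ∀ n : N, (x * y * x⁻¹ * y⁻¹) • n - n ∈ fixedAdd X N ∧
          ∀ w ∈ genComm A B N, (x * y * x⁻¹ * y⁻¹) • w = w := by
        have key : ∀ (p q : X) (w : N), w ∈ genComm A B N → (p * q) • w = (q * p) • w := by
          intro p q w hw
          have h1 := hW p w hw q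
          have h2 := hW q w hw p
          rw [smul_sub, sub_eq_iff_eq_add] at h1 h2
          rw [mul_smul, mul_smul, h1, h2]; abel
        intro n
        constructor
        · have e : ∀ p q : X, p • q • n - (p • n + q • n - n) ∈ fixedAdd X N := by
            intro p q
            have := hW p _ (smul_sub_mem_genComm h q n)
            rw [smul_sub] at this
            convert this using 1; abel
          have h3 := sub_mem (e x y) (e y x)
          have h4 : x • y • n - y • x • n ∈ fixedAdd X N := by convert h3 using 1; abel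
          have h5 : (x * y * x⁻¹ * y⁻¹) • (y * x) • n - (y * x) • n ∈ fixedAdd X N := by
            rw [← mul_smul, show x * y * x⁻¹ * y⁻¹ * (y * x) = x * y by group, mul_smul, mul_smul]
            exact h4
          have h6 := hW (x * y * x⁻¹ * y⁻¹) _ (smul_sub_mem_genComm h (y * x) n)
          have h7 := sub_mem h5 h6
          rw [smul_sub] at h7
          convert h7 using 1; abel
        · intro w hw
          rw [show x * y * x⁻¹ * y⁻¹ = (x * y) * (y * x)⁻¹ by group, mul_smul,
            key x y _ (smul_mem_genComm h _ hw), ← mul_smul, mul_inv_cancel, one_smul]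
      refine Subgroup.mem_upperCentralSeries_succ_iff.2 fun z => ?_
      rw [Subgroup.upperCentralSeries_one]
      refine hf ((hK _).2 fun n => ?_)
      generalize hce : x * y * x⁻¹ * y⁻¹ = c at hc
      have key : ∀ m : N, c • z • m = z • c • m := by
        intro m
        have h1 := (hc m).2 _ (smul_sub_mem_genComm h z m)
        have h2 := (hc m).1 z
        rw [smul_sub, sub_eq_iff_eq_add] at h1 h2
        rw [h1, h2]; abel
      rw [commutatorElement_def, mul_smul, mul_smul, mul_smul, key, smul_inv_smul, smul_inv_smul]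
    rw [upperCentralSeries_two h.rankOne] at hcomm
    refine not_isNilpotent h.rankOne ⟨2, eq_top_iff.2 fun x _ => ?_⟩
    refine Subgroup.mem_upperCentralSeries_succ_iff.2 fun y => ?_
    rw [Subgroup.upperCentralSeries_one, commutatorElement_def]
    exact hcomm x y

theorem coreKernel_le_center (h : QuadData X N A B) : coreKernel h ≤ Subgroup.center X := by
  have := coreKernel_normal h
  rcases normal_dichotomy h.rankOne (coreKernel h) with hA | hA
  swap; · exact hA
  exfalso
  have hBA : IsRankOneGroup X B A := h.symm.rankOne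
  rcases normal_dichotomy hBA (coreKernel h) with hB | hB
  · have fix : ∀ (C : Subgroup X) (U : AddSubgroup N), coreKernel h ⊔ C = ⊤ →
        U ≤ coreModule A B N → (∀ c ∈ C, ∀ u ∈ U, c • u = u) →
        ∀ (x : X), ∀ u ∈ U, x • u - u ∈ fixedAdd X N := by
      intro C U hC hU hfix x u hu
      have hx : x ∈ ((coreKernel h ⊔ C : Subgroup X) : Set X) := by rw [hC]; trivial
      rw [Subgroup.normal_mul] at hx
      obtain ⟨k, hk, c, hc, rfl⟩ := hx
      rw [mul_smul, hfix c hc u hu]
      exact hk u (hU hu)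
    obtain ⟨a, ha, ha1⟩ := exists_mem_ne_one h.rankOne.2
    obtain ⟨b, hb, -, he⟩ := h.rankOne.2.cond_left a ha ha1
    refine core_not_le_fixed h (sup_le (fun u hu => ?_) (fun v hv => ?_))
    · have h1 := pair_inverse h ha hb he hu
      have h2 := fix A _ hA (le_sup_left (b := doubleComm B A N))
        (fun c hc u hu => smul_eq_of_doubleComm h hc hu) b u hu
      rw [h2 a, sub_self, zero_sub] at h1
      simpa using neg_mem h1
    · have h1 := pair_inverse h.symm hb ha he.symm hv
      have h2 := fix B _ hB (le_sup_right (a := doubleComm A B N))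
        (fun c hc u hu => smul_eq_of_doubleComm h.symm hc hu) a v hv
      rw [h2 b, sub_self, zero_sub] at h1
      simpa using neg_mem h1
  · obtain ⟨b, hb, hb1⟩ := exists_mem_ne_one (RankOnePair_symm h.rankOne.2)
    have hx : b ∈ ((coreKernel h ⊔ A : Subgroup X) : Set X) := by rw [hA]; trivial
    rw [Subgroup.normal_mul] at hx
    obtain ⟨k, hk, a, ha, rfl⟩ := hx
    exact hb1 (eq_one_of_mem_normalizer (RankOnePair_symm h.rankOne.2) hb
      (mul_mem (Subgroup.center_le_normalizer _ (hB hk)) (Subgroup.le_normalizer ha)))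

theorem eq_one_of_mem_coreKernel (h : QuadData X N A B) {a : X} (ha : a ∈ A)
    (hk : a ∈ coreKernel h) : a = 1 :=
  eq_one_of_mem_normalizer h.rankOne.2 ha
    (Subgroup.center_le_normalizer _ (coreKernel_le_center h hk))

theorem isSpecial_of_quadData (h : QuadData X N A B) : IsSpecialRankOnePair A B := by
  refine ⟨h.rankOne.2, fun a ha _ b hb _ he => ?_⟩
  have hmem := conj_mem_conjBy (g := b⁻¹) ha
  rw [he, mem_conjBy, inv_inv, inv_inv] at hmem
  obtain ⟨c, hc⟩ : ∃ c, a * (b⁻¹ * a * b) * a⁻¹ = c := ⟨_, rfl⟩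
  rw [hc] at hmem
  have hdeq : b⁻¹ * a * b = a⁻¹ * c * a := by rw [← hc]; group
  have hk : c * b ∈ coreKernel h := by
    intro m hm
    suffices (c * b) • m = m by rw [this, sub_self]; exact zero_mem _
    have h1 : ∀ m ∈ coreModule A B N, (b⁻¹ * a * b) • m = (a⁻¹ * b⁻¹ * a) • m := by
      intro m hm
      obtain ⟨u, hu, v, hv, rfl⟩ := AddSubgroup.mem_sup.1 hm
      rw [smul_add, smul_add, special_relation_left h ha hb he hu,
        special_relation_right h ha hb he hv]
    have h2 := congrArg (a • ·) (h1 _ (smul_mem_core h a⁻¹ _ (smul_mem_core h b m hm)))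
    simpa [hdeq, ← mul_smul, mul_assoc] using h2
  rw [hdeq, eq_inv_of_mul_eq_one_left (eq_one_of_mem_normalizer (RankOnePair_symm h.rankOne.2)
    (mul_mem hmem hb) (Subgroup.center_le_normalizer _ (coreKernel_le_center h hk)))]

theorem quad_pow (h : QuadData X N A B) {a : X} (ha : a ∈ A) (k : ℕ) (n : N) :
    a ^ k • n = n + k • (a • n - n) := by
  induction k with
  | zero => simp
  | succ k ih =>
      rw [pow_succ', mul_smul, ih, smul_add, smul_comm a k, h.quadA a ha a ha n, add_smul,
        one_smul]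
      abel

theorem pow_eq_one_of_pow_eq_one (h : QuadData X N A B) {a₀ a : X} (ha₀ : a₀ ∈ A) (ha₀1 : a₀ ≠ 1)
    {p : ℕ} (hp : a₀ ^ p = 1) (ha : a ∈ A) : a ^ p = 1 := by
  obtain ⟨b, hb, -, he⟩ := h.rankOne.2.cond_left a₀ ha₀ ha₀1
  have hann : ∀ n : N, p • (a₀ • n - n) = 0 := by
    intro n
    have := quad_pow h ha₀ p n
    rwa [hp, one_smul, left_eq_add] at this
  have hU : ∀ u ∈ doubleComm A B N, p • u ∈ fixedAdd X N := by
    intro u hu
    have h1 := AddSubgroup.nsmul_mem _ (pair_inverse h ha₀ hb he hu) p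
    rw [smul_sub, hann, zero_sub] at h1
    simpa using neg_mem h1
  refine eq_one_of_mem_coreKernel h (pow_mem ha p) fun m hm => ?_
  rw [quad_pow h ha, add_sub_cancel_left]
  exact hU _ (smul_sub_mem_moduleComm ha (coreModule_le hm))

end CfsgLib.Trans3.RankOne
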