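import Cfsg.Agent.Lib.Trans3.RootSub

/-!
# Special rank one groups with abelian unipotent subgroups

The main identity is `b(a ^ n) ^ n = b(a)`, stated as `pow_partner`.
-/

set_option autoImplicit false

namespace CfsgLib.Trans3.RankOne

open Subgroup Cfsg

variable {G : Type*} [Group G]

/-- The element relation of a partner pair. -/
def SpecialRel (a b : G) : Prop := b⁻¹ * a * b = a⁻¹ * b⁻¹ * a

theorem specialRel_inv {a b : G} (h : SpecialRel a b) : SpecialRel a⁻¹ b⁻¹ := by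
  unfold SpecialRel at *
  have h1 : a * b⁻¹ * a = b⁻¹ * a * b⁻¹ := by
    calc a * b⁻¹ * a = a * (b⁻¹ * a * b) * b⁻¹ := by group
      _ = a * (a⁻¹ * b⁻¹ * a) * b⁻¹ := by rw [h]
      _ = b⁻¹ * a * b⁻¹ := by group
  have h2 := congrArg (·⁻¹) h1
  simp only [mul_inv_rev, inv_inv] at h2 ⊢
  calc b * a⁻¹ * b⁻¹ = b * a⁻¹ * b * (b⁻¹ * b⁻¹) := by group
    _ = a⁻¹ * (b * a⁻¹) * (b⁻¹ * b⁻¹) := by rw [mul_assoc b a⁻¹ b, ← h2]
    _ = a * b * a⁻¹ := by
      have h3 : a⁻¹ * (b * a⁻¹) * b⁻¹ = b * a⁻¹ := by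
        rw [h2, ← mul_assoc, mul_inv_cancel_right]
      have h4 : b * a⁻¹ * b⁻¹ = a * b * a⁻¹ := by
        calc b * a⁻¹ * b⁻¹ = a * (a⁻¹ * (b * a⁻¹) * b⁻¹) := by group
          _ = a * b * a⁻¹ := by rw [h3]; group
      rw [← h4, ← mul_assoc, h3]

theorem specialRel_symm {a b : G} (h : SpecialRel a b) : SpecialRel b a := by
  unfold SpecialRel at *
  have h2 := congrArg (·⁻¹) h
  simp only [mul_inv_rev, inv_inv] at h2
  simpa [mul_assoc] using h2.symm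

/-- A special rank one pair with abelian unipotent subgroups. -/
structure SpecialData (A B : Subgroup G) : Prop where
  pair : IsRankOnePair A B
  rel : ∀ a ∈ A, a ≠ 1 → ∀ b ∈ B, b ≠ 1 → conjBy A b⁻¹ = conjBy B a⁻¹ → SpecialRel a b
  commA : ∀ x ∈ A, ∀ y ∈ A, x * y = y * x
  commB : ∀ x ∈ B, ∀ y ∈ B, x * y = y * x

variable {A B : Subgroup G}

theorem SpecialData.mk' (hs : IsSpecialRankOnePair A B) (hab : HasAbelianUnipotents A B) :
    SpecialData A B :=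
  have := hab.1
  have := hab.2
  ⟨hs.1, hs.2, fun x hx y hy => congrArg Subtype.val (mul_comm' (⟨x, hx⟩ : A) ⟨y, hy⟩),
    fun x hx y hy => congrArg Subtype.val (mul_comm' (⟨x, hx⟩ : B) ⟨y, hy⟩)⟩

theorem SpecialData.symm (h : SpecialData A B) : SpecialData B A :=
  ⟨RankOnePair_symm h.pair,
    fun b hb hb1 a ha ha1 he => specialRel_symm (h.rel a ha ha1 b hb hb1 he.symm), h.commB, h.commA⟩

/-- The element relation determines the partner. -/
theorem conjBy_eq_of_specialRel (h : IsRankOnePair A B) {a b : G} (ha : a ∈ A) (ha1 : a ≠ 1)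
    (hb : b ∈ B) (hr : SpecialRel a b) : conjBy A b⁻¹ = conjBy B a⁻¹ := by
  by_contra hne
  have h1 : b⁻¹ * a * b ∈ conjBy A b⁻¹ := by
    rw [mem_conjBy]; simpa [mul_assoc] using ha
  have h2 : b⁻¹ * a * b ∈ conjBy B a⁻¹ := by
    rw [hr, mem_conjBy]; simpa [mul_assoc] using hb
  have h3 : b⁻¹ * a * b ∈ conjBy A b⁻¹ ⊓ conjBy B a⁻¹ := ⟨h1, h2⟩
  rw [inf_eq_bot_of_mem h ⟨b⁻¹, mem_sup_right (inv_mem hb), rfl⟩
    (conjBy_mem (right_mem h) (mem_sup_left (inv_mem ha))) hne, Subgroup.mem_bot] at h3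
  exact ha1 (by
    calc a = b * (b⁻¹ * a * b) * b⁻¹ := by group
      _ = 1 := by rw [h3]; group)

/-- `b` is the partner of `a`. -/
def IsPartner (A B : Subgroup G) (a b : G) : Prop :=
  a ∈ A ∧ a ≠ 1 ∧ b ∈ B ∧ b ≠ 1 ∧ conjBy A b⁻¹ = conjBy B a⁻¹

theorem IsPartner.symm {a b : G} (h : IsPartner A B a b) : IsPartner B A b a :=
  ⟨h.2.2.1, h.2.2.2.1, h.1, h.2.1, h.2.2.2.2.symm⟩

theorem exists_isPartner (h : IsRankOnePair A B) {a : G} (ha : a ∈ A) (ha1 : a ≠ 1) :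
    ∃ b, IsPartner A B a b := by
  obtain ⟨b, hb, hb1, he⟩ := h.cond_left a ha ha1
  exact ⟨b, ha, ha1, hb, hb1, he⟩

theorem IsPartner.unique (h : IsRankOnePair A B) {a b b' : G} (h1 : IsPartner A B a b)
    (h2 : IsPartner A B a b') : b = b' :=
  inv_inj.1 (eq_of_conjBy_eq (RankOnePair_symm h) (inv_mem h1.2.2.1) (inv_mem h2.2.2.1)
    (h1.2.2.2.2.trans h2.2.2.2.2.symm))

theorem IsPartner.inv (h : SpecialData A B) {a b : G} (hp : IsPartner A B a b) :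
    IsPartner A B a⁻¹ b⁻¹ :=
  ⟨inv_mem hp.1, inv_ne_one.2 hp.2.1, inv_mem hp.2.2.1, inv_ne_one.2 hp.2.2.2.1,
    conjBy_eq_of_specialRel h.pair (inv_mem hp.1) (inv_ne_one.2 hp.2.1) (inv_mem hp.2.2.1)
      (specialRel_inv (h.rel a hp.1 hp.2.1 b hp.2.2.1 hp.2.2.2.1 hp.2.2.2.2))⟩

theorem IsPartner.pow_eq_one (h : SpecialData A B) {a b : G} (hp : IsPartner A B a b) {n : ℕ}
    (hn : a ^ n = 1) : b ^ n = 1 := by
  have h1 := h.rel a hp.1 hp.2.1 b hp.2.2.1 hp.2.2.2.1 hp.2.2.2.2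
  unfold SpecialRel at h1
  have h2 : (b⁻¹ * a * b) ^ n = (a⁻¹ * b⁻¹ * a) ^ n := by rw [h1]
  have e1 : (b⁻¹ * a * b) ^ n = b⁻¹ * a ^ n * b := by
    simpa using (conj_pow (i := n) (a := b⁻¹) (b := a))
  have e2 : (a⁻¹ * b⁻¹ * a) ^ n = a⁻¹ * b⁻¹ ^ n * a := by
    simpa using (conj_pow (i := n) (a := a⁻¹) (b := b⁻¹))
  rw [e1, e2, hn, mul_one, inv_mul_cancel, inv_pow] at h2
  calc b ^ n = a * (a⁻¹ * (b ^ n)⁻¹ * a)⁻¹ * a⁻¹ := by group
    _ = 1 := by rw [← h2]; group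

/-- `b(a ^ k) ^ k = b(a)`, by induction on `k`, for both orientations of the pair at once. -/
theorem pow_partner_aux : ∀ k : ℕ, ∀ (A B : Subgroup G), SpecialData A B →
    ∀ a b y, IsPartner A B a b → IsPartner A B (a ^ k) y → y ^ k = b
  | 0, _, _, _, a, _, _, _, hy => absurd (pow_zero a) hy.2.1
  | 1, _, _, h, a, b, y, hp, hy => by
      rw [pow_one] at hy
      rw [pow_one, hp.unique h.pair hy]
  | k + 2, A, B, h, a, b, y', hp, hy' => by
      have ih := pow_partner_aux (k + 1)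
      generalize hk : k + 1 = m at ih
      rw [show k + 2 = m + 1 by omega] at hy' ⊢
      by_cases hx1 : a ^ m = 1
      · rw [pow_succ, hx1, one_mul] at hy'
        rw [← hy'.unique h.pair hp, pow_succ, hy'.pow_eq_one h hx1, one_mul]
      obtain ⟨y, hy⟩ := exists_isPartner h.pair (pow_mem hp.1 m) hx1
      have hrel := h.rel _ hy.1 hy.2.1 y hy.2.2.1 hy.2.2.2.1 hy.2.2.2.2
      have hinv := hy.inv h
      obtain ⟨δ, hδ⟩ : ∃ δ, (a ^ m)⁻¹ * (y * a * y⁻¹) * a ^ m = δ := ⟨_, rfl⟩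
      have hδB : δ ∈ B := by
        have h1 := conj_mem_conjBy (g := y) hp.1
        have h2 : conjBy A y = conjBy B (a ^ m) := by simpa using hinv.2.2.2.2
        rw [h2, mem_conjBy] at h1
        exact hδ ▸ h1
      have hδk : δ ^ m = y⁻¹ := by
        have e1 : (y * a * y⁻¹) ^ m = y * a ^ m * y⁻¹ := conj_pow
        have e2 : ((a ^ m)⁻¹ * (y * a * y⁻¹) * a ^ m) ^ m
            = (a ^ m)⁻¹ * (y * a * y⁻¹) ^ m * a ^ m := by
          simpa using (conj_pow (i := m) (a := (a ^ m)⁻¹) (b := y * a * y⁻¹))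
        rw [← hδ, e2, e1]
        have h3 := specialRel_inv hrel
        unfold SpecialRel at h3
        simp only [inv_inv] at h3
        generalize a ^ m = x at h3 ⊢
        have h4 := congrArg (·⁻¹) h3
        simp only [mul_inv_rev, inv_inv] at h4
        calc x⁻¹ * (y * x * y⁻¹) * x = x⁻¹ * (x * (y⁻¹ * x⁻¹)) * x := by
              rw [mul_assoc y x y⁻¹, h4]
          _ = y⁻¹ := by group
      have hδ1 : δ ≠ 1 := fun he => hy.2.2.2.1 (inv_eq_one.1 (by rw [← hδk, he, one_pow]))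
      obtain ⟨α, hα⟩ := exists_isPartner h.symm.pair hδB hδ1
      have hα' : (a ^ m)⁻¹ ^ m = α :=
        ih B A h.symm δ α (a ^ m)⁻¹ hα (hδk.symm ▸ hinv.symm)
      have hc : a ∈ A := hp.1
      have hkey : conjBy B (a ^ (m + 1))⁻¹ = conjBy (conjBy B ((a ^ (m + 1))⁻¹ ^ m)⁻¹) y⁻¹ := by
        have h0 : (a ^ (m + 1))⁻¹ ^ m = α * (a ^ m)⁻¹ := by
          rw [← hα', ← pow_succ, inv_pow, inv_pow, ← pow_mul, ← pow_mul, Nat.mul_comm (m + 1)]
        rw [h0, mul_inv_rev, inv_inv, ← conjBy_conjBy B α⁻¹, hα.2.2.2.2]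
        have h5 : y * a * y⁻¹ = a ^ m * δ * (a ^ m)⁻¹ := by rw [← hδ]; group
        rw [pow_succ, mul_inv_rev, ← conjBy_conjBy, ← hy.2.2.2.2, conjBy_conjBy, conjBy_conjBy,
          conjBy_conjBy]
        have h6 : a⁻¹ * y⁻¹ = y⁻¹ * (a ^ m * δ⁻¹) * (a ^ m)⁻¹ := by
          calc a⁻¹ * y⁻¹ = y⁻¹ * (y * a * y⁻¹)⁻¹ := by group
            _ = y⁻¹ * (a ^ m * δ⁻¹) * (a ^ m)⁻¹ := by rw [h5]; group
        rw [h6, ← conjBy_conjBy A (a ^ m)⁻¹, conjBy_of_mem (inv_mem (pow_mem hp.1 m)),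
          mul_assoc y⁻¹]
      have hne : (a ^ (m + 1))⁻¹ ^ m ≠ 1 := by
        intro he
        rw [he, inv_one, conjBy_one, conjBy_of_mem (inv_mem hy.2.2.1)] at hkey
        exact hy'.2.1 (inv_eq_one.1 (eq_one_of_mem_normalizer h.pair (inv_mem hy'.1)
          (conjBy_eq_self_iff.1 hkey)))
      obtain ⟨z, hz⟩ := exists_isPartner h.pair (pow_mem (inv_mem hy'.1) m) hne
      have hzy : y' = z * y := by
        rw [← hz.2.2.2.2, ← hy'.2.2.2.2, conjBy_conjBy, ← mul_inv_rev] at hkey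
        exact inv_inj.1 (eq_of_conjBy_eq (RankOnePair_symm h.pair) (inv_mem hy'.2.2.1)
          (inv_mem (mul_mem hz.2.2.1 hy.2.2.1)) hkey)
      have hzk : z ^ m = y'⁻¹ := ih A B h _ _ z (hy'.inv h) hz
      have hyk : y ^ m = b := ih A B h a b y hp hy
      have hc : Commute z y := h.commB z hz.2.2.1 y hy.2.2.1
      have : y' ^ m = y'⁻¹ * b := by
        rw [← hzk, ← hyk, ← hc.mul_pow, ← hzy]
      rw [pow_succ', this, mul_inv_cancel_left]

theorem pow_partner (h : SpecialData A B) {a b y : G} {k : ℕ} (hp : IsPartner A B a b)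
    (hy : IsPartner A B (a ^ k) y) : y ^ k = b :=
  pow_partner_aux k A B h a b y hp hy

end CfsgLib.Trans3.RankOne
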