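import Cfsg.Agent.Lib.Trans3.RootPartition

/-!
# Connectivity of the graph of rank one pairs

`translate_dichotomy` is the basic fact: if `A, D` is a rank one pair, `C` commutes with `A` and a
member `E` contains `c * a`, then either `D, C` is a rank one pair, or `E` is a rank one partner of
`D` conjugate to `A`.
-/

set_option autoImplicit false

namespace CfsgLib.Trans3.RankOne

open Subgroup Cfsg
open scoped commutatorElement

variable {G : Type*} [Group G] {S : Set (Subgroup G)}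

theorem conjBy_eq_of_commute {D : Subgroup G} {f : G} (h : ∀ d ∈ D, f * d = d * f) :
    conjBy D f = D := by
  ext x
  rw [mem_conjBy]
  constructor
  · intro hx
    have h1 := h _ hx
    have h2 : x = f⁻¹ * x * f := by
      calc x = f * (f⁻¹ * x * f) * f⁻¹ := by group
        _ = f⁻¹ * x * f * f * f⁻¹ := by rw [h1]
        _ = f⁻¹ * x * f := by group
    rwa [← h2] at hx
  · intro hx
    rwa [mul_assoc, ← h x hx, inv_mul_cancel_left]

theorem mem_centralizer_sup {A D : Subgroup G} {z : G} (hA : ∀ a ∈ A, z * a = a * z)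
    (hD : ∀ d ∈ D, z * d = d * z) :
    z ∈ Subgroup.centralizer ((A ⊔ D : Subgroup G) : Set G) := by
  rw [sup_eq_closure, centralizer_closure, Subgroup.mem_centralizer_iff]
  rintro x (hx | hx)
  exacts [(hA x hx).symm, (hD x hx).symm]

theorem translate_dichotomy (hS : IsRootSubgroupSet S) {A D C E : Subgroup G} (hA : A ∈ S)
    (hD : D ∈ S) (hAD : IsRankOnePair A D) (hC : C ∈ S) (hAC : ⁅A, C⁆ = ⊥) (hE : E ∈ S)
    {a c : G} (ha : a ∈ A) (ha1 : a ≠ 1) (hc : c ∈ C) (hc1 : c ≠ 1) (hca : c * a ∈ E) :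
    IsRankOnePair D C ∨ (IsRankOnePair E D ∧
      ∃ f ∈ ⁅D, C⁆, (∀ d ∈ D, f * d = d * f) ∧ E = conjBy A f) := by
  have hcA : ∀ x ∈ A, c * x = x * c := fun x hx => (commute_of_commutator hAC hx hc).symm
  rcases hS.pair D hD C hC with hDC | hDC | hDC
  · exact absurd (eq_of_translate hS hA hD hAD ha ha1
      (mem_centralizer_sup hcA fun d hd => (commute_of_commutator hDC hd hc).symm) hE hca).1 hc1
  · exact Or.inl hDC
  right
  obtain ⟨d, hd, -, he⟩ := hAD.cond_left a ha ha1
  have hFD : ∀ f ∈ ⁅D, C⁆, ∀ x ∈ D, f * x = x * f := fun f hf x hx =>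
    hDC.2.1 f hf x (mem_sup_left hx)
  obtain ⟨f, hf, hfc⟩ : ∃ f ∈ ⁅D, C⁆, d⁻¹ * c * d = f * c :=
    ⟨⁅d⁻¹, c⁆, commutator_mem_commutator (inv_mem hd) hc, by rw [commutatorElement_def]; group⟩
  have hcomm : ∀ x ∈ D, Commute (a * (d⁻¹ * c * d) * a⁻¹) x := by
    intro x hx
    have h1 : a⁻¹ * x * a ∈ conjBy A d⁻¹ := by rw [he, mem_conjBy]; simpa [mul_assoc] using hx
    rw [mem_conjBy, inv_inv] at h1
    have h2 : Commute c (d * (a⁻¹ * x * a) * d⁻¹) := hcA _ h1
    have h3 := (h2.conj d⁻¹).conj a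
    simpa [mul_assoc] using h3
  rw [hfc] at hcomm
  have hfne : ¬ ∀ x ∈ D, Commute c x := fun h => hc1
    (eq_of_translate hS hA hD hAD ha ha1 (mem_centralizer_sup hcA h) hE hca).1
  rcases hS.pair A hA _ hDC.1 with hAF | hAF | hAF
  · refine absurd (fun x hx => ?_) hfne
    have h1 : a * (f * c) * a⁻¹ = f * c := by
      rw [mul_inv_eq_iff_eq_mul, ← mul_assoc, commute_of_commutator hAF ha hf, mul_assoc,
        ← hcA a ha, mul_assoc]
    have h2 := hcomm x hx
    rw [h1] at h2
    simpa using (Commute.inv_left (hFD f hf x hx : Commute f x)).mul_left h2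
  · exact absurd (eq_of_translate hS hA hDC.1 hAF ha ha1
      (mem_centralizer_sup hcA fun x hx => (hDC.2.1 x hx c (mem_sup_right hc)).symm) hE hca).1 hc1
  have hg : ⁅a, f⁆ ∈ ⁅A, ⁅D, C⁆⁆ := commutator_mem_commutator ha hf
  have hgA : ∀ x ∈ A, ⁅a, f⁆ * x = x * ⁅a, f⁆ := fun x hx => hAF.2.1 _ hg x (mem_sup_left hx)
  have hgf : ⁅a, f⁆ * f = f * ⁅a, f⁆ := hAF.2.1 _ hg f (mem_sup_right hf)
  have hfc' : f * c = c * f := hDC.2.1 f hf c (mem_sup_right hc)
  have hz : ⁅a, f⁆ * c ∈ Subgroup.centralizer ((A ⊔ D : Subgroup G) : Set G) := by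
    refine mem_centralizer_sup
      (fun x hx => (Commute.mul_left (hgA x hx : Commute _ x) (hcA x hx : Commute c x)).eq)
      fun x hx => ?_
    have h2 := hcomm x hx
    have h1 : a * (f * c) * a⁻¹ = f * (⁅a, f⁆ * c) := by
      calc a * (f * c) * a⁻¹ = ⁅a, f⁆ * f * (a * c * a⁻¹) := by rw [commutatorElement_def]; group
        _ = ⁅a, f⁆ * f * c := by rw [← hcA a ha, mul_inv_cancel_right]
        _ = f * (⁅a, f⁆ * c) := by rw [hgf, mul_assoc]
    rw [h1] at h2
    exact (show Commute (⁅a, f⁆ * c) x by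
      simpa using (Commute.inv_left (hFD f hf x hx : Commute f x)).mul_left h2).eq
  have hmem : ⁅a, f⁆ * c * a ∈ conjBy E f⁻¹ := by
    rw [mem_conjBy, inv_inv]
    have h1 : f * (⁅a, f⁆ * c * a) * f⁻¹ = c * a := by
      calc f * (⁅a, f⁆ * c * a) * f⁻¹ = (f * ⁅a, f⁆) * c * a * f⁻¹ := by group
        _ = ⁅a, f⁆ * (f * c) * a * f⁻¹ := by rw [← hgf]; group
        _ = ⁅a, f⁆ * c * f * a * f⁻¹ := by rw [hfc']; group
        _ = c * (⁅a, f⁆ * f) * a * f⁻¹ := by
          have h0 : ⁅a, f⁆ * c = c * ⁅a, f⁆ := by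
            have hgc : Commute c ⁅a, f⁆ := by
              have h1 : Commute c a := hcA a ha
              have h2 : Commute c f := hfc'.symm
              rw [commutatorElement_def]
              exact ((h1.mul_right h2).mul_right h1.inv_right).mul_right h2.inv_right
            exact hgc.eq.symm
          rw [h0]; group
        _ = c * a := by rw [commutatorElement_def]; group
    rwa [h1]
  obtain ⟨-, hEA⟩ := eq_of_translate hS hA hD hAD ha ha1 hz (hS.conj_mem E hE f⁻¹) hmem
  have hEf : E = conjBy A f := by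
    rw [← hEA, conjBy_conjBy, mul_inv_cancel, conjBy_one]
  refine ⟨?_, f, hf, hFD f hf, hEf⟩
  have h1 := isRankOnePair_conj f hAD
  rwa [conjBy_eq_of_commute (hFD f hf), ← hEf] at h1

/-- Reachability in the graph of rank one pairs. -/
abbrev FReach (S : Set (Subgroup G)) : Subgroup G → Subgroup G → Prop :=
  Relation.ReflTransGen (FAdj S)

theorem fAdj_symm {A B : Subgroup G} (h : FAdj S A B) : FAdj S B A :=
  ⟨h.2.1, h.1, RankOnePair_symm h.2.2⟩

theorem fReach_symm {A B : Subgroup G} (h : FReach S A B) : FReach S B A := by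
  induction h with
  | refl => exact Relation.ReflTransGen.refl
  | tail _ h2 ih => exact Relation.ReflTransGen.head (fAdj_symm h2) ih

theorem fReach_conj (hS : IsRootSubgroupSet S) {A B : Subgroup G} (h : FReach S A B) (g : G) :
    FReach S (conjBy A g) (conjBy B g) := by
  induction h with
  | refl => exact Relation.ReflTransGen.refl
  | tail _ h2 ih =>
      exact ih.tail ⟨hS.conj_mem _ h2.1 g, hS.conj_mem _ h2.2.1 g, isRankOnePair_conj g h2.2.2⟩

theorem fReach_of_rankOne (hS : IsRootSubgroupSet S) {A B C : Subgroup G} (hA : A ∈ S)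
    (hAB : IsRankOnePair A B) (hC : C ∈ unipotentSubgroups A B) : FReach S A C := by
  by_cases hne : A = C
  · exact hne ▸ Relation.ReflTransGen.refl
  · exact Relation.ReflTransGen.single ⟨hA, mem_of_mem_unipotents hS hA hC,
      isRankOnePair_of_mem hAB (left_mem A B) hC hne⟩

/-- A member with a partner reaches all its conjugates by elements of members. -/
theorem fReach_conjBy_of_mem (hS : IsRootSubgroupSet S) {A B : Subgroup G} (hA : A ∈ S)
    (hp : ∃ D ∈ S, IsRankOnePair A D) (hB : B ∈ S) {b : G} (hb : b ∈ B) :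
    FReach S A (conjBy A b) := by
  rcases hS.pair A hA B hB with h | h | h
  · rw [conjBy_eq_of_commute fun d hd => (commute_of_commutator h hd hb).symm]
  · exact fReach_of_rankOne hS hA h ⟨b, mem_sup_right hb, rfl⟩
  obtain ⟨D, hD, hAD⟩ := hp
  by_cases hfix : conjBy A b = A
  · rw [hfix]
  obtain ⟨a, ha, ha1⟩ := exists_mem_ne_one hAD
  have hm : b * a * b⁻¹ ∈ conjBy A b := conj_mem_conjBy ha
  obtain ⟨c, hc, hca⟩ : ∃ c ∈ ⁅A, B⁆, c * a = b * a * b⁻¹ :=
    ⟨⁅b, a⁆, by rw [Subgroup.commutator_comm A B]; exact commutator_mem_commutator hb ha,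
      by rw [commutatorElement_def]; group⟩
  have hc1 : c ≠ 1 := by
    rintro rfl
    rw [one_mul] at hca
    exact hfix (eq_of_mem_inter hS hA ⟨D, hD, hAD⟩ (hS.conj_mem A hA b) ha ha1 (hca ▸ hm))
  have hAC : ⁅A, ⁅A, B⁆⁆ = ⊥ :=
    commutator_eq_bot_of_comm fun x hx y hy => (h.2.1 y hy x (mem_sup_left hx)).symm
  rcases translate_dichotomy hS hA hD hAD h.1 hAC (hS.conj_mem A hA b) ha ha1 hc hc1
    (hca.symm ▸ hm) with hDC | ⟨hED, -⟩
  · have hfixC : conjBy ⁅A, B⁆ b = ⁅A, B⁆ :=
      conjBy_eq_self_iff.2 (Subgroup.normalizer_commutator_ge_right A B hb)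
    have h1 : FReach S (conjBy A b) (conjBy ⁅A, B⁆ b) := fReach_conj hS
      ((Relation.ReflTransGen.single ⟨hA, hD, hAD⟩).tail ⟨hD, h.1, hDC⟩) b
    rw [hfixC] at h1
    exact ((Relation.ReflTransGen.single ⟨hA, hD, hAD⟩).tail ⟨hD, h.1, hDC⟩).trans
      (fReach_symm h1)
  · exact (Relation.ReflTransGen.single ⟨hA, hD, hAD⟩).tail
      ⟨hD, hS.conj_mem A hA b, RankOnePair_symm hED⟩

/-- A member with a partner reaches all its conjugates. -/
theorem fReach_conjBy (hS : IsRootSubgroupSet S) {A : Subgroup G} (hA : A ∈ S)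
    (hp : ∃ D ∈ S, IsRankOnePair A D) (g : G) : FReach S A (conjBy A g) := by
  have hg : g ∈ Subgroup.closure (⋃ B : Subgroup G, ((⨆ _ : B ∈ S, B : Subgroup G) : Set G)) := by
    rw [← Subgroup.iSup_eq_closure, hS.generates]; trivial
  revert A
  induction hg using Subgroup.closure_induction'' with
  | mem x hx =>
      intro A hA hp
      simp only [Set.mem_iUnion] at hx
      obtain ⟨B, hx⟩ := hx
      by_cases hB : B ∈ S
      · rw [iSup_pos hB] at hx; exact fReach_conjBy_of_mem hS hA hp hB hx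
      · rw [iSup_neg hB, SetLike.mem_coe, Subgroup.mem_bot] at hx
        rw [hx, conjBy_one]
  | inv_mem x hx =>
      intro A hA hp
      simp only [Set.mem_iUnion] at hx
      obtain ⟨B, hx⟩ := hx
      by_cases hB : B ∈ S
      · rw [iSup_pos hB] at hx; exact fReach_conjBy_of_mem hS hA hp hB (inv_mem hx)
      · rw [iSup_neg hB, SetLike.mem_coe, Subgroup.mem_bot] at hx
        rw [hx, inv_one, conjBy_one]
  | one => intro A _ _; rw [conjBy_one]
  | mul x y _ _ hx hy =>
      intro A hA hp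
      rw [← conjBy_conjBy]
      exact (hx hA hp).trans (fReach_conj hS (hy hA hp) x)

theorem exists_conj_of_fReach {A B : Subgroup G} (h : FReach S A B) : ∃ g, B = conjBy A g := by
  induction h with
  | refl => exact ⟨1, (conjBy_one A).symm⟩
  | tail _ h2 ih =>
      obtain ⟨g, rfl⟩ := ih
      obtain ⟨x, -, hx⟩ := right_mem h2.2.2
      exact ⟨x * g, by rw [hx, conjBy_conjBy]⟩

theorem fReach_of_componentOf_mem {A B : Subgroup G} (h : B ∈ componentOf (FAdj S) S A) :
    FReach S A B := h.2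

theorem componentOf_eq_of_fReach {A B : Subgroup G} (h : FReach S A B) :
    componentOf (FAdj S) S A = componentOf (FAdj S) S B := by
  ext C
  exact ⟨fun hC => ⟨hC.1, (fReach_symm h).trans hC.2⟩, fun hC => ⟨hC.1, h.trans hC.2⟩⟩

theorem exists_partner_of_component {A : Subgroup G}
    (h : ∃ A' ∈ componentOf (FAdj S) S A, A' ≠ A) : ∃ D ∈ S, IsRankOnePair A D := by
  obtain ⟨A', hA', hne⟩ := h
  rcases Relation.ReflTransGen.cases_head hA'.2 with h1 | ⟨D, hD, -⟩
  · exact absurd h1.symm hne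
  · exact ⟨D, hD.2.1, hD.2.2⟩

end CfsgLib.Trans3.RankOne
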