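import Cfsg.Agent.Lib.Trans3.RootSub

/-!
# The members inside `A⁅A, B⁆` for members in the commutator case
-/

set_option autoImplicit false

namespace CfsgLib.Trans3.RankOne

open Subgroup Cfsg
open scoped commutatorElement

variable {G : Type*} [Group G] {S : Set (Subgroup G)}

/-- In the commutator case, `b ↦ ⁅a, b⁆` as a homomorphism. -/
def commHom {A B : Subgroup G} (h : RootCommutatorCase S A B) {a : G} (ha : a ∈ A) : B →* G where
  toFun b := ⁅a, (b : G)⁆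
  map_one' := by simp
  map_mul' b b' := by
    have hc := h.2.1 _ (commutator_mem_commutator ha b'.2) b (mem_sup_right b.2)
    calc ⁅a, ((b * b' : B) : G)⁆ = ⁅a, (b : G)⁆ * ((b : G) * ⁅a, (b' : G)⁆) * (b : G)⁻¹ := by
          simp only [commutatorElement_def, Subgroup.coe_mul]; group
      _ = ⁅a, (b : G)⁆ * ⁅a, (b' : G)⁆ := by rw [← hc]; group

theorem commHom_range {A B : Subgroup G} (h : RootCommutatorCase S A B) {a : G} (ha : a ∈ A)
    (ha1 : a ≠ 1) : (commHom h ha).range = ⁅A, B⁆ := by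
  refine le_antisymm ?_ ?_
  · rintro _ ⟨b, rfl⟩
    exact commutator_mem_commutator ha b.2
  · rw [← h.2.2.1 a ha ha1, Subgroup.closure_le]
    rintro _ ⟨b, hb, rfl⟩
    exact ⟨⟨b, hb⟩, rfl⟩

theorem commutator_ne_left {A B : Subgroup G} (hS : IsRootSubgroupSet S)
    (h : RootCommutatorCase S A B) : ⁅A, B⁆ ≠ A := fun he =>
  hS.ne_bot _ h.1 (commutator_eq_bot_of_comm fun a ha b hb =>
    h.2.1 a (he.symm ▸ ha) b (mem_sup_right hb))

theorem commHom_injective (hS : IsRootSubgroupSet S) {A B : Subgroup G} (hA : A ∈ S)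
    (hp : ∃ D ∈ S, IsRankOnePair A D) (h : RootCommutatorCase S A B) {a : G} (ha : a ∈ A)
    (ha1 : a ≠ 1) : Function.Injective (commHom h ha) := by
  rw [injective_iff_map_eq_one]
  intro b hb
  by_contra hb1
  replace hb : a * b = b * a := commutatorElement_eq_one_iff_mul_comm.1 hb
  have hAb : conjBy A (b : G) = A :=
    eq_of_mem_inter hS hA hp (hS.conj_mem A hA b) ha ha1
      (by rwa [mem_conjBy, mul_assoc, hb, inv_mul_cancel_left])
  refine hS.ne_bot _ h.1 ?_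
  rw [← h.2.2.2 b b.2 (fun he => hb1 (Subtype.ext he)), closure_eq_bot_iff]
  rintro _ ⟨x, hx, rfl⟩
  by_contra hne
  have h1 : x * b * x⁻¹ * (b : G)⁻¹ ∈ A := by
    have := mul_mem hx (hAb ▸ conj_mem_conjBy (g := (b : G)) (inv_mem hx))
    simpa [mul_assoc] using this
  exact commutator_ne_left hS h (eq_of_mem_inter hS hA hp h.1 h1 hne
    (commutator_mem_commutator hx b.2))

/-- `c * a` lies in a conjugate of `A` under `B`. -/
theorem exists_conjBy_mem {A₀ B₀ : Subgroup G} (h : RootCommutatorCase S A₀ B₀) {a c : G} (ha : a ∈ A₀) (ha1 : a ≠ 1)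
    (hc : c ∈ ⁅A₀, B₀⁆) : ∃ b ∈ B₀, c * a ∈ conjBy A₀ b := by
  rw [← commHom_range h ha ha1] at hc
  obtain ⟨⟨b, hb⟩, rfl⟩ := hc
  refine ⟨b⁻¹, inv_mem hb, ?_⟩
  rw [mem_conjBy, inv_inv]
  have h1 := h.2.1 _ (commutator_mem_commutator ha hb) b (mem_sup_right hb)
  have h2 : b * (⁅a, b⁆ * a) * b⁻¹ = a := by
    calc b * (⁅a, b⁆ * a) * b⁻¹ = (b * ⁅a, b⁆) * a * b⁻¹ := by group
      _ = ⁅a, b⁆ * b * a * b⁻¹ := by rw [h1]
      _ = a := by rw [commutatorElement_def]; group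
  change b * (⁅a, b⁆ * a) * b⁻¹ ∈ A₀
  rwa [h2]

/-- A member inside `⁅A, B⁆` equals it, if `A` has a rank one partner. -/
theorem eq_commutator_of_le (hS : IsRootSubgroupSet S) {A B E : Subgroup G} (hA : A ∈ S)
    (hp : ∃ D ∈ S, IsRankOnePair A D) (h : RootCommutatorCase S A B) (hE : E ∈ S)
    (hle : E ≤ ⁅A, B⁆) : E = ⁅A, B⁆ := by
  obtain ⟨D, hD, hAD⟩ := hp
  obtain ⟨a, ha, ha1⟩ := exists_mem_ne_one hAD
  obtain ⟨e, he, he1⟩ := E.bot_or_exists_ne_one.resolve_left (hS.ne_bot E hE)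
  have hno : ⁅D, E⁆ ≠ ⊥ := by
    intro hDE
    obtain ⟨b, hb, hm⟩ := exists_conjBy_mem h ha ha1 (hle he)
    refine he1 (eq_of_translate hS hA hD hAD ha ha1 ?_ (hS.conj_mem A hA b) hm).1
    rw [sup_eq_closure, centralizer_closure, Subgroup.mem_centralizer_iff]
    rintro x (hx | hx)
    · exact (h.2.1 e (hle he) x (mem_sup_left hx)).symm
    · exact commute_of_commutator hDE hx he
  rcases hS.pair D hD _ h.1 with hDC | hDC | hDC
  · exact absurd (le_bot_iff.1 (le_trans (commutator_mono le_rfl hle) hDC.le)) hno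
  · exact eq_of_mem_inter hS h.1 ⟨D, hD, RankOnePair_symm hDC⟩ hE (hle he) he1 he
  · rcases hS.pair D hD E hE with hDE | hDE | hDE
    · exact absurd hDE hno
    · exact (eq_of_mem_inter hS hE ⟨D, hD, RankOnePair_symm hDE⟩ h.1 he he1 (hle he)).symm
    · have heq : ⁅D, E⁆ = ⁅D, ⁅A, B⁆⁆ := by
        rw [← hDE.2.2.2 e he he1, hDC.2.2.2 e (hle he) he1]
      obtain ⟨d, hd, hd1⟩ := exists_mem_ne_one (RankOnePair_symm hAD)
      refine le_antisymm hle fun c hc => ?_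
      have h1 : ⁅d, c⁆ ∈ ⁅D, E⁆ := heq ▸ commutator_mem_commutator hd hc
      rw [← commHom_range hDE hd hd1] at h1
      obtain ⟨⟨e', he'⟩, h1⟩ := h1
      have h2 := commHom_injective hS hD ⟨A, hA, RankOnePair_symm hAD⟩ hDC hd hd1
        (a₁ := ⟨e', hle he'⟩) (a₂ := ⟨c, hc⟩) h1
      have h3 : e' = c := congrArg Subtype.val h2
      exact h3 ▸ he'

end CfsgLib.Trans3.RankOne
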