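import Cfsg.Agent.S5029
import Cfsg.Agent.S5032
import Cfsg.Agent.S5036

/-!
# Non-degenerate classes of abstract root subgroups

For a rank one pair `A, B` and a line through `A` of commutator type there are members `E, F` with
`A → E → F → B`, where `X → Y` means that `X` is the commutator of `Y` with some member.  This gives
the connectivity of the line graph, the generation of `G` by the line partners of `A` and `B`, and
that weak TI subsets are abelian.
-/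

set_option autoImplicit false

namespace CfsgLib.Trans3.RankOne

open Subgroup Cfsg
open scoped commutatorElement

variable {G : Type*} [Group G] {S : Set (Subgroup G)}

/-- `E` is below `A`: `A` is the commutator of `E` and a member. -/
def DownAdj (S : Set (Subgroup G)) (A E : Subgroup G) : Prop :=
  A ∈ S ∧ E ∈ S ∧ ∃ Q ∈ S, ⁅E, Q⁆ = A

theorem conjBy_commutator (A B : Subgroup G) (g : G) :
    conjBy ⁅A, B⁆ g = ⁅conjBy A g, conjBy B g⁆ :=
  Subgroup.map_commutator _ _ _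

theorem linePartners_symm {A C : Subgroup G} (hA : A ∈ S) (h : C ∈ linePartners S A) :
    A ∈ linePartners S C := by
  obtain ⟨⟨-, hne, hc⟩, hp⟩ := h
  exact ⟨⟨hA, hne.symm, by rw [Subgroup.commutator_comm]; exact hc⟩, by rwa [sup_comm]⟩

theorem not_isolated {A D : Subgroup G} (hA : A ∈ S) (hD : D ∈ S) (h : IsRankOnePair A D) :
    ¬ IsIsolatedIn (FAdj S) S A := fun hi => (hi.2 D).1 ⟨hA, hD, h⟩

/-- A line partner of `A` that is not a rank one partner of `B` is recovered from their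
commutator. -/
theorem line_opposite (hS : IsRootSubgroupSet S) {A B C : Subgroup G} (hA : A ∈ S) (hB : B ∈ S)
    (hAB : IsRankOnePair A B) (hC : C ∈ linePartners S A) (hn : ¬ IsRankOnePair B C) :
    RootCommutatorCase S B C ∧ ⁅A, ⁅B, C⁆⁆ = C := by
  obtain ⟨⟨hCS, hne, hAC⟩, -, hcov, hdis⟩ := hC
  have hAm : A ∈ membersIn S (A ⊔ C) := ⟨hA, le_sup_left⟩
  have hCm : C ∈ membersIn S (A ⊔ C) := ⟨hCS, le_sup_right⟩
  have hcA : ∀ c ∈ C, ∀ x ∈ A, c * x = x * c := fun c hc x hx =>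
    (commute_of_commutator hAC hx hc).symm
  obtain ⟨a, ha, ha1⟩ := exists_mem_ne_one hAB
  have third : ∀ c ∈ C, c ≠ 1 → ∃ E ∈ S, E ≠ A ∧ c * a ∈ E := by
    intro c hc hc1
    have hx1 : c * a ≠ 1 := fun he => by
      have : c ∈ A ⊓ C := ⟨by rw [eq_inv_of_mul_eq_one_left he]; exact A.inv_mem ha, hc⟩
      rw [hdis A hAm C hCm hne.symm] at this
      exact hc1 this
    obtain ⟨E, hE, hm⟩ := hcov _ (mul_mem (mem_sup_right hc) (mem_sup_left ha)) hx1
    refine ⟨E, hE.1, fun he => ?_, hm⟩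
    rw [he] at hm
    have hcA' : c ∈ A ⊓ C := ⟨(mul_mem_cancel_right ha).1 hm, hc⟩
    rw [hdis A hAm C hCm hne.symm] at hcA'
    exact hc1 hcA'
  obtain ⟨c, hc, hc1⟩ := C.bot_or_exists_ne_one.resolve_left (hS.ne_bot C hCS)
  obtain ⟨E, hE, hEA, hm⟩ := third c hc hc1
  have hBC : RootCommutatorCase S B C := by
    rcases hS.pair B hB C hCS with h | h | h
    · exact absurd (eq_of_translate hS hA hB hAB ha ha1 (mem_centralizer_sup (hcA c hc)
        fun d hd => (commute_of_commutator h hd hc).symm) hE hm).1 hc1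
    · exact absurd h hn
    · exact h
  refine ⟨hBC, ?_⟩
  obtain ⟨-, f, hf, -, hEf⟩ :=
    (translate_dichotomy hS hA hB hAB hCS hAC hE ha ha1 hc hc1 hm).resolve_left hn
  have hAF : RootCommutatorCase S A ⁅B, C⁆ := by
    rcases hS.pair A hA _ hBC.1 with h | h | h
    · refine absurd ?_ hEA
      rw [hEf]
      exact conjBy_eq_of_commute fun d hd => (commute_of_commutator h hd hf).symm
    · exact absurd (eq_of_translate hS hA hBC.1 h ha ha1 (mem_centralizer_sup (hcA c hc)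
        fun x hx => (hBC.2.1 x hx c (mem_sup_right hc)).symm) hE hm).1 hc1
    · exact h
  have hpart := Cfsg.Agent.S5029.result hS (not_isolated hA hB hAB) hA hBC.1 hAF.1
  have hle : C ≤ A ⊔ ⁅A, ⁅B, C⁆⁆ := by
    intro x hx
    rcases eq_or_ne x 1 with rfl | hx1
    · exact one_mem _
    obtain ⟨E', hE', -, hm'⟩ := third x hx hx1
    obtain ⟨-, f', hf', -, hEf'⟩ :=
      (translate_dichotomy hS hA hB hAB hCS hAC hE' ha ha1 hx hx1 hm').resolve_left hn
    have hEle : E' ≤ A ⊔ ⁅A, ⁅B, C⁆⁆ :=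
      (hpart.1.symm ▸ Or.inl ⟨f', hf', hEf'.symm⟩ : E' ∈ membersIn S (A ⊔ ⁅A, ⁅B, C⁆⁆)).2
    have := mul_mem (hEle hm') (mem_sup_left (T := ⁅A, ⁅B, C⁆⁆) (inv_mem ha))
    simpa using this
  have hC' : C ∈ membersIn S (A ⊔ ⁅A, ⁅B, C⁆⁆) := ⟨hCS, hle⟩
  rw [hpart.1] at hC'
  rcases hC' with ⟨f', hf', he⟩ | he
  · refine absurd ?_ hn
    have h1 := RankOnePair_symm (isRankOnePair_conj f' hAB)
    rwa [conjBy_eq_of_commute fun d hd => hBC.2.1 f' hf' d (mem_sup_left hd),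
      show conjBy A f' = C from he] at h1
  · exact he.symm

variable (hS : IsRootSubgroupClass S) (hnd : IsNondegenerateRootSet S)
include hS hnd

theorem exists_partner {A : Subgroup G} (hA : A ∈ S) : ∃ D ∈ S, IsRankOnePair A D := by
  obtain ⟨A₀, hA₀, B₀, hB₀, h⟩ := hnd.2.1
  obtain ⟨g, rfl⟩ := hS.2.2 A₀ hA₀ A hA
  exact ⟨_, hS.1.conj_mem B₀ hB₀ g, isRankOnePair_conj g h⟩

theorem exists_commutator {A : Subgroup G} (hA : A ∈ S) :
    ∃ P ∈ S, ∃ Q ∈ S, ⁅P, Q⁆ = A := by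
  obtain ⟨P, hP, Q, hQ, h⟩ := hnd.2.2
  obtain ⟨g, rfl⟩ := hS.2.2 _ h.1 A hA
  exact ⟨_, hS.1.conj_mem P hP g, _, hS.1.conj_mem Q hQ g, (conjBy_commutator P Q g).symm⟩

theorem line_facts {A P Q : Subgroup G} (hA : A ∈ S) (hP : P ∈ S) (hQ : Q ∈ S)
    (h : ⁅P, Q⁆ = A) :
    P ∈ linePartners S A ∧ Q ∈ linePartners S A ∧
      membersIn S (P ⊔ A) = (fun q : G => conjBy P q) '' (Q : Set G) ∪ {A} ∧
      IsSubgroupPartition (P ⊔ A) (membersIn S (P ⊔ A)) ∧
      ∀ q ∈ Q, ⁅conjBy P q, Q⁆ = A := by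
  subst h
  have hiso : ∀ {X : Subgroup G}, X ∈ S → ¬ IsIsolatedIn (FAdj S) S X := fun hX => by
    obtain ⟨D, hD, hXD⟩ := exists_partner hS hnd hX
    exact not_isolated hX hD hXD
  obtain ⟨hm, hp, hl, -⟩ := Cfsg.Agent.S5029.result hS.1 (hiso hP) hP hQ hA
  refine ⟨hl, ?_, hm, hp, fun q hq => ?_⟩
  · have hA' : ⁅Q, P⁆ ∈ S := by rw [Subgroup.commutator_comm]; exact hA
    have h' := (Cfsg.Agent.S5029.result hS.1 (hiso hQ) hQ hP hA').2.2.1
    rwa [Subgroup.commutator_comm] at h'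
  · have h1 := conjBy_commutator P Q q
    rw [conjBy_of_mem hq, conjBy_eq_self_iff.2
      (Subgroup.normalizer_commutator_ge_right P Q hq)] at h1
    exact h1.symm

/-- The three steps joining a rank one pair. -/
theorem exists_path {A B P Q : Subgroup G} (hA : A ∈ S) (hB : B ∈ S) (hAB : IsRankOnePair A B)
    (hP : P ∈ S) (hQ : Q ∈ S) (h : ⁅P, Q⁆ = A) :
    ∃ q ∈ Q, RootCommutatorCase S B (conjBy P q) ∧
      ⁅A, ⁅B, conjBy P q⁆⁆ = conjBy P q := by
  obtain ⟨hl, -, hm, ⟨-, hcov, hdis⟩, hd⟩ := line_facts hS hnd hA hP hQ h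
  suffices hex : ∃ q ∈ Q, ¬ IsRankOnePair B (conjBy P q) by
    obtain ⟨q, hq, hn⟩ := hex
    exact ⟨q, hq, line_opposite hS.1 hA hB hAB
      (line_facts hS hnd hA (hS.1.conj_mem P hP q) hQ (hd q hq)).1 hn⟩
  by_contra! hall
  have hBP : IsRankOnePair B P := by simpa using hall 1 (one_mem _)
  obtain ⟨b, hb, hb1⟩ := exists_mem_ne_one hBP
  obtain ⟨a, ha, ha1, hea⟩ := hAB.cond_right b hb hb1
  obtain ⟨c, hc, hc1, hec⟩ := hBP.cond_left b hb hb1
  have hAP : ⁅A, P⁆ = ⊥ := hl.1.2.2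
  have hcomm : ⁅B, conjBy B (a * c⁻¹)⁆ = ⊥ := by
    have h1 : ⁅conjBy B a⁻¹, conjBy B c⁻¹⁆ = ⊥ := by
      rw [hea, hec, ← conjBy_commutator, hAP, conjBy, Subgroup.map_bot]
    have h2 := congrArg (fun X => conjBy X a) h1
    simp only [conjBy_commutator, conjBy_conjBy, mul_inv_cancel, conjBy_one] at h2
    rw [h2, conjBy, Subgroup.map_bot]
  have hAm : A ∈ membersIn S (P ⊔ A) := ⟨hA, le_sup_right⟩
  have hPm : P ∈ membersIn S (P ⊔ A) := ⟨hP, le_sup_left⟩
  have hne : a * c⁻¹ ≠ 1 := fun he => by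
    have hm' : a ∈ P ⊓ A := ⟨(mul_inv_eq_one.1 he).symm ▸ hc, ha⟩
    rw [hdis P hPm A hAm hl.1.2.1] at hm'
    exact ha1 hm'
  obtain ⟨E, hE, hxE⟩ :=
    hcov _ (mul_mem (mem_sup_right ha) (inv_mem (mem_sup_left hc))) hne
  have hEB : IsRankOnePair E B := by
    rw [hm] at hE
    rcases hE with ⟨q, hq, rfl⟩ | he
    · exact RankOnePair_symm (hall q hq)
    · exact he ▸ hAB
  have heq := eq_of_commutator_bot hEB (right_mem hEB)
    (conjBy_mem (right_mem hEB) (mem_sup_left hxE)) hcomm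
  exact hne (eq_one_of_mem_normalizer hEB hxE (conjBy_eq_self_iff.1 heq.symm))

theorem down_of_rankOne {A B : Subgroup G} (h : FAdj S A B) :
    Relation.ReflTransGen (DownAdj S) A B := by
  obtain ⟨hA, hB, hAB⟩ := h
  obtain ⟨P, hP, Q, hQ, hPQ⟩ := exists_commutator hS hnd hA
  obtain ⟨q, hq, hBE, hAF⟩ := exists_path hS hnd hA hB hAB hP hQ hPQ
  obtain ⟨-, -, -, -, hd⟩ := line_facts hS hnd hA hP hQ hPQ
  have hE := hS.1.conj_mem P hP q
  have h1 : DownAdj S A (conjBy P q) := ⟨hA, hE, Q, hQ, hd q hq⟩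
  have h2 : DownAdj S (conjBy P q) ⁅B, conjBy P q⁆ :=
    ⟨hE, hBE.1, A, hA, by rw [Subgroup.commutator_comm]; exact hAF⟩
  have h3 : DownAdj S ⁅B, conjBy P q⁆ B := ⟨hBE.1, hB, _, hE, rfl⟩
  exact (Relation.ReflTransGen.single h3).head h2 |>.head h1

theorem fAdj_connected : IsConnectedFamily (FAdj S) S := by
  obtain ⟨A, hA, B, hB, h⟩ := hnd.2.1
  exact (Cfsg.Agent.S5032.result hS.1 ⟨A, hA, B, hB, h.ne⟩).2 ⟨hS.2, A, hA, not_isolated hA hB h⟩

theorem down_connected {A B : Subgroup G} (hA : A ∈ S) (hB : B ∈ S) :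
    Relation.ReflTransGen (DownAdj S) A B := by
  have h := fAdj_connected hS hnd A hA B hB
  induction h with
  | refl => exact Relation.ReflTransGen.refl
  | tail _ h2 ih => exact (ih h2.1).trans (down_of_rankOne hS hnd h2)

theorem graphs_connected :
    IsConnectedFamily (EAdj S S) S ∧ IsConnectedFamily (DAdj S) S := by
  have hstep : ∀ A E, DownAdj S A E → EAdj S S A E ∧ DAdj S A E := by
    rintro A E ⟨hA, hE, Q, hQ, h⟩
    obtain ⟨hl, -⟩ := line_facts hS hnd hA hE hQ h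
    exact ⟨⟨hA, hE, hl⟩, hA, hE, hl.1.2.1.symm, hl.1.2.2⟩
  exact ⟨fun A hA B hB => Relation.ReflTransGen.mono (fun a b h => (hstep a b h).1)
      A B (down_connected hS hnd hA hB),
    fun A hA B hB => Relation.ReflTransGen.mono (fun a b h => (hstep a b h).2)
      A B (down_connected hS hnd hA hB)⟩

theorem generated {A B : Subgroup G} (hA : A ∈ S) (hB : B ∈ rankOnePartners S A) :
    (⨆ C ∈ linePartners S A, C) ⊔ B = ⊤ := by
  obtain ⟨hBS, hAB⟩ := hB
  set L := (⨆ C ∈ linePartners S A, C) ⊔ B with hL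
  have hle : ∀ C ∈ linePartners S A, C ≤ L := fun C hC =>
    le_sup_of_le_left (le_iSup₂ (f := fun C (_ : C ∈ linePartners S A) => C) C hC)
  have hAL : A ≤ L := by
    obtain ⟨P, hP, Q, hQ, hPQ⟩ := exists_commutator hS hnd hA
    obtain ⟨hl, hl', -⟩ := line_facts hS hnd hA hP hQ hPQ
    rw [← hPQ]
    exact le_trans (Subgroup.commutator_mono (hle P hl) (hle Q hl')) (Subgroup.commutator_le_self L)
  have hX : A ⊔ B ≤ L := sup_le hAL le_sup_right
  have step : ∀ P, DownAdj S A P → ∃ l ∈ L, P = conjBy A l := by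
    rintro P ⟨-, hP, Q, hQ, hPQ⟩
    obtain ⟨hl, hl', hm, ⟨-, hcov, hdis⟩, hd⟩ := line_facts hS hnd hA hP hQ hPQ
    suffices hex : ∃ q ∈ Q, IsRankOnePair B (conjBy P q) by
      obtain ⟨q, hq, hR⟩ := hex
      obtain ⟨x, hx, hBx⟩ := right_mem hAB
      obtain ⟨y, hy, hPy⟩ := right_mem hR
      have hPqL : conjBy P q ≤ L := hle _ (line_facts hS hnd hA (hS.1.conj_mem P hP q) hQ (hd q hq)).1
      refine ⟨q⁻¹ * (y * x), mul_mem (inv_mem (hle Q hl' hq))
        (mul_mem (sup_le le_sup_right hPqL hy) (hX hx)), ?_⟩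
      have e : conjBy A (y * x) = conjBy P q := by rw [← conjBy_conjBy, ← hBx, ← hPy]
      rw [← conjBy_conjBy A (y * x) q⁻¹, e, conjBy_conjBy, inv_mul_cancel, conjBy_one]
    by_cases hn : IsRankOnePair B P
    · exact ⟨1, one_mem _, by rw [conjBy_one]; exact hn⟩
    obtain ⟨a, ha, ha1⟩ := exists_mem_ne_one hAB
    obtain ⟨c, hc, hc1⟩ := P.bot_or_exists_ne_one.resolve_left (hS.1.ne_bot P hP)
    have hPA : P ⊓ A = ⊥ :=
      hdis P ⟨hP, le_sup_left⟩ A ⟨hA, le_sup_right⟩ hl.1.2.1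
    have hx1 : c * a ≠ 1 := fun he => by
      have hm' : c ∈ P ⊓ A := ⟨hc, by rw [eq_inv_of_mul_eq_one_left he]; exact A.inv_mem ha⟩
      rw [hPA] at hm'
      exact hc1 hm'
    obtain ⟨E, hE, hxE⟩ := hcov _ (mul_mem (mem_sup_left hc) (mem_sup_right ha)) hx1
    obtain ⟨hEB, -⟩ := (translate_dichotomy hS.1 hA hBS hAB hP hl.1.2.2 hE.1 ha ha1 hc hc1
      hxE).resolve_left hn
    rw [hm] at hE
    rcases hE with ⟨q, hq, rfl⟩ | he
    · exact ⟨q, hq, RankOnePair_symm hEB⟩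
    · exfalso
      rw [Set.mem_singleton_iff] at he
      subst he
      have hm' : c ∈ P ⊓ E := ⟨hc, (mul_mem_cancel_right ha).1 hxE⟩
      rw [hPA] at hm'
      exact hc1 hm'
  have hall : ∀ D ∈ S, ∃ l ∈ L, D = conjBy A l := by
    intro D hD
    have h := down_connected hS hnd hA hD
    induction h with
    | refl => exact ⟨1, one_mem _, (conjBy_one A).symm⟩
    | @tail E F _ h2 ih =>
        obtain ⟨l, hl, rfl⟩ := ih h2.1
        obtain ⟨-, hF, Q, hQ, hFQ⟩ := h2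
        obtain ⟨m, hm, he⟩ := step (conjBy F l⁻¹) ⟨hA, hS.1.conj_mem F hF _, conjBy Q l⁻¹,
          hS.1.conj_mem Q hQ _, by
            rw [← conjBy_commutator, hFQ, conjBy_conjBy, inv_mul_cancel, conjBy_one]⟩
        refine ⟨l * m, mul_mem hl hm, ?_⟩
        rw [← conjBy_conjBy, ← he, conjBy_conjBy, mul_inv_cancel, conjBy_one]
  rw [eq_top_iff, ← hS.1.generates]
  refine iSup₂_le fun D hD => ?_
  obtain ⟨l, hl, rfl⟩ := hall D hD
  exact conjBy_le hAL hl

theorem weakTI_abelian {Δ : Set (Subgroup G)} (hΔ : IsWeakTISubset S Δ) : IsAbelianFamily Δ := by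
  obtain ⟨hsub, -, hne, hTI⟩ := hΔ
  have hstab : ∀ D ∈ Δ, ∀ X ∈ S, ⁅X, D⁆ = ⊥ → ∀ x ∈ X, ∀ E ∈ Δ, conjBy E x ∈ Δ := by
    intro D hD X hX hXD x hx E hE
    rcases eq_or_ne x 1 with rfl | hx1
    · rwa [conjBy_one]
    rcases hTI x ⟨hx1, X, hX, hx⟩ with h | h
    · rw [← h]; exact Set.mem_image_of_mem _ hE
    · refine absurd hD (Set.disjoint_left.1 h ⟨D, hD, ?_⟩)
      exact conjBy_eq_of_commute fun d hd => commute_of_commutator hXD hx hd
  have hself : ∀ X ∈ Δ, ⁅X, X⁆ = ⊥ := fun X hX =>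
    commutator_eq_bot_of_comm fun a ha b hb => comm_of_mem hS.1 (hsub hX) ha hb
  have noR : ∀ A ∈ Δ, ∀ B ∈ Δ, ¬ IsRankOnePair A B := by
    intro A hA B hB hAB
    refine hne (Set.Subset.antisymm hsub fun E hE => ?_)
    let N : Subgroup G :=
      { carrier := {g | ∀ E, conjBy E g ∈ Δ ↔ E ∈ Δ}
        one_mem' := fun E => by rw [conjBy_one]
        mul_mem' := fun {g h} hg hh E => by rw [← conjBy_conjBy, hg, hh]
        inv_mem' := fun {g} hg E => by rw [← hg, conjBy_conjBy, mul_inv_cancel, conjBy_one] }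
    have hmem : ∀ D ∈ Δ, ∀ X ∈ S, ⁅X, D⁆ = ⊥ → X ≤ N := by
      intro D hD X hX hXD x hx E
      refine ⟨fun hE => ?_, hstab D hD X hX hXD x hx E⟩
      have := hstab D hD X hX hXD _ (inv_mem hx) _ hE
      rwa [conjBy_conjBy, inv_mul_cancel, conjBy_one] at this
    have htop : N = ⊤ := by
      refine top_le_iff.1 ?_
      rw [← generated hS hnd (hsub hA) ⟨hsub hB, hAB⟩]
      refine sup_le (iSup₂_le fun C hC => hmem A hA C hC.1.1 ?_)
        (hmem B hB B (hsub hB) (hself B hB))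
      rw [Subgroup.commutator_comm]; exact hC.1.2.2
    obtain ⟨g, rfl⟩ := hS.2.2 A (hsub hA) E hE
    exact ((htop.symm ▸ Subgroup.mem_top g : g ∈ N) A).2 hA
  intro P hP Q hQ a ha b hb
  rcases hS.1.pair P (hsub hP) Q (hsub hQ) with h | h | h
  · exact commute_of_commutator h ha hb
  · exact absurd h (noR P hP Q hQ)
  exfalso
  obtain ⟨Y, hY, hCY⟩ := exists_partner hS hnd h.1
  obtain ⟨-, -, -, -, hd⟩ := line_facts hS hnd h.1 (hsub hP) (hsub hQ) rfl
  obtain ⟨q, hq, hYE, hCF⟩ := exists_path hS hnd h.1 hY hCY (hsub hP) (hsub hQ) rfl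
  have hEΔ : conjBy P q ∈ Δ := hstab Q hQ Q (hsub hQ) (hself Q hQ) q hq P hP
  have hES := hsub hEΔ
  have hFE : ⁅⁅Y, conjBy P q⁆, conjBy P q⁆ = ⊥ :=
    commutator_eq_bot_of_comm fun f hf e he => hYE.2.1 f hf e (mem_sup_right he)
  have hC' : ⁅conjBy P q, Q⁆ ∈ S := by rw [hd q hq]; exact h.1
  have hQF := (Cfsg.Agent.S5036.result hS.1 hES (hsub hQ) hC' hYE.1
    (by rw [hd q hq, Subgroup.commutator_comm]; exact hCF)).1
  obtain ⟨f, hf, hf1⟩ := exists_mem_ne_one (RankOnePair_symm hQF)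
  have hQΔ := hstab _ hEΔ _ hYE.1 hFE f hf Q hQ
  refine noR Q hQ _ hQΔ (isRankOnePair_of_mem hQF (left_mem _ _)
    (conjBy_mem (left_mem _ _) (mem_sup_right hf)) fun he => hf1 ?_)
  exact eq_one_of_mem_normalizer (RankOnePair_symm hQF) hf (conjBy_eq_self_iff.1 he.symm)

end CfsgLib.Trans3.RankOne
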