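import Cfsg.Agent.Lib.Trans3.RootSpecial
import Cfsg.Agent.Lib.Trans3.RankOneSpecial

/-!
# Rank one pairs of a degenerate class are special

For commuting members `A, C` with a common rank one partner `W` and partners `a, w, c`, the element
`q = a c⁻¹` and the element `q' = ⁅w, q⁆` satisfy `⁅a, q'⁆ = q`; this makes `(A, W)` special.  If no
member commuting with `A` is a partner of `B`, the commutators of these elements centralize
`⟨A, W⟩`, which forces the normalizer of `A` in `⟨A, W⟩` to centralize `A`.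
-/

set_option autoImplicit false
set_option linter.unusedSectionVars false

namespace CfsgLib.Trans3.RankOne

open Subgroup Cfsg
open scoped commutatorElement

variable {G : Type*} [Group G] {S : Set (Subgroup G)}

theorem conjBy_comm_bot' {A B : Subgroup G} (h : ⁅A, B⁆ = ⊥) (g : G) :
    ⁅conjBy A g, conjBy B g⁆ = ⊥ := by
  rw [← conjBy_commutator, h, conjBy, Subgroup.map_bot]

/-- Commuting members `A, C` with a common partner `W` and matched elements. -/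
structure Pencil (S : Set (Subgroup G)) (A C W : Subgroup G) (a c w : G) : Prop where
  root : IsRootSubgroupSet S
  memA : A ∈ S
  memC : C ∈ S
  memW : W ∈ S
  ne : A ≠ C
  comm : ⁅A, C⁆ = ⊥
  pairA : IsRankOnePair A W
  pairC : IsRankOnePair C W
  ha : a ∈ A
  ha1 : a ≠ 1
  hc : c ∈ C
  hw : w ∈ W
  eA : conjBy A w⁻¹ = conjBy W a⁻¹
  eC : conjBy C w⁻¹ = conjBy W c⁻¹

theorem exists_pencil (hS : IsRootSubgroupSet S) {A C W : Subgroup G} (hA : A ∈ S) (hC : C ∈ S)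
    (hW : W ∈ S) (hne : A ≠ C) (hAC : ⁅A, C⁆ = ⊥) (hAW : IsRankOnePair A W)
    (hCW : IsRankOnePair C W) {a : G} (ha : a ∈ A) (ha1 : a ≠ 1) :
    ∃ c w, Pencil S A C W a c w := by
  obtain ⟨w, hw, hw1, e⟩ := hAW.cond_left a ha ha1
  obtain ⟨c, hc, -, e'⟩ := hCW.cond_right w hw hw1
  exact ⟨c, w, hS, hA, hC, hW, hne, hAC, hAW, hCW, ha, ha1, hc, hw, e, e'.symm⟩

namespace Pencil

variable {A C W : Subgroup G} {a c w : G} (P : Pencil S A C W a c w)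
include P

theorem fix {x : G} (hx : x ∈ A) : Commute (a * c⁻¹) x :=
  (show Commute a x from comm_of_mem P.root P.memA P.ha hx).mul_left
    ((show Commute x c from commute_of_commutator P.comm hx P.hc).symm.inv_left)

theorem commAC : Commute a c := commute_of_commutator P.comm P.ha P.hc

theorem comm_translate : ⁅W, conjBy W (a * c⁻¹)⁆ = ⊥ := by
  have h := conjBy_comm_bot' P.comm w⁻¹
  rw [P.eA, P.eC] at h
  have h1 := conjBy_comm_bot' h a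
  rwa [conjBy_conjBy, conjBy_conjBy, mul_inv_cancel, conjBy_one] at h1

theorem conjBy_q : conjBy A (a * c⁻¹) = A := conjBy_eq_of_commute fun _ => P.fix

theorem conjBy_shift {u x : G} (hx : x ∈ A) (e : conjBy A u⁻¹ = conjBy W x⁻¹) :
    conjBy A (a * c⁻¹ * u⁻¹ * (a * c⁻¹)⁻¹) = conjBy W (x⁻¹ * (a * c⁻¹)) := by
  have h : conjBy A (a * c⁻¹)⁻¹ = A :=
    conjBy_eq_of_commute fun d hd => ((P.fix hd).inv_left).eq
  calc conjBy A (a * c⁻¹ * u⁻¹ * (a * c⁻¹)⁻¹)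
      = conjBy (conjBy (conjBy A (a * c⁻¹)⁻¹) u⁻¹) (a * c⁻¹) := by
        rw [conjBy_conjBy, conjBy_conjBy, mul_assoc]
    _ = conjBy W (a * c⁻¹ * x⁻¹) := by rw [h, e, conjBy_conjBy]
    _ = _ := by rw [(P.fix (inv_mem hx)).eq]

theorem mul_comm_q {v x : G} (hv : v ∈ W) (hx : x ∈ W) :
    Commute (a * c⁻¹ * v * (a * c⁻¹)⁻¹) x :=
  (commute_of_commutator P.comm_translate hx (conj_mem_conjBy hv)).symm

theorem comm_W {u x : G} (hu : u ∈ W) (hx : x ∈ W) : Commute ⁅u, a * c⁻¹⁆ x := by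
  rw [show ⁅u, a * c⁻¹⁆ = u * (a * c⁻¹ * u⁻¹ * (a * c⁻¹)⁻¹) by rw [commutatorElement_def]; group]
  exact (show Commute u x from comm_of_mem P.root P.memW hu hx).mul_left (P.mul_comm_q (inv_mem hu) hx)

theorem comm_mul {u v : G} (hu : u ∈ W) (hv : v ∈ W) :
    ⁅u * v, a * c⁻¹⁆ = ⁅u, a * c⁻¹⁆ * ⁅v, a * c⁻¹⁆ := by
  have h := (P.mul_comm_q (inv_mem hu) hv).eq
  have h' : Commute u v := comm_of_mem P.root P.memW hu hv
  calc ⁅u * v, a * c⁻¹⁆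
      = (u * v) * (a * c⁻¹ * v⁻¹ * (a * c⁻¹)⁻¹) * (a * c⁻¹ * u⁻¹ * (a * c⁻¹)⁻¹) := by
        rw [commutatorElement_def]; group
    _ = (u * v) * (a * c⁻¹ * u⁻¹ * (a * c⁻¹)⁻¹) * (a * c⁻¹ * v⁻¹ * (a * c⁻¹)⁻¹) := by
        have h2 : v⁻¹ * u⁻¹ = u⁻¹ * v⁻¹ := (h'.symm.inv_inv).eq
        rw [mul_assoc (u * v), mul_assoc (u * v)]
        congr 1
        calc a * c⁻¹ * v⁻¹ * (a * c⁻¹)⁻¹ * (a * c⁻¹ * u⁻¹ * (a * c⁻¹)⁻¹)
            = a * c⁻¹ * (v⁻¹ * u⁻¹) * (a * c⁻¹)⁻¹ := by group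
          _ = _ := by rw [h2]; group
    _ = u * (v * (a * c⁻¹ * u⁻¹ * (a * c⁻¹)⁻¹)) * (a * c⁻¹ * v⁻¹ * (a * c⁻¹)⁻¹) := by group
    _ = _ := by rw [← h, commutatorElement_def, commutatorElement_def]; group

theorem partner_image : conjBy A ⁅w, a * c⁻¹⁆ = C := by
  rw [show ⁅w, a * c⁻¹⁆ = w * (a * c⁻¹ * w⁻¹ * (a * c⁻¹)⁻¹) by rw [commutatorElement_def]; group,
    ← conjBy_conjBy, P.conjBy_shift P.ha P.eA, inv_mul_cancel_left, ← P.eC, conjBy_conjBy,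
    mul_inv_cancel, conjBy_one]

theorem image_eq : ⁅w, a * c⁻¹⁆ * a * ⁅w, a * c⁻¹⁆⁻¹ = c := by
  have hq' := P.partner_image
  obtain ⟨q', hq⟩ : ∃ q', ⁅w, a * c⁻¹⁆ = q' := ⟨_, rfl⟩
  have hW : ∀ x ∈ W, Commute q' x := fun x hx => hq ▸ P.comm_W P.hw hx
  rw [hq] at hq' ⊢
  have h1 : conjBy (conjBy A w⁻¹) q' = conjBy (conjBy W a⁻¹) q' := by rw [P.eA]
  have e1 : conjBy (conjBy A w⁻¹) q' = conjBy C w⁻¹ := by
    rw [conjBy_conjBy, (hW _ (inv_mem P.hw)).eq, ← conjBy_conjBy, hq']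
  have e2 : conjBy (conjBy W a⁻¹) q' = conjBy W (q' * a * q'⁻¹)⁻¹ := by
    conv_rhs => arg 1; rw [← conjBy_eq_of_commute (D := W) fun x hx => (hW x hx).eq]
    rw [conjBy_conjBy, conjBy_conjBy]
    congr 1; group
  rw [e1, e2, P.eC] at h1
  have hm : q' * a * q'⁻¹ ∈ C := hq' ▸ conj_mem_conjBy P.ha
  exact inv_inj.1 (eq_of_conjBy_eq P.pairC (inv_mem hm) (inv_mem P.hc) h1.symm)

theorem commutator_eq : ⁅a, ⁅w, a * c⁻¹⁆⁆ = a * c⁻¹ := by
  have h := congrArg (·⁻¹) P.image_eq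
  simp only [mul_inv_rev, inv_inv] at h
  rw [commutatorElement_def, mul_assoc, mul_assoc, h]

/-- All translates of `A` commute with it. -/
theorem translate_comm {u : G} (hu : u ∈ W) : ⁅A, conjBy A ⁅u, a * c⁻¹⁆⁆ = ⊥ := by
  rcases eq_or_ne u 1 with rfl | hu1
  · rw [commutatorElement_one_left, conjBy_one]
    exact commutator_eq_bot_of_comm fun x hx y hy => comm_of_mem P.root P.memA hx hy
  obtain ⟨x, hx, -, e⟩ := P.pairA.cond_right u hu hu1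
  have h := conjBy_comm_bot' P.comm_translate x⁻¹
  rw [conjBy_conjBy, ← P.conjBy_shift hx e.symm, e] at h
  have h2 := conjBy_comm_bot' h u
  rw [conjBy_conjBy, conjBy_conjBy, mul_inv_cancel, conjBy_one] at h2
  rwa [show ⁅u, a * c⁻¹⁆ = u * (a * c⁻¹ * u⁻¹ * (a * c⁻¹)⁻¹) by
    rw [commutatorElement_def]; group]

theorem translate_ne {u : G} (hu : u ∈ W) (hu1 : u ≠ 1) : conjBy A ⁅u, a * c⁻¹⁆ ≠ A := by
  intro h
  obtain ⟨x, hx, -, e⟩ := P.pairA.cond_right u hu hu1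
  rw [show ⁅u, a * c⁻¹⁆ = u * (a * c⁻¹ * u⁻¹ * (a * c⁻¹)⁻¹) by
    rw [commutatorElement_def]; group, ← conjBy_conjBy, conjBy_eq_iff,
    P.conjBy_shift hx e.symm, ← e, ← conjBy_conjBy] at h
  have h1 : conjBy W (a * c⁻¹) = W := conjBy_inj h
  have h2 := congrArg (fun X => conjBy X a⁻¹) h1
  simp only [conjBy_conjBy, inv_mul_cancel_left] at h2
  rw [← P.eA, ← P.eC] at h2
  exact P.ne (conjBy_inj h2).symm

/-- The pencil with the roles of `A` and `W` exchanged. -/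
theorem dual : Pencil S W (conjBy W (a * c⁻¹)) A w (a * c⁻¹ * w * (a * c⁻¹)⁻¹) a := by
  have hw1 : w ≠ 1 := by
    rintro rfl
    have h := P.eA
    rw [inv_one, conjBy_one] at h
    have h2 := congrArg (fun X => conjBy X a) h
    simp only [conjBy_conjBy, mul_inv_cancel, conjBy_one, conjBy_of_mem P.ha] at h2
    exact P.pairA.ne h2
  refine ⟨P.root, P.memW, P.root.conj_mem W P.memW _, P.memA, ?_, P.comm_translate,
    RankOnePair_symm P.pairA, ?_, P.hw, hw1, conj_mem_conjBy P.hw, P.ha, P.eA.symm, ?_⟩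
  · intro h
    have h2 := congrArg (fun X => conjBy X a⁻¹) h
    simp only [conjBy_conjBy, inv_mul_cancel_left] at h2
    rw [← P.eA, ← P.eC] at h2
    exact P.ne (conjBy_inj h2)
  · have := RankOnePair_symm (isRankOnePair_conj (a * c⁻¹) P.pairA)
    rwa [P.conjBy_q] at this
  · rw [conjBy_conjBy, show (a * c⁻¹ * w * (a * c⁻¹)⁻¹)⁻¹ = a * c⁻¹ * w⁻¹ * (a * c⁻¹)⁻¹ by group,
      P.conjBy_shift P.ha P.eA]

theorem dual_q : w * (a * c⁻¹ * w * (a * c⁻¹)⁻¹)⁻¹ = ⁅w, a * c⁻¹⁆ := by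
  rw [commutatorElement_def]; group

/-- Commuting members with a common partner force the rank one relation. -/
theorem specialRel : SpecialRel a w := by
  obtain ⟨q, hq⟩ : ∃ q, a * c⁻¹ = q := ⟨_, rfl⟩
  obtain ⟨r, hr⟩ : ∃ r, ⁅w, q⁆ = r := ⟨_, rfl⟩
  have haq : Commute a q := hq ▸ (P.fix P.ha).symm
  have hwr : Commute w r := by rw [← hr, ← hq]; exact (P.comm_W P.hw P.hw).symm
  have hwq : w * q * w⁻¹ = r * q := by rw [← hr, commutatorElement_def]; group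
  have har : a * r * a⁻¹ = q * r := by
    have h := P.commutator_eq
    rw [hq, hr, commutatorElement_def] at h
    rw [← h]; group
  have hwr' : w⁻¹ * r * w = r := by rw [mul_assoc, ← hwr.eq, inv_mul_cancel_left]
  have hwq' : w⁻¹ * q * w = r⁻¹ * q := by
    calc w⁻¹ * q * w = (w⁻¹ * r * w)⁻¹ * (w⁻¹ * (r * q) * w) := by group
      _ = r⁻¹ * q := by rw [hwr', ← hwq]; group
  have haq' : a⁻¹ * q * a = q := by rw [mul_assoc, ← haq.eq, inv_mul_cancel_left]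
  have har' : a⁻¹ * r * a = q⁻¹ * r := by
    calc a⁻¹ * r * a = (a⁻¹ * q * a)⁻¹ * (a⁻¹ * (q * r) * a) := by group
      _ = q⁻¹ * r := by rw [haq', ← har]; group
  have haq1 : a * q * a⁻¹ = q := by rw [haq.eq, mul_inv_cancel_right]
  obtain ⟨x, hx⟩ : ∃ x, w⁻¹ * a * w = x := ⟨_, rfl⟩
  obtain ⟨y, hy⟩ : ∃ y, a⁻¹ * w⁻¹ * a = y := ⟨_, rfl⟩
  have q1 : x * q * x⁻¹ = r⁻¹ * q * q := by
    calc x * q * x⁻¹ = w⁻¹ * (a * (w * q * w⁻¹) * a⁻¹) * w := by rw [← hx]; group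
      _ = w⁻¹ * (a * r * a⁻¹ * (a * q * a⁻¹)) * w := by rw [hwq]; group
      _ = (w⁻¹ * q * w) * (w⁻¹ * r * w) * (w⁻¹ * q * w) := by rw [har, haq1]; group
      _ = r⁻¹ * q * q := by rw [hwr', hwq']; group
  have q2 : y * q * y⁻¹ = r⁻¹ * q * q := by
    calc y * q * y⁻¹ = a⁻¹ * (w⁻¹ * (a * q * a⁻¹) * w) * a := by rw [← hy]; group
      _ = (a⁻¹ * r * a)⁻¹ * (a⁻¹ * q * a) := by rw [haq1, hwq']; group
      _ = r⁻¹ * q * q := by rw [har', haq']; group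
  have r1 : x * r * x⁻¹ = r⁻¹ * q * r := by
    have h0 : w * r * w⁻¹ = r := by rw [hwr.eq, mul_inv_cancel_right]
    calc x * r * x⁻¹ = w⁻¹ * (a * (w * r * w⁻¹) * a⁻¹) * w := by rw [← hx]; group
      _ = (w⁻¹ * q * w) * (w⁻¹ * r * w) := by rw [h0, har]; group
      _ = r⁻¹ * q * r := by rw [hwr', hwq']
  have r2 : y * r * y⁻¹ = r⁻¹ * q * r := by
    calc y * r * y⁻¹ = a⁻¹ * (w⁻¹ * (a * r * a⁻¹) * w) * a := by rw [← hy]; group
      _ = a⁻¹ * ((w⁻¹ * q * w) * (w⁻¹ * r * w)) * a := by rw [har]; group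
      _ = (a⁻¹ * r * a)⁻¹ * (a⁻¹ * q * a) * (a⁻¹ * r * a) := by rw [hwr', hwq']; group
      _ = r⁻¹ * q * r := by rw [har', haq']; group
  have key : ∀ n, x * n * x⁻¹ = y * n * y⁻¹ → Commute (y⁻¹ * x) n := fun n h => by
    calc y⁻¹ * x * n = y⁻¹ * (x * n * x⁻¹) * x := by group
      _ = n * (y⁻¹ * x) := by rw [h]; group
  obtain ⟨t, ht⟩ : ∃ t, w * (y⁻¹ * x) * w⁻¹ = t := ⟨_, rfl⟩
  have hrt : Commute t r := by
    have h := (key r (r1.trans r2.symm)).conj w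
    rwa [ht, show w * r * w⁻¹ = r by rw [hwr.eq, mul_inv_cancel_right]] at h
  have htA : t ∈ A := by
    have h1 : y⁻¹ * x ∈ conjBy A w⁻¹ := by
      refine mul_mem (inv_mem ?_) ?_
      · rw [P.eA, mem_conjBy, inv_inv, ← hy]
        simpa [mul_assoc] using inv_mem P.hw
      · rw [mem_conjBy, inv_inv, ← hx]
        simpa [mul_assoc] using P.ha
    rw [mem_conjBy, inv_inv] at h1
    rwa [← ht]
  have ht1 : t = 1 := by
    by_contra hne
    have hC : t ∈ C := by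
      rw [← P.partner_image, hq, hr, mem_conjBy, mul_assoc, hrt.eq, inv_mul_cancel_left]
      exact htA
    exact P.ne (eq_of_mem_inter P.root P.memA ⟨W, P.memW, P.pairA⟩ P.memC htA hne hC).symm
  rw [← ht, ← mul_left_cancel_iff (a := w⁻¹)] at ht1
  simp only [← mul_assoc, inv_mul_cancel, one_mul, mul_one] at ht1
  have h1 : y⁻¹ * x = 1 := by
    have h2 := congrArg (· * w) ht1
    simpa [mul_assoc] using h2
  show w⁻¹ * a * w = a⁻¹ * w⁻¹ * a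
  rw [hx, hy]
  exact (inv_mul_eq_one.1 h1).symm

end Pencil

/-- A commuting member with a common partner makes the pair special. -/
theorem special_of_common_partner (hS : IsRootSubgroupSet S) {A B C : Subgroup G} (hA : A ∈ S)
    (hB : B ∈ S) (hC : C ∈ S) (hne : A ≠ C) (hAC : ⁅A, C⁆ = ⊥) (hAB : IsRankOnePair A B)
    (hCB : IsRankOnePair C B) : IsSpecialRankOnePair A B := by
  refine ⟨hAB, fun a ha ha1 b hb hb1 he => ?_⟩
  obtain ⟨c, hc, -, e'⟩ := hCB.cond_right b hb hb1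
  exact (Pencil.mk hS hA hC hB hne hAC hAB hCB ha ha1 hc hb he e'.symm).specialRel

/-- In a bad pair the normalizer of `A` in `⟨A, W⟩` centralizes `A`. -/
theorem false_of_bad (hS : IsRootSubgroupSet S) {A B C W : Subgroup G} (hA : A ∈ S)
    (hAB : IsRankOnePair A B) (hbad : ∀ D ∈ S, D ≠ A → ⁅A, D⁆ = ⊥ → ⁅D, B⁆ = ⊥)
    (hC : C ∈ S) (hne : A ≠ C) (hAC : ⁅A, C⁆ = ⊥) (hW : W ∈ S) (hAW : IsRankOnePair A W)
    (hCW : IsRankOnePair C W) (hW3 : ∃ u ∈ W, ∃ u' ∈ W, u ≠ 1 ∧ u' ≠ 1 ∧ u ≠ u') {a g : G}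
    (ha : a ∈ A)
    (hg : g ∈ A ⊔ W) (hgA : conjBy A g = A) (hga : g * a * g⁻¹ ≠ a) : False := by
  obtain ⟨a₀, ha₀, ha₀1⟩ := exists_mem_ne_one hAW
  obtain ⟨c, w, P⟩ := exists_pencil hS hA hC hW hne hAC hAW hCW ha₀ ha₀1
  obtain ⟨u, hu, hu1, huw⟩ : ∃ v ∈ W, v ≠ 1 ∧ v * w ≠ 1 := by
    obtain ⟨u, hu, u', hu', h1, h1', hne'⟩ := hW3
    by_cases h : u * w = 1
    · exact ⟨u', hu', h1', fun e => hne' (mul_right_cancel (h.trans e.symm))⟩
    · exact ⟨u, hu, h1, h⟩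
  obtain ⟨q₀, hq₀⟩ : ∃ q, a₀ * c⁻¹ = q := ⟨_, rfl⟩
  obtain ⟨m, hm⟩ : ∃ m, ⁅w, a₀ * c⁻¹⁆ = m := ⟨_, rfl⟩
  obtain ⟨n, hn⟩ : ∃ n, ⁅u, a₀ * c⁻¹⁆ = n := ⟨_, rfl⟩
  have hnm : ⁅u * w, a₀ * c⁻¹⁆ = n * m := by rw [P.comm_mul hu P.hw, hn, hm]
  have hm1 : w ≠ 1 := P.dual.ha1
  -- the translates are partners of nothing in `{A, B}`
  have hT : ∀ v ∈ W, v ≠ 1 → ∀ x ∈ conjBy A ⁅v, a₀ * c⁻¹⁆,
      (∀ y ∈ A, Commute x y) ∧ (∀ y ∈ B, Commute x y) ∧
      ∀ g', conjBy A g' = A → ∀ y ∈ B, Commute (g' * x * g'⁻¹) y := by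
    intro v hv hv1 x hx
    have h1 := P.translate_comm hv
    have h2 := P.translate_ne hv hv1
    have hD := hS.conj_mem A hA ⁅v, a₀ * c⁻¹⁆
    refine ⟨fun y hy => (commute_of_commutator h1 hy hx : Commute y x).symm,
      fun y hy => commute_of_commutator (hbad _ hD h2 h1) hx hy, fun g' hg' y hy => ?_⟩
    refine commute_of_commutator (hbad _ (hS.conj_mem _ hD g') ?_ ?_) (conj_mem_conjBy hx) hy
    · intro e; exact h2 (conjBy_inj (e.trans hg'.symm))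
    · have := conjBy_comm_bot' h1 g'; rwa [hg'] at this
  have x1 := hT u hu hu1 (n * a * n⁻¹) (hn ▸ conj_mem_conjBy ha)
  have x2 := hT (u * w) (mul_mem hu P.hw) huw (n * m * a⁻¹ * (n * m)⁻¹)
    (hnm ▸ conj_mem_conjBy (inv_mem ha))
  have x3 := hT w P.hw hm1 (m * a * m⁻¹) (hm ▸ conj_mem_conjBy ha)
  obtain ⟨q, hq⟩ : ∃ q, ⁅a, m⁆ = q := ⟨_, rfl⟩
  obtain ⟨z, hz⟩ : ∃ z, n * q * n⁻¹ * q⁻¹ = z := ⟨_, rfl⟩
  have hzdef : z = (n * a * n⁻¹) * (n * m * a⁻¹ * (n * m)⁻¹) * (m * a * m⁻¹) * a⁻¹ := by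
    rw [← hz, ← hq, commutatorElement_def]; group
  have hzA : ∀ y ∈ A, Commute z y := fun y hy => hzdef ▸
    (((x1.1 y hy).mul_left (x2.1 y hy)).mul_left (x3.1 y hy)).mul_left
      (comm_of_mem hS hA (inv_mem ha) hy)
  -- `z` centralizes `W`
  have hzW : ∀ y ∈ W, Commute z y := by
    have hd : ∀ x ∈ A, ⁅W, conjBy W ⁅x, m⁆⁆ = ⊥ := fun x hx => by
      have := P.dual.translate_comm hx
      rwa [P.dual_q, hm] at this
    have hqq : ⁅a₀, m⁆ = q₀ := by rw [← hm, P.commutator_eq, hq₀]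
    intro y hy
    have hnW : ∀ x ∈ conjBy W ⁅a⁻¹, m⁆, Commute n x := by
      intro x hx
      rw [← hn, show ⁅u, a₀ * c⁻¹⁆ = u * (a₀ * c⁻¹ * u⁻¹ * (a₀ * c⁻¹)⁻¹) by
        rw [commutatorElement_def]; group]
      refine Commute.mul_left (commute_of_commutator (hd _ (inv_mem ha)) hu hx) ?_
      have h1 := conjBy_comm_bot' (hd _ (mul_mem (inv_mem ha₀) (inv_mem ha))) q₀
      have h2 : q₀ * ⁅a₀⁻¹ * a⁻¹, m⁆ = ⁅a⁻¹, m⁆ := by
        have h3 := P.dual.comm_mul (u := a₀) (v := a₀⁻¹ * a⁻¹) ha₀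
          (mul_mem (inv_mem ha₀) (inv_mem ha))
        rw [P.dual_q, hm, mul_inv_cancel_left] at h3
        rw [h3, hqq]
      rw [conjBy_conjBy, h2] at h1
      rw [hq₀]
      exact commute_of_commutator h1 (conj_mem_conjBy (inv_mem hu)) hx
    have hny : Commute n y := hn ▸ P.comm_W hu hy
    have hqinv : q⁻¹ = ⁅a⁻¹, m⁆ := by
      have h3 := P.dual.comm_mul (u := a) (v := a⁻¹) ha (inv_mem ha)
      rw [P.dual_q, hm, mul_inv_cancel, commutatorElement_one_left, hq] at h3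
      exact inv_eq_of_mul_eq_one_right h3.symm
    have h4 : q⁻¹ * y * q ∈ conjBy W ⁅a⁻¹, m⁆ := by
      rw [← hqinv, mem_conjBy, inv_inv]; simpa [mul_assoc] using hy
    have h5 : n⁻¹ * (q⁻¹ * y * q) * n = q⁻¹ * y * q := by
      rw [mul_assoc, ← (hnW _ h4).eq, inv_mul_cancel_left]
    show z * y = y * z
    calc z * y = n * q * (n⁻¹ * (q⁻¹ * y * q) * n) * n⁻¹ * q⁻¹ := by rw [← hz]; group
      _ = (n * y) * q * n⁻¹ * q⁻¹ := by rw [h5]; group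
      _ = y * z := by rw [hny.eq, ← hz]; group
  have hzg : Commute z g := by
    have hle : A ⊔ W ≤ Subgroup.centralizer ({z} : Set G) :=
      sup_le (fun y hy => Subgroup.mem_centralizer_singleton_iff.2 (hzA y hy).eq.symm)
        (fun y hy => Subgroup.mem_centralizer_singleton_iff.2 (hzW y hy).eq.symm)
    exact (Subgroup.mem_centralizer_singleton_iff.1 (hle hg) : Commute g z).symm
  have hz' : z = (g * (n * a * n⁻¹) * g⁻¹) * (g * (n * m * a⁻¹ * (n * m)⁻¹) * g⁻¹) *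
      (g * (m * a * m⁻¹) * g⁻¹) * (g * a * g⁻¹)⁻¹ := by
    calc z = g * z * g⁻¹ := by rw [← hzg.eq, mul_inv_cancel_right]
      _ = _ := by rw [hzdef]; group
  refine hga ?_
  have hgaA : g * a * g⁻¹ ∈ A := hgA ▸ conj_mem_conjBy ha
  refine (mul_inv_eq_one.1 (mem_center_of_normalizer hAB (mul_mem hgaA (inv_mem ha)) ?_))
  intro b hb
  have p : ∀ x y : G, (∀ b ∈ B, Commute x b) → z = x * y → Commute (z * y⁻¹) b :=
    fun x y hx e => by rw [e, mul_inv_cancel_right]; exact hx b hb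
  have p1 := p _ _ (fun b hb => ((x1.2.1 b hb).mul_left (x2.2.1 b hb)).mul_left (x3.2.1 b hb)) hzdef
  have p2 := p _ _ (fun b hb => ((x1.2.2 g hgA b hb).mul_left (x2.2.2 g hgA b hb)).mul_left
    (x3.2.2 g hgA b hb)) hz'
  have p3 := p1.inv_left.mul_left p2
  rw [show (z * a⁻¹⁻¹)⁻¹ * (z * (g * a * g⁻¹)⁻¹⁻¹) = a⁻¹ * (g * a * g⁻¹) by group] at p3
  rw [← comm_of_mem hS hA (inv_mem ha) hgaA]
  exact p3.eq

variable (hS : IsRootSubgroupClass S)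
include hS

omit hS in
/-- The element `a⁻¹ b` maps `A` to `B` and `a` to `b⁻¹`. -/
theorem SpecialData.swap {A B : Subgroup G} (h : SpecialData A B) {a b : G}
    (hp : IsPartner A B a b) :
    conjBy A (a⁻¹ * b) = B ∧ (a⁻¹ * b) * a * (a⁻¹ * b)⁻¹ = b⁻¹ := by
  have hi := hp.inv h
  constructor
  · have := hi.2.2.2.2
    simp only [inv_inv] at this
    rw [← conjBy_conjBy, this, conjBy_conjBy, inv_mul_cancel, conjBy_one]
  · have hr := specialRel_inv (h.rel a hp.1 hp.2.1 b hp.2.2.1 hp.2.2.2.1 hp.2.2.2.2)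
    unfold SpecialRel at hr
    simp only [inv_inv] at hr
    have h2 : b * a * b⁻¹ = a * b⁻¹ * a⁻¹ := by
      have h3 := congrArg (·⁻¹) hr
      simpa [mul_assoc] using h3
    calc (a⁻¹ * b) * a * (a⁻¹ * b)⁻¹ = a⁻¹ * (b * a * b⁻¹) * a := by group
      _ = b⁻¹ := by rw [h2]; group

theorem degenerate_special (hd : IsDegenerateRootSet S)
    (hcomm : ∃ A ∈ S, ∃ C ∈ S, A ≠ C ∧ ⁅A, C⁆ = ⊥) {A B : Subgroup G} (hA : A ∈ S) (hB : B ∈ S)
    (hAB : IsRankOnePair A B)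
    (hmove : ∀ W ∈ S, IsSpecialRankOnePair A W →
      (∃ u ∈ W, ∃ u' ∈ W, u ≠ 1 ∧ u' ≠ 1 ∧ u ≠ u') ∧
      ∃ a ∈ A, ∃ g ∈ A ⊔ W, conjBy A g = A ∧ g * a * g⁻¹ ≠ a) :
    IsSpecialRankOnePair A B := by
  have hR : ∀ {X Y : Subgroup G}, X ∈ S → Y ∈ S → ⁅X, Y⁆ ≠ ⊥ → IsRankOnePair X Y :=
    fun hX hY hne => ((hS.1.pair _ hX _ hY).resolve_left hne).resolve_right (hd _ hX _ hY)
  by_cases hex : ∃ C ∈ S, C ≠ A ∧ ⁅A, C⁆ = ⊥ ∧ IsRankOnePair C B
  · obtain ⟨C, hC, hne, hAC, hCB⟩ := hex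
    exact special_of_common_partner hS.1 hA hB hC hne.symm hAC hAB hCB
  exfalso
  push Not at hex
  have hbad : ∀ D ∈ S, D ≠ A → ⁅A, D⁆ = ⊥ → ⁅D, B⁆ = ⊥ := fun D hD hne hc => by
    by_contra h; exact hex D hD hne hc (hR hD hB h)
  obtain ⟨C₀, hC₀, hne₀, hAC₀⟩ : ∃ C ∈ S, A ≠ C ∧ ⁅A, C⁆ = ⊥ := by
    obtain ⟨A₀, hA₀, C, hC, hne, hc⟩ := hcomm
    obtain ⟨g, rfl⟩ := hS.2.2 A₀ hA₀ A hA
    exact ⟨_, hS.1.conj_mem C hC g, fun e => hne (conjBy_inj e), conjBy_comm_bot' hc g⟩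
  obtain ⟨C, hC, hne, hAC, W, hW, hAW, hCW⟩ : ∃ C ∈ S, A ≠ C ∧ ⁅A, C⁆ = ⊥ ∧
      ∃ W ∈ S, IsRankOnePair A W ∧ IsRankOnePair C W := by
    by_contra hnone
    push Not at hnone
    have hconn := (Cfsg.Agent.S5032.result hS.1 ⟨A, hA, B, hB, hAB.ne⟩).2
      ⟨hS.2, A, hA, not_isolated hA hB hAB⟩ A hA C₀ hC₀
    suffices hinv : ∀ D, Relation.ReflTransGen (FAdj S) A D → D = A ∨ IsRankOnePair A D by
      rcases hinv C₀ hconn with h | h
      · exact hne₀ h.symm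
      · exact not_commutator_bot h hAC₀
    intro D hD
    induction hD with
    | refl => exact .inl rfl
    | @tail D E _ h2 ih =>
        by_contra hcon
        push Not at hcon
        have hAE : ⁅A, E⁆ = ⊥ := by by_contra h; exact hcon.2 (hR hA h2.2.1 h)
        rcases ih with rfl | h
        · exact hcon.2 h2.2.2
        · exact hnone E h2.2.1 (Ne.symm hcon.1) hAE D h2.1 h (RankOnePair_symm h2.2.2)
  obtain ⟨hW3, a, ha, g, hg, hgA, hga⟩ :=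
    hmove W hW (special_of_common_partner hS.1 hA hW hC hne hAC hAW hCW)
  exact false_of_bad hS.1 hA hAB hbad hC hne hAC hW hAW hCW hW3 ha hg hgA hga

end CfsgLib.Trans3.RankOne
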