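import Cfsg.Agent.Lib.Trans3.RootClass

/-!
# Centralizer sets and partner sets of root subgroups are incomparable
-/

set_option autoImplicit false

namespace CfsgLib.Trans3.RankOne

open Subgroup Cfsg
open scoped commutatorElement

variable {G : Type*} [Group G] {S : Set (Subgroup G)}

theorem conjBy_comm_bot {A B : Subgroup G} (h : ⁅A, B⁆ = ⊥) (g : G) :
    ⁅conjBy A g, conjBy B g⁆ = ⊥ := by
  rw [← conjBy_commutator, h, conjBy, Subgroup.map_bot]

theorem comm_symm {A B : Subgroup G} (h : ⁅A, B⁆ = ⊥) : ⁅B, A⁆ = ⊥ := by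
  rw [Subgroup.commutator_comm]; exact h

theorem not_pair_and_case (hS : IsRootSubgroupSet S) {A B : Subgroup G} (hA : A ∈ S)
    (h : IsRankOnePair A B)
    (hc : RootCommutatorCase S A B) : False := by
  obtain ⟨b, hb, hb1⟩ := exists_mem_ne_one (RankOnePair_symm h)
  have hmem : conjBy A b ∈ unipotentSubgroups A B := conjBy_mem (left_mem A B) (mem_sup_right hb)
  refine hb1 (eq_one_of_mem_normalizer (RankOnePair_symm h) hb (conjBy_eq_self_iff.1
    (eq_of_commutator_bot h hmem (left_mem A B) (commutator_eq_bot_of_comm fun u hu v hv => ?_))))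
  -- the conjugate lies in `A⁅A, B⁆`
  obtain ⟨a, ha, rfl⟩ := hu
  have hb' : ⁅b, a⁆ ∈ ⁅A, B⁆ := by
    rw [Subgroup.commutator_comm A B]; exact commutator_mem_commutator hb ha
  have h1 : Commute ⁅b, a⁆ v := hc.2.1 _ hb' v (mem_sup_left hv)
  have h2 : Commute a v := comm_of_mem hS hA ha hv
  show b * a * b⁻¹ * v = v * (b * a * b⁻¹)
  rw [show b * a * b⁻¹ = ⁅b, a⁆ * a by rw [commutatorElement_def]; group]
  exact (h1.mul_left h2).eq

/-- A commutator `G` inside the centralizer of a rank one partner is impossible. -/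
theorem commutator_noncomm (hS : IsRootSubgroupSet S) {C W A : Subgroup G} (hCW : IsRankOnePair C W)
    (hWA : RootCommutatorCase S W A) (hCA : ⁅C, A⁆ = ⊥) : ⁅C, ⁅W, A⁆⁆ ≠ ⊥ := by
  intro hCG
  obtain ⟨w, hw, hw1⟩ := exists_mem_ne_one (RankOnePair_symm hCW)
  have key : ∀ a ∈ A, ∀ u ∈ conjBy C w⁻¹, a * u = u * a := by
    intro a ha u hu
    rw [mem_conjBy, inv_inv] at hu
    have h1 : Commute (w * u * w⁻¹) (w * a * w⁻¹) := by
      rw [show w * a * w⁻¹ = ⁅w, a⁆ * a by rw [commutatorElement_def]; group]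
      exact Commute.mul_right (commute_of_commutator hCG hu (commutator_mem_commutator hw ha))
        (commute_of_commutator hCA hu ha)
    have h2 := h1.conj w⁻¹
    simp only [inv_inv, mul_assoc, inv_mul_cancel_left] at h2
    simpa using h2.symm.eq
  have hne : conjBy C w⁻¹ ≠ C := fun he => hw1 (inv_eq_one.1
    (eq_one_of_mem_normalizer (RankOnePair_symm hCW) (inv_mem hw) (conjBy_eq_self_iff.1 he)))
  have hsup := sup_eq_of_mem hCW (conjBy_mem (left_mem C W) (mem_sup_right (inv_mem hw)))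
    (left_mem C W) hne
  have hW : ⁅W, A⁆ = ⊥ := comm_symm (commutator_eq_bot_iff_le_centralizer.2 fun a ha => by
    rw [Subgroup.mem_centralizer_iff]
    intro x hx
    have hx' : x ∈ conjBy C w⁻¹ ⊔ C := by rw [hsup]; exact mem_sup_right hx
    have hle : conjBy C w⁻¹ ⊔ C ≤ Subgroup.centralizer ({a} : Set G) := sup_le
      (fun u hu => Subgroup.mem_centralizer_singleton_iff.2 (key a ha u hu).symm)
      (fun u hu => Subgroup.mem_centralizer_singleton_iff.2 (commute_of_commutator hCA hu ha))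
    exact Subgroup.mem_centralizer_singleton_iff.1 (hle hx'))
  exact hS.ne_bot _ hWA.1 hW

variable (hS : IsRootSubgroupClass S)
include hS

/-- The partner of `E` obtained from a commutator `⁅E, X⁆ ∈ S`. -/
theorem partner_of_commutator (hnd : IsNondegenerateRootSet S) {E X : Subgroup G} (hE : E ∈ S)
    (hX : X ∈ S) (hF : ⁅E, X⁆ ∈ S) :
    ∃ Y ∈ S, IsRankOnePair E Y ∧ ⁅Y, ⁅E, X⁆⁆ = X ∧ ⁅Y, X⁆ = ⊥ := by
  obtain ⟨T, hT, hFT⟩ := exists_partner hS hnd hF
  have hXE : ⁅X, E⁆ = ⁅E, X⁆ := Subgroup.commutator_comm X E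
  obtain ⟨q, hq, hTX, hFD⟩ := exists_path hS hnd hF hT hFT hX hE hXE
  obtain ⟨-, -, -, -, hd⟩ := line_facts hS hnd hF hX hE hXE
  have hDF : ⁅⁅T, conjBy X q⁆, ⁅E, X⁆⁆ = conjBy X q := by
    rw [Subgroup.commutator_comm]; exact hFD
  have hp := (Cfsg.Agent.S5036.result hS.1 (hS.1.conj_mem X hX q) hE
    (by rw [hd q hq]; exact hF) hTX.1 (by rw [hd q hq]; exact hDF)).1
  refine ⟨conjBy ⁅T, conjBy X q⁆ q⁻¹, hS.1.conj_mem _ hTX.1 _, ?_, ?_, ?_⟩
  · have := isRankOnePair_conj q⁻¹ hp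
    rwa [conjBy_of_mem (inv_mem hq)] at this
  · have h := congrArg (fun Z => conjBy Z q⁻¹) hDF
    simp only [conjBy_commutator (A := ⁅T, conjBy X q⁆), conjBy_conjBy, inv_mul_cancel,
      conjBy_one] at h
    rwa [conjBy_eq_self_iff.2 (Subgroup.normalizer_commutator_ge_left E X (inv_mem hq))] at h
  · have h : ⁅⁅T, conjBy X q⁆, conjBy X q⁆ = ⊥ :=
      commutator_eq_bot_of_comm fun f hf x hx => hTX.2.1 f hf x (mem_sup_right hx)
    have h' := conjBy_comm_bot h q⁻¹
    rwa [conjBy_conjBy X, inv_mul_cancel, conjBy_one] at h'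

omit hS in
/-- The inclusion of centralizer sets. -/
def CSub (S : Set (Subgroup G)) (A C : Subgroup G) : Prop :=
  ∀ D ∈ S, ⁅D, A⁆ = ⊥ → ⁅D, C⁆ = ⊥

omit hS in
theorem CSub.conj (hS : IsRootSubgroupSet S) {A C : Subgroup G} (h : CSub S A C) (g : G) :
    CSub S (conjBy A g) (conjBy C g) := by
  intro D hD hDA
  have h1 := conjBy_comm_bot hDA g⁻¹
  rw [conjBy_conjBy, inv_mul_cancel, conjBy_one] at h1
  have h2 := conjBy_comm_bot (h _ (hS.conj_mem D hD g⁻¹) h1) g
  rwa [conjBy_conjBy, mul_inv_cancel, conjBy_one] at h2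

theorem partners_of_csub {A C W : Subgroup G} (hA : A ∈ S) (hW : W ∈ S)
    (h : CSub S A C) (hCW : IsRankOnePair C W) : IsRankOnePair A W := by
  have hCA : ⁅C, A⁆ = ⊥ := comm_symm (h A hA (commutator_eq_bot_of_comm fun u hu v hv =>
    comm_of_mem hS.1 hA hu hv))
  rcases hS.1.pair W hW A hA with h1 | h1 | h1
  · exact absurd (comm_symm (h W hW h1)) (not_commutator_bot hCW)
  · exact RankOnePair_symm h1
  · refine absurd (comm_symm (h _ h1.1 ?_)) (commutator_noncomm hS.1 hCW h1 hCA)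
    exact commutator_eq_bot_of_comm fun f hf a ha => h1.2.1 f hf a (mem_sup_right ha)

theorem false_of_rankOne {A C X W : Subgroup G} (hA : A ∈ S) (hC : C ∈ S) (hX : X ∈ S)
    (hW : W ∈ S) (h : CSub S A C) (hAX : IsRankOnePair A X) (hXC : ⁅X, C⁆ = ⊥)
    (hWA : IsRankOnePair W A) (hWX : IsRankOnePair W X) (hWC : IsRankOnePair W C) : False := by
  have hAC : ⁅A, C⁆ = ⊥ := h A hA (commutator_eq_bot_of_comm fun u hu v hv =>
    comm_of_mem hS.1 hA hu hv)
  have hcc : ∀ {M : Subgroup G} {m c : G}, ⁅M, C⁆ = ⊥ → m ∈ M → c ∈ C → Commute m c :=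
    fun hM hm hc => commute_of_commutator hM hm hc
  -- for every `w`, the translates of `W` by the partners of `w` commute
  have step : ∀ w ∈ W, ∀ a ∈ A, ∀ x ∈ X, ∀ c ∈ C, conjBy W a⁻¹ = conjBy A w⁻¹ →
      conjBy W x⁻¹ = conjBy X w⁻¹ → conjBy W c⁻¹ = conjBy C w⁻¹ →
      ⁅conjBy W x, conjBy W a⁆ = ⊥ := by
    intro w hw a ha x hx c hc ea ex ec
    have h1 : ⁅conjBy W x⁻¹, conjBy W c⁻¹⁆ = ⊥ := by rw [ex, ec]; exact conjBy_comm_bot hXC _
    have hxc := hcc hXC hx hc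
    have hac := hcc hAC ha hc
    have h2 : ⁅conjBy W (c⁻¹ * x), W⁆ = ⊥ := by
      have h3 := conjBy_comm_bot h1 x
      rw [conjBy_conjBy, conjBy_conjBy, mul_inv_cancel, conjBy_one, hxc.inv_right.eq] at h3
      exact comm_symm h3
    have h4 := (h.conj hS.1 (a * w⁻¹))
    rw [← conjBy_conjBy A, ← conjBy_conjBy C, ← ea, ← ec, conjBy_conjBy, conjBy_conjBy,
      mul_inv_cancel, conjBy_one] at h4
    have h5 := conjBy_comm_bot (h4 _ (hS.1.conj_mem W hW _) h2) c
    rwa [conjBy_conjBy, conjBy_conjBy, mul_inv_cancel_left, hac.inv_right.eq,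
      mul_inv_cancel_left] at h5
  obtain ⟨w, hw, hw1⟩ := exists_mem_ne_one hWA
  obtain ⟨a, ha, ha1, ea⟩ := hWA.cond_left w hw hw1
  obtain ⟨x, hx, -, ex⟩ := hWX.cond_left w hw hw1
  obtain ⟨c, hc, hc1, ec⟩ := hWC.cond_left w hw hw1
  obtain ⟨v, hv, hv1, ev⟩ := hWA.cond_right a⁻¹ (inv_mem ha) (inv_ne_one.2 ha1)
  rw [inv_inv] at ev
  obtain ⟨a₂, ha₂, -, ea₂⟩ := hWA.cond_left v hv hv1
  obtain ⟨x₂, hx₂, -, ex₂⟩ := hWX.cond_left v hv hv1
  obtain ⟨c₂, hc₂, -, ec₂⟩ := hWC.cond_left v hv hv1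
  have haa : a₂⁻¹ = a := by
    refine eq_of_conjBy_eq (RankOnePair_symm hWA) (inv_mem ha₂) ha ?_
    rw [ea₂, ← ev]
  have s2 := step v hv a₂ ha₂ x₂ hx₂ c₂ hc₂ ea₂ ex₂ ec₂
  rw [← inv_inv a₂, haa] at s2
  have hC1 : ⁅conjBy W x₂, conjBy W c⁻¹⁆ = ⊥ := by
    rw [ec]
    exact (h.conj hS.1 w⁻¹) _ (hS.1.conj_mem W hW _) (by rw [← ea]; exact s2)
  have hX1 : ⁅conjBy W x⁻¹, conjBy W c⁻¹⁆ = ⊥ := by
    rw [ex, ec]; exact conjBy_comm_bot hXC _
  have hR : IsRankOnePair (conjBy W x⁻¹) (conjBy W a⁻¹) := by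
    rw [ex, ea]; exact isRankOnePair_conj _ (RankOnePair_symm hAX)
  by_cases heq : conjBy W x₂ = conjBy W x⁻¹
  · exact not_commutator_bot hR (heq ▸ s2)
  · have hm1 := conjBy_mem (left_mem W X) (mem_sup_right (S := W) hx₂)
    have hm2 := conjBy_mem (left_mem W X) (mem_sup_right (S := W) (inv_mem hx))
    have hWc : ⁅W, conjBy W c⁻¹⁆ = ⊥ := by
      refine commutator_eq_bot_iff_le_centralizer.2 (le_trans ?_ (sup_le
        (commutator_eq_bot_iff_le_centralizer.1 hC1) (commutator_eq_bot_iff_le_centralizer.1 hX1)))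
      rw [sup_eq_of_mem hWX hm1 hm2 heq]
      exact le_sup_left
    have hne : conjBy W c⁻¹ ≠ W := fun he => hc1 (inv_eq_one.1
      (eq_one_of_mem_normalizer (RankOnePair_symm hWC) (inv_mem hc) (conjBy_eq_self_iff.1 he)))
    exact hne (eq_of_commutator_bot hWC (conjBy_mem (left_mem W C) (mem_sup_right (inv_mem hc)))
      (left_mem W C) (comm_symm hWc))

theorem nondegenerate_of_case (hdn : IsDegenerateRootSet S ∨ IsNondegenerateRootSet S)
    {A B : Subgroup G} (hA : A ∈ S) (hB : B ∈ S) (h : RootCommutatorCase S A B) :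
    IsNondegenerateRootSet S :=
  hdn.resolve_left fun hd => hd A hA B hB h

theorem csub_symm (hdn : IsDegenerateRootSet S ∨ IsNondegenerateRootSet S) {A C : Subgroup G}
    (hA : A ∈ S) (hC : C ∈ S) (h : CSub S A C) : CSub S C A := by
  intro X hX hXC
  have hAC : ⁅A, C⁆ = ⊥ := h A hA (commutator_eq_bot_of_comm fun u hu v hv =>
    comm_of_mem hS.1 hA hu hv)
  by_contra hne
  -- conjugates of `A` by elements centralising `C` have the same property
  have hmove : ∀ g, (∀ c ∈ C, g * c = c * g) → CSub S (conjBy A g) C := fun g hg => by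
    have := h.conj hS.1 g
    rwa [conjBy_eq_of_commute hg] at this
  have hU : ∀ {Y : Subgroup G}, ⁅Y, C⁆ = ⊥ → ∀ g ∈ X ⊔ Y, ∀ c ∈ C, g * c = c * g :=
    fun hY g hg c hc => commute_of_commutator (commutator_eq_bot_iff_le_centralizer.2
      (sup_le (commutator_eq_bot_iff_le_centralizer.1 hXC)
        (commutator_eq_bot_iff_le_centralizer.1 hY))) hg hc
  rcases hS.1.pair A hA X hX with h1 | h1 | h1
  · exact hne (comm_symm h1)
  · obtain ⟨W, hW, hCW⟩ : ∃ W ∈ S, IsRankOnePair C W := by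
      obtain ⟨g, rfl⟩ := hS.2.2 A hA C hC
      exact ⟨_, hS.1.conj_mem X hX g, isRankOnePair_conj g h1⟩
    obtain ⟨g, hg, hgX⟩ := right_mem h1
    have hXs : CSub S X C := hgX ▸ hmove g (hU hAC g (by rwa [sup_comm] at hg))
    exact false_of_rankOne hS hA hC hX hW h h1 hXC
      (RankOnePair_symm (partners_of_csub hS hA hW h hCW))
      (RankOnePair_symm (partners_of_csub hS hX hW hXs hCW)) (RankOnePair_symm hCW)
  · have hnd := nondegenerate_of_case hS hdn hA hX h1
    obtain ⟨W, hW, hCW⟩ := exists_partner hS hnd hC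
    have hXA : ⁅X, A⁆ ∈ S := by rw [Subgroup.commutator_comm]; exact h1.1
    obtain ⟨Y, hY, -, hYF, hYA⟩ := partner_of_commutator hS hnd hX hA hXA
    have hcomm := hU (h Y hY hYA)
    have horb := (Cfsg.Agent.S5036.result hS.1 hA hX h1.1 hY
      (by rw [Subgroup.commutator_comm A X]; exact hYF)).2.1
    have hFmem : ⁅A, X⁆ ∈ {E | ∃ x ∈ X ⊔ Y, E = conjBy A x} := by
      rw [horb]; exact ⟨1, one_mem _, (conjBy_one _).symm⟩
    obtain ⟨g, hg, hgF⟩ := hFmem
    have hFW : IsRankOnePair ⁅A, X⁆ W := hgF ▸ partners_of_csub hS (hS.1.conj_mem A hA g) hW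
      (hmove g (hcomm g hg)) hCW
    obtain ⟨q, hq, hWq, -⟩ := exists_path hS hnd h1.1 hW hFW hA hX rfl
    exact not_pair_and_case hS.1 hW (RankOnePair_symm (partners_of_csub hS (hS.1.conj_mem A hA q) hW
      (hmove q (hcomm q (mem_sup_left hq))) hCW)) hWq

theorem incomparable (hdn : IsDegenerateRootSet S ∨ IsNondegenerateRootSet S) {A C : Subgroup G}
    (hA : A ∈ S) (hC : C ∈ S) (hne : A ≠ C) :
    (centralizingMembers S A ⊆ centralizingMembers S C →
      centralizingMembers S A = centralizingMembers S C) ∧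
    (rankOnePartners S A ⊆ rankOnePartners S C →
      ⁅A, C⁆ = ⊥ ∧ rankOnePartners S A = rankOnePartners S C) := by
  have hmem : ∀ {M D : Subgroup G}, D ∈ centralizingMembers S M ↔ D ∈ S ∧ ⁅D, M⁆ = ⊥ :=
    fun {M D} => and_congr_right fun _ => commutator_eq_bot_iff_le_centralizer.symm
  have hcs : ∀ {M N : Subgroup G}, centralizingMembers S M ⊆ centralizingMembers S N ↔
      CSub S M N := fun {M N} => ⟨fun h D hD hDM => (hmem.1 (h (hmem.2 ⟨hD, hDM⟩))).2,
    fun h D hD => hmem.2 ⟨(hmem.1 hD).1, h D (hmem.1 hD).1 (hmem.1 hD).2⟩⟩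
  refine ⟨fun h => Set.Subset.antisymm h
    (hcs.2 (csub_symm hS hdn hA hC (hcs.1 h))), fun h => ?_⟩
  have hAC : ⁅A, C⁆ = ⊥ := by
    rcases hS.1.pair A hA C hC with h1 | h1 | h1
    · exact h1
    · exact absurd rfl (h ⟨hC, h1⟩).2.ne
    · exfalso
      have hnd := nondegenerate_of_case hS hdn hA hC h1
      obtain ⟨Y, hY, hAY, -, hYC⟩ := partner_of_commutator hS hnd hA hC h1.1
      exact not_commutator_bot (h ⟨hY, hAY⟩).2 (comm_symm hYC)
  have hsub : CSub S C A := by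
    intro X hX hXC
    rcases hS.1.pair A hA X hX with h1 | h1 | h1
    · exact comm_symm h1
    · exact absurd (comm_symm hXC) (not_commutator_bot (h ⟨hX, h1⟩).2)
    · exfalso
      have hnd := nondegenerate_of_case hS hdn hA hX h1
      obtain ⟨Y, hY, hAY, hYF, -⟩ := partner_of_commutator hS hnd hA hX h1.1
      have hCF : ⁅C, ⁅A, X⁆⁆ = ⊥ := commutator_eq_bot_of_comm fun c hc f hf => by
        have hle : ⁅A, X⁆ ≤ Subgroup.centralizer (C : Set G) := by
          rw [commutator_le]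
          intro a ha x hx
          have ha' := (commutator_eq_bot_iff_le_centralizer.1 hAC) ha
          have hx' := (commutator_eq_bot_iff_le_centralizer.1 hXC) hx
          rw [commutatorElement_def]
          exact mul_mem (mul_mem (mul_mem ha' hx') (inv_mem ha')) (inv_mem hx')
        exact Subgroup.mem_centralizer_iff.1 (hle hf) c hc
      have hcase : RootCommutatorCase S Y ⁅A, X⁆ :=
        commutatorCase_of_mem hS.1 hY h1.1 (by rw [hYF]; exact hX)
      refine commutator_noncomm hS.1 (h ⟨hY, hAY⟩).2 hcase hCF ?_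
      rw [hYF]; exact comm_symm hXC
  refine ⟨hAC, Set.Subset.antisymm h fun W hW => ?_⟩
  exact ⟨hW.1, partners_of_csub hS hA hW.1 (csub_symm hS hdn hC hA hsub) hW.2⟩

end CfsgLib.Trans3.RankOne
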