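import Cfsg.Prelude.Def_RootSubgroups
import Cfsg.Agent.Lib.Trans3.BaerSuzuki

/-!
# Root involutions: product pairs and odd partners
-/

set_option autoImplicit false
set_option linter.unusedSectionVars false

namespace CfsgLib.Trans3.RootInvol

open Cfsg

variable {G : Type*} [Group G] {D : Set G}

theorem eq_one_of_odd {x : G} (h : Odd (orderOf x)) (h4 : x ^ 4 = 1) : x = 1 := by
  rw [← orderOf_eq_one_iff]
  have hd : orderOf x ∣ 2 ^ 2 := orderOf_dvd_of_pow_eq_one h4
  obtain ⟨i, -, hi⟩ := (Nat.dvd_prime_pow Nat.prime_two).1 hd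
  cases i with
  | zero => simpa using hi
  | succ i =>
      rw [hi] at h
      exact absurd h (by simp [Nat.not_odd_iff_even, Nat.even_pow])

theorem commute_of_sq {g x : G} (h : Odd (orderOf g)) (hx : Commute x (g ^ 2)) : Commute x g := by
  obtain ⟨k, hk⟩ := h
  have e : (g ^ 2) ^ (k + 1) = g := by
    rw [← pow_mul, show 2 * (k + 1) = orderOf g + 1 by omega, pow_succ, pow_orderOf_eq_one, one_mul]
  rw [← e]; exact hx.pow_right _

theorem eq_of_sq_eq {g h : G} (hg : Odd (orderOf g)) (hh : Odd (orderOf h))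
    (he : g ^ 2 = h ^ 2) : g = h := by
  have hc : Commute g h := commute_of_sq hh (he ▸ (Commute.refl g).pow_right 2)
  obtain ⟨i, hi⟩ := hg
  obtain ⟨j, hj⟩ := hh
  have h1 : g ^ (2 * i + 1) = 1 := by rw [← hi, pow_orderOf_eq_one]
  have h2 : h ^ (2 * j + 1) = 1 := by rw [← hj, pow_orderOf_eq_one]
  have e1 : g ^ ((2 * i + 1) * (2 * j + 1) + 1) = g := by rw [pow_succ, pow_mul, h1, one_pow, one_mul]
  have e2 : h ^ ((2 * i + 1) * (2 * j + 1) + 1) = h := by
    rw [pow_succ, mul_comm (2 * i + 1), pow_mul, h2, one_pow, one_mul]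
  rw [← e1, ← e2, show (2 * i + 1) * (2 * j + 1) + 1 = 2 * (2 * i * j + i + j + 1) by ring,
    pow_mul, pow_mul, he]

theorem mul_self_conj {a x : G} (ha : a * a = 1) : (a * x * a) * x = (a * x) ^ 2 := by
  rw [pow_two]; simp only [mul_assoc]

variable (hD : IsRootInvolutionSet D)
include hD

theorem mul_self {a : G} (ha : a ∈ D) : a * a = 1 := by
  rw [← pow_two, ← hD.orderOf_eq a ha, pow_orderOf_eq_one]

theorem inv_eq {a : G} (ha : a ∈ D) : a⁻¹ = a := inv_eq_of_mul_eq_one_right (mul_self hD ha)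

theorem ne_one {a : G} (ha : a ∈ D) : a ≠ 1 := fun h => by
  have := hD.orderOf_eq a ha
  rw [h, orderOf_one] at this
  omega

theorem conj_self {a : G} (ha : a ∈ D) (b : G) (hb : b ∈ D) : b * a * b ∈ D := by
  have := hD.conj_mem a ha b
  rwa [inv_eq hD hb] at this

theorem adj_symm {a b : G} (h : OddAdj D a b) : OddAdj D b a := by
  obtain ⟨ha, hb, hne, ho⟩ := h
  refine ⟨hb, ha, hne.symm, ?_⟩
  rwa [show b * a = (a * b)⁻¹ by rw [mul_inv_rev, inv_eq hD ha, inv_eq hD hb], orderOf_inv]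

theorem mem_oddPartners {a b : G} (ha : a ∈ D) : b ∈ oddPartners D a ↔ OddAdj D a b := by
  constructor
  · rintro ⟨hb, hne, ho⟩; exact ⟨ha, hb, hne.symm, ho⟩
  · rintro ⟨-, hb, hne, ho⟩; exact ⟨hb, hne.symm, ho⟩

theorem not_adj_of_pow {a b : G} (h : (a * b) ^ 4 = 1) : ¬ OddAdj D a b := by
  rintro ⟨ha, hb, hne, ho⟩
  refine hne ?_
  rw [← inv_eq hD hb]
  exact eq_inv_of_mul_eq_one_left (eq_one_of_odd ho h)

theorem not_adj_of_comm {a b : G} (ha : a ∈ D) (hb : b ∈ D) (h : a * b = b * a) :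
    ¬ OddAdj D a b := by
  refine not_adj_of_pow hD ?_
  have h2 : (a * b) ^ 2 = 1 := by
    rw [(show Commute a b from h).mul_pow, pow_two, pow_two, mul_self hD ha, mul_self hD hb, one_mul]
  rw [show 4 = 2 * 2 from rfl, pow_mul, h2, one_pow]

theorem pow_four_of_not_adj {a b : G} (ha : a ∈ D) (hb : b ∈ D) (h : ¬ OddAdj D a b) :
    (a * b) ^ 4 = 1 := by
  rcases hD.pair a ha b hb with h' | h' | ⟨h', -⟩
  · rw [(show Commute a b from h').mul_pow, show 4 = 2 * 2 from rfl, pow_mul, pow_mul, pow_two a,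
      pow_two b, mul_self hD ha, mul_self hD hb, one_pow, one_mul]
  · rcases eq_or_ne a b with rfl | hne
    · rw [mul_self hD ha, one_pow]
    · exact absurd ⟨ha, hb, hne, h'⟩ h
  · rw [← h', pow_orderOf_eq_one]

theorem adj_or_comm_or_four {a b : G} (ha : a ∈ D) (hb : b ∈ D) (h : ¬ OddAdj D a b)
    (hc : a * b ≠ b * a) : orderOf (a * b) = 4 ∧ (a * b) ^ 2 ∈ D := by
  rcases hD.pair a ha b hb with h' | h' | h'
  · exact absurd h' hc
  · exact absurd ⟨ha, hb, fun e => hc (by rw [e]), h'⟩ h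
  · exact h'

theorem adj_conj {a b : G} (h : OddAdj D a b) (g : G) :
    OddAdj D (g * a * g⁻¹) (g * b * g⁻¹) := by
  obtain ⟨ha, hb, hne, ho⟩ := h
  refine ⟨hD.conj_mem a ha g, hD.conj_mem b hb g, fun e => hne (by simpa using e), ?_⟩
  rwa [show g * a * g⁻¹ * (g * b * g⁻¹) = g * (a * b) * g⁻¹ by group,
    show g * (a * b) * g⁻¹ = MulAut.conj g (a * b) by simp, MulEquiv.orderOf_eq]

theorem exists_conj_of_adj {a b : G} (h : OddAdj D a b) : ∃ g : G, b = g * a * g⁻¹ := by
  obtain ⟨ha, hb, -, k, hk⟩ := h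
  obtain ⟨r, hr⟩ : ∃ r, a * b = r := ⟨_, rfl⟩
  rw [hr] at hk
  refine ⟨(r ^ (k + 1))⁻¹, ?_⟩
  have hflip : a * r * a⁻¹ = r⁻¹ := by
    rw [← hr, mul_inv_rev, inv_eq hD ha, inv_eq hD hb, ← mul_assoc a a, mul_self hD ha, one_mul]
  have h1 : a * r ^ (k + 1) = (r ^ (k + 1))⁻¹ * a := by
    rw [← inv_pow, ← hflip, conj_pow, inv_mul_cancel_right]
  rw [inv_inv, ← h1, mul_assoc, ← pow_add, show k + 1 + (k + 1) = orderOf r + 1 by omega, pow_succ,
    pow_orderOf_eq_one, one_mul, ← hr, ← mul_assoc, mul_self hD ha, one_mul]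

/-- Two commuting members with product in `D`. -/
structure Pair (D : Set G) (a e : G) : Prop where
  left : a ∈ D
  right : e ∈ D
  prod : a * e ∈ D
  comm : a * e = e * a

omit hD in
theorem Pair.symm {a e : G} (h : Pair D a e) : Pair D e a :=
  ⟨h.right, h.left, h.comm ▸ h.prod, h.comm.symm⟩

theorem Pair.third {a e : G} (h : Pair D a e) : Pair D a (a * e) :=
  ⟨h.left, h.prod, by rw [← mul_assoc, mul_self hD h.left, one_mul]; exact h.right,
    by rw [mul_assoc a e a, ← h.comm]⟩

theorem Pair.ne {a e : G} (h : Pair D a e) : a ≠ e := fun he =>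
  ne_one hD h.prod (by rw [← he]; exact mul_self hD h.left)

theorem Pair.not_comm_partner {a e x : G} (h : Pair D a e) (hx : OddAdj D a x) :
    e * x ≠ x * e := by
  intro hc
  obtain ⟨ha, hxD, hne, ho⟩ := hx
  have hea : Commute e (a * x) := (show Commute e a from h.comm.symm).mul_right hc
  have he2 : orderOf e = 2 := hD.orderOf_eq e h.right
  have hcop : (orderOf e).Coprime (orderOf (a * x)) := by
    rw [he2]; exact (Nat.coprime_two_left).2 ho
  have hord : orderOf (e * (a * x)) = 2 * orderOf (a * x) := by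
    rw [hea.orderOf_mul_eq_mul_orderOf_of_coprime hcop, he2]
  have hax : orderOf (a * x) ≠ 1 := by
    rw [Ne, orderOf_eq_one_iff]
    intro h1
    exact hne (by rw [← inv_eq hD hxD]; exact eq_inv_of_mul_eq_one_left h1)
  rw [← mul_assoc, ← h.comm] at hord
  rcases hD.pair _ h.prod x hxD with h' | h' | ⟨h', -⟩
  · have h2 : (a * e * x) ^ 2 = 1 := by
      rw [(show Commute (a * e) x from h').mul_pow, pow_two, pow_two, mul_self hD h.prod,
        mul_self hD hxD, one_mul]
    have h3 := orderOf_dvd_of_pow_eq_one h2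
    rw [hord] at h3
    have := Nat.le_of_dvd two_pos h3
    have hpos : orderOf (a * x) ≠ 0 := fun h0 => by rw [h0] at ho; exact absurd ho (by simp)
    omega
  · rw [hord] at h'
    exact (Nat.not_odd_iff_even.2 (even_two_mul _)) h'
  · rw [hord] at h'
    obtain ⟨t, ht⟩ := ho
    omega

theorem Pair.adj_or {a e x : G} (h : Pair D a e) (hx : OddAdj D a x) :
    OddAdj D e x ∨ OddAdj D (a * e) x := by
  by_contra! hcon
  have hxD := hx.2.1
  have heD := h.right
  have hfD := h.prod
  have half : ∀ {e : G}, e ∈ D → ¬ OddAdj D e x → e * x ≠ x * e →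
      (e * x * e) * x = x * (e * x * e) := by
    intro e he hna hne
    have h4 : (e * x) ^ 4 = 1 := pow_four_of_not_adj hD he hxD hna
    rw [show 4 = 2 + 2 from rfl, pow_add, pow_two] at h4
    have h5 : (e * x * e * x) * (e * x * e * x) = 1 := by
      calc _ = (e * x * (e * x)) * (e * x * (e * x)) := by group
        _ = 1 := h4
    have h6 := inv_eq_of_mul_eq_one_right h5
    rw [mul_inv_rev, mul_inv_rev, mul_inv_rev, inv_eq hD he, inv_eq hD hxD] at h6
    rw [← h6]
    group
  have e1 := half heD hcon.1 (h.not_comm_partner hD hx)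
  have e2 := half hfD hcon.2 ((h.third hD).not_comm_partner hD hx)
  -- `x' = e x e` commutes with `x` and with `a x a`
  obtain ⟨x', hx'⟩ : ∃ x', e * x * e = x' := ⟨_, rfl⟩
  have hee := mul_self hD heD
  have haa := mul_self hD h.left
  have c1 : Commute x' x := hx' ▸ e1
  have c2 : Commute (a * x * a) x' := by
    have e3 : a * e * x * (a * e) = e * (a * x * a) * e := by
      conv_lhs => arg 1; rw [h.comm]
      group
    rw [e3] at e2
    have hm := congrArg (fun g => e * g * e) e2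
    have l : e * (e * (a * x * a) * e * x) * e = (e * e) * (a * x * a) * (e * x * e) := by group
    have r : e * (x * (e * (a * x * a) * e)) * e = (e * x * e) * (a * x * a) * (e * e) := by group
    simp only [l, r, hee, one_mul, mul_one, hx'] at hm
    exact hm
  have c3 : Commute x' ((a * x) ^ 2) := mul_self_conj (x := x) haa ▸ c2.symm.mul_right c1
  have c4 : Commute x' a := by
    have := (commute_of_sq hx.2.2.2 c3).mul_right c1.inv_right
    rwa [mul_inv_cancel_right] at this
  have hax' : OddAdj D a x' := by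
    have := adj_conj hD hx e
    rwa [inv_eq hD heD, ← h.comm, mul_assoc, hee, mul_one, hx'] at this
  exact not_adj_of_comm hD h.left hax'.2.1 c4.symm hax'

/-- The data attached to a product of order four. -/
theorem four {a b : G} (ha : a ∈ D) (hb : b ∈ D) (hn : ¬ OddAdj D a b) (hc : a * b ≠ b * a) :
    Pair D a (b * a * b) ∧ a * (b * a * b) = (a * b) ^ 2 ∧ a * (a * b) ^ 2 = (a * b) ^ 2 * a ∧
      b * (a * b) ^ 2 = (a * b) ^ 2 * b := by
  obtain ⟨-, hD2⟩ := adj_or_comm_or_four hD ha hb hn hc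
  have h4 := pow_four_of_not_adj hD ha hb hn
  have haa := mul_self hD ha
  have hbb := mul_self hD hb
  have e : a * (b * a * b) = (a * b) ^ 2 := by rw [pow_two]; group
  have e' : (a * b) ^ 2 = (b * a * b) * a := by
    have : (a * b) ^ 2 * (a * b) ^ 2 = 1 := by rw [← pow_add]; exact h4
    rw [← inv_eq_of_mul_eq_one_right this, pow_two, mul_inv_rev, mul_inv_rev, inv_eq hD ha,
      inv_eq hD hb]
    group
  refine ⟨⟨ha, conj_self hD ha b hb, e ▸ hD2, by rw [e]; exact e'⟩, e, ?_, ?_⟩
  · conv_lhs => rw [← e, ← mul_assoc, haa, one_mul]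
    rw [e', mul_assoc _ a a, haa, mul_one]
  · conv_rhs => rw [← e]
    rw [e']
    calc b * (b * a * b * a) = (b * b) * (a * b * a) := by group
      _ = a * (b * a) * (b * b) := by rw [hbb, one_mul, mul_one]; group
      _ = a * (b * a * b) * b := by group

theorem oddPartners_conj {a : G} (ha : a ∈ D) (g : G) :
    oddPartners D (g * a * g⁻¹) = (fun x => g * x * g⁻¹) '' oddPartners D a := by
  ext x
  rw [mem_oddPartners hD (hD.conj_mem a ha g)]
  constructor
  · intro h
    refine ⟨g⁻¹ * x * g, (mem_oddPartners hD ha).2 ?_, by group⟩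
    have := adj_conj hD h g⁻¹
    rwa [inv_inv, show g⁻¹ * (g * a * g⁻¹) * g = a by group] at this
  · rintro ⟨y, hy, rfl⟩
    exact adj_conj hD ((mem_oddPartners hD ha).1 hy) g

theorem exists_conj {a b : G} (hc : IsConnectedSet (OddAdj D) D) (ha : a ∈ D) (hb : b ∈ D) :
    ∃ g : G, b = g * a * g⁻¹ := by
  induction hc a ha b hb with
  | refl => exact ⟨1, by group⟩
  | @tail c d _ hcd ih =>
      obtain ⟨g, hg⟩ := ih hcd.1
      obtain ⟨h, hh⟩ := exists_conj_of_adj hD hcd
      exact ⟨h * g, by rw [hh, hg]; group⟩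

theorem Pair.oddPartners_subset {a e : G} (h : Pair D a e) :
    oddPartners D a ⊆ oddPartners D e ∪ oddPartners D (a * e) := by
  intro x hx
  rcases h.adj_or hD ((mem_oddPartners hD h.left).1 hx) with h' | h'
  · exact Or.inl ((mem_oddPartners hD h.right).2 h')
  · exact Or.inr ((mem_oddPartners hD h.prod).2 h')

theorem ncard_oddPartners {a b : G} (hc : IsConnectedSet (OddAdj D) D) (ha : a ∈ D) (hb : b ∈ D) :
    (oddPartners D b).ncard = (oddPartners D a).ncard := by
  obtain ⟨g, rfl⟩ := exists_conj hD hc ha hb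
  rw [oddPartners_conj hD ha]
  exact Set.ncard_image_of_injective _ fun x y h => by simpa using h

end CfsgLib.Trans3.RootInvol
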