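import Cfsg.Agent.Lib.Trans3.RootInvolTwo

/-!
# Members of `D` with the same odd partners
-/

set_option autoImplicit false
set_option linter.unusedSectionVars false

namespace CfsgLib.Trans3.RootInvol

open Cfsg
open scoped commutatorElement

variable {G : Type*} [Group G] {D : Set G} (hD : IsRootInvolutionSet D)
include hD

theorem eq_one_of_centralizes {a x w : G} (hx : OddAdj D a x) (hw : w * w = 1)
    (ca : Commute w a) (cx : Commute w x) (hD' : a * w ∈ D) : w = 1 := by
  by_contra hne
  obtain ⟨ha, hxD, hax, ho⟩ := hx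
  have hne1 : orderOf (a * x) ≠ 1 := by
    rw [Ne, orderOf_eq_one_iff]
    intro h1
    exact hax (by rw [← inv_eq hD hxD]; exact eq_inv_of_mul_eq_one_left h1)
  have ho2 : orderOf w = 2 := orderOf_eq_prime (by rw [pow_two]; exact hw) hne
  have hord : orderOf (w * (a * x)) = 2 * orderOf (a * x) := by
    rw [(ca.mul_right cx).orderOf_mul_eq_mul_orderOf_of_coprime
      (by rw [ho2]; exact Nat.coprime_two_left.2 ho), ho2]
  rw [← mul_assoc, ca.eq] at hord
  obtain ⟨t, ht⟩ := ho
  rcases hD.pair _ hD' x hxD with h | h | ⟨h, -⟩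
  · have h2 : (a * w * x) ^ 2 = 1 := by
      rw [(show Commute (a * w) x from h).mul_pow, pow_two, pow_two, mul_self hD hD',
        mul_self hD hxD, one_mul]
    have h3 := Nat.le_of_dvd two_pos (hord ▸ orderOf_dvd_of_pow_eq_one h2)
    omega
  · exact (Nat.not_odd_iff_even.2 (even_two_mul _)) (hord ▸ h)
  · omega

theorem Pair.conj_right {a e g : G} (h : Pair D a e) (hg : g ∈ D) (hga : g * a = a * g) :
    Pair D a (g * e * g) := by
  have hgg := mul_self hD hg
  have e1 : a * (g * e * g) = g * (a * e) * g := by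
    rw [← mul_assoc, ← mul_assoc, ← hga]; group
  refine ⟨h.left, conj_self hD h.right g hg, e1 ▸ conj_self hD h.prod g hg, ?_⟩
  rw [e1, h.comm]
  calc g * (e * a) * g = (g * e) * (a * g) := by group
    _ = (g * e) * (g * a) := by rw [hga]
    _ = g * e * g * a := by group

/-- The step of the iteration, for fixed `a` and `x`. -/
def step (a x e : G) : G := ((e * x) ^ 2 * a) ^ 2

variable {a x : G} (hx : OddAdj D a x)
include hx

theorem step_spec {e : G} (he : Pair D a e) (hne : ¬ OddAdj D e x) :
    Pair D a (step a x e) ∧ ¬ OddAdj D (step a x e) x ∧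
      ∃ z, z = (e * x) ^ 2 ∧ z ∈ D ∧ ¬ OddAdj D z a ∧ z * a ≠ a * z ∧
        z * step a x e = step a x e * z ∧ z * x = x * z ∧ z * e = e * z := by
  have ha := he.left
  have hxD := hx.2.1
  have hcx := he.not_comm_partner hD hx
  obtain ⟨hp, hpz, hez, hxz⟩ := four hD he.right hxD hne hcx
  obtain ⟨z, hz⟩ : ∃ z, (e * x) ^ 2 = z := ⟨_, rfl⟩
  rw [hz] at hpz hez hxz
  have hzD : z ∈ D := hpz ▸ hp.prod
  have hez' : Pair D e z := hpz ▸ hp.third hD
  have hza : z * a ≠ a * z := by
    intro hc
    have c1 : Commute a (x * e * x) := by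
      have h1 : x * e * x = e * z := by rw [← hpz, ← mul_assoc, mul_self hD he.right, one_mul]
      rw [h1]
      exact (show Commute a e from he.comm).mul_right (show Commute a z from hc.symm)
    have hxx := mul_self hD hxD
    have c2 : Commute e (x * a * x) := by
      have h1 := congrArg (fun g => x * g * x) c1.eq
      have l : x * (a * (x * e * x)) * x = (x * a * x) * e * (x * x) := by group
      have r : x * (x * e * x * a) * x = (x * x) * e * (x * a * x) := by group
      simp only [l, r, hxx, one_mul, mul_one] at h1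
      exact h1.symm
    have c3 : Commute e ((x * a) ^ 2) :=
      mul_self_conj (x := a) hxx ▸ c2.mul_right (show Commute e a from he.comm.symm)
    have c4 := (commute_of_sq (adj_symm hD hx).2.2.2 c3).mul_right
      (show Commute e a⁻¹ from (show Commute e a from he.comm.symm).inv_right)
    rw [mul_inv_cancel_right] at c4
    exact hcx c4.eq
  have hnza : ¬ OddAdj D z a := fun h =>
    hez'.symm.not_comm_partner hD h he.comm.symm
  obtain ⟨hp2, hpz2, hz1, ha1⟩ := four hD hzD ha hnza hza
  rw [← hz] at hp2 hpz2 hz1 ha1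
  refine ⟨⟨ha, (by unfold step; rw [← hpz2]; exact hp2.prod), ?_, ha1⟩, ?_, z, hz.symm, hzD, hnza, hza, ?_, hxz.symm, hez.symm⟩
  · have e1 : a * step a x e = (e * x) ^ 2 * a * (e * x) ^ 2 := by
      show a * ((e * x) ^ 2 * a) ^ 2 = _
      rw [ha1, pow_two]
      calc (e * x) ^ 2 * a * ((e * x) ^ 2 * a) * a = (e * x) ^ 2 * a * (e * x) ^ 2 * (a * a) := by
            group
        _ = _ := by rw [mul_self hD ha, mul_one]
    rw [e1, hz]
    exact conj_self hD ha z hzD
  · intro h
    have hp3 : Pair D (step a x e) z := by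
      rw [← hz]
      exact (hpz2 ▸ hp2.third hD : Pair D ((e * x) ^ 2) (((e * x) ^ 2 * a) ^ 2)).symm
    exact hp3.not_comm_partner hD h hxz.symm
  · rw [← hz]; exact hz1

theorem step_eq {e e' : G} (he : Pair D a e) (hne : ¬ OddAdj D e x) (he' : Pair D a e')
    (hne' : ¬ OddAdj D e' x) (h : step a x e = step a x e') :
    e * x * e = e' * x * e' := by
  have ha := he.left
  have haa := mul_self hD ha
  have hxx := mul_self hD hx.2.1
  have key : ∀ {e : G}, Pair D a e → ¬ OddAdj D e x →
      ∃ p, p = e * x * e ∧ p * p = 1 ∧ p * x = x * p ∧ Odd (orderOf (p * a)) ∧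
        (e * x) ^ 2 = p * x := by
    intro e he hne
    obtain ⟨-, -, z, hz, hzD, -, -, -, hzx, -⟩ := step_spec hD hx he hne
    refine ⟨e * x * e, rfl, mul_self hD (conj_self hD hx.2.1 e he.right), ?_, ?_, ?_⟩
    · have hp : e * x * e = z * x := by
        rw [hz, pow_two]
        calc e * x * e = e * x * e * (x * x) := by rw [hxx, mul_one]
          _ = _ := by group
      rw [hp, mul_assoc, hxx, mul_one, ← mul_assoc, ← hzx, mul_assoc, hxx, mul_one]
    · have h1 := adj_conj hD hx e
      rw [inv_eq hD he.right, ← he.comm, mul_assoc a e e, mul_self hD he.right, mul_one] at h1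
      exact (adj_symm hD h1).2.2.2
    · rw [pow_two]; group
  obtain ⟨p, hp, hpp, hpx, hpo, hpz⟩ := key he hne
  obtain ⟨p', hp', hpp', hpx', hpo', hpz'⟩ := key he' hne'
  rw [← hp, ← hp']
  have hstep : ∀ p : G, p * x = x * p → ((p * x) * a) ^ 2 = (p * x) * (a * (x * p) * a) := by
    intro p hp; rw [pow_two, ← hp]; group
  simp only [step, hpz, hpz', hstep p hpx, hstep p' hpx'] at h
  have h2 : p' * p = a * p' * p * a := by
    have h3 := congrArg (fun g => (x * p') * g * (a * p * x * a)) h
    have l : x * p' * (p * x * (a * (x * p) * a)) * (a * p * x * a) =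
        x * p' * (p * x) * a * (x * (p * ((a * a) * p)) * x) * a := by group
    have r : x * p' * (p' * x * (a * (x * p') * a)) * (a * p * x * a) =
        x * (p' * p') * x * a * x * (p' * ((a * a) * p)) * x * a := by group
    simp only [l, r, haa, one_mul, hpp, hpp', mul_one, hxx] at h3
    have c : Commute x (p' * p) :=
      (show Commute x p' from hpx'.symm).mul_right (show Commute x p from hpx.symm)
    have l2 : x * p' * (p * x) = p' * p := by
      calc x * p' * (p * x) = (x * (p' * p)) * x := by group
        _ = p' * p * (x * x) := by rw [c.eq]; group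
        _ = _ := by rw [hxx, mul_one]
    have r2 : a * x * (p' * p) * x * a = a * p' * p * a := by
      calc a * x * (p' * p) * x * a = a * ((x * (p' * p)) * x) * a := by group
        _ = a * (p' * p * (x * x)) * a := by rw [c.eq]; group
        _ = _ := by rw [hxx, mul_one]; group
    rw [l2, r2, mul_assoc (p' * p) a a, haa, mul_one] at h3
    exact h3
  refine mul_right_cancel (b := a) (eq_of_sq_eq hpo hpo' ?_)
  rw [pow_two, pow_two]
  calc p * a * (p * a) = p' * (p' * p) * (a * p * a) := by rw [← mul_assoc p' p', hpp']; group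
    _ = p' * (a * p' * p * a) * (a * p * a) := by rw [← h2]
    _ = p' * a * p' * p * ((a * a) * p) * a := by group
    _ = p' * a * p' * (p * p) * a := by rw [haa]; group
    _ = p' * a * (p' * a) := by rw [hpp]; group

theorem fibre {e e' v : G} (hv : v ∈ D) (hvx : v * x = x * v) (he : Pair D a e)
    (he' : Pair D a e') (hev : a * e = v * a * v) (hp : e * x * e = e' * x * e') : e = e' := by
  have base : ∀ {e' : G}, Pair D a e' → e * x * e = e' * x * e' → e * e' = e' * e → e = e' := by
    intro e' he' hp hc
    have hee := mul_self hD he.right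
    have hee' := mul_self hD he'.right
    have hvv := mul_self hD hv
    obtain ⟨w, hw⟩ : ∃ w, e * e' = w := ⟨_, rfl⟩
    have cwa : Commute a w :=
      hw ▸ (show Commute a e from he.comm).mul_right (show Commute a e' from he'.comm)
    have cwe : Commute e w :=
      hw ▸ (Commute.refl e).mul_right (show Commute e e' from hc)
    have cwx : Commute w x := by
      have h1 : w * x * w = x := by
        rw [← hw]
        calc e * e' * x * (e * e') = e * e' * x * (e' * e) := by rw [hc]
          _ = e * (e' * x * e') * e := by group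
          _ = e * (e * x * e) * e := by rw [hp]
          _ = (e * e) * x * (e * e) := by group
          _ = x := by rw [hee, one_mul, mul_one]
      have hw2 : w * w = 1 := by
        rw [← hw]
        calc e * e' * (e * e') = e * e' * (e' * e) := by rw [hc]
          _ = e * (e' * e') * e := by group
          _ = 1 := by rw [hee', mul_one, hee]
      calc w * x = w * x * (w * w) := by rw [hw2, mul_one]
        _ = x * w := by rw [← mul_assoc, h1]
    have hw2 : w * w = 1 := by
      rw [← hw]
      calc e * e' * (e * e') = e * e' * (e' * e) := by rw [hc]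
        _ = e * (e' * e') * e := by group
        _ = 1 := by rw [hee', mul_one, hee]
    have cx : Commute (v * w * v) x :=
      ((show Commute v x from hvx).mul_left cwx).mul_left (show Commute v x from hvx)
    have ca : Commute (v * w * v) a := by
      have h1 := congrArg (fun g => v * g * v)
        ((cwa.symm.mul_right cwe.symm).eq : w * (a * e) = a * e * w)
      rw [hev] at h1
      have l : v * (w * (v * a * v)) * v = v * w * v * a * (v * v) := by group
      have r : v * (v * a * v * w) * v = (v * v) * a * (v * w * v) := by group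
      simp only [l, r, hvv, one_mul, mul_one] at h1
      exact h1
    have hD' : a * (v * w * v) ∈ D := by
      have h1 : a * (v * w * v) = v * (a * e') * v := by
        calc a * (v * w * v) = (v * v) * a * v * w * v := by rw [hvv, one_mul]; group
          _ = v * ((v * a * v) * w) * v := by group
          _ = v * (a * e * (e * e')) * v := by rw [← hev, ← hw]
          _ = v * (a * (e * e) * e') * v := by group
          _ = v * (a * e') * v := by rw [hee, mul_one]
      rw [h1]
      exact conj_self hD he'.prod v hv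
    have hsq : (v * w * v) * (v * w * v) = 1 := by
      calc (v * w * v) * (v * w * v) = v * w * (v * v) * w * v := by group
        _ = v * (w * w) * v := by rw [hvv, mul_one]; group
        _ = 1 := by rw [hw2, mul_one, hvv]
    have h5 := eq_one_of_centralizes hD hx hsq ca cx hD'
    have h6 : w = 1 := by
      calc w = (v * v) * w * (v * v) := by rw [hvv, one_mul, mul_one]
        _ = v * (v * w * v) * v := by group
        _ = 1 := by rw [h5, mul_one, hvv]
    rw [← hw] at h6
    rw [← inv_eq hD he'.right]
    exact eq_inv_of_mul_eq_one_left h6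
  by_cases hc : e * e' = e' * e
  · exact base he' hp hc
  exfalso
  have hn : ¬ OddAdj D e e' := fun h => he.symm.not_comm_partner hD h he'.comm
  obtain ⟨h4, -, -, -⟩ := four hD he.right he'.right hn hc
  have hp2 : e * x * e = (e' * e * e') * x * (e' * e * e') := by
    have hee' := mul_self hD he'.right
    symm
    calc e' * e * e' * x * (e' * e * e') = e' * e * (e' * x * e') * e * e' := by group
      _ = e' * e * (e * x * e) * e * e' := by rw [hp]
      _ = e' * (e * e) * x * (e * e) * e' := by group
      _ = e' * x * e' := by rw [mul_self hD he.right, mul_one, mul_one]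
      _ = _ := hp.symm
  exact h4.ne hD (base (he.conj_right hD he'.right he'.comm.symm) hp2 h4.comm)

omit hx in
/-- If `b` is a product partner of `a` with another set of odd partners, `b` is a commutator. -/
theorem exists_four_partner [Finite G] {b : G} (hab : Pair D a b) (hx : OddAdj D a x)
    (hbx : ¬ OddAdj D b x) :
    ∃ z ∈ D, ¬ OddAdj D z a ∧ z * a ≠ a * z ∧ (z * a) ^ 2 = b ∧ z * b = b * z := by
  let E : Set G := {e | Pair D a e ∧ ¬ OddAdj D e x}
  have hmaps : ∀ e ∈ E, step a x e ∈ E := fun e he =>
    ⟨(step_spec hD hx he.1 he.2).1, (step_spec hD hx he.1 he.2).2.1⟩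
  let S : Set G := step a x '' E
  have hSE : S ⊆ E := by rintro _ ⟨e, he, rfl⟩; exact hmaps e he
  have hfib : ∀ e ∈ E, ∀ e0 ∈ E, step a x e = step a x (step a x e0) → e = step a x e0 := by
    intro e he e0 he0 h
    obtain ⟨h1, -, v, hv, hvD, hva, hvne, -, hvx, -⟩ := step_spec hD hx he0.1 he0.2
    have hev : a * step a x e0 = v * a * v := by
      rw [step, ← hv]
      obtain ⟨-, -, hz1, ha1⟩ := four hD hvD he.1.left hva hvne
      rw [ha1, pow_two]
      calc v * a * (v * a) * a = v * a * v * (a * a) := by group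
        _ = _ := by rw [mul_self hD he.1.left, mul_one]
    exact (fibre hD hx hvD hvx h1 he.1 hev
      (step_eq hD hx h1 (hmaps e0 he0).2 he.1 he.2 h.symm)).symm
  have hinj : Set.InjOn (step a x) S := by
    rintro _ ⟨e1, he1, rfl⟩ _ ⟨e2, he2, rfl⟩ h
    exact hfib _ (hmaps e1 he1) e2 he2 h
  have hsurj : step a x '' S = S := by
    refine Set.eq_of_subset_of_ncard_le (Set.image_mono hSE) ?_ (Set.toFinite _)
    rw [Set.ncard_image_of_injOn hinj]
  have hb : b ∈ E := ⟨hab, hbx⟩
  obtain ⟨s, ⟨e0, he0, rfl⟩, hs⟩ := hsurj.ge (Set.mem_image_of_mem (step a x) hb)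
  have hbe : b = step a x e0 := hfib b hb e0 he0 hs.symm
  obtain ⟨-, -, z, hz, hzD, hza, hne, hcomm, -, -⟩ := step_spec hD hx he0.1 he0.2
  exact ⟨z, hzD, hza, hne, by rw [hbe, step, ← hz], hbe ▸ hcomm⟩

omit hx in
theorem oddPartners_eq_of_subset [Finite G] {d e : G} (hc : IsConnectedSet (OddAdj D) D)
    (hd : d ∈ D) (he : e ∈ D) (h : oddPartners D e ⊆ oddPartners D d) :
    oddPartners D e = oddPartners D d :=
  Set.eq_of_subset_of_ncard_le h (ncard_oddPartners hD hc hd he).ge (Set.toFinite _)

omit hx in
/-- Members with the same odd partners commute. -/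
theorem comm_of_same [Finite G] (hc : IsConnectedSet (OddAdj D) D) {d e : G} (hd : d ∈ D)
    (he : e ∈ D) (h : oddPartners D d = oddPartners D e) : d * e = e * d := by
  haveI := Fact.mk Nat.prime_two
  let K : Set G := {k | k ∈ D ∧ oddPartners D k = oddPartners D d}
  have hconj : ∀ k ∈ K, ∀ g : G, oddPartners D (g * d * g⁻¹) = oddPartners D d →
      g * k * g⁻¹ ∈ K := fun k hk g hg =>
    ⟨hD.conj_mem k hk.1 g, by rw [oddPartners_conj hD hk.1, hk.2, ← oddPartners_conj hD hd, hg]⟩
  have hP : IsPGroup 2 (Subgroup.closure K) := by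
    refine isPGroup_closure hD (fun k hk => hk.1) ?_ fun a ha b hb => ?_
    · intro a ha b hb hadj
      have h1 : b ∈ oddPartners D b := by
        rw [hb.2, ← ha.2]; exact (mem_oddPartners hD ha.1).2 hadj
      exact h1.2.1 rfl
    · have h1 : oddPartners D (b * d * b⁻¹) = oddPartners D d := by
        rw [oddPartners_conj hD hd, ← hb.2, ← oddPartners_conj hD hb.1, mul_inv_cancel_right]
      have := hconj a ha b h1
      rwa [inv_eq hD hb.1] at this
  haveI := hP.isNilpotent
  obtain ⟨S, hS⟩ : ∃ S, S = Subgroup.closure K := ⟨_, rfl⟩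
  have hend : ∃ n, S.lowerCentralSeries n = ⊥ := by
    refine ⟨Group.nilpotencyClass (Subgroup.closure K), ?_⟩
    rw [hS, ← Subgroup.top_subtype_lowerCentralSeries,
      Subgroup.lowerCentralSeries_nilpotencyClass, Subgroup.map_bot]
  have hex : ∃ n, ∀ k ∈ K, k ∉ S.lowerCentralSeries n := by
    obtain ⟨n, hn⟩ := hend
    exact ⟨n, fun k hk hkn => ne_one hD hk.1 (by rwa [hn, Subgroup.mem_bot] at hkn)⟩
  classical
  obtain ⟨m, hm⟩ : ∃ m, Nat.find hex = m + 1 := by
    refine ⟨Nat.find hex - 1, (Nat.sub_add_cancel (Nat.one_le_iff_ne_zero.2 fun h0 => ?_)).symm⟩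
    have h1 := Nat.find_spec hex d ⟨hd, rfl⟩
    rw [h0] at h1
    exact h1 (hS ▸ Subgroup.subset_closure ⟨hd, rfl⟩)
  obtain ⟨k, hk, hkm⟩ : ∃ k ∈ K, k ∈ S.lowerCentralSeries m := by
    by_contra! hall
    exact Nat.find_min hex (by omega : m < Nat.find hex) hall
  have hkc : ∀ b ∈ K, k * b = b * k := by
    intro b hb
    by_contra hne
    have hn : ¬ OddAdj D k b := by
      intro hadj
      have h1 : b ∈ oddPartners D b := by
        rw [hb.2, ← hk.2]; exact (mem_oddPartners hD hk.1).2 hadj
      exact h1.2.1 rfl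
    obtain ⟨hp, hpu, -, -⟩ := four hD hk.1 hb.1 hn hne
    refine (hm ▸ Nat.find_spec hex) ((k * b) ^ 2) ⟨hpu ▸ hp.prod, ?_⟩ ?_
    · refine oddPartners_eq_of_subset hD hc hd (hpu ▸ hp.prod) fun y hy => ?_
      have hpu' : Pair D ((k * b) ^ 2) k := (hpu ▸ hp.third hD : Pair D k ((k * b) ^ 2)).symm
      rcases hpu'.oddPartners_subset hD hy with h' | h'
      · rwa [hk.2] at h'
      · have e1 : (k * b) ^ 2 * k = b * k * b⁻¹ := by
          rw [← hpu'.comm.symm, ← hpu, ← mul_assoc, mul_self hD hk.1, one_mul, inv_eq hD hb.1]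
        rw [e1, oddPartners_conj hD hk.1, hk.2, ← hb.2, ← oddPartners_conj hD hb.1,
          mul_inv_cancel_right, hb.2] at h'
        exact h'
    · rw [Subgroup.lowerCentralSeries_succ, show (k * b) ^ 2 = ⁅k, b⁆ by
        rw [commutatorElement_def, inv_eq hD hk.1, inv_eq hD hb.1, pow_two]; group]
      exact Subgroup.commutator_mem_commutator hkm (hS ▸ Subgroup.subset_closure hb)
  obtain ⟨g, rfl⟩ := exists_conj hD hc hk.1 hd
  have hpull : g⁻¹ * e * g ∈ K := by
    refine ⟨by simpa using hD.conj_mem e he g⁻¹, ?_⟩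
    have h1 := oddPartners_conj hD he g⁻¹
    rw [← h, ← oddPartners_conj hD hd g⁻¹, inv_inv,
      show g⁻¹ * (g * k * g⁻¹) * g = k by group] at h1
    rw [h1, hk.2]
  have := congrArg (fun z => g * z * g⁻¹) (hkc _ hpull)
  simpa [mul_assoc] using this

omit hx in
/-- Members with the same odd partners commute with the same members. -/
theorem commuting_of_same [Finite G] (hc : IsConnectedSet (OddAdj D) D) {d e c : G} (hd : d ∈ D)
    (he : e ∈ D) (h : oddPartners D d = oddPartners D e) (hcD : c ∈ D) (hcd : c * d = d * c) :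
    c * e = e * c := by
  by_contra hne
  have hn : ¬ OddAdj D c e := by
    intro hadj
    have h1 : c ∈ oddPartners D e := (mem_oddPartners hD he).2 (adj_symm hD hadj)
    rw [← h] at h1
    exact not_adj_of_comm hD hd hcD hcd.symm ((mem_oddPartners hD hd).1 h1)
  obtain ⟨hp, hpu, hcu, heu⟩ := four hD hcD he hn hne
  obtain ⟨hp', hpu', -, -⟩ := four hD he hcD (fun h => hn (adj_symm hD h)) (Ne.symm hne)
  have huD : (c * e) ^ 2 ∈ D := hpu ▸ hp.prod
  have hinv : (e * c) ^ 2 = (c * e) ^ 2 := by
    rw [← inv_inj, ← inv_pow, _root_.mul_inv_rev, inv_eq hD he, inv_eq hD hcD, inv_eq hD huD]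
  obtain ⟨u, hu⟩ : ∃ u, (c * e) ^ 2 = u := ⟨_, rfl⟩
  rw [hinv, hu] at hpu'
  rw [hu] at huD hcu heu hpu
  have hsame : oddPartners D u = oddPartners D e := by
    refine oddPartners_eq_of_subset hD hc he huD fun y hy => ?_
    have hp2 : Pair D u e := (hpu' ▸ hp'.third hD : Pair D e u).symm
    rcases hp2.oddPartners_subset hD hy with h' | h'
    · exact h'
    · have e1 : u * e = c * e * c⁻¹ := by
        rw [hp2.comm, ← hpu', ← mul_assoc, mul_self hD he, one_mul, inv_eq hD hcD]
      have hcinv : oddPartners D (c * d * c⁻¹) = oddPartners D d := by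
        rw [hcd, mul_inv_cancel_right]
      rw [e1, oddPartners_conj hD he, ← h, ← oddPartners_conj hD hd, hcinv, h] at h'
      exact h'
  by_cases hsub : oddPartners D u ⊆ oddPartners D c
  · have h1 := oddPartners_eq_of_subset hD hc hcD huD hsub
    exact hne (comm_of_same hD hc hcD he (by rw [← h1, hsame]))
  obtain ⟨y, hy, hyc⟩ := Set.not_subset.1 hsub
  have hpair : Pair D u c := (hpu ▸ hp.third hD : Pair D c u).symm
  obtain ⟨z, hzD, hzu, hzne, hzsq, hzc⟩ := exists_four_partner hD hpair
    ((mem_oddPartners hD huD).1 hy) fun hadj => hyc ((mem_oddPartners hD hcD).2 hadj)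
  -- `z` and `e` act on `{u, c, u * c}` as two transpositions
  have hze : ¬ OddAdj D e z := by
    intro hadj
    have h1 : z ∈ oddPartners D e := (mem_oddPartners hD he).2 hadj
    rw [← hsame] at h1
    exact hzu (adj_symm hD ((mem_oddPartners hD huD).1 h1))
  have h4 := pow_four_of_not_adj hD he hzD hze
  have hzz := mul_self hD hzD
  have hee := mul_self hD he
  obtain ⟨f, hf⟩ : ∃ f : G → G, ∀ g, f g = e * z * g * (e * z)⁻¹ := ⟨_, fun _ => rfl⟩
  have cz : z * c * z = c := by rw [hzc, mul_assoc, hzz, mul_one]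
  have zu : z * u * z = c * u := by
    rw [← hzsq, pow_two]
    calc z * u * z = z * u * z * (u * u) := by rw [mul_self hD huD, mul_one]
      _ = _ := by group
  have eu : e * u * e = u := by rw [heu, mul_assoc, hee, mul_one]
  have ec : e * c * e = c * u := by rw [← hpu, ← mul_assoc, mul_self hD hcD, one_mul]
  have f1 : f u = c := by
    rw [hf, _root_.mul_inv_rev, inv_eq hD he, inv_eq hD hzD]
    calc e * z * u * (z * e) = e * (z * u * z) * e := by group
      _ = e * c * e * (e * u * e) := by rw [zu]; simp only [mul_assoc]; rw [← mul_assoc e e, hee, one_mul]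
      _ = c := by rw [ec, eu, mul_assoc, mul_self hD huD, mul_one]
  have f2 : f c = c * u := by
    rw [hf, _root_.mul_inv_rev, inv_eq hD he, inv_eq hD hzD]
    calc e * z * c * (z * e) = e * (z * c * z) * e := by group
      _ = c * u := by rw [cz, ec]
  have f3 : f (c * u) = u := by
    have hm : f (c * u) = f c * f u := by simp only [hf]; group
    rw [hm, f1, f2, mul_assoc, ← hcu, ← mul_assoc, mul_self hD hcD, one_mul]
  have f4 : f (f (f (f u))) = u := by
    simp only [hf]
    rw [show e * z * (e * z * (e * z * (e * z * u * (e * z)⁻¹) * (e * z)⁻¹) * (e * z)⁻¹) * (e * z)⁻¹ =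
      (e * z) ^ 4 * u * ((e * z) ^ 4)⁻¹ by
      simp only [pow_succ, pow_zero, one_mul, _root_.mul_inv_rev, mul_assoc]]
    rw [h4, one_mul, inv_one, mul_one]
  rw [f1, f2, f3, f1] at f4
  exact hpair.ne hD f4.symm

omit hx in
theorem commutingMembers_eq [Finite G] (hc : IsConnectedSet (OddAdj D) D) {d e : G} (hd : d ∈ D)
    (he : e ∈ D) (h : oddPartners D d = oddPartners D e) :
    commutingMembers D d = commutingMembers D e :=
  Set.ext fun _ => ⟨fun hy => ⟨hy.1, commuting_of_same hD hc hd he h hy.1 hy.2⟩,
    fun hy => ⟨hy.1, commuting_of_same hD hc he hd h.symm hy.1 hy.2⟩⟩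

omit hx in
theorem oddPartners_eq [Finite G] {d e : G} (hd : d ∈ D) (he : e ∈ D)
    (h : commutingMembers D d = commutingMembers D e) : oddPartners D d = oddPartners D e := by
  have key : ∀ {d e : G}, d ∈ D → e ∈ D → commutingMembers D d = commutingMembers D e →
      oddPartners D d ⊆ oddPartners D e := by
    intro d e hd he h y hy
    have hdy := (mem_oddPartners hD hd).1 hy
    have hyD := hdy.2.1
    by_contra hne
    have hn : ¬ OddAdj D e y := fun h' => hne ((mem_oddPartners hD he).2 h')
    have hncomm : e * y ≠ y * e := by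
      intro hc'
      have h1 : y ∈ commutingMembers D e := ⟨hyD, hc'.symm⟩
      rw [← h] at h1
      exact not_adj_of_comm hD hd hyD h1.2.symm hdy
    have hed : e * d = d * e := by
      have h1 : e ∈ commutingMembers D e := ⟨he, rfl⟩
      rw [← h] at h1
      exact h1.2
    obtain ⟨hp, hpu, hze, hzy⟩ := four hD he hyD hn hncomm
    obtain ⟨z, hz⟩ : ∃ z, (e * y) ^ 2 = z := ⟨_, rfl⟩
    rw [hz] at hpu hze hzy
    have hzD : z ∈ D := hpu ▸ hp.prod
    have hzd : z * d = d * z := by
      have h1 : z ∈ commutingMembers D e := ⟨hzD, hze.symm⟩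
      rw [← h] at h1
      exact h1.2
    -- `e y e` is another odd partner of `d`, and `y * (e y e) = z`
    have h2 := adj_conj hD hdy e
    rw [hed, mul_inv_cancel_right, inv_eq hD he] at h2
    have hyz : e * y * e = z * y := by
      rw [← hz, pow_two]
      calc e * y * e = e * y * e * (y * y) := by rw [mul_self hD hyD, mul_one]
        _ = _ := by group
    rw [hyz] at h2
    obtain ⟨-, -, -, h2⟩ := h2
    have hcz : Commute z (d * y) :=
      (show Commute z d from hzd).mul_right (show Commute z y from hzy.symm)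
    have ho : orderOf z = 2 := hD.orderOf_eq z hzD
    rw [← mul_assoc, ← hzd, mul_assoc, hcz.orderOf_mul_eq_mul_orderOf_of_coprime
      (by rw [ho]; exact Nat.coprime_two_left.2 hdy.2.2.2), ho] at h2
    exact (Nat.not_odd_iff_even.2 (even_two_mul _)) h2
  exact Set.Subset.antisymm (key hd he h) (key he hd h.symm)

end CfsgLib.Trans3.RootInvol
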