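import Cfsg.Agent.Lib.Trans3.RootInvol
import Cfsg.Agent.Lib.Amalgam.PCore
import Cfsg.Agent.Lib.Solvable.PCore

/-!
# Root involutions with 2-power products generate 2-groups
-/

set_option autoImplicit false
set_option linter.unusedSectionVars false

namespace CfsgLib.Trans3.RootInvol

open Cfsg

variable {G : Type*} [Group G]

theorem isPGroup_two_pair {x y : G} (hx : x * x = 1) (hy : y * y = 1) (h : (x * y) ^ 4 = 1) :
    IsPGroup 2 (Subgroup.closure ({x, y} : Set G)) := by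
  have hxi : x⁻¹ = x := inv_eq_of_mul_eq_one_right hx
  have hyi : y⁻¹ = y := inv_eq_of_mul_eq_one_right hy
  obtain ⟨r, hr⟩ : ∃ r, x * y = r := ⟨_, rfl⟩
  have hflip : x * r * x⁻¹ = r⁻¹ := by
    rw [← hr, mul_inv_rev, hxi, hyi, ← mul_assoc x x, hx, one_mul]
  have hflipz : ∀ i : ℤ, x * r ^ i = r ^ (-i) * x := by
    intro i
    rw [zpow_neg, ← inv_zpow, ← hflip, conj_zpow, inv_mul_cancel_right]
  let H : Subgroup G :=
    { carrier := {g | ∃ i : ℤ, g = r ^ i ∨ g = r ^ i * x}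
      one_mem' := ⟨0, Or.inl (by simp)⟩
      mul_mem' := by
        rintro a b ⟨i, rfl | rfl⟩ ⟨j, rfl | rfl⟩
        · exact ⟨i + j, Or.inl (zpow_add r i j).symm⟩
        · exact ⟨i + j, Or.inr (by rw [zpow_add, mul_assoc])⟩
        · exact ⟨i - j, Or.inr (by rw [mul_assoc, hflipz, sub_eq_add_neg, zpow_add, ← mul_assoc])⟩
        · exact ⟨i - j, Or.inl (by
            rw [mul_assoc, ← mul_assoc x, hflipz, mul_assoc, hx, mul_one, sub_eq_add_neg, zpow_add])⟩
      inv_mem' := by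
        rintro a ⟨i, rfl | rfl⟩
        · exact ⟨-i, Or.inl (zpow_neg r i).symm⟩
        · exact ⟨i, Or.inr (by rw [mul_inv_rev, ← zpow_neg, hxi, hflipz, neg_neg])⟩ }
  have hle : Subgroup.closure ({x, y} : Set G) ≤ H := by
    refine (Subgroup.closure_le _).2 ?_
    rintro g (rfl | rfl)
    · exact ⟨0, Or.inr (by simp)⟩
    · exact ⟨-1, Or.inr (by rw [← hflipz, zpow_one, ← hr, ← mul_assoc, hx, one_mul])⟩
  intro g
  refine ⟨2, Subtype.ext ?_⟩
  obtain ⟨i, hi | hi⟩ := hle g.2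
  · rw [SubmonoidClass.coe_pow, hi, ← zpow_natCast, ← zpow_mul, mul_comm, zpow_mul, zpow_natCast,
      show (2 : ℕ) ^ 2 = 4 from rfl, ← hr, h, one_zpow]
    rfl
  · have hsq : (r ^ i * x) * (r ^ i * x) = 1 := by
      rw [mul_assoc, ← mul_assoc x, hflipz, mul_assoc, hx, mul_one, ← zpow_add, add_neg_cancel,
        zpow_zero]
    rw [SubmonoidClass.coe_pow, hi, show (2 : ℕ) ^ 2 = 2 * 2 from rfl, pow_mul, pow_two (r ^ i * x),
      hsq, one_pow]
    rfl

variable [Finite G] {D : Set G} (hD : IsRootInvolutionSet D)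
include hD

theorem isPGroup_closure {K : Set G} (hK : K ⊆ D) (hno : ∀ a ∈ K, ∀ b ∈ K, ¬ OddAdj D a b)
    (hconj : ∀ a ∈ K, ∀ b ∈ K, b * a * b ∈ K) : IsPGroup 2 (Subgroup.closure K) := by
  haveI := Fact.mk Nat.prime_two
  let M := Subgroup.closure K
  let C : Set M := {m | (m : G) ∈ K}
  have htop : Subgroup.closure C = ⊤ := Subgroup.closure_closure_coe_preimage
  have hC : ∀ g : M, ∀ x ∈ C, g * x * g⁻¹ ∈ C := by
    intro g
    induction (htop ▸ Subgroup.mem_top g : g ∈ Subgroup.closure C) using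
      Subgroup.closure_induction'' with
    | mem b hb =>
        intro x hx
        show (b : G) * x * (b : G)⁻¹ ∈ K
        rw [inv_eq hD (hK hb)]
        exact hconj _ hx _ hb
    | inv_mem b hb =>
        intro x hx
        show (b : G)⁻¹ * x * ((b : G)⁻¹)⁻¹ ∈ K
        rw [inv_inv, inv_eq hD (hK hb)]
        exact hconj _ hx _ hb
    | one => intro x hx; simpa using hx
    | mul b c _ _ hb hc =>
        intro x hx
        rw [show b * c * x * (b * c)⁻¹ = b * (c * x * c⁻¹) * b⁻¹ by group]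
        exact hb _ (hc x hx)
  have h1 : IsPGroup 2 (Subgroup.closure C) := isPGroup_closure_of_pairwise hC fun x hx y hy => by
    refine isPGroup_two_pair (Subtype.ext ?_) (Subtype.ext ?_) (Subtype.ext ?_)
    · exact mul_self hD (hK hx)
    · exact mul_self hD (hK hy)
    · exact pow_four_of_not_adj hD (hK hx) (hK hy) (hno _ hx _ hy)
  rw [htop] at h1
  exact h1.of_equiv Subgroup.topEquiv

theorem isolated_conj {w : G} (hw : IsIsolatedElem (OddAdj D) D w) (g : G) :
    IsIsolatedElem (OddAdj D) D (g * w * g⁻¹) := by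
  refine ⟨hD.conj_mem w hw.1 g, fun b => ⟨fun h => ?_, fun h => ?_⟩⟩
  · have := adj_conj hD h g⁻¹
    rw [inv_inv, show g⁻¹ * (g * w * g⁻¹) * g = w by group] at this
    exact (hw.2 _).1 this
  · have := adj_conj hD h g⁻¹
    rw [inv_inv, show g⁻¹ * (g * w * g⁻¹) * g = w by group] at this
    exact (hw.2 _).2 this

theorem isolated_two_group :
    (Subgroup.closure {w | IsIsolatedElem (OddAdj D) D w}).Normal ∧
      IsPGroup 2 ↥(Subgroup.closure {w | IsIsolatedElem (OddAdj D) D w}) :=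
  ⟨closure_normal_of_conj_mem fun g _ hw => isolated_conj hD hw g,
    isPGroup_closure hD (fun _ hw => hw.1) (fun a ha b _ => (ha.2 b).1) fun a ha b hb => by
      have := isolated_conj hD ha b
      rwa [inv_eq hD hb.1] at this⟩

theorem not_adj_of_mem_normal {N : Subgroup G} [N.Normal] (hN : IsPGroup 2 N) {d e : G}
    (hd : d ∈ N) : ¬ OddAdj D d e := by
  rintro h
  have hm : (d * e) ^ 2 ∈ N := by
    rw [show (d * e) ^ 2 = d * (e * d * e⁻¹) by
      rw [pow_two, inv_eq hD h.2.1]; group]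
    exact N.mul_mem hd (‹N.Normal›.conj_mem d hd e)
  obtain ⟨i, hi⟩ := hN ⟨_, hm⟩
  replace hi : ((d * e) ^ 2) ^ 2 ^ i = 1 := congrArg Subtype.val hi
  obtain ⟨hdD, heD, hne, ho⟩ := h
  have h1 : orderOf (d * e) ∣ 2 ^ (i + 1) := orderOf_dvd_of_pow_eq_one (by
    rw [pow_succ', pow_mul]; exact hi)
  have h2 : orderOf (d * e) = 1 := Nat.eq_one_of_dvd_coprimes
    (Nat.Coprime.pow_right (i + 1) (Nat.coprime_two_right.2 ho)) dvd_rfl h1
  refine hne ?_
  rw [← inv_eq hD heD]
  exact eq_inv_of_mul_eq_one_left (orderOf_eq_one_iff.1 h2)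

end CfsgLib.Trans3.RootInvol
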