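import Cfsg.Prelude.Def_QuasithinSetup
import Cfsg.Agent.Lib.Trans3.RootInvolTwo
import Cfsg.Agent.Lib.Comp.Subnormal
import Mathlib.GroupTheory.Solvable

/-!
# Groups generated by a connected set of root involutions are almost simple
-/

set_option autoImplicit false
set_option linter.unusedSectionVars false

namespace CfsgLib.Trans3.RootInvol

open Cfsg

variable {G : Type*} [Group G] [Finite G] {D : Set G} (hD : IsRootInvolutionSet D)
  (hc : IsConnectedSet (OddAdj D) D) (hDD : (D ∩ commutingProducts D).Nonempty)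
include hD hc hDD

theorem exists_pair {a : G} (ha : a ∈ D) : ∃ e, Pair D a e := by
  obtain ⟨x, hxD, p, hp, q, hq, hpq, -, rfl⟩ := hDD
  obtain ⟨g, rfl⟩ := exists_conj hD hc hp ha
  refine ⟨g * q * g⁻¹, ha, hD.conj_mem q hq g, ?_, ?_⟩
  · rw [show g * p * g⁻¹ * (g * q * g⁻¹) = g * (p * q) * g⁻¹ by group]
    exact hD.conj_mem _ hxD g
  · rw [show g * p * g⁻¹ * (g * q * g⁻¹) = g * (p * q) * g⁻¹ by group, hpq]
    group

theorem commutator_eq_top : commutator G = ⊤ := by
  rw [eq_top_iff, ← hD.generates, Subgroup.closure_le]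
  intro a ha
  obtain ⟨e, he⟩ := exists_pair hD hc hDD ha
  have key : ∀ {p r : G}, p ∈ D → r ∈ D →
      (Abelianization.of p : Abelianization G) = Abelianization.of r := by
    intro p r hp hr
    obtain ⟨g, rfl⟩ := exists_conj hD hc hp hr
    rw [map_mul, map_mul, map_inv, mul_comm (Abelianization.of g), mul_inv_cancel_right]
  rw [SetLike.mem_coe, ← Abelianization.ker_of, MonoidHom.mem_ker]
  have h1 := key he.prod ha
  rw [map_mul, key he.right ha, ← map_mul, mul_self hD ha, map_one] at h1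
  exact h1.symm

theorem commutator_mem_pCore {N : Subgroup G} [hN : N.Normal] (hdis : ∀ d ∈ D, d ∉ N) {a n : G}
    (ha : a ∈ D) (hn : n ∈ N) : a * (n * a * n⁻¹) ∈ Cfsg.pCore 2 G := by
  have hno : ∀ {n : G}, n ∈ N → ∀ {a : G}, a ∈ D → ¬ OddAdj D a (n * a * n⁻¹) := by
    intro n hn a ha h
    obtain ⟨e, he⟩ := exists_pair hD hc hDD ha
    have hq : ∀ {p : G}, OddAdj D p (n * a * n⁻¹) → p * a ∈ D → False := by
      intro p hp hpa
      obtain ⟨k, hk⟩ := hp.2.2.2
      refine hdis _ hpa ((QuotientGroup.eq_one_iff _).1 ?_)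
      obtain ⟨q, hqdef⟩ : ∃ q : G →* G ⧸ N, q = QuotientGroup.mk' N := ⟨_, rfl⟩
      have hqn : q n = 1 := by subst hqdef; exact (QuotientGroup.eq_one_iff n).2 hn
      show ((p * a : G) : G ⧸ N) = 1
      have h1 : q (p * a) = q (p * (n * a * n⁻¹)) := by
        rw [map_mul q p (n * a * n⁻¹), map_mul q (n * a) n⁻¹, map_mul q n a, map_inv, hqn,
          one_mul, inv_one, mul_one, map_mul]
      have h2 : q (p * a) ^ (2 * k + 1) = 1 := by
        rw [h1, ← map_pow, ← hk, pow_orderOf_eq_one, map_one]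
      have h3 : q (p * a) ^ 2 = 1 := by
        rw [← map_pow, pow_two, mul_self hD hpa, map_one]
      rw [pow_succ, pow_mul, h3, one_pow, one_mul] at h2
      subst hqdef
      exact h2
    rcases he.adj_or hD h with h' | h'
    · exact hq h' (by rw [← he.comm]; exact he.prod)
    · refine hq h' ?_
      rw [he.comm, mul_assoc, mul_self hD ha, mul_one]
      exact he.right
  let K : Set G := {x | ∃ m ∈ N, x = m * a * m⁻¹}
  have hKD : K ⊆ D := fun x ⟨m, _, hx⟩ => hx ▸ hD.conj_mem a ha m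
  have hP : IsPGroup 2 (Subgroup.closure K) := by
    refine isPGroup_closure hD hKD ?_ ?_
    · rintro _ ⟨m, hm, rfl⟩ _ ⟨m', hm', rfl⟩ h
      have h1 := adj_conj hD h m⁻¹
      rw [show m⁻¹ * (m * a * m⁻¹) * m⁻¹⁻¹ = a by group,
        show m⁻¹ * (m' * a * m'⁻¹) * m⁻¹⁻¹ = (m⁻¹ * m') * a * (m⁻¹ * m')⁻¹ by group] at h1
      exact hno (N.mul_mem (N.inv_mem hm) hm') ha h1
    · rintro _ ⟨m, hm, rfl⟩ _ ⟨m', hm', rfl⟩
      refine ⟨m' * (a * (m'⁻¹ * m) * a⁻¹),
        N.mul_mem hm' (hN.conj_mem _ (N.mul_mem (N.inv_mem hm') hm) a), ?_⟩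
      have haa : ∀ z, a * (a * z) = z := fun z => by rw [← mul_assoc, mul_self hD ha, one_mul]
      simp only [mul_inv_rev, inv_inv, inv_eq hD ha, mul_assoc, haa]
  have hnorm : N ≤ Subgroup.normalizer ((Subgroup.closure K : Subgroup G) : Set G) := by
    have hfwd : ∀ m ∈ N, ∀ x ∈ Subgroup.closure K, m * x * m⁻¹ ∈ Subgroup.closure K := by
      intro m hm x hx
      induction hx using Subgroup.closure_induction with
      | mem x hx =>
          obtain ⟨m', hm', rfl⟩ := hx
          exact Subgroup.subset_closure ⟨m * m', N.mul_mem hm hm', by group⟩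
      | one => simp
      | mul x y _ _ ihx ihy =>
          rw [show m * (x * y) * m⁻¹ = (m * x * m⁻¹) * (m * y * m⁻¹) by group]
          exact mul_mem ihx ihy
      | inv x _ ihx =>
          rw [show m * x⁻¹ * m⁻¹ = (m * x * m⁻¹)⁻¹ by group]
          exact inv_mem ihx
    intro m hm
    rw [Subgroup.mem_normalizer_iff]
    refine fun x => ⟨hfwd m hm x, fun hx => ?_⟩
    have := hfwd m⁻¹ (N.inv_mem hm) _ hx
    rwa [show m⁻¹ * (m * x * m⁻¹) * m⁻¹⁻¹ = x by group] at this
  have hsub : (Subgroup.closure K ⊓ N).IsSubnormal := by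
    refine Subgroup.IsSubnormal.step _ N inf_le_right hN.isSubnormal ?_
    refine ⟨fun x hx g => ?_⟩
    rw [Subgroup.mem_subgroupOf] at hx ⊢
    exact ⟨(Subgroup.mem_normalizer_iff.1 (hnorm g.2) x).1 hx.1, hN.conj_mem _ hx.2 g⟩
  refine CfsgLib.Comp.le_pCore_of_isSubnormal hsub (hP.to_le inf_le_left) ⟨?_, ?_⟩
  · exact mul_mem (Subgroup.subset_closure ⟨1, N.one_mem, by group⟩)
      (Subgroup.subset_closure ⟨n, hn, rfl⟩)
  · rw [show a * (n * a * n⁻¹) = (a * n * a⁻¹) * (a * a) * n⁻¹ * 1 by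
      rw [mul_self hD ha, inv_eq hD ha]; group]
    rw [mul_self hD ha, mul_one, mul_one]
    exact N.mul_mem (hN.conj_mem n hn a) (N.inv_mem hn)

theorem eq_top_or_le_twoZCore (N : Subgroup G) [hN : N.Normal] :
    N = ⊤ ∨ N ≤ Cfsg.twoZCore G := by
  by_cases hdis : ∀ d ∈ D, d ∉ N
  · right
    intro n hn
    haveI := CfsgLib.Solvable.pCore_normal 2 G
    show (n : G ⧸ Cfsg.pCore 2 G) ∈ Subgroup.center (G ⧸ Cfsg.pCore 2 G)
    rw [Subgroup.mem_center_iff]
    intro g
    obtain ⟨g, rfl⟩ := QuotientGroup.mk_surjective g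
    have hgen : g ∈ Subgroup.closure D := hD.generates ▸ Subgroup.mem_top g
    induction hgen using Subgroup.closure_induction with
    | mem a ha =>
        have h := commutator_mem_pCore hD hc hDD hdis ha hn
        rw [← QuotientGroup.mk_mul, ← QuotientGroup.mk_mul, eq_comm, QuotientGroup.eq]
        rw [show (n * a)⁻¹ * (a * n) = a * (n⁻¹ * a * n⁻¹⁻¹) by
          rw [mul_inv_rev, inv_eq hD ha, inv_inv]; group]
        exact commutator_mem_pCore hD hc hDD hdis ha (N.inv_mem hn)
    | one => simp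
    | mul x y _ _ hx hy =>
        rw [QuotientGroup.mk_mul, mul_assoc, hy, ← mul_assoc, hx, mul_assoc]
    | inv x _ hx =>
        rw [QuotientGroup.mk_inv]
        exact (Commute.inv_left (hx : Commute (x : G ⧸ Cfsg.pCore 2 G) n))
  · left
    push Not at hdis
    obtain ⟨d, hd, hdN⟩ := hdis
    rw [eq_top_iff, ← hD.generates, Subgroup.closure_le]
    intro a ha
    obtain ⟨g, rfl⟩ := exists_conj hD hc hd ha
    exact hN.conj_mem d hdN g

theorem radical_and_simple :
    Cfsg.solvableRadical G = Cfsg.twoZCore G ∧ IsSimpleGroup (G ⧸ Cfsg.twoZCore G) := by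
  haveI := Fact.mk Nat.prime_two
  haveI := CfsgLib.Solvable.pCore_normal 2 G
  haveI : Group.IsSolvable ↥(Cfsg.pCore 2 G) := by
    haveI := (CfsgLib.Solvable.pCore_isPGroup (p := 2) (G := G)).isNilpotent
    infer_instance
  haveI hZ : Group.IsSolvable ↥(Cfsg.twoZCore G) := by
    let f : ↥(Cfsg.twoZCore G) →* ↥(Subgroup.center (G ⧸ Cfsg.pCore 2 G)) :=
      { toFun := fun x => ⟨((x : G) : G ⧸ Cfsg.pCore 2 G), x.2⟩
        map_one' := rfl
        map_mul' := fun _ _ => rfl }
    haveI : Group.IsSolvable ↥(Subgroup.center (G ⧸ Cfsg.pCore 2 G)) :=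
      Group.isSolvable_of_comm fun a b => Subtype.ext (Subgroup.mem_center_iff.1 b.2 a)
    have hle : Cfsg.pCore 2 G ≤ Cfsg.twoZCore G := fun x hx => by
      show (x : G ⧸ Cfsg.pCore 2 G) ∈ Subgroup.center _
      rw [(QuotientGroup.eq_one_iff x).2 hx]
      exact one_mem _
    refine Group.isSolvable_of_ker_le_range (Subgroup.inclusion hle) f ?_
    intro x hx
    exact ⟨⟨x, (QuotientGroup.eq_one_iff _).1 (congrArg Subtype.val hx)⟩, rfl⟩
  have hne : Cfsg.twoZCore G ≠ ⊤ := by
    intro he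
    haveI : Group.IsSolvable G := by
      rw [he] at hZ
      exact Group.isSolvable_of_surjective (f := (Subgroup.topEquiv : ↥(⊤ : Subgroup G) ≃* G).toMonoidHom)
        Subgroup.topEquiv.surjective
    haveI : Nontrivial G := by
      obtain ⟨x, hxD, -⟩ := hDD
      exact ⟨x, 1, ne_one hD hxD⟩
    exact (Group.IsSolvable.commutator_lt_top_of_nontrivial G).ne (commutator_eq_top hD hc hDD)
  constructor
  · refine le_antisymm (sSup_le ?_) (le_sSup ⟨inferInstance, hZ⟩)
    rintro N ⟨hN, hNs⟩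
    refine (eq_top_or_le_twoZCore hD hc hDD N).resolve_left fun he => ?_
    haveI : Group.IsSolvable G := by
      rw [he] at hNs
      exact Group.isSolvable_of_surjective (f := (Subgroup.topEquiv : ↥(⊤ : Subgroup G) ≃* G).toMonoidHom)
        Subgroup.topEquiv.surjective
    haveI : Nontrivial G := by
      obtain ⟨x, hxD, -⟩ := hDD
      exact ⟨x, 1, ne_one hD hxD⟩
    exact (Group.IsSolvable.commutator_lt_top_of_nontrivial G).ne (commutator_eq_top hD hc hDD)
  · haveI : Nontrivial (G ⧸ Cfsg.twoZCore G) := QuotientGroup.nontrivial_iff.2 hne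
    refine ⟨fun M hM => ?_⟩
    haveI := hM
    have hle : Cfsg.twoZCore G ≤ M.comap (QuotientGroup.mk' (Cfsg.twoZCore G)) := fun x hx => by
      rw [Subgroup.mem_comap, QuotientGroup.mk'_apply, (QuotientGroup.eq_one_iff x).2 hx]
      exact M.one_mem
    have hmap := Subgroup.map_comap_eq_self_of_surjective
      (QuotientGroup.mk'_surjective (Cfsg.twoZCore G)) M
    rcases eq_top_or_le_twoZCore hD hc hDD (M.comap (QuotientGroup.mk' (Cfsg.twoZCore G))) with h | h
    · right
      rw [← hmap, h, Subgroup.map_top_of_surjective _ (QuotientGroup.mk'_surjective _)]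
    · left
      rw [← hmap, le_antisymm h hle, QuotientGroup.map_mk'_self]

end CfsgLib.Trans3.RootInvol
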