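import Cfsg.Agent.Lib.Trans3.RankOne

/-!
# Abstract root subgroups: rank one pairs inside a root subgroup set
-/

set_option autoImplicit false

namespace CfsgLib.Trans3.RankOne

open Subgroup Cfsg
open scoped commutatorElement

variable {G : Type*} [Group G]

theorem commute_of_commutator {A B : Subgroup G} (h : ⁅A, B⁆ = ⊥) {a b : G} (ha : a ∈ A)
    (hb : b ∈ B) : a * b = b * a :=
  (Subgroup.mem_centralizer_iff.1 (commutator_eq_bot_iff_le_centralizer.1 h ha) b hb).symm

theorem commutator_eq_bot_of_comm {A B : Subgroup G}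
    (h : ∀ a ∈ A, ∀ b ∈ B, a * b = b * a) : ⁅A, B⁆ = ⊥ :=
  commutator_eq_bot_iff_le_centralizer.2 fun a ha =>
    Subgroup.mem_centralizer_iff.2 fun b hb => (h a ha b hb).symm

theorem not_commutator_bot {A B : Subgroup G} (h : IsRankOnePair A B) : ⁅A, B⁆ ≠ ⊥ := by
  intro hb
  obtain ⟨a, ha, b, hb', hab⟩ := not_comm h
  exact hab (commute_of_commutator hb ha hb')

theorem rankOneCondition_map {A B : Subgroup G} (g : G) (h : RankOneCondition A B) :
    RankOneCondition (conjBy A g) (conjBy B g) := by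
  rintro x ⟨a, ha, rfl⟩ hx
  obtain ⟨b, hb, hb1, he⟩ := h a ha (fun h1 => hx (by simp [h1]))
  refine ⟨g * b * g⁻¹, conj_mem_conjBy hb, by simpa [mul_inv_eq_one] using hb1, ?_⟩
  simp only [MulEquiv.coe_toMonoidHom, MulAut.conj_apply, conjBy_conjBy]
  rw [show (g * b * g⁻¹)⁻¹ * g = g * b⁻¹ by group,
    show (g * a * g⁻¹)⁻¹ * g = g * a⁻¹ by group, ← conjBy_conjBy, he, conjBy_conjBy]

theorem isRankOnePair_conj {A B : Subgroup G} (g : G) (h : IsRankOnePair A B) :
    IsRankOnePair (conjBy A g) (conjBy B g) := by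
  have := h.nilpotent_left
  have := h.nilpotent_right
  exact ⟨fun he => h.ne (conjBy_inj he),
    Group.nilpotent_of_mulEquiv (A.equivMapOfInjective _ (MulAut.conj g).injective),
    Group.nilpotent_of_mulEquiv (B.equivMapOfInjective _ (MulAut.conj g).injective),
    rankOneCondition_map g h.cond_left, rankOneCondition_map g h.cond_right⟩

theorem isRankOnePair_of_mem {C D E F : Subgroup G} (h : IsRankOnePair C D)
    (hE : E ∈ unipotentSubgroups C D) (hF : F ∈ unipotentSubgroups C D) (hne : E ≠ F) :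
    IsRankOnePair E F := by
  obtain ⟨x, -, rfl, rfl⟩ := exists_conj_pair h hE hF hne
  exact isRankOnePair_conj x h

theorem unipotentSubgroups_eq {C D E F : Subgroup G} (h : IsRankOnePair C D)
    (hE : E ∈ unipotentSubgroups C D) (hF : F ∈ unipotentSubgroups C D) (hne : E ≠ F) :
    unipotentSubgroups E F = unipotentSubgroups C D := by
  obtain ⟨x, hx, rfl, rfl⟩ := exists_conj_pair h hE hF hne
  have hsup := sup_eq_of_mem h hE hF hne
  ext K
  constructor
  · rintro ⟨y, hy, rfl⟩
    exact conjBy_mem hE (hsup ▸ hy)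
  · rintro ⟨y, hy, rfl⟩
    refine ⟨y * x⁻¹, hsup ▸ mul_mem hy (inv_mem hx), ?_⟩
    rw [conjBy_conjBy, inv_mul_cancel_right]

theorem exists_partner_mem {C D E : Subgroup G} (h : IsRankOnePair C D)
    (hE : E ∈ unipotentSubgroups C D) :
    ∃ F ∈ unipotentSubgroups C D, E ≠ F ∧ IsRankOnePair E F := by
  by_cases he : E = C
  · exact ⟨D, right_mem h, he ▸ h.ne, he ▸ h⟩
  · exact ⟨C, left_mem C D, he, isRankOnePair_of_mem h hE (left_mem C D) he⟩

variable {S : Set (Subgroup G)}

theorem comm_of_mem (hS : IsRootSubgroupSet S) {A : Subgroup G} (hA : A ∈ S) {a b : G}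
    (ha : a ∈ A) (hb : b ∈ A) : a * b = b * a := by
  have := hS.commutative A hA
  exact congrArg Subtype.val (mul_comm' (⟨a, ha⟩ : A) ⟨b, hb⟩)

theorem mem_of_mem_unipotents (hS : IsRootSubgroupSet S) {C D E : Subgroup G} (hC : C ∈ S)
    (hE : E ∈ unipotentSubgroups C D) : E ∈ S := by
  obtain ⟨x, -, rfl⟩ := hE
  exact hS.conj_mem C hC x

/-- No central translate of a non-identity element of `C` lies in another member. -/
theorem eq_of_translate (hS : IsRootSubgroupSet S) {C D : Subgroup G} (hC : C ∈ S) (hD : D ∈ S)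
    (hCD : IsRankOnePair C D) {c z : G} (hc : c ∈ C) (hc1 : c ≠ 1)
    (hz : z ∈ Subgroup.centralizer ((C ⊔ D : Subgroup G) : Set G))
    {E : Subgroup G} (hE : E ∈ S) (hzc : z * c ∈ E) : z = 1 ∧ E = C := by
  have hzx : ∀ x ∈ C ⊔ D, z * x = x * z := fun x hx =>
    (Subgroup.mem_centralizer_iff.1 hz x hx).symm
  have hzN : z ∈ Subgroup.normalizer (D : Set G) := Subgroup.mem_normalizer_iff.2 fun x => by
    constructor
    · intro hx
      rw [hzx x (mem_sup_right hx)]
      simpa [mul_assoc] using hx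
    · intro hx
      have h1 := hzx _ (mem_sup_right hx)
      have h2 : z * x * z⁻¹ = x := by
        calc z * x * z⁻¹ = z⁻¹ * (z * (z * x * z⁻¹)) := by group
          _ = z⁻¹ * (z * x * z⁻¹ * z) := by rw [h1]
          _ = x := by group
      rwa [h2] at hx
  have hze : z * c ≠ 1 := fun he => by
    refine hc1 (mem_center_of_normalizer hCD hc fun d hd => ?_)
    rw [eq_inv_of_mul_eq_one_right he]
    exact ((Commute.inv_left (hzx d (mem_sup_right hd) : Commute z d))).eq
  rcases hS.pair E hE D hD with hED | hED | hED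
  · refine absurd (mem_center_of_normalizer hCD hc fun d hd => ?_) hc1
    have h1 := commute_of_commutator hED hzc hd
    calc c * d = z⁻¹ * (z * c * d) := by group
      _ = z⁻¹ * (d * (z * c)) := by rw [h1]
      _ = z⁻¹ * (d * z) * c := by group
      _ = d * c := by rw [← hzx d (mem_sup_right hd)]; group
  · obtain ⟨d, hd, -, he⟩ := hED.cond_left _ hzc hze
    obtain ⟨d', hd', -, he'⟩ := hCD.cond_left c hc hc1
    rw [mul_inv_rev, ← conjBy_conjBy, conjBy_eq_self_iff.2 (inv_mem hzN), ← he', conjBy_eq_iff,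
      conjBy_conjBy, inv_inv] at he
    by_cases hEC : E = C
    · refine ⟨mem_center_of_normalizer hCD ?_ fun b hb => hzx b (mem_sup_right hb), hEC⟩
      rw [hEC] at hzc
      simpa using mul_mem hzc (inv_mem hc)
    · exfalso
      have hmem : E ∈ unipotentSubgroups C D :=
        ⟨d * d'⁻¹, mem_sup_right (mul_mem hd (inv_mem hd')), he⟩
      obtain ⟨c₁, hc₁, he₁⟩ := exists_eq_conjBy hCD hmem hEC
      rw [he₁, mem_conjBy] at hzc
      have h1 : c₁⁻¹ * (z * c) * c₁ = z * c := by
        rw [← mul_assoc, ← hzx _ (mem_sup_left (inv_mem hc₁)), mul_assoc (z * c₁⁻¹) c c₁,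
          comm_of_mem hS hC hc hc₁]
        group
      rw [h1] at hzc
      refine hc1 (mem_center_of_normalizer hCD hc fun b hb => ?_)
      calc c * b = z⁻¹ * ((z * c) * b) := by group
        _ = z⁻¹ * (b * (z * c)) := by rw [comm_of_mem hS hD hzc hb]
        _ = z⁻¹ * (b * z) * c := by group
        _ = b * c := by rw [← hzx b (mem_sup_right hb)]; group
  · exfalso
    obtain ⟨-, hcen, -, -⟩ := hED
    have hne : conjBy D c ≠ D := fun he =>
      hc1 (eq_one_of_mem_normalizer hCD hc (conjBy_eq_self_iff.1 he))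
    have hmem : conjBy D c ∈ unipotentSubgroups C D :=
      conjBy_mem (right_mem hCD) (mem_sup_left hc)
    refine not_commutator_bot (isRankOnePair_of_mem hCD hmem (right_mem hCD) hne)
      (commutator_eq_bot_of_comm ?_)
    intro x hx d hd
    rw [mem_conjBy] at hx
    have h0 : z * c * (c⁻¹ * x * c) * (z * c)⁻¹ * (c⁻¹ * x * c)⁻¹ ∈ ⁅E, D⁆ :=
      commutator_mem_commutator hzc hx
    have h1 : z * c * (c⁻¹ * x * c) * (z * c)⁻¹ = x := by
      have hxX : x ∈ C ⊔ D := by
        have := mul_mem (mul_mem (mem_sup_left (T := D) hc) (mem_sup_right (S := C) hx))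
          (inv_mem (mem_sup_left (T := D) hc))
        simpa [mul_assoc] using this
      calc z * c * (c⁻¹ * x * c) * (z * c)⁻¹ = z * x * z⁻¹ := by group
        _ = x * z * z⁻¹ := by rw [hzx x hxX]
        _ = x := by group
    rw [h1] at h0
    have h2 : Commute (x * (c⁻¹ * x * c)⁻¹) d := hcen _ h0 d (mem_sup_right hd)
    have h3 : Commute (c⁻¹ * x * c) d := comm_of_mem hS hD hx hd
    have h4 := (h2.mul_left h3).eq
    rwa [inv_mul_cancel_right] at h4

theorem eq_of_mem_inter (hS : IsRootSubgroupSet S) {A B : Subgroup G} (hA : A ∈ S)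
    (hp : ∃ D ∈ S, IsRankOnePair A D) (hB : B ∈ S) {a : G} (ha : a ∈ A) (ha1 : a ≠ 1)
    (hb : a ∈ B) : B = A := by
  obtain ⟨D, hD, hAD⟩ := hp
  exact (eq_of_translate hS hA hD hAD ha ha1 (one_mem _) hB (by rwa [one_mul])).2

theorem exists_partner_of_not_isolated (hS : IsRootSubgroupSet S) {A : Subgroup G} (hAS : A ∈ S)
    (hA : ¬ IsIsolatedIn (FAdj S) S A) : ∃ D ∈ S, IsRankOnePair A D := by
  simp only [IsIsolatedIn, hAS, true_and, not_forall, not_and_or, not_not] at hA
  obtain ⟨D, hD | hD⟩ := hA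
  · exact ⟨D, hD.2.1, hD.2.2⟩
  · exact ⟨D, hD.1, RankOnePair_symm hD.2.2⟩

theorem eq_of_commutator_bot {C D E F : Subgroup G}
    (hCD : IsRankOnePair C D) (hE : E ∈ unipotentSubgroups C D)
    (hF : F ∈ unipotentSubgroups C D) (h : ⁅E, F⁆ = ⊥) : E = F := by
  by_contra hne
  exact not_commutator_bot (isRankOnePair_of_mem hCD hE hF hne) h

/-- A member inside a rank one group that is not centralized by it is one of its unipotent
subgroups, provided it centralizes one of them. -/
theorem eq_of_centralize (hS : IsRootSubgroupSet S) {C D A : Subgroup G} (hC : C ∈ S) (hD : D ∈ S)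
    (hCD : IsRankOnePair C D) (hA : A ∈ S) (hle : A ≤ C ⊔ D) (hcomm : ⁅A, C⁆ = ⊥)
    (hnc : ¬ A ≤ Subgroup.centralizer ((C ⊔ D : Subgroup G) : Set G)) : A = C := by
  obtain ⟨a, ha, hna⟩ := SetLike.not_le_iff_exists.1 hnc
  have haC : ∀ c ∈ C, a * c = c * a := fun c hc => commute_of_commutator hcomm ha hc
  have haN : conjBy C a = C := by
    ext x
    rw [mem_conjBy]
    constructor
    · intro hx
      have h := haC _ hx
      have : x = a⁻¹ * x * a := by
        calc x = a * (a⁻¹ * x * a) * a⁻¹ := by group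
          _ = (a⁻¹ * x * a) * a * a⁻¹ := by rw [h]
          _ = a⁻¹ * x * a := by group
      rwa [this]
    · intro hx
      rwa [mul_assoc, ← haC x hx, inv_mul_cancel_left]
  have hmem : conjBy D a ∈ unipotentSubgroups C D := conjBy_mem (right_mem hCD) (hle ha)
  have hne : conjBy D a ≠ C := fun he => hCD.ne (conjBy_inj (haN.trans he.symm))
  obtain ⟨c, hc, he⟩ := exists_eq_conjBy hCD hmem hne
  obtain ⟨h, rfl⟩ : ∃ h, a = h * c := ⟨a * c⁻¹, by group⟩
  have hhC : ∀ x ∈ C, h * x = x * h := by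
    intro x hx
    have h1 : Commute (h * c) x := haC x hx
    have h2 : Commute c x := comm_of_mem hS hC hc hx
    simpa using (h1.mul_left h2.inv_left).eq
  have hhD : conjBy D h = D := by
    rw [hhC c hc, ← conjBy_conjBy] at he
    exact conjBy_inj he
  have hhCN : conjBy C h = C := by
    rwa [← conjBy_conjBy, conjBy_of_mem hc] at haN
  have hcen : h ∈ Subgroup.centralizer ((C ⊔ D : Subgroup G) : Set G) := by
    rw [sup_eq_closure, centralizer_closure, Subgroup.mem_centralizer_iff]
    rintro x (hx | hx)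
    · exact (hhC x hx).symm
    · rcases eq_or_ne x 1 with rfl | hx1
      · simp
      obtain ⟨c', hc', -, he'⟩ := hCD.cond_right x⁻¹ (inv_mem hx) (inv_ne_one.2 hx1)
      rw [inv_inv] at he'
      have h1 : conjBy C (h * x) = conjBy C (x * h) := by
        rw [← conjBy_conjBy, ← he', conjBy_conjBy, hhC _ (inv_mem hc'), ← conjBy_conjBy D h,
          hhD, he', ← conjBy_conjBy C h, hhCN]
      have hx' : h * x * h⁻¹ ∈ D := by
        have := conj_mem_conjBy (g := h) hx
        rwa [hhD] at this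
      refine (mul_inv_eq_iff_eq_mul.1 (eq_of_conjBy_eq (RankOnePair_symm hCD) hx' hx ?_)).symm
      rw [← conjBy_conjBy, conjBy_eq_iff.1 hhCN |>.symm, h1, ← conjBy_conjBy, hhCN]
  by_cases hc1 : c = 1
  · exact absurd (by simpa [hc1] using hcen) hna
  · exact (eq_of_translate hS hC hD hCD hc hc1 hcen hA ha).2

theorem mem_unipotents_of_le (hS : IsRootSubgroupSet S) {C D A : Subgroup G} (hC : C ∈ S)
    (hD : D ∈ S) (hCD : IsRankOnePair C D) (hA : A ∈ S) (hle : A ≤ C ⊔ D)
    (hnc : ¬ A ≤ Subgroup.centralizer ((C ⊔ D : Subgroup G) : Set G)) :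
    A ∈ unipotentSubgroups C D := by
  by_cases hex : ∃ E ∈ unipotentSubgroups C D, ⁅A, E⁆ = ⊥
  · obtain ⟨E, hE, hAE⟩ := hex
    obtain ⟨F, hF, hne, hEF⟩ := exists_partner_mem hCD hE
    have hsup := sup_eq_of_mem hCD hE hF hne
    rw [eq_of_centralize hS (mem_of_mem_unipotents hS hC hE) (mem_of_mem_unipotents hS hC hF)
      hEF hA (hsup.symm ▸ hle) hAE (hsup.symm ▸ hnc)]
    exact hE
  push Not at hex
  have hAC := hex C (left_mem C D)
  rcases hS.pair A hA C hC with h | h | h
  · exact absurd h hAC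
  · obtain ⟨c, hc, hc1⟩ := exists_mem_ne_one hCD
    obtain ⟨a, ha, -, he⟩ := h.cond_right c hc hc1
    rw [eq_comm, conjBy_eq_iff, inv_inv, conjBy_conjBy] at he
    rw [he]
    exact conjBy_mem (left_mem C D) (mul_mem (mem_sup_left hc) (inv_mem (hle ha)))
  · exfalso
    obtain ⟨hF, hcen, -, -⟩ := h
    have hFle : ⁅A, C⁆ ≤ C ⊔ D := by
      rw [commutator_le]
      intro a ha c hc
      rw [commutatorElement_def]
      exact mul_mem (mul_mem (mul_mem (hle ha) (mem_sup_left hc)) (inv_mem (hle ha)))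
        (inv_mem (mem_sup_left hc))
    by_cases hFc : ⁅A, C⁆ ≤ Subgroup.centralizer ((C ⊔ D : Subgroup G) : Set G)
    · refine hAC (commutator_eq_bot_of_comm fun a ha c hc => ?_)
      rcases eq_or_ne c 1 with rfl | hc1
      · simp
      have hm : ⁅a, c⁆ * c ∈ conjBy C a := by
        rw [mem_conjBy, commutatorElement_def]; simpa [mul_assoc] using hc
      exact commutatorElement_eq_one_iff_mul_comm.1 (eq_of_translate hS hC hD hCD hc hc1
        (hFc (commutator_mem_commutator ha hc)) (hS.conj_mem C hC a) hm).1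
    · have hFC : ⁅⁅A, C⁆, C⁆ = ⊥ := commutator_eq_bot_of_comm
        fun f hf c hc => hcen f hf c (mem_sup_right hc)
      have heq := eq_of_centralize hS hC hD hCD hF hFle hFC hFc
      refine hAC (commutator_eq_bot_of_comm fun a ha c hc => ?_)
      exact (hcen c (heq.symm ▸ hc) a (mem_sup_left ha)).symm

/-- If the commutator of two members is a member, the commutator case holds. -/
theorem commutatorCase_of_mem (hS : IsRootSubgroupSet S) {A B : Subgroup G} (hA : A ∈ S)
    (hB : B ∈ S) (hC : ⁅A, B⁆ ∈ S) : RootCommutatorCase S A B := by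
  rcases hS.pair A hA B hB with h | h | h
  · exact absurd h (fun he => hS.ne_bot _ hC he)
  · exfalso
    have hle : ⁅A, B⁆ ≤ A ⊔ B := by
      rw [commutator_le]
      intro a ha b hb
      rw [commutatorElement_def]
      exact mul_mem (mul_mem (mul_mem (mem_sup_left ha) (mem_sup_right hb))
        (inv_mem (mem_sup_left ha))) (inv_mem (mem_sup_right hb))
    by_cases hc : ⁅A, B⁆ ≤ Subgroup.centralizer ((A ⊔ B : Subgroup G) : Set G)
    · refine not_commutator_bot (RankOnePair_symm h)
        (commutator_eq_bot_of_comm fun b hb a ha => ?_)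
      rcases eq_or_ne a 1 with rfl | ha1
      · simp
      have hm : ⁅b, a⁆ * a ∈ conjBy A b := by
        rw [mem_conjBy, commutatorElement_def]; simpa [mul_assoc] using ha
      exact commutatorElement_eq_one_iff_mul_comm.1 (eq_of_translate hS hA hB h ha ha1
        (hc (commutatorElement_inv a b ▸ inv_mem (commutator_mem_commutator ha hb)))
        (hS.conj_mem A hA b) hm).1
    · obtain ⟨x, hx, he⟩ := mem_unipotents_of_le hS hA hB h hC hle hc
      have hn : (A ⊔ B) ≤ Subgroup.normalizer ((⁅A, B⁆ : Subgroup G) : Set G) :=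
        sup_le (Subgroup.normalizer_commutator_ge_left A B) (Subgroup.normalizer_commutator_ge_right A B)
      have h1 := conjBy_eq_self_iff.2 (hn (inv_mem hx))
      rw [he, conjBy_conjBy, inv_mul_cancel, conjBy_one] at h1
      rw [he] at hn
      obtain ⟨b, hb, hb1⟩ := exists_mem_ne_one (RankOnePair_symm h)
      rw [← h1] at hn
      exact hb1 (eq_one_of_mem_normalizer (RankOnePair_symm h) hb (hn (mem_sup_right hb)))
  · exact h

end CfsgLib.Trans3.RankOne
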