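import Cfsg.Agent.Lib.Trans3.RootClass
import Cfsg.Agent.Lib.Trans3.RootDegenerate
import Cfsg.Agent.Lib.Trans3.RootSub

/-!
# Lines are moved transitively by their root subgroups

For `B` a line partner of `A` there are `E, F ∈ S` with `⁅A, F⁆ = E` and `A B = A E`, so the
conjugates of `A` under `F` are the members of the line different from `E`.
-/

set_option autoImplicit false

namespace CfsgLib.Trans3.RankOne

open Subgroup Cfsg
open scoped commutatorElement

variable {G : Type*} [Group G] {S : Set (Subgroup G)}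

theorem line_commutator_shift (hS : IsRootSubgroupSet S)
    (hF : ∀ A ∈ S, ¬ IsIsolatedIn (FAdj S) S A) {A B : Subgroup G} (hA : A ∈ S)
    (hB : B ∈ linePartners S A) :
    ∃ E F : Subgroup G, E ∈ S ∧ F ∈ S ∧ ⁅A, F⁆ = E ∧ A ⊔ E = A ⊔ B := by
  obtain ⟨W, hW, hAW⟩ := exists_partner_of_not_isolated hS hA (hF A hA)
  by_cases hWB : IsRankOnePair W B
  · obtain ⟨⟨hBS, hne, hAB⟩, -, hcov, hdis⟩ := hB
    obtain ⟨a, ha, ha1⟩ := exists_mem_ne_one hAW
    obtain ⟨c, w, P⟩ :=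
      exists_pencil hS hA hBS hW hne.symm hAB hAW (RankOnePair_symm hWB) ha ha1
    have hq1 : a * c⁻¹ ≠ 1 := fun he => by
      have hm : a ∈ A ⊓ B := ⟨ha, (mul_inv_eq_one.1 he).symm ▸ P.hc⟩
      rw [hdis A ⟨hA, le_sup_left⟩ B ⟨hBS, le_sup_right⟩ hne.symm] at hm
      exact ha1 hm
    have hqN : a * c⁻¹ ∈ A ⊔ B :=
      (A ⊔ B).mul_mem (mem_sup_left ha) (mem_sup_right (B.inv_mem P.hc))
    obtain ⟨E, ⟨hES, hEN⟩, hqE⟩ := hcov _ hqN hq1
    have hWE : RootCommutatorCase S W E := by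
      rcases hS.pair W hW E hES with h | h | h
      · have h0 : ⁅w, a * c⁻¹⁆ = 1 :=
          commutatorElement_eq_one_iff_commute.2 (commute_of_commutator h P.hw hqE)
        have h1 := P.partner_image
        rw [h0, conjBy_one] at h1
        exact absurd h1 hne.symm
      · have hEW := RankOnePair_symm h
        have heq := eq_of_commutator_bot hEW (right_mem hEW)
          (conjBy_mem (right_mem hEW) (mem_sup_left hqE)) P.comm_translate
        exact absurd (eq_one_of_mem_normalizer hEW hqE (conjBy_eq_self_iff.1 heq.symm)) hq1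
      · exact h
    have hf : ⁅w, a * c⁻¹⁆ ∈ ⁅W, E⁆ := commutator_mem_commutator P.hw hqE
    have hmove : conjBy A ⁅w, a * c⁻¹⁆ ≠ A := by
      rw [P.partner_image]; exact hne
    have hAF : RootCommutatorCase S A ⁅W, E⁆ := by
      rcases hS.pair A hA _ hWE.1 with h | h | h
      · exact absurd (conjBy_eq_of_commute fun d hd => (commute_of_commutator h hd hf).symm) hmove
      · exact absurd (eq_of_commutator_bot h (left_mem A _)
          (conjBy_mem (left_mem A _) (mem_sup_right hf)) (P.translate_comm P.hw)).symm hmove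
      · exact h
    have hqG : a * c⁻¹ ∈ ⁅A, ⁅W, E⁆⁆ := by
      rw [← P.commutator_eq]; exact commutator_mem_commutator ha hf
    have hEeq : ⁅A, ⁅W, E⁆⁆ = E :=
      eq_of_mem_inter hS hES (exists_partner_of_not_isolated hS hES (hF E hES)) hAF.1 hqE hq1 hqG
    refine ⟨E, ⁅W, E⁆, hES, hWE.1, hEeq, le_antisymm (sup_le le_sup_left hEN) ?_⟩
    refine sup_le le_sup_left ?_
    intro x hx
    rw [← P.partner_image, mem_conjBy] at hx
    obtain ⟨f, hfdef⟩ : ∃ f, ⁅w, a * c⁻¹⁆ = f := ⟨_, rfl⟩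
    rw [hfdef] at hx hf
    have h1 : ⁅f, f⁻¹ * x * f⁆ ∈ E := by
      rw [← hEeq, Subgroup.commutator_comm]; exact commutator_mem_commutator hf hx
    have h2 := (A ⊔ E).mul_mem (mem_sup_right h1) (mem_sup_left hx)
    rwa [show ⁅f, f⁻¹ * x * f⁆ * (f⁻¹ * x * f) = x by rw [commutatorElement_def]; group] at h2
  · obtain ⟨hcase, he⟩ := line_opposite hS hA hW hAW hB hWB
    exact ⟨B, ⁅W, B⁆, hB.1.1, hcase.1, he, rfl⟩

/-- The part of a line off one point is one orbit of a normalizing member fixing that point. -/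
theorem line_orbit (hS : IsRootSubgroupSet S) (hF : ∀ A ∈ S, ¬ IsIsolatedIn (FAdj S) S A)
    {A B : Subgroup G} (hA : A ∈ S) (hB : B ∈ linePartners S A) :
    ∃ E F : Subgroup G, E ∈ membersIn S (A ⊔ B) ∧ F ∈ normalizingMembers S (A ⊔ B) ∧ E ≠ A ∧
      A ∈ linePartners S E ∧ E ⊔ A = A ⊔ B ∧
      ∀ C ∈ membersIn S (A ⊔ B), ∀ D ∈ membersIn S (A ⊔ B), C ≠ E → D ≠ E →
        ∃ f ∈ F, conjBy E f = E ∧ conjBy C f = D := by
  obtain ⟨E, F, hE, hFS, hAF, hN⟩ := line_commutator_shift hS hF hA hB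
  obtain ⟨hm, -, hl, -⟩ := Cfsg.Agent.S5029.result hS (hF A hA) hA hFS (hAF.symm ▸ hE)
  rw [hAF] at hm hl
  have hfixE : ∀ f ∈ F, conjBy E f = E := fun f hf => by
    rw [← hAF]
    exact conjBy_eq_self_iff.2 (Subgroup.normalizer_commutator_ge_right A F hf)
  have hmove : ∀ f ∈ F, conjBy (A ⊔ E) f ≤ A ⊔ E := fun f hf => by
    rw [conjBy, Subgroup.map_sup]
    refine sup_le ?_ ((hfixE f hf).le.trans le_sup_right)
    exact (hm.symm ▸ Or.inl ⟨f, hf, rfl⟩ : conjBy A f ∈ membersIn S (A ⊔ E)).2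
  refine ⟨E, F, ⟨hE, hN ▸ le_sup_right⟩, ⟨hFS, fun f hf => ?_⟩, hl.1.2.1.symm, hl,
    sup_comm E A ▸ hN, ?_⟩
  · rw [← hN]
    refine conjBy_eq_self_iff.1 (le_antisymm (hmove f hf) ?_)
    intro x hx
    rw [mem_conjBy]
    have h1 := hmove f⁻¹ (F.inv_mem hf) (conj_mem_conjBy (g := f⁻¹) hx)
    rwa [inv_inv] at h1
  · intro C hC D hD hCE hDE
    rw [← hN, hm] at hC hD
    obtain ⟨f₁, hf₁, rfl⟩ := hC.resolve_right hCE
    obtain ⟨f₂, hf₂, rfl⟩ := hD.resolve_right hDE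
    refine ⟨f₂ * f₁⁻¹, F.mul_mem hf₂ (F.inv_mem hf₁),
      hfixE _ (F.mul_mem hf₂ (F.inv_mem hf₁)), ?_⟩
    rw [conjBy_conjBy, inv_mul_cancel_right]

end CfsgLib.Trans3.RankOne
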