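import Cfsg.Agent.Lib.Trans3.RankOneSpecial

/-!
# Special rank one groups over more than three elements have no abelian quotient

The sum formula `b(x a) = z * y` for the partner map, pushed into an abelian quotient, says
`π a ^ 2 * π x = 1` whenever `x a ≠ 1`; with more than three elements this forces `π = 1`.
-/

set_option autoImplicit false

namespace CfsgLib.Trans3.RankOne

open Subgroup Cfsg

variable {G : Type*} [Group G] {A B : Subgroup G}

/-- The partner of a product. -/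
theorem partner_mul (h : SpecialData A B) {x a y y' : G} (ha : a ∈ A) (ha1 : a ≠ 1)
    (hy : IsPartner A B x y) (hy' : IsPartner A B (x * a) y') :
    ∃ δ α z, δ = x⁻¹ * (y * a * y⁻¹) * x ∧ IsPartner B A δ α ∧
      IsPartner A B (α * x⁻¹) z ∧ y' = z * y := by
  have hinv := hy.inv h
  obtain ⟨δ, hδ⟩ : ∃ δ, x⁻¹ * (y * a * y⁻¹) * x = δ := ⟨_, rfl⟩
  have hδB : δ ∈ B := by
    have h1 := conj_mem_conjBy (g := y) ha
    have h2 : conjBy A y = conjBy B x := by simpa using hinv.2.2.2.2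
    rw [h2, mem_conjBy] at h1
    exact hδ ▸ h1
  have h5 : y * a * y⁻¹ = x * δ * x⁻¹ := by rw [← hδ]; group
  have hδ1 : δ ≠ 1 := fun he => ha1 (by
    calc a = y⁻¹ * (y * a * y⁻¹) * y := by group
      _ = 1 := by rw [h5, he]; group)
  obtain ⟨α, hα⟩ := exists_isPartner h.symm.pair hδB hδ1
  have hkey : conjBy B (x * a)⁻¹ = conjBy (conjBy B (α * x⁻¹)⁻¹) y⁻¹ := by
    have h6 : a⁻¹ * y⁻¹ = y⁻¹ * (x * δ⁻¹) * x⁻¹ := by
      calc a⁻¹ * y⁻¹ = y⁻¹ * (y * a * y⁻¹)⁻¹ := by group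
        _ = y⁻¹ * (x * δ⁻¹) * x⁻¹ := by rw [h5]; group
    rw [mul_inv_rev α x⁻¹, inv_inv, ← conjBy_conjBy B α⁻¹, hα.2.2.2.2,
      mul_inv_rev, ← conjBy_conjBy, ← hy.2.2.2.2, conjBy_conjBy, conjBy_conjBy, conjBy_conjBy,
      h6, ← conjBy_conjBy A x⁻¹, conjBy_of_mem (inv_mem hy.1), mul_assoc y⁻¹]
  have hne : α * x⁻¹ ≠ 1 := by
    intro he
    rw [he, inv_one, conjBy_one, conjBy_of_mem (inv_mem hy.2.2.1)] at hkey
    exact hy'.2.1 (inv_eq_one.1 (eq_one_of_mem_normalizer h.pair (inv_mem hy'.1)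
      (conjBy_eq_self_iff.1 hkey)))
  obtain ⟨z, hz⟩ := exists_isPartner h.pair (mul_mem hα.2.2.1 (inv_mem hy.1)) hne
  refine ⟨δ, α, z, hδ.symm, hα, hz, ?_⟩
  rw [← hz.2.2.2.2, ← hy'.2.2.2.2, conjBy_conjBy, ← mul_inv_rev] at hkey
  exact inv_inj.1 (eq_of_conjBy_eq (RankOnePair_symm h.pair) (inv_mem hy'.2.2.1)
    (inv_mem (mul_mem hz.2.2.1 hy.2.2.1)) hkey)

/-- A homomorphism with commuting values on `A ⊔ B` kills `A` if `A` has more than three
elements. -/
theorem map_eq_one_of_comm (h : SpecialData A B) {H : Type*} [Group H] (π : G →* H)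
    (hπ : ∀ u ∈ A ⊔ B, ∀ v ∈ A ⊔ B, Commute (π u) (π v)) (hcard : 3 < ENat.card A) :
    ∀ a ∈ A, π a = 1 := by
  have hrel : ∀ {p q : G}, IsPartner A B p q → π q = (π p)⁻¹ := by
    intro p q hp
    have hr := congrArg π (h.rel p hp.1 hp.2.1 q hp.2.2.1 hp.2.2.2.1 hp.2.2.2.2)
    have hc := hπ p (mem_sup_left hp.1) q (mem_sup_right hp.2.2.1)
    simp only [map_mul, map_inv] at hr
    rw [mul_assoc (π q)⁻¹, hc.eq, inv_mul_cancel_left, mul_assoc (π p)⁻¹,
      ← (hc.inv_right).eq, inv_mul_cancel_left] at hr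
    rw [hr, inv_inv]
  have hcomm : ∀ {u v : G}, u ∈ A → v ∈ A → Commute (π u) (π v) := fun hu hv =>
    hπ _ (mem_sup_left hu) _ (mem_sup_left hv)
  have key : ∀ x ∈ A, ∀ a ∈ A, x ≠ 1 → a ≠ 1 → x * a ≠ 1 → π a * π a * π x = 1 := by
    intro x hx a ha hx1 ha1 hxa
    obtain ⟨y, hy⟩ := exists_isPartner h.pair hx hx1
    obtain ⟨y', hy'⟩ := exists_isPartner h.pair (mul_mem hx ha) hxa
    obtain ⟨δ, α, z, hδ, hα, hz, hzy⟩ := partner_mul h ha ha1 hy hy'
    have cxa := hcomm hx ha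
    have hπδ : π δ = π a := by
      have e : (π x)⁻¹ * π a * π x = π a := by rw [mul_assoc, ← cxa.eq, inv_mul_cancel_left]
      rw [hδ, map_mul, map_mul, map_mul, map_mul, map_inv, map_inv, hrel hy, inv_inv, e, e]
    have hπα : π α = (π a)⁻¹ := by
      rw [← inv_inv (π α), ← hrel hα.symm, hπδ]
    have h1 := congrArg π hzy
    rw [hrel hy', map_mul π z, hrel hz, hrel hy, map_mul, map_mul, map_inv, hπα] at h1
    have e2 : ((π a)⁻¹ * (π x)⁻¹)⁻¹ * (π x)⁻¹ = π a := by
      rw [mul_inv_rev, inv_inv, inv_inv, cxa.eq, mul_inv_cancel_right]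
    rw [e2] at h1
    have h2 : π x * π a * π a = 1 := by
      calc π x * π a * π a = (π x * π a) * (π x * π a)⁻¹ := by rw [h1]
        _ = 1 := mul_inv_cancel _
    rw [(cxa.symm.mul_left cxa.symm).eq, ← mul_assoc]
    exact h2
  -- all values coincide
  have heq : ∀ x ∈ A, ∀ a ∈ A, x ≠ 1 → a ≠ 1 → x * a ≠ 1 → π x = π a := by
    intro x hx a ha hx1 ha1 hxa
    have h1 := key x hx a ha hx1 ha1 hxa
    have h2 := key a ha x hx ha1 hx1 (by rw [h.commA a ha x hx]; exact hxa)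
    have hc := (hcomm hx ha).eq
    rw [← mul_left_inj ((π x)), ← mul_left_inj (π a)]
    calc π x * π x * π a = 1 := h2
      _ = π a * π a * π x := h1.symm
      _ = π a * π x * π a := by rw [mul_assoc, mul_assoc, hc]
  have hall : ∀ x ∈ A, ∀ a ∈ A, x ≠ 1 → a ≠ 1 → π x = π a := by
    intro x hx a ha hx1 ha1
    by_cases hxa : x * a = 1
    · obtain ⟨p, hp, hp1, hpx, hpa⟩ : ∃ p ∈ A, p ≠ 1 ∧ p ≠ x ∧ p ≠ a := by
        by_contra! hcon
        have hsub : ∀ p : A, (p : G) = 1 ∨ (p : G) = x ∨ (p : G) = a := fun p => by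
          by_cases h1 : (p : G) = 1
          · exact .inl h1
          by_cases h2 : (p : G) = x
          · exact .inr (.inl h2)
          exact .inr (.inr (hcon p p.2 h1 h2))
        classical
        haveI : Fintype A := ⟨{1, ⟨x, hx⟩, ⟨a, ha⟩}, fun p => by
          rcases hsub p with e | e | e <;> simp [Subtype.ext_iff, e]⟩
        rw [ENat.card_eq_coe_fintype_card] at hcard
        have h3 : (3 : ℕ) < Fintype.card A := by exact_mod_cast hcard
        have h4 : Fintype.card A ≤ 3 :=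
          (Finset.card_le_card (s := Finset.univ) (t := ({1, ⟨x, hx⟩, ⟨a, ha⟩} : Finset A))
            fun p _ => by rcases hsub p with e | e | e <;> simp [Subtype.ext_iff, e]).trans
          Finset.card_le_three
        omega
      have hx' : a = x⁻¹ := eq_inv_of_mul_eq_one_right hxa
      refine (heq x hx p hp hx1 hp1 fun e => hpa ?_).trans (heq p hp a ha hp1 ha1 fun e => hpx ?_)
      · rw [hx', eq_inv_of_mul_eq_one_right e]
      · rw [hx'] at e
        exact (mul_inv_eq_one.1 e)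
    · exact heq x hx a ha hx1 ha1 hxa
  intro a ha
  rcases eq_or_ne a 1 with rfl | ha1
  · exact map_one π
  obtain ⟨p, hp, hp1, hpa⟩ : ∃ p ∈ A, p ≠ 1 ∧ a * p ≠ 1 := by
    by_contra! hcon
    have hsub : ∀ p : A, (p : G) = 1 ∨ (p : G) = a⁻¹ := fun p => by
      by_cases h1 : (p : G) = 1
      · exact .inl h1
      exact .inr (eq_inv_of_mul_eq_one_right (hcon p p.2 h1))
    classical
    haveI : Fintype A := ⟨{1, ⟨a⁻¹, inv_mem ha⟩}, fun p => by
      rcases hsub p with e | e <;> simp [Subtype.ext_iff, e]⟩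
    rw [ENat.card_eq_coe_fintype_card] at hcard
    have h3 : (3 : ℕ) < Fintype.card A := by exact_mod_cast hcard
    have h4 : Fintype.card A ≤ 2 :=
      (Finset.card_le_card (s := Finset.univ) (t := ({1, ⟨a⁻¹, inv_mem ha⟩} : Finset A))
        fun p _ => by rcases hsub p with e | e <;> simp [Subtype.ext_iff, e]).trans
      Finset.card_le_two
    omega
  have h1 := hall (a * p) (mul_mem ha hp) a ha hpa ha1
  rw [map_mul, hall p hp a ha hp1 ha1, mul_eq_right] at h1
  exact h1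

end CfsgLib.Trans3.RankOne
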