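import Cfsg.Agent.Lib.Trans3.RootSpecial
import Cfsg.Agent.Lib.Trans3.SpecialPerfect
import Cfsg.Agent.Lib.ClassK.QuasiIso

/-!
# The quasisimplicity criterion for groups generated by abstract root subgroups
-/

set_option autoImplicit false
set_option linter.unusedSectionVars false

namespace CfsgLib.Trans3.RankOne

open Subgroup Cfsg
open scoped commutatorElement

variable {G : Type*} [Group G] {S : Set (Subgroup G)}

/-- The hypotheses of the criterion. -/
structure QsData (S : Set (Subgroup G)) : Prop where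
  root : IsRootSubgroupSet S
  two : ∃ A ∈ S, ∃ B ∈ S, A ≠ B
  conn : IsConnectedFamily (FAdj S) S
  sep : ∀ A ∈ S, ∀ C ∈ S, A ≠ C → centralizingMembers S A ≠ centralizingMembers S C
  big : IsDegenerateRootSet S → ∀ A ∈ S, 3 < ENat.card A
  special : ∀ A ∈ S, ∀ B ∈ rankOnePartners S A, IsSpecialRankOnePair A B

variable (hQ : QsData S)
include hQ

theorem qs_isClass : IsRootSubgroupClass S := by
  obtain ⟨A, hA, -⟩ := hQ.two
  exact ⟨hQ.root, ⟨A, hA⟩, fun A hA B hB => exists_conj_of_fReach (hQ.conn A hA B hB)⟩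

theorem qs_partner {A : Subgroup G} (hA : A ∈ S) : ∃ D ∈ S, IsRankOnePair A D := by
  obtain ⟨A₀, hA₀, B₀, hB₀, hne⟩ := hQ.two
  obtain ⟨C, hC, hCA⟩ : ∃ C ∈ S, C ≠ A := by
    by_cases h : A₀ = A
    · exact ⟨B₀, hB₀, fun e => hne (h.trans e.symm)⟩
    · exact ⟨A₀, hA₀, h⟩
  rcases Relation.ReflTransGen.cases_head (hQ.conn A hA C hC) with h | ⟨D, hD, -⟩
  · exact absurd h.symm hCA
  · exact ⟨D, hD.2.1, hD.2.2⟩

theorem qs_nondeg (h : ¬ IsDegenerateRootSet S) : IsNondegenerateRootSet S := by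
  simp only [IsDegenerateRootSet, not_forall, not_not] at h
  obtain ⟨A, hA, B, hB, h⟩ := h
  obtain ⟨D, hD, hAD⟩ := qs_partner hQ hA
  exact ⟨⟨A, hA, _, h.1, (commutator_ne_left hQ.root h).symm, commutator_eq_bot_of_comm
    fun a ha c hc => (h.2.1 c hc a (mem_sup_left ha)).symm⟩, ⟨A, hA, D, hD, hAD⟩, A, hA, B, hB, h⟩

theorem qs_top_of_member {N : Subgroup G} [hN : N.Normal] {A : Subgroup G} (hA : A ∈ S)
    (h : A ≤ N) : N = ⊤ := by
  rw [eq_top_iff, ← hQ.root.generates]
  refine iSup₂_le fun B hB => ?_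
  obtain ⟨g, rfl⟩ := (qs_isClass hQ).2.2 A hA B hB
  rintro _ ⟨a, ha, rfl⟩
  exact hN.conj_mem a (h ha) g

/-- A rank one pair with commuting images forces the kernel to contain a member. -/
theorem qs_collapse {N : Subgroup G} [N.Normal] {A B : Subgroup G} (hA : A ∈ S) (hB : B ∈ S)
    (hAB : IsRankOnePair A B)
    (hc : ⁅A.map (QuotientGroup.mk' N), B.map (QuotientGroup.mk' N)⁆ = ⊥) : N = ⊤ := by
  by_cases hd : IsDegenerateRootSet S
  · refine qs_top_of_member hQ hA fun a ha => ?_
    have hdata : SpecialData A B := SpecialData.mk' (hQ.special A hA B ⟨hB, hAB⟩)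
      ⟨hQ.root.commutative A hA, hQ.root.commutative B hB⟩
    rw [← QuotientGroup.eq_one_iff]
    refine map_eq_one_of_comm hdata (QuotientGroup.mk' N) ?_ (hQ.big hd A hA) a ha
    have hab : ∀ {x y : G}, x ∈ A → y ∈ B →
        Commute (QuotientGroup.mk' N x) (QuotientGroup.mk' N y) := fun hx hy =>
      commute_of_commutator hc ⟨_, hx, rfl⟩ ⟨_, hy, rfl⟩
    intro u hu v hv
    rw [sup_eq_closure] at hu hv
    have step : ∀ x ∈ (A : Set G) ∪ B, ∀ y ∈ (A : Set G) ∪ B,
        Commute (QuotientGroup.mk' N x) (QuotientGroup.mk' N y) := by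
      rintro x (hx | hx) y (hy | hy)
      · exact (show Commute x y from comm_of_mem hQ.root hA hx hy).map _
      · exact hab hx hy
      · exact (hab hy hx).symm
      · exact (show Commute x y from comm_of_mem hQ.root hB hx hy).map _
    induction hu using Subgroup.closure_induction with
    | mem x hx =>
        induction hv using Subgroup.closure_induction with
        | mem y hy => exact step x hx y hy
        | one => simp
        | mul p q _ _ hp hq => rw [map_mul]; exact hp.mul_right hq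
        | inv p _ hp => rw [map_inv]; exact hp.inv_right
    | one => simp
    | mul p q _ _ hp hq => rw [map_mul]; exact hp.mul_left hq
    | inv p _ hp => rw [map_inv]; exact hp.inv_left
  · have hnd := qs_nondeg hQ hd
    have hcl := qs_isClass hQ
    obtain ⟨a, ha, ha1⟩ := exists_mem_ne_one hAB
    obtain ⟨b, hb, -, he⟩ := hAB.cond_left a ha ha1
    obtain ⟨π, hπ⟩ : ∃ π : G →* G ⧸ N, QuotientGroup.mk' N = π := ⟨_, rfl⟩
    rw [hπ] at hc
    have hmap : ∀ (C : Subgroup G) (g : G), (conjBy C g).map π = conjBy (C.map π) (π g) := by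
      intro C g
      simp only [conjBy, Subgroup.map_map]
      congr 1
      ext x
      simp
    have heq : A.map π = B.map π := by
      have h1 := congrArg (Subgroup.map π) he
      rw [hmap, hmap, conjBy_eq_of_commute, conjBy_eq_of_commute] at h1
      · exact h1
      · exact fun d hd => commute_of_commutator hc ⟨_, inv_mem ha, rfl⟩ hd
      · exact fun d hd => (commute_of_commutator hc hd ⟨_, inv_mem hb, rfl⟩).symm
    obtain ⟨P, hP, Q, hQ', hPQ⟩ := exists_commutator hcl hnd hA
    obtain ⟨q, hq, hBE, -⟩ := exists_path hcl hnd hA hB hAB hP hQ' hPQ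
    obtain ⟨-, -, -, -, hd'⟩ := line_facts hcl hnd hA hP hQ' hPQ
    obtain ⟨hl, -⟩ := line_facts hcl hnd hA (hQ.root.conj_mem P hP q) hQ' (hd' q hq)
    refine qs_top_of_member hQ hBE.1 fun x hx => ?_
    have h2 : ⁅B, conjBy P q⁆.map π = ⊥ := by
      rw [Subgroup.map_commutator, ← heq, ← Subgroup.map_commutator, hl.1.2.2, Subgroup.map_bot]
    have h3 : π x = 1 := by
      rw [← Subgroup.mem_bot, ← h2]; exact ⟨x, hx, rfl⟩
    rw [← hπ] at h3
    exact (QuotientGroup.eq_one_iff x).1 h3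

theorem qs_normal (N : Subgroup G) [hN : N.Normal] : N = ⊤ ∨ N ≤ Subgroup.center G := by
  by_cases hfix : ∀ n ∈ N, ∀ A ∈ S, conjBy A n = A
  · right
    intro n hn
    have hle : (⨆ A ∈ S, A) ≤ Subgroup.centralizer ({n} : Set G) := by
      refine iSup₂_le fun A hA a ha => Subgroup.mem_centralizer_singleton_iff.2 ?_
      obtain ⟨D, hD, hAD⟩ := qs_partner hQ hA
      have h1 : a * n * a⁻¹ * n⁻¹ ∈ A := by
        have h3 : n * a⁻¹ * n⁻¹ ∈ A := hfix n hn A hA ▸ conj_mem_conjBy (A.inv_mem ha)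
        simpa [mul_assoc] using A.mul_mem ha h3
      have h2 : a * n * a⁻¹ * n⁻¹ ∈ N := N.mul_mem (hN.conj_mem n hn a) (N.inv_mem hn)
      have h3 := eq_one_of_mem_normalizer hAD h1 (conjBy_eq_self_iff.1 (hfix _ h2 D hD))
      rwa [mul_inv_eq_one, mul_inv_eq_iff_eq_mul] at h3
    rw [hQ.root.generates] at hle
    exact Subgroup.mem_center_iff.2 fun g =>
      Subgroup.mem_centralizer_singleton_iff.1 (hle (Subgroup.mem_top g))
  left
  push Not at hfix
  obtain ⟨n, hn, A, hA, hne⟩ := hfix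
  have hA' := hQ.root.conj_mem A hA n
  have hmapA : (conjBy A n).map (QuotientGroup.mk' N) = A.map (QuotientGroup.mk' N) := by
    rw [conjBy, Subgroup.map_map]
    congr 1
    ext x
    simp [(QuotientGroup.eq_one_iff n).2 hn]
  have habel : ⁅A.map (QuotientGroup.mk' N), A.map (QuotientGroup.mk' N)⁆ = ⊥ := by
    rw [← Subgroup.map_commutator,
      commutator_eq_bot_of_comm fun x hx y hy => comm_of_mem hQ.root hA hx hy, Subgroup.map_bot]
  have hmem : ∀ {F : Subgroup G}, F ∈ S → F.map (QuotientGroup.mk' N) = ⊥ → N = ⊤ :=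
    fun hF h => qs_top_of_member hQ hF fun x hx => (QuotientGroup.eq_one_iff x).1 (by
      have h1 : QuotientGroup.mk' N x ∈ (⊥ : Subgroup (G ⧸ N)) := h ▸ ⟨x, hx, rfl⟩
      exact Subgroup.mem_bot.1 h1)
  rcases hQ.root.pair _ hA' A hA with h | h | h
  · -- commuting: use the centralizer sets
    have key : ∀ P ∈ S, ∀ Q ∈ S, P.map (QuotientGroup.mk' N) = Q.map (QuotientGroup.mk' N) →
        ∀ D ∈ centralizingMembers S P, D ∉ centralizingMembers S Q → N = ⊤ := by
      intro P hP Q hQm hPQ D hD hDQ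
      have hc : ⁅Q.map (QuotientGroup.mk' N), D.map (QuotientGroup.mk' N)⁆ = ⊥ := by
        rw [← hPQ, ← Subgroup.map_commutator, Subgroup.commutator_comm,
          commutator_eq_bot_iff_le_centralizer.2 hD.2, Subgroup.map_bot]
      rcases hQ.root.pair Q hQm D hD.1 with h | h | h
      · exact absurd ⟨hD.1, commutator_eq_bot_iff_le_centralizer.1
          (by rw [Subgroup.commutator_comm]; exact h)⟩ hDQ
      · exact qs_collapse hQ hQm hD.1 h hc
      · exact hmem h.1 (by rw [Subgroup.map_commutator]; exact hc)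
    obtain ⟨D, hD⟩ : ∃ D, ¬ (D ∈ centralizingMembers S A ↔ D ∈ centralizingMembers S (conjBy A n)) := by
      by_contra! hcon
      exact hQ.sep A hA _ hA' hne.symm (Set.ext hcon)
    by_cases hDA : D ∈ centralizingMembers S A
    · exact key A hA _ hA' hmapA.symm D hDA fun h' => hD ⟨fun _ => h', fun _ => hDA⟩
    · refine key _ hA' A hA hmapA D ?_ hDA
      by_contra h'
      exact hD ⟨fun h1 => absurd h1 hDA, fun h1 => absurd h1 h'⟩
  · exact qs_collapse hQ hA' hA h (by rw [hmapA]; exact habel)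
  · exact hmem h.1 (by rw [Subgroup.map_commutator, hmapA]; exact habel)

theorem qs_commutator_top : commutator G = ⊤ := by
  rcases qs_normal hQ (commutator G) with h | h
  · exact h
  obtain ⟨A, hA, -⟩ := hQ.two
  obtain ⟨B, hB, hAB⟩ := qs_partner hQ hA
  refine qs_collapse (N := commutator G) hQ hA hB hAB (commutator_eq_bot_of_comm fun u _ v _ => ?_)
  exact @mul_comm' (Abelianization G) _ ⟨⟨fun x y => mul_comm x y⟩⟩ u v

theorem qs_quasisimple : IsQuasisimple G := by
  refine ⟨Group.isPerfect_def.2 (qs_commutator_top hQ), ?_⟩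
  obtain ⟨A, hA, -⟩ := hQ.two
  obtain ⟨B, hB, hAB⟩ := qs_partner hQ hA
  obtain ⟨a, -, b, -, hab⟩ := not_comm hAB
  have : Nontrivial (G ⧸ Subgroup.center G) := by
    rw [QuotientGroup.nontrivial_iff]
    intro hc
    exact hab (Subgroup.mem_center_iff.1 (hc ▸ Subgroup.mem_top b) a)
  refine { eq_bot_or_eq_top_of_normal := fun M hM => ?_ }
  have hmap := Subgroup.map_comap_eq_self_of_surjective
    (QuotientGroup.mk'_surjective (Subgroup.center G)) M
  rcases qs_normal hQ (M.comap (QuotientGroup.mk' (Subgroup.center G))) with h1 | h1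
  · right
    rw [← hmap, h1, Subgroup.map_top_of_surjective _ (QuotientGroup.mk'_surjective _)]
  · left
    rw [← hmap, Subgroup.map_eq_bot_iff, QuotientGroup.ker_mk']
    exact h1

theorem quasisimplicity :
    (∀ A ∈ S, commutator G ⊔ A = ⊤ ∧ A ⊓ commutator G ≠ ⊥) ∧
    IsQuasisimple ↥(commutator G) ∧
    (IsNondegenerateRootSet S → commutator G = ⊤) ∧
    ((∃ A ∈ S, ∃ B ∈ rankOnePartners S A, Group.IsPerfect ↥(A ⊔ B)) → commutator G = ⊤) := by
  have h := qs_commutator_top hQ
  refine ⟨fun A hA => by rw [h, top_sup_eq, inf_top_eq]; exact ⟨rfl, hQ.root.ne_bot A hA⟩, ?_,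
    fun _ => h, fun _ => h⟩
  rw [h]
  exact CfsgLib.ClassK.isQuasisimple_of_mulEquiv Subgroup.topEquiv.symm (qs_quasisimple hQ)

end CfsgLib.Trans3.RankOne
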