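import Cfsg.Agent.Lib.Trans3.RootClass

/-!
# Rank one pairs of a non-degenerate class are special

If `F = ⁅B, C⁆` and `⁅A, F⁆ = C`, then `⟨A, B⟩` acts on `CF` as `SL₂` does on its natural module:
`c ↦ ⁅b, c⁆` and `f ↦ ⁅a, f⁆` are inverse to each other whenever `b⁻¹ A b = a⁻¹ B a`.
-/

set_option autoImplicit false

namespace CfsgLib.Trans3.RankOne

open Subgroup Cfsg
open scoped commutatorElement

variable {G : Type*} [Group G] {S : Set (Subgroup G)}

theorem conj_by_left {a f : G} : a * f * a⁻¹ = ⁅a, f⁆ * f := by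
  rw [commutatorElement_def]; group

/-- A rank one pair acting on a line is special. -/
theorem special_of_line (hS : IsRootSubgroupSet S) {A B C : Subgroup G} (hA : A ∈ S) (hB : B ∈ S)
    (hAB : IsRankOnePair A B) (hC : C ∈ S) (hBC : RootCommutatorCase S B C)
    (hAF : ⁅A, ⁅B, C⁆⁆ = C) (hAC : ⁅A, C⁆ = ⊥) : IsSpecialRankOnePair A B := by
  refine ⟨hAB, fun a ha ha1 b hb hb1 he => ?_⟩
  have hAFc : RootCommutatorCase S A ⁅B, C⁆ :=
    commutatorCase_of_mem hS hA hBC.1 (by rw [hAF]; exact hC)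
  have hCB : ⁅C, B⁆ ∈ S := by rw [Subgroup.commutator_comm]; exact hBC.1
  obtain ⟨-, horb, horb1, horb2, hpart, hcen⟩ :=
    Cfsg.Agent.S5036.result hS hC hB hCB hA (by rw [Subgroup.commutator_comm C B]; exact hAF)
  rw [Subgroup.commutator_comm C B] at horb horb1 horb2 hpart hcen
  set F := ⁅B, C⁆ with hF
  have hFB : ∀ f ∈ F, ∀ x ∈ B, f * x = x * f := fun f hf x hx =>
    hBC.2.1 f hf x (mem_sup_left hx)
  have hFC : ∀ f ∈ F, ∀ x ∈ C, f * x = x * f := fun f hf x hx =>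
    hBC.2.1 f hf x (mem_sup_right hx)
  have hCA : ∀ c ∈ C, ∀ x ∈ A, c * x = x * c := fun c hc x hx =>
    (commute_of_commutator hAC hx hc).symm
  have hne : C ≠ F := fun h => commutator_ne_left hS
    (commutatorCase_of_mem hS hC hB hCB) (by rw [Subgroup.commutator_comm]; exact h.symm)
  have hdis : ∀ x ∈ C, x ∈ F → x = 1 := by
    have hCm : C ∈ {E | ∃ x ∈ B ⊔ A, E = conjBy C x} := ⟨1, one_mem _, (conjBy_one C).symm⟩
    have hFm : F ∈ {E | ∃ x ∈ B ⊔ A, E = conjBy C x} := by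
      rw [horb1]; exact Or.inr rfl
    have h := hpart.2.2 C hCm F hFm hne
    intro x hx hx'
    have hx'' : x ∈ C ⊓ F := ⟨hx, hx'⟩
    rwa [h] at hx''
  -- the member fixed by `A ^ b = B ^ a`
  have hC' : conjBy C b⁻¹ = conjBy F a⁻¹ := by
    have hcF : ⁅conjBy A b⁻¹, conjBy F a⁻¹⁆ = ⊥ := by
      rw [he, ← conjBy_commutator,
        commutator_eq_bot_of_comm fun x hx f hf => (hFB f hf x hx).symm, conjBy, Subgroup.map_bot]
    have hmem : conjBy C b⁻¹ ∈ (fun d : G => conjBy F d) '' (A : Set G) ∪ {C} := by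
      rw [← horb2]; exact ⟨b⁻¹, mem_sup_left (inv_mem hb), rfl⟩
    rcases hmem with ⟨a', ha', h'⟩ | h'
    · by_cases h1 : a' = a⁻¹
      · rw [← h', h1]
      · exfalso
        have hF' : ⁅B, conjBy F (a * a')⁆ = ⊥ := by
          have h2 : ⁅conjBy A b⁻¹, conjBy C b⁻¹⁆ = ⊥ := by
            rw [← conjBy_commutator, hAC, conjBy, Subgroup.map_bot]
          rw [he, ← show conjBy F a' = conjBy C b⁻¹ from h'] at h2
          have h3 := congrArg (fun X => conjBy X a) h2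
          simp only [conjBy_commutator, conjBy_conjBy, mul_inv_cancel, conjBy_one] at h3
          rw [h3, conjBy, Subgroup.map_bot]
        have ha'' : a * a' ≠ 1 := fun h => h1 (eq_inv_of_mul_eq_one_right h)
        have hmem' : conjBy F (a * a') ∈ (fun x : G => conjBy C x) '' (B : Set G) ∪ {F} := by
          rw [← horb1, horb2]; exact Or.inl ⟨_, mul_mem ha ha', rfl⟩
        rcases hmem' with ⟨b', hb', h''⟩ | h''
        · rw [← show conjBy C b' = conjBy F (a * a') from h''] at hF'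
          have h3 := congrArg (fun X => conjBy X b'⁻¹) hF'
          simp only [conjBy_commutator, conjBy_conjBy, inv_mul_cancel, conjBy_one,
            conjBy_of_mem (inv_mem hb')] at h3
          rw [conjBy, Subgroup.map_bot] at h3
          exact hS.ne_bot _ hBC.1 h3
        · refine hS.ne_bot C hC ?_
          rw [← hAF, ← hAFc.2.2.1 _ (mul_mem ha ha') ha'', closure_eq_bot_iff]
          rintro _ ⟨f, hf, rfl⟩
          refine hdis _ (hAF ▸ ?_) ?_
          · simp only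
            rw [← commutatorElement_def]
            exact commutator_mem_commutator (mul_mem ha ha') hf
          · refine mul_mem ?_ (inv_mem hf)
            rw [Set.mem_singleton_iff] at h''
            exact h'' ▸ conj_mem_conjBy hf
    · exfalso
      rw [Set.mem_singleton_iff] at h'
      refine hS.ne_bot _ hBC.1 ?_
      rw [← hBC.2.2.1 b hb hb1, closure_eq_bot_iff]
      rintro _ ⟨c, hc, rfl⟩
      refine hdis _ (mul_mem ?_ (inv_mem hc)) ?_
      · have h4 : conjBy C b = C := by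
          conv_lhs => rw [← h']
          rw [conjBy_conjBy, mul_inv_cancel, conjBy_one]
        exact h4 ▸ conj_mem_conjBy hc
      · simp only
        rw [← commutatorElement_def]
        exact commutator_mem_commutator hb hc
  have hψ : ∀ c ∈ C, ⁅b, c⁆ ∈ F := fun c hc => commutator_mem_commutator hb hc
  have hφ : ∀ f ∈ F, ⁅a, f⁆ ∈ C := fun f hf => hAF ▸ commutator_mem_commutator ha hf
  have hbi : ∀ c ∈ C, b⁻¹ * c * b = ⁅b, c⁆⁻¹ * c := by
    intro c hc
    have h1 : ⁅b, c⁆ * b = b * ⁅b, c⁆ := hFB _ (hψ c hc) b hb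
    calc b⁻¹ * c * b = (b⁻¹ * ⁅b, c⁆ * b)⁻¹ * c := by rw [commutatorElement_def]; group
      _ = ⁅b, c⁆⁻¹ * c := by rw [mul_assoc b⁻¹, h1, inv_mul_cancel_left]
  -- the two maps are inverse to each other
  have hinv : ∀ c ∈ C, ⁅a, ⁅b, c⁆⁆ = c := by
    intro c hc
    have h1 : b⁻¹ * c * b ∈ conjBy F a⁻¹ := by
      rw [← hC', mem_conjBy, inv_inv]; simpa [mul_assoc] using hc
    rw [mem_conjBy, inv_inv, hbi c hc] at h1
    have e1 : a * (⁅b, c⁆⁻¹ * c) * a⁻¹ = ⁅b, c⁆⁻¹ * (⁅a, ⁅b, c⁆⁆⁻¹ * c) := by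
      have e2 : a * c * a⁻¹ = c := by rw [← hCA c hc a ha, mul_inv_cancel_right]
      calc a * (⁅b, c⁆⁻¹ * c) * a⁻¹ = (a * ⁅b, c⁆ * a⁻¹)⁻¹ * (a * c * a⁻¹) := by group
        _ = (⁅a, ⁅b, c⁆⁆ * ⁅b, c⁆)⁻¹ * c := by rw [conj_by_left, e2]
        _ = ⁅b, c⁆⁻¹ * (⁅a, ⁅b, c⁆⁆⁻¹ * c) := by group
    rw [e1, Subgroup.mul_mem_cancel_left F (inv_mem (hψ c hc))] at h1
    exact inv_mul_eq_one.1 (hdis _ (mul_mem (inv_mem (hφ _ (hψ c hc))) hc) h1)
  have hinv' : ∀ f ∈ F, ⁅b, ⁅a, f⁆⁆ = f := by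
    intro f hf
    have h1 := hinv _ (hφ f hf)
    have h2 := commHom_injective hS hA ⟨B, hB, hAB⟩ hAFc ha ha1
      (a₁ := ⟨⁅b, ⁅a, f⁆⁆, hψ _ (hφ f hf)⟩) (a₂ := ⟨f, hf⟩) h1
    exact congrArg Subtype.val h2
  -- the two sides act in the same way on `CF`
  set x := b⁻¹ * a * b with hx
  set y := a⁻¹ * b⁻¹ * a with hy
  have hfix : ∀ n ∈ C ⊔ F, y⁻¹ * x * n = n * (y⁻¹ * x) := by
    have key : ∀ n, x * n * x⁻¹ = y * n * y⁻¹ → y⁻¹ * x * n = n * (y⁻¹ * x) := fun n h => by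
      calc y⁻¹ * x * n = y⁻¹ * (x * n * x⁻¹) * x := by group
        _ = n * (y⁻¹ * x) := by rw [h]; group
    have hC1 : ∀ c ∈ C, x * c * x⁻¹ = ⁅b, c⁆⁻¹ * c * c ∧ y * c * y⁻¹ = ⁅b, c⁆⁻¹ * c * c := by
      intro c hc
      have hp := hψ c hc
      have e2 : a * c * a⁻¹ = c := by rw [← hCA c hc a ha, mul_inv_cancel_right]
      have e3 : a⁻¹ * c * a = c := by rw [mul_assoc, hCA c hc a ha, inv_mul_cancel_left]
      have e4 : b⁻¹ * ⁅b, c⁆ * b = ⁅b, c⁆ := by
        rw [mul_assoc, hFB _ hp b hb, inv_mul_cancel_left]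
      constructor
      · calc x * c * x⁻¹ = b⁻¹ * (a * ⁅b, c⁆ * a⁻¹ * (a * c * a⁻¹)) * b := by
              rw [hx, commutatorElement_def]; group
          _ = b⁻¹ * (c * ⁅b, c⁆ * c) * b := by rw [conj_by_left, hinv c hc, e2]
          _ = (b⁻¹ * c * b) * (b⁻¹ * ⁅b, c⁆ * b) * (b⁻¹ * c * b) := by group
          _ = ⁅b, c⁆⁻¹ * (c * ⁅b, c⁆) * (⁅b, c⁆⁻¹ * c) := by rw [hbi c hc, e4]; group
          _ = ⁅b, c⁆⁻¹ * c * c := by group
      · calc y * c * y⁻¹ = a⁻¹ * (b⁻¹ * (a * c * a⁻¹) * b) * a := by rw [hy]; group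
          _ = (a⁻¹ * ⁅b, c⁆⁻¹ * a) * (a⁻¹ * c * a) := by rw [e2, hbi c hc]; group
          _ = a⁻¹ * ⁅b, c⁆⁻¹ * a * c := by rw [e3]
          _ = ⁅b, c⁆⁻¹ * c * c := by
              congr 1
              have h1 := conj_by_left (a := a) (f := ⁅b, c⁆)
              rw [hinv c hc] at h1
              have h2 : a⁻¹ * ⁅b, c⁆⁻¹ * a = ⁅b, c⁆⁻¹ * (a⁻¹ * c * a) := by
                calc a⁻¹ * ⁅b, c⁆⁻¹ * a
                    = ⁅b, c⁆⁻¹ * (a⁻¹ * (a * ⁅b, c⁆ * a⁻¹) * a * (a⁻¹ * ⁅b, c⁆⁻¹ * a)) := by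
                      group
                  _ = ⁅b, c⁆⁻¹ * (a⁻¹ * c * a) := by rw [h1]; group
              rw [h2, e3]
    have hF1 : ∀ f ∈ F, x * f * x⁻¹ = ⁅a, f⁆ ∧ y * f * y⁻¹ = ⁅a, f⁆ := by
      intro f hf
      have hq := hφ f hf
      have e5 : b⁻¹ * (⁅a, f⁆ * f) * b = ⁅a, f⁆ := by
        calc b⁻¹ * (⁅a, f⁆ * f) * b = (b⁻¹ * ⁅a, f⁆ * b) * (b⁻¹ * f * b) := by group
          _ = f⁻¹ * ⁅a, f⁆ * f := by
              rw [hbi _ hq, hinv' f hf,
                show b⁻¹ * f * b = f by rw [mul_assoc, hFB f hf b hb, inv_mul_cancel_left]]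
          _ = ⁅a, f⁆ := by rw [mul_assoc, ← hFC f hf _ hq, inv_mul_cancel_left]
      have e6 : b * f * b⁻¹ = f := by rw [← hFB f hf b hb, mul_inv_cancel_right]
      constructor
      · calc x * f * x⁻¹ = b⁻¹ * (a * (b * f * b⁻¹) * a⁻¹) * b := by rw [hx]; group
          _ = ⁅a, f⁆ := by rw [e6, conj_by_left, e5]
      · calc y * f * y⁻¹ = a⁻¹ * (b⁻¹ * (a * f * a⁻¹) * b) * a := by rw [hy]; group
          _ = ⁅a, f⁆ := by rw [conj_by_left, e5, mul_assoc, hCA _ hq a ha, inv_mul_cancel_left]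
    intro n hn
    rw [sup_eq_closure] at hn
    induction hn using Subgroup.closure_induction with
    | mem n hn =>
        rcases hn with hn | hn
        · exact key n ((hC1 n hn).1.trans (hC1 n hn).2.symm)
        · exact key n ((hF1 n hn).1.trans (hF1 n hn).2.symm)
    | one => simp
    | mul u v _ _ hu hv =>
        calc y⁻¹ * x * (u * v) = (y⁻¹ * x * u) * v := by group
          _ = u * (y⁻¹ * x * v) := by rw [hu]; group
          _ = u * v * (y⁻¹ * x) := by rw [hv]; group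
    | inv u _ hu => exact (Commute.inv_right (hu : Commute (y⁻¹ * x) u)).eq
  have hxm : y⁻¹ * x ∈ conjBy A b⁻¹ := by
    refine mul_mem (inv_mem ?_) ?_
    · rw [he, mem_conjBy, inv_inv, hy]
      simpa [mul_assoc] using inv_mem hb
    · rw [mem_conjBy, inv_inv, hx]
      simpa [mul_assoc] using ha
  have hX : y⁻¹ * x ∈ B ⊔ A :=
    conjBy_le le_sup_right (mem_sup_left (inv_mem hb)) hxm
  have hz := hcen (y⁻¹ * x) ⟨hX, Subgroup.mem_centralizer_iff.2 fun n hn => (hfix n hn).symm⟩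
  have hp := isRankOnePair_conj b⁻¹ hAB
  have h1 : y⁻¹ * x = 1 := mem_center_of_normalizer hp hxm fun d hd =>
    hz d (conjBy_le le_sup_left (mem_sup_left (inv_mem hb)) hd)
  exact (inv_mul_eq_one.1 h1).symm

variable (hS : IsRootSubgroupClass S) (hnd : IsNondegenerateRootSet S)
include hS hnd

theorem nondegenerate_special {A B : Subgroup G} (hA : A ∈ S) (hB : B ∈ rankOnePartners S A) :
    (∃ C ∈ linePartners S A, C ∈ commutatorPartners S B) ∧ IsSpecialRankOnePair A B := by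
  obtain ⟨hBS, hAB⟩ := hB
  obtain ⟨P, hP, Q, hQ, hPQ⟩ := exists_commutator hS hnd hA
  obtain ⟨q, hq, hBC, hAF⟩ := exists_path hS hnd hA hBS hAB hP hQ hPQ
  obtain ⟨-, -, -, -, hd⟩ := line_facts hS hnd hA hP hQ hPQ
  have hE := hS.1.conj_mem P hP q
  have hl := (line_facts hS hnd hA hE hQ (hd q hq)).1
  exact ⟨⟨_, hl, hE, hBC.1⟩, special_of_line hS.1 hA hBS hAB hE hBC hAF hl.1.2.2⟩

end CfsgLib.Trans3.RankOne
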