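import Mathlib.LinearAlgebra.Matrix.SpecialLinearGroup
import Mathlib.FieldTheory.Finite.Basic

/-!
# A homomorphism out of `SL₂(F)`, `F` finite, from the rank one relations

Two additive one-parameter families `u`, `v` in a group `G` satisfying the braid relation and the
Weyl element conjugation rules define a homomorphism `SL₂(F) →* G`.
-/

set_option autoImplicit false

namespace CfsgLib.Trans3.SL2Rel

variable {F : Type*} [Field F] {G : Type*} [Group G]

/-- The Weyl element `u t * v (-t⁻¹) * u t`. -/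
def wel (u v : F → G) (t : F) : G := u t * v (-t⁻¹) * u t

/-- The rank one relations. -/
structure Rel (u v : F → G) : Prop where
  u_add : ∀ x y, u (x + y) = u x * u y
  v_add : ∀ x y, v (x + y) = v x * v y
  braid : ∀ t, t ≠ 0 → u t * v (-t⁻¹) * u t = v (-t⁻¹) * u t * v (-t⁻¹)
  conj_u : ∀ t, t ≠ 0 → ∀ x, wel u v t * u x * (wel u v t)⁻¹ = v (-(x / t ^ 2))
  conj_v : ∀ t, t ≠ 0 → ∀ x, wel u v t * v x * (wel u v t)⁻¹ = u (-(t ^ 2 * x))

variable {u v : F → G} (R : Rel u v)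
include R

theorem u_zero : u 0 = 1 := by
  have h := R.u_add 0 0
  rw [add_zero] at h
  exact left_eq_mul.1 h

theorem v_zero : v 0 = 1 := by
  have h := R.v_add 0 0
  rw [add_zero] at h
  exact left_eq_mul.1 h

theorem u_neg (x : F) : u (-x) = (u x)⁻¹ :=
  eq_inv_of_mul_eq_one_right (by rw [← R.u_add, add_neg_cancel, u_zero R])

theorem v_neg (x : F) : v (-x) = (v x)⁻¹ :=
  eq_inv_of_mul_eq_one_right (by rw [← R.v_add, add_neg_cancel, v_zero R])

theorem wel_inv (t : F) : (wel u v t)⁻¹ = wel u v (-t) := by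
  simp only [wel, mul_inv_rev, ← u_neg R, ← v_neg R, inv_neg, neg_neg, mul_assoc]

theorem wel_conj {s t : F} (hs : s ≠ 0) (ht : t ≠ 0) :
    wel u v s * wel u v t * (wel u v s)⁻¹ = wel u v (s ^ 2 / t) := by
  have h : wel u v s * wel u v t * (wel u v s)⁻¹ =
      (wel u v s * u t * (wel u v s)⁻¹) * (wel u v s * v (-t⁻¹) * (wel u v s)⁻¹) *
        (wel u v s * u t * (wel u v s)⁻¹) := by
    conv_lhs => rw [show wel u v t = u t * v (-t⁻¹) * u t from rfl]
    group
  have h0 : s ^ 2 / t ≠ 0 := div_ne_zero (pow_ne_zero 2 hs) ht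
  rw [h, R.conj_u s hs, R.conj_v s hs]
  show _ = u (s ^ 2 / t) * v (-(s ^ 2 / t)⁻¹) * u (s ^ 2 / t)
  rw [R.braid _ h0, inv_div, show -(s ^ 2 * -t⁻¹) = s ^ 2 / t by ring]

theorem sq_commute_u {t : F} (ht : t ≠ 0) (x : F) : Commute (wel u v t * wel u v t) (u x) := by
  have h1 := R.conj_v t ht (-(x / t ^ 2))
  rw [← R.conj_u t ht x, show -(t ^ 2 * -(x / t ^ 2)) = x by field_simp] at h1
  refine mul_inv_eq_iff_eq_mul.1 ?_
  rw [mul_inv_rev]
  simpa [mul_assoc] using h1

theorem sq_commute_v {t : F} (ht : t ≠ 0) (x : F) : Commute (wel u v t * wel u v t) (v x) := by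
  have h1 := R.conj_u t ht (-(t ^ 2 * x))
  rw [← R.conj_v t ht x, show -(-(t ^ 2 * x) / t ^ 2) = x by field_simp] at h1
  refine mul_inv_eq_iff_eq_mul.1 ?_
  rw [mul_inv_rev]
  simpa [mul_assoc] using h1

theorem sq_commute_wel {t : F} (ht : t ≠ 0) (s : F) :
    Commute (wel u v t * wel u v t) (wel u v s) :=
  ((sq_commute_u R ht s).mul_right (sq_commute_v R ht _)).mul_right (sq_commute_u R ht s)

theorem sq_div {s t : F} (hs : s ≠ 0) (ht : t ≠ 0) :
    wel u v (s ^ 2 / t) * wel u v (s ^ 2 / t) = wel u v t * wel u v t := by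
  rw [← wel_conj R hs ht,
    show wel u v s * wel u v t * (wel u v s)⁻¹ * (wel u v s * wel u v t * (wel u v s)⁻¹)
      = wel u v s * (wel u v t * wel u v t) * (wel u v s)⁻¹ by group,
    ← (sq_commute_wel R ht s).eq, mul_inv_cancel_right]

theorem sq_mul_sq {s t : F} (hs : s ≠ 0) (ht : t ≠ 0) :
    wel u v (t * s ^ 2) * wel u v (t * s ^ 2) = wel u v t * wel u v t := by
  have h1 := sq_div R (s := s) hs (inv_ne_zero ht)
  rw [div_inv_eq_mul, mul_comm] at h1
  have h2 := sq_div R (s := (1 : F)) one_ne_zero ht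
  rw [one_pow, one_div] at h2
  exact h1.trans h2

theorem triple {a b : F} (ha : a ≠ 0) (hb : b ≠ 0) (hab : a + b ≠ 0) :
    wel u v a * wel u v (-(a + b)) * wel u v b = wel u v (a * b / (a + b)) := by
  have hq : -(a + b) ≠ 0 := neg_ne_zero.2 hab
  have expand : ∀ r : F, v (-r⁻¹) = u (-r) * wel u v r * u (-r) := by
    intro r; rw [u_neg R]; show v (-r⁻¹) = (u r)⁻¹ * (u r * v (-r⁻¹) * u r) * (u r)⁻¹; group
  have hg : a * b / (a + b) ≠ 0 := div_ne_zero (mul_ne_zero ha hb) hab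
  have h1 : u (-(a + b)) = v (-(a + b))⁻¹ * wel u v (-(a + b)) * v (-(a + b))⁻¹ := by
    rw [wel, R.braid _ hq, v_neg R]; group
  have h2 : wel u v a * v (-(a + b))⁻¹ =
      u (-(a ^ 2 * (-(a + b))⁻¹)) * wel u v a := by
    rw [← R.conj_v a ha]; group
  have h3 : v (-(a + b))⁻¹ * wel u v b = wel u v b * u (-(b ^ 2 * (-(a + b))⁻¹)) := by
    have h := R.conj_u b hb (-(b ^ 2 * (-(a + b))⁻¹))
    rw [show -(-(b ^ 2 * (-(a + b))⁻¹) / b ^ 2) = (-(a + b))⁻¹ by field_simp] at h
    rw [← h]; group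
  have key : v (-a⁻¹) * v (-b⁻¹) = v (-(a * b / (a + b))⁻¹) := by
    rw [← R.v_add]; congr 1; field_simp; ring
  rw [expand, expand, expand] at key
  have e : u (-a) * wel u v a * u (-a) * (u (-b) * wel u v b * u (-b)) =
      u (-a + -(a ^ 2 * (-(a + b))⁻¹)) * (wel u v a * wel u v (-(a + b)) * wel u v b) *
        u (-(b ^ 2 * (-(a + b))⁻¹) + -b) := by
    calc u (-a) * wel u v a * u (-a) * (u (-b) * wel u v b * u (-b))
        = u (-a) * wel u v a * (u (-a) * u (-b)) * wel u v b * u (-b) := by group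
      _ = u (-a) * (wel u v a * v (-(a + b))⁻¹) * wel u v (-(a + b)) *
            (v (-(a + b))⁻¹ * wel u v b) * u (-b) := by
          rw [← R.u_add, show -a + -b = -(a + b) by ring, h1]; group
      _ = _ := by rw [h2, h3, R.u_add, R.u_add]; group
  have e1 : -a + -(a ^ 2 * (-(a + b))⁻¹) = -(a * b / (a + b)) := by field_simp; ring
  have e2 : -(b ^ 2 * (-(a + b))⁻¹) + -b = -(a * b / (a + b)) := by field_simp; ring
  rw [e, e1, e2] at key
  exact mul_left_cancel (mul_right_cancel key)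

variable [Fintype F]

omit R in
theorem exists_generator : ∃ g : F, g ≠ 0 ∧ ∀ P : F → Prop, P 1 → (∀ t, t ≠ 0 → P t → P (g * t)) →
    ∀ t, t ≠ 0 → P t := by
  obtain ⟨g, hg⟩ := IsCyclic.exists_monoid_generator (α := Fˣ)
  refine ⟨g, g.ne_zero, fun P h1 hs t ht => ?_⟩
  obtain ⟨n, hn⟩ := Submonoid.mem_powers_iff _ _ |>.1 (hg (Units.mk0 t ht))
  have : ∀ n : ℕ, P ((g : F) ^ n) := by
    intro n
    induction n with
    | zero => simpa using h1
    | succ n ih => rw [pow_succ']; exact hs _ (pow_ne_zero _ g.ne_zero) ih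
  rw [show t = (g : F) ^ n by rw [← Units.val_pow_eq_pow_val, hn]; rfl]
  exact this n

omit R in
theorem exists_sq_add_sq (t : F) : ∃ a b : F, a ^ 2 + b ^ 2 = t := by
  classical
  by_cases h2 : ringChar F = 2
  · obtain ⟨a, ha⟩ := FiniteField.isSquare_of_char_two h2 t
    exact ⟨a, 0, by rw [ha]; ring⟩
  · obtain ⟨a, b, hab⟩ := FiniteField.exists_root_sum_quadratic
      (f := (Polynomial.X : Polynomial F) ^ 2) (g := Polynomial.X ^ 2 - Polynomial.C t)
      (Polynomial.degree_X_pow 2) (Polynomial.degree_X_pow_sub_C (by norm_num) t)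
      (FiniteField.odd_card_of_char_ne_two h2)
    refine ⟨a, b, ?_⟩
    simp only [Polynomial.eval_pow, Polynomial.eval_X, Polynomial.eval_sub, Polynomial.eval_C] at hab
    linear_combination hab

theorem sq_eq {t : F} (ht : t ≠ 0) : wel u v t * wel u v t = wel u v 1 * wel u v 1 := by
  obtain ⟨g, hg, hind⟩ := exists_generator (F := F)
  let z : F → G := fun t => wel u v t * wel u v t
  have hzc : ∀ {t : F}, t ≠ 0 → ∀ s, Commute (z t) (wel u v s) := fun ht s => sq_commute_wel R ht s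
  have hgt : ∀ {t : F}, t ≠ 0 → g * t ≠ 0 := fun h => mul_ne_zero hg h
  have hm : ∀ t, t ≠ 0 → wel u v (g * t) * wel u v t = wel u v g * wel u v 1 := by
    refine hind _ (by rw [mul_one]) fun t ht ih => ?_
    rw [← ih]
    have h := wel_conj R (hgt ht) ht
    rw [show (g * t) ^ 2 / t = g * (g * t) by field_simp, mul_inv_eq_iff_eq_mul] at h
    exact h.symm
  have hE : ∀ t, t ≠ 0 → wel u v (g * t) = wel u v g * wel u v 1 * (wel u v t)⁻¹ := fun t ht => by
    rw [← hm t ht, mul_inv_cancel_right]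
  have hmc : ∀ {t : F}, t ≠ 0 → Commute (z t) (wel u v g * wel u v 1) := fun ht =>
    (hzc ht g).mul_right (hzc ht 1)
  have hstep : ∀ s t, s ≠ 0 → t ≠ 0 →
      wel u v (g * t) * wel u v (g * (t * s ^ 2)) =
        z (g * t) * (z t)⁻¹ * (wel u v t * wel u v (t * s ^ 2)) := by
    intro s t hs ht
    have hts : t * s ^ 2 ≠ 0 := mul_ne_zero ht (pow_ne_zero 2 hs)
    have hmt := hm t ht
    have h1 : (wel u v t)⁻¹ * (wel u v g * wel u v 1) =
        z (g * t) * (z t) * (wel u v g * wel u v 1)⁻¹ * (wel u v t)⁻¹ := by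
      rw [← hmt, mul_inv_rev]
      have e1 : (wel u v t)⁻¹ = (z t)⁻¹ * wel u v t := by simp [z, mul_assoc]
      have e2 : wel u v (g * t) = z (g * t) * (wel u v (g * t))⁻¹ := by simp [z, mul_assoc]
      calc (wel u v t)⁻¹ * (wel u v (g * t) * wel u v t)
          = (wel u v t)⁻¹ * wel u v (g * t) * wel u v t := by group
        _ = (wel u v t)⁻¹ * (z (g * t) * (wel u v (g * t))⁻¹) * wel u v t := by rw [← e2]
        _ = z (g * t) * ((wel u v t)⁻¹ * ((wel u v (g * t))⁻¹ * wel u v t)) := by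
            rw [← mul_assoc (wel u v t)⁻¹, ((hzc (hgt ht) t).inv_right).symm.eq]; group
        _ = z (g * t) * (z t) * ((wel u v t)⁻¹ * (wel u v (g * t))⁻¹) * (wel u v t)⁻¹ := by
            have hc : Commute (z t) ((wel u v t)⁻¹ * (wel u v (g * t))⁻¹) :=
              (hzc ht t).inv_right.mul_right (hzc ht _).inv_right
            rw [mul_assoc (z (g * t)) (z t), hc.eq]
            simp [z, mul_assoc]
    rw [hE t ht, hE _ hts]
    calc wel u v g * wel u v 1 * (wel u v t)⁻¹ * (wel u v g * wel u v 1 * (wel u v (t * s ^ 2))⁻¹)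
        = wel u v g * wel u v 1 * ((wel u v t)⁻¹ * (wel u v g * wel u v 1)) *
            (wel u v (t * s ^ 2))⁻¹ := by group
      _ = (wel u v g * wel u v 1) * (z (g * t) * z t) * (wel u v g * wel u v 1)⁻¹ *
            (wel u v t)⁻¹ * (wel u v (t * s ^ 2))⁻¹ := by rw [h1]; group
      _ = z (g * t) * z t * (wel u v t)⁻¹ * (wel u v (t * s ^ 2))⁻¹ := by
          rw [← ((hmc (hgt ht)).mul_left (hmc ht)).eq, mul_inv_cancel_right]
      _ = _ := by
          have e3 : (wel u v (t * s ^ 2))⁻¹ = (z t)⁻¹ * wel u v (t * s ^ 2) := by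
            rw [show z t = wel u v (t * s ^ 2) * wel u v (t * s ^ 2) from (sq_mul_sq R hs ht).symm]
            group
          have e4 : z t * (wel u v t)⁻¹ = wel u v t := by simp [z, mul_assoc]
          rw [e3, mul_assoc (z (g * t)) (z t), e4, ← mul_assoc, mul_assoc (z (g * t)) (wel u v t),
            ← ((hzc ht t).inv_left).eq]
          group
  have hM : ∀ s, s ≠ 0 → ∀ t, t ≠ 0 →
      wel u v t * wel u v (t * s ^ 2) = z t * (z 1)⁻¹ * (wel u v 1 * wel u v (s ^ 2)) := by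
    intro s hs
    refine hind _ (by simp) fun t ht ih => ?_
    rw [mul_assoc g t, hstep s t hs ht, ih]
    group
  rcases em (∃ s : F, t = s ^ 2) with ⟨s, rfl⟩ | hns
  · have := sq_mul_sq R (s := s) (fun h => ht (by rw [h]; simp)) (one_ne_zero : (1 : F) ≠ 0)
    rwa [one_mul] at this
  obtain ⟨a, b, hab⟩ := exists_sq_add_sq t
  have ha : a ≠ 0 := fun h => hns ⟨b, by rw [← hab, h]; ring⟩
  have hb : b ≠ 0 := fun h => hns ⟨a, by rw [← hab, h]; ring⟩
  have hs : b / a ≠ 0 := div_ne_zero hb ha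
  have hsum : 1 + (b / a) ^ 2 ≠ 0 := fun h => ht (by
    rw [← hab, show a ^ 2 + b ^ 2 = a ^ 2 * (1 + (b / a) ^ 2) by field_simp, h, mul_zero])
  have htr := triple R one_ne_zero (pow_ne_zero 2 hs) hsum
  rw [one_mul] at htr
  obtain ⟨r, hr⟩ : ∃ r, (1 + (b / a) ^ 2)⁻¹ = r := ⟨_, rfl⟩
  have hr0 : r ≠ 0 := hr ▸ inv_ne_zero hsum
  have hconj : wel u v 1 * wel u v (-(1 + (b / a) ^ 2)) = (wel u v r)⁻¹ * wel u v 1 := by
    have h := wel_conj R one_ne_zero (neg_ne_zero.2 hsum)
    rw [one_pow, div_neg, one_div, hr, mul_inv_eq_iff_eq_mul] at h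
    rw [wel_inv R r]
    exact h
  rw [hconj, show (b / a) ^ 2 / (1 + (b / a) ^ 2) = r * (b / a) ^ 2 by rw [← hr]; ring,
    mul_assoc, inv_mul_eq_iff_eq_mul] at htr
  have h2 := hM _ hs r hr0
  rw [← htr, right_eq_mul, mul_inv_eq_one] at h2
  have h3 : z r = z t := by
    have h4 := sq_mul_sq R (s := a⁻¹) (inv_ne_zero ha) ht
    have h5 := sq_div R (s := (1 : F)) one_ne_zero hsum
    rw [one_pow, one_div, hr] at h5
    rw [show t * a⁻¹ ^ 2 = 1 + (b / a) ^ 2 by rw [← hab]; field_simp] at h4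
    exact h5.trans h4
  exact h3.symm.trans h2

/-- The torus element. -/
theorem tor_mul {s t : F} (hs : s ≠ 0) (ht : t ≠ 0) :
    wel u v (s * t) * (wel u v 1)⁻¹ =
      (wel u v s * (wel u v 1)⁻¹) * (wel u v t * (wel u v 1)⁻¹) := by
  obtain ⟨g, hg, hind⟩ := exists_generator (F := F)
  let H : F → G := fun x => wel u v x * (wel u v 1)⁻¹
  have hm : ∀ t, t ≠ 0 → wel u v (g * t) * wel u v t = wel u v g * wel u v 1 := by
    refine hind _ (by rw [mul_one]) fun t ht ih => ?_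
    rw [← ih]
    have h := wel_conj R (mul_ne_zero hg ht) ht
    rw [show (g * t) ^ 2 / t = g * (g * t) by field_simp, mul_inv_eq_iff_eq_mul] at h
    exact h.symm
  have hstep : ∀ t, t ≠ 0 → H (g * t) = H g * H t := by
    intro t ht
    have e : wel u v (g * t) = wel u v g * wel u v 1 * (wel u v t)⁻¹ := by
      rw [← hm t ht, mul_inv_cancel_right]
    have e2 : (wel u v t)⁻¹ = (wel u v 1)⁻¹ * (wel u v 1)⁻¹ * wel u v t := by
      rw [← mul_inv_rev, ← sq_eq R ht]; group
    simp only [H]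
    rw [e, e2]; group
  have hall : ∀ s, s ≠ 0 → ∀ t, t ≠ 0 → H (s * t) = H s * H t := by
    refine hind _ (fun t _ => by simp [H]) fun s hs ih t ht => ?_
    rw [mul_assoc, hstep _ (mul_ne_zero hs ht), ih t ht, hstep s hs]
    simp only [H]; group
  exact hall s hs t ht

end CfsgLib.Trans3.SL2Rel
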