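import Cfsg.Agent.Lib.Trans3.AffineFiftyFour
import Cfsg.Agent.Lib.Geom.UThreeTwo
import Cfsg.Agent.Lib.Classical.SUCenter
import Cfsg.Agent.S0277
import Mathlib

/-!
The derived group of `SU_3(2)` has order 54, is generated by three involutions with the relations
of `CfsgLib.Trans3.Fifty.Rel` and has a central element of order three.
-/

set_option autoImplicit false

namespace CfsgLib.Trans3.Fifty

open CfsgLib.Geom.UThreeTwo
open scoped commutatorElement

/-- Parameters for the 216 elements. -/
abbrev SUPar : Type := QuaternionGroup 2 × (ZMod 3 × ZMod 3) × Fin 3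

def root (k : Fin 3) : Four := ![(1, 0), (0, 1), (1, 1)] k

def parMat (t : SUPar) : Mat := scal (root t.2.2) (mmul (quat t.1) (nine t.2.1))

def enc1 (x : Four) : ℕ := x.1.val * 2 + x.2.val

def enc (A : Mat) : ℕ :=
  [enc1 (A 0 0), enc1 (A 0 1), enc1 (A 0 2), enc1 (A 1 0), enc1 (A 1 1), enc1 (A 1 2),
    enc1 (A 2 0), enc1 (A 2 1), enc1 (A 2 2)].foldl (fun a b => 4 * a + b) 0

def qList : List (QuaternionGroup 2) :=
  [.a 0, .a 1, .a 2, .a 3, .xa 0, .xa 1, .xa 2, .xa 3]

def xList : List (ZMod 3 × ZMod 3) :=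
  [(0, 0), (0, 1), (0, 2), (1, 0), (1, 1), (1, 2), (2, 0), (2, 1), (2, 2)]

def parList : List SUPar :=
  qList ×ˢ (xList ×ˢ [0, 1, 2])

theorem mem_parList (t : SUPar) : t ∈ parList := by
  have h1 : ∀ q, q ∈ qList := by decide +kernel
  have h2 : ∀ x, x ∈ xList := by decide +kernel
  have h3 : ∀ k : Fin 3, k ∈ ([0, 1, 2] : List (Fin 3)) := by decide
  obtain ⟨q, x, k⟩ := t
  exact List.pair_mem_product.2 ⟨h1 q, List.pair_mem_product.2 ⟨h2 x, h3 k⟩⟩

theorem parMat_nodup : (parList.map fun t => enc (parMat t)).Nodup := by decide +kernel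

theorem parMat_injective : Function.Injective parMat := fun t u h =>
  List.inj_on_of_nodup_map parMat_nodup (mem_parList t) (mem_parList u) (congrArg enc h)

theorem root_mul : ∀ k l, ∃ m, fmul (root k) (root l) = root m := by decide +kernel

theorem nine_mul_root : ∀ x y, ∃ k, mmul (nine x) (nine y) = scal (root k) (nine (x + y)) := by
  decide +kernel

theorem nine_quat_root : ∀ x q, ∃ y k,
    mmul (nine x) (quat q) = scal (root k) (mmul (quat q) (nine y)) := by
  decide +kernel

/-- Image of an element in the largest elementary abelian quotient of the quaternion group. -/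
def qClass : QuaternionGroup 2 → ZMod 2 × ZMod 2
  | .a i => ((i.val : ZMod 2), 0)
  | .xa i => ((i.val : ZMod 2), 1)

theorem qClass_mul : ∀ p q, qClass (p * q) = qClass p + qClass q := by decide +kernel

theorem qClass_eq_zero : ∀ q, qClass q = 0 → q = .a 0 ∨ q = .a 2 := by decide +kernel

set_option maxHeartbeats 1000000 in
/-- The derived group of `SU_3(2)`. -/
theorem exists_rel_commutator_su_three_two {F : Type*} [Field F] [Fintype F]
    (hF : Fintype.card F = 4) :
    Nat.card (commutator (Cfsg.SU 3 F 2)) = 54 ∧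
    (∃ a b c : commutator (Cfsg.SU 3 F 2), Rel a b c ∧ Subgroup.closure {a, b, c} = ⊤) ∧
    ∃ z ∈ Subgroup.center (commutator (Cfsg.SU 3 F 2)), orderOf z = 3 := by
  classical
  have key : ∀ x y : Four, x ≠ y → ∃ z, fmul (x - y) z = (1, 0) := by decide +kernel
  have h2 : (2 : F) = 0 := by
    have h := FiniteField.cast_card_eq_zero F
    rw [hF, Nat.cast_ofNat, show (4 : F) = 2 * 2 by norm_num] at h
    exact mul_self_eq_zero.1 h
  obtain ⟨w, hw⟩ : ∃ w : F, w * w = w + 1 := by
    have hlt : ({0, 1} : Finset F).card < Fintype.card F := by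
      rw [hF]; exact lt_of_le_of_lt Finset.card_le_two (by norm_num)
    obtain ⟨w, hw⟩ := Finset.exists_mem_notMem_of_card_lt_card (s := ({0, 1} : Finset F))
      (t := Finset.univ) hlt
    have hw0 : w ≠ 0 := fun e => hw.2 (by simp [e])
    have hw1 : w - 1 ≠ 0 := fun e => hw.2 (by simp [sub_eq_zero.1 e])
    have h3 : w ^ 3 = 1 := by
      have h := FiniteField.pow_card_sub_one_eq_one w hw0
      rwa [hF] at h
    refine ⟨w, mul_left_cancel₀ hw1 ?_⟩
    linear_combination h3 - (w * w - 1) * h2
  have : Fact (Nat.Prime 2) := ⟨Nat.prime_two⟩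
  have : CharP F 2 := by
    refine ringChar.of_eq ?_
    exact ((Nat.dvd_prime Nat.prime_two).1 ((ringChar.spec F 2).1 (by exact_mod_cast h2))).resolve_left
      CharP.ringChar_ne_one
  let ι : ZMod 2 →+* F := ZMod.castHom (dvd_refl 2) F
  let ev : Four → F := fun x => ι x.1 + ι x.2 * w
  have eadd : ∀ x y, ev (x + y) = ev x + ev y := fun x y => by simp [ev]; ring
  have emul : ∀ x y, ev (fmul x y) = ev x * ev y := fun x y => by
    simp [ev, fmul]; linear_combination -(ι x.2 * ι y.2) * hw
  have ev1 : ev (1, 0) = 1 := by simp [ev]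
  let evM : Mat → Matrix (Fin 3) (Fin 3) F := fun A => Matrix.of fun i j => ev (A i j)
  have emm : ∀ A B, evM (mmul A B) = evM A * evM B := fun A B => by
    ext i j
    simp [evM, mmul, Matrix.mul_apply, Fin.sum_univ_three, eadd, emul]
  have esc : ∀ c A, evM (scal c A) = ev c • evM A := fun c A => by
    ext i j
    simp [evM, scal, emul]
  have e1 : evM one = 1 := by
    ext i j
    fin_cases i <;> fin_cases j <;> simp [evM, one, mat, ev]
  have evinj : Function.Injective ev := by
    intro x y e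
    by_contra hne
    obtain ⟨z, hz⟩ := key x y hne
    have := congrArg ev hz
    rw [emul, ev1] at this
    have hsub : ev (x - y) = 0 := by
      have := eadd (x - y) y
      rw [sub_add_cancel, e] at this
      simpa using this
    rw [hsub, zero_mul] at this
    exact zero_ne_one this
  have evMinj : Function.Injective evM := fun A B e => funext fun i => funext fun j =>
    evinj (congrFun (congrFun e i) j)
  have hdet : ∀ A, IsUnitary A → (evM A).det = 1 := fun A hA => by
    have h := congrArg ev hA.2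
    simp only [eadd, emul, ev1] at h
    rw [Matrix.det_fin_three]
    simp only [evM, Matrix.of_apply]
    linear_combination h - (ev (A 0 2) * ev (A 1 1) * ev (A 2 0) + ev (A 0 0) * ev (A 1 2) * ev (A 2 1) +
      ev (A 0 1) * ev (A 1 0) * ev (A 2 2)) * h2
  have hF2 : Fintype.card F = 2 ^ 2 := by rw [hF]; rfl
  let X : {A // IsUnitary A} → Cfsg.SU 3 F 2 := fun A => ⟨⟨evM A.1, hdet _ A.2⟩, by
    refine (CfsgLib.Classical.mem_su_iff hF2 _).2 ?_
    ext i j
    have h := congrArg ev (A.2.1 i j)
    simp only [eadd, fsq, emul] at h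
    rw [← e1]
    show ∑ k, evM A.1 k i * CfsgLib.Classical.qFrob hF2 (evM A.1 k j) = _
    simp only [CfsgLib.Classical.qFrob_apply, Fin.sum_univ_three, evM, Matrix.of_apply]
    linear_combination h⟩
  let coeM : Cfsg.SU 3 F 2 → Matrix (Fin 3) (Fin 3) F := fun g => g.1.1
  have coeM_inj : Function.Injective coeM := fun g g' e => Subtype.ext (Subtype.ext e)
  have coeM_mul : ∀ g g', coeM (g * g') = coeM g * coeM g' := fun g g' => rfl
  have coeM_one : coeM 1 = 1 := rfl
  have hscalar : ∀ k, IsUnitary (scal (root k) one) := by unfold IsUnitary; decide +kernel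
  let Xq : QuaternionGroup 2 → Cfsg.SU 3 F 2 := fun q => X ⟨_, quat_unitary q⟩
  let Xn : ZMod 3 × ZMod 3 → Cfsg.SU 3 F 2 := fun x => X ⟨_, nine_unitary x⟩
  let Xs : Fin 3 → Cfsg.SU 3 F 2 := fun k => X ⟨_, hscalar k⟩
  let f : SUPar → Cfsg.SU 3 F 2 := fun t => Xq t.1 * Xn t.2.1 * Xs t.2.2
  have hf : ∀ t, coeM (f t) = evM (parMat t) := fun t => by
    show evM _ * evM _ * evM _ = _
    rw [esc, e1, parMat, esc, emm, Matrix.mul_smul, mul_one]
  have finj : Function.Injective f := fun t u e =>
    parMat_injective (evMinj (by rw [← hf, ← hf, e]))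
  have hcard : Nat.card (Cfsg.SU 3 F 2) = 216 := by
    have h := CfsgLib.Classical.card_su_mul (F := F) (q := 2) hF2 (n := 3) (by norm_num)
    rw [Cfsg.Agent.S0277.result hF2 3] at h
    norm_num [Finset.prod_range_succ, Nat.even_iff] at h
    exact Nat.eq_of_mul_eq_mul_left (n := 3) (by norm_num) (by
      rw [← Nat.card_eq_fintype_card] at h; rw [h])
  have : Finite (Cfsg.SU 3 F 2) := inferInstance
  have fbij : Function.Bijective f :=
    (Nat.bijective_iff_injective_and_card f).2 ⟨finj, by
      rw [hcard]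
      simp [Nat.card_eq_fintype_card, QuaternionGroup.card]⟩
  have hXq1 : Xq 1 = 1 := coeM_inj (by
    show evM _ = 1; exact (congrArg evM quat_one).trans e1)
  -- multiplication of parameters
  have fmul' : ∀ t u, ∃ v, v.1 = t.1 * u.1 ∧ f t * f u = f v := by
    intro t u
    obtain ⟨y, k, hy⟩ := nine_quat_root t.2.1 u.1
    obtain ⟨l, hl⟩ := nine_mul_root y u.2.1
    obtain ⟨m1, hm1⟩ := root_mul t.2.2 u.2.2
    obtain ⟨m2, hm2⟩ := root_mul m1 k
    obtain ⟨m, hm⟩ := root_mul m2 l
    refine ⟨(t.1 * u.1, y + u.2.1, m), rfl, coeM_inj ?_⟩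
    have hy' := congrArg evM hy
    have hl' := congrArg evM hl
    simp only [emm, esc] at hy' hl'
    rw [coeM_mul, hf, hf, hf]
    simp only [parMat, esc, emm, ← hm, ← hm2, ← hm1, emul, ← quat_mul, Matrix.smul_mul,
      Matrix.mul_smul, smul_smul]
    rw [show evM (quat t.1) * evM (nine t.2.1) * (evM (quat u.1) * evM (nine u.2.1)) =
        evM (quat t.1) * ((evM (nine t.2.1) * evM (quat u.1)) * evM (nine u.2.1)) by
      simp only [mul_assoc], hy']
    simp only [Matrix.smul_mul, Matrix.mul_smul, smul_smul, mul_assoc, hl']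
    congr 1
    ring
  -- the homomorphism to the Klein four group
  let e := Equiv.ofBijective f fbij
  let χ : Cfsg.SU 3 F 2 →* Multiplicative (ZMod 2 × ZMod 2) :=
    MonoidHom.mk' (fun g => Multiplicative.ofAdd (qClass (e.symm g).1)) fun g h => by
      obtain ⟨v, hv, hgh⟩ := fmul' (e.symm g) (e.symm h)
      have hg : f (e.symm g) = g := e.apply_symm_apply g
      have hh : f (e.symm h) = h := e.apply_symm_apply h
      rw [hg, hh] at hgh
      have : e.symm (g * h) = v := e.symm_apply_eq.2 hgh
      rw [this, hv, qClass_mul, ofAdd_add]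
  have hcomm : commutator (Cfsg.SU 3 F 2) ≤ χ.ker := Abelianization.commutator_subset_ker χ
  -- generators
  let a0 : Mat := quat (.a 2)
  let b0 : Mat := mmul a0 (nine (1, 0))
  let c0 : Mat := mmul a0 (nine (0, 1))
  have relM : mmul a0 a0 = one ∧ mmul b0 b0 = one ∧ mmul c0 c0 = one ∧
      mmul (mmul (mmul a0 b0) (mmul a0 b0)) (mmul a0 b0) = one ∧
      mmul (mmul (mmul b0 c0) (mmul b0 c0)) (mmul b0 c0) = one ∧
      mmul (mmul (mmul c0 a0) (mmul c0 a0)) (mmul c0 a0) = one ∧
      mmul (mmul (mmul a0 (mmul (mmul b0 c0) b0)) (mmul a0 (mmul (mmul b0 c0) b0)))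
        (mmul a0 (mmul (mmul b0 c0) b0)) = one := by decide +kernel
  set A := Xq (.a 2) with hAdef
  set N1 := Xn (1, 0) with hN1
  set N2 := Xn (0, 1) with hN2
  set B := A * N1 with hBdef
  set C' := A * N2 with hCdef
  have cA : coeM A = evM a0 := rfl
  have cB : coeM B = evM b0 := (emm _ _).symm
  have cC : coeM C' = evM c0 := (emm _ _).symm
  have hrel : Rel A B C' := by
    obtain ⟨r1, r2, r3, r4, r5, r6, r7⟩ := relM
    constructor <;> apply coeM_inj <;>
      simp only [pow_succ, pow_zero, one_mul, coeM_mul, coeM_one, cA, cB, cC, ← emm, ← e1] <;>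
      apply congrArg evM
    exacts [r1, r2, r3, r4, r5, r6, r7]
  set K := Subgroup.closure ({A, B, C'} : Set (Cfsg.SU 3 F 2)) with hK
  have memA : A ∈ K := Subgroup.subset_closure (by simp)
  have memN1 : N1 ∈ K := by
    have : A * B = N1 := by rw [hBdef, ← mul_assoc, hrel.ha, one_mul]
    exact this ▸ mul_mem memA (Subgroup.subset_closure (by simp))
  have memN2 : N2 ∈ K := by
    have : A * C' = N2 := by rw [hCdef, ← mul_assoc, hrel.ha, one_mul]
    exact this ▸ mul_mem memA (Subgroup.subset_closure (by simp))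
  have hA : A ∈ commutator (Cfsg.SU 3 F 2) := by
    rw [commutator_eq_closure]
    refine Subgroup.subset_closure ⟨Xq (.a 1), Xq (.xa 0), ?_⟩
    rw [commutatorElement_def]
    have hq : ∀ p q, Xq p * Xq q = Xq (p * q) := fun p q => coeM_inj (by
      rw [coeM_mul]; show evM _ * evM _ = evM _; rw [← emm, quat_mul])
    have hqi : ∀ p, (Xq p)⁻¹ = Xq p⁻¹ := fun p => inv_eq_of_mul_eq_one_right (coeM_inj (by
      rw [hq, mul_inv_cancel, hXq1]))
    rw [hqi, hqi, hq, hq, hq, hAdef]
    congr 1
  have hinvN : ∀ N : Cfsg.SU 3 F 2, (A * N) * (A * N) = 1 → N ^ 3 = 1 →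
      N ∈ commutator (Cfsg.SU 3 F 2) := by
    intro N h1 h3
    have e1' : A * N * A = N⁻¹ := eq_inv_of_mul_eq_one_left (by rw [← h1]; group)
    have e2 : ⁅A, N⁆ = N := by
      rw [commutatorElement_def, inv_eq_self' hrel.ha, e1']
      have : N * N * N = 1 := by rw [← h3, pow_succ, pow_two]
      calc N⁻¹ * N⁻¹ = N⁻¹ * N⁻¹ * (N * N * N) := by rw [this, mul_one]
        _ = N := by group
    rw [← e2]
    exact Subgroup.commutator_mem_commutator (Subgroup.mem_top _) (Subgroup.mem_top _)
  have hN1mem : N1 ∈ commutator (Cfsg.SU 3 F 2) := hinvN N1 hrel.hb (by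
    have := hrel.hab; rwa [hBdef, ← mul_assoc, hrel.ha, one_mul] at this)
  have hN2mem : N2 ∈ commutator (Cfsg.SU 3 F 2) := hinvN N2 hrel.hc (by
    have := congrArg (·⁻¹) hrel.hca
    simp only [← inv_pow, mul_inv_rev, inv_eq_self' hrel.ha, inv_eq_self' hrel.hc, inv_one] at this
    rwa [hCdef, ← mul_assoc, hrel.ha, one_mul] at this)
  have hKle : K ≤ commutator (Cfsg.SU 3 F 2) := by
    rw [hK, Subgroup.closure_le]
    rintro x (rfl | rfl | rfl)
    exacts [hA, mul_mem hA hN1mem, mul_mem hA hN2mem]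
  -- every element of the kernel lies in `K`
  have nineMat : ∀ x : ZMod 3 × ZMod 3, nine x = mmul
      (![one, nine (1, 0), mmul (nine (1, 0)) (nine (1, 0))] (x.1 : Fin 3))
      (![one, nine (0, 1), mmul (nine (0, 1)) (nine (0, 1))] (x.2 : Fin 3)) := by decide +kernel
  have memN : ∀ x, Xn x ∈ K := by
    intro x
    have h : ∀ (n : ZMod 3 × ZMod 3) (i : Fin 3), evM (![one, nine n, mmul (nine n) (nine n)] i) =
        coeM (Xn n ^ (i : ℕ)) := by
      intro n i
      fin_cases i
      · simp [coeM_one, e1]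
      · simp; rfl
      · simp [pow_two, coeM_mul, emm]; rfl
    have hx : Xn x = N1 ^ x.1.val * N2 ^ x.2.val := coeM_inj (by
      have q1 := h (1, 0) x.1
      have q2 := h (0, 1) x.2
      have q3 := congrArg evM (nineMat x)
      rw [emm, q1, q2, ← coeM_mul] at q3
      exact q3)
    rw [hx]
    exact mul_mem (pow_mem memN1 _) (pow_mem memN2 _)
  have scalMat : ∃ x y, scal (root 1) one =
      mmul (mmul (nine x) (nine y)) (mmul (mmul (nine x) (nine x)) (mmul (nine y) (nine y))) := by
    decide +kernel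
  have memS1 : Xs 1 ∈ K := by
    obtain ⟨x, y, hxy⟩ := scalMat
    have : Xs 1 = Xn x * Xn y * (Xn x * Xn x * (Xn y * Xn y)) := coeM_inj (by
      simp only [coeM_mul]
      show evM _ = evM _ * evM _ * (evM _ * evM _ * (evM _ * evM _))
      simp only [← emm, ← hxy])
    rw [this]
    exact mul_mem (mul_mem (memN _) (memN _)) (mul_mem (mul_mem (memN _) (memN _))
      (mul_mem (memN _) (memN _)))
  have memS : ∀ k, Xs k ∈ K := by
    have h : ∀ k : Fin 3, ![one, scal (root 1) one, mmul (scal (root 1) one) (scal (root 1) one)] k =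
        scal (root k) one := by decide +kernel
    intro k
    have hk : Xs k = Xs 1 ^ (k : ℕ) := coeM_inj (by
      show evM _ = _
      refine (congrArg evM (h k).symm).trans ?_
      fin_cases k
      · simp [coeM_one, e1]
      · simp; rfl
      · simp [pow_two, coeM_mul, emm]; rfl)
    rw [hk]
    exact pow_mem memS1 _
  have hker : ∀ g, g ∈ χ.ker → (e.symm g).1 = .a 0 ∨ (e.symm g).1 = .a 2 := fun g hg =>
    qClass_eq_zero _ (by simpa [χ] using hg)
  have hle : χ.ker ≤ K := fun g hg => by
    rw [← e.apply_symm_apply g]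
    show f (e.symm g) ∈ K
    refine mul_mem (mul_mem ?_ (memN _)) (memS _)
    rcases hker g hg with h | h <;> rw [h]
    · rw [← QuaternionGroup.one_def, hXq1]; exact one_mem _
    · exact memA
  have hC : commutator (Cfsg.SU 3 F 2) = K := le_antisymm (hcomm.trans hle) hKle
  -- the order
  have h54 : Nat.card K = 54 := by
    refine le_antisymm (card_closure_le hrel) ?_
    let g : Bool × (ZMod 3 × ZMod 3) × Fin 3 → K := fun t =>
      ⟨f (cond t.1 (.a 2) (.a 0), t.2), by
        refine mul_mem (mul_mem ?_ (memN _)) (memS _)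
        show Xq (cond t.1 (.a 2) (.a 0)) ∈ K
        cases t.1
        · show Xq 1 ∈ K
          rw [hXq1]
          exact one_mem _
        · exact memA⟩
    have ginj : Function.Injective g := fun t u h => by
      have := finj (congrArg Subtype.val h)
      simp only [Prod.mk.injEq] at this
      refine Prod.ext ?_ this.2
      have hb : ∀ b b' : Bool, cond b (QuaternionGroup.a 2 : QuaternionGroup 2) (.a 0) =
        cond b' (.a 2) (.a 0) → b = b' := by decide
      exact hb _ _ this.1
    simpa [Nat.card_prod, Nat.card_eq_fintype_card] using Nat.card_le_card_of_injective g ginj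
  refine ⟨hC ▸ h54, ⟨⟨A, hA⟩, ⟨B, mul_mem hA hN1mem⟩, ⟨C', mul_mem hA hN2mem⟩, ?_, ?_⟩, ?_⟩
  · obtain ⟨r1, r2, r3, r4, r5, r6, r7⟩ := hrel
    exact ⟨Subtype.ext r1, Subtype.ext r2, Subtype.ext r3, Subtype.ext r4, Subtype.ext r5,
      Subtype.ext r6, Subtype.ext r7⟩
  · apply Subgroup.map_injective (commutator (Cfsg.SU 3 F 2)).subtype_injective
    rw [MonoidHom.map_closure, ← MonoidHom.range_eq_map, Subgroup.range_subtype]
    simp only [Set.image_insert_eq, Set.image_singleton, Subgroup.coe_subtype]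
    exact hC.symm
  · refine ⟨⟨Xs 1, hKle memS1⟩, Subgroup.mem_center_iff.2 fun g => Subtype.ext (coeM_inj ?_), ?_⟩
    · show coeM g.1 * evM _ = evM _ * coeM g.1
      rw [esc, e1, Matrix.mul_smul, mul_one, Matrix.smul_mul, one_mul]
    · rw [← Subgroup.orderOf_coe]
      have h3 : mmul (mmul (scal (root 1) one) (scal (root 1) one)) (scal (root 1) one) = one ∧
          scal (root 1) one ≠ one := by decide +kernel
      refine orderOf_eq_prime (p := 3) ?_ fun h => h3.2 (evMinj ?_)
      · apply coeM_inj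
        simp only [pow_succ, pow_zero, one_mul, coeM_mul, coeM_one]
        show evM _ * evM _ * evM _ = 1
        rw [← emm, ← emm, h3.1, e1]
      · rw [e1, ← coeM_one, ← h]

end CfsgLib.Trans3.Fifty
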