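import Cfsg.Agent.Lib.Trans3.TvGroup

/-!
# One-parameter unipotent groups `1 + c N` in a matrix group
-/

set_option autoImplicit false
set_option linter.unusedSectionVars false

namespace CfsgLib.Trans3.UniGroup

open Cfsg Matrix CfsgLib.Trans3.SL2Rel CfsgLib.Trans3.RankOne

variable {ι : Type} [Fintype ι] [DecidableEq ι] {k : Type*} [Field k] {G : Type*} [Group G]

/-- `A = {1 + c N}`. -/
structure Uni (f : G →* Matrix ι ι k) (A : Subgroup G) (N : Matrix ι ι k) : Prop where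
  sq : N * N = 0
  mem : ∀ g, g ∈ A ↔ ∃ c : k, f g = 1 + c • N
  surj : ∀ c : k, ∃ g, f g = 1 + c • N

variable {f : G →* Matrix ι ι k} {A B C : Subgroup G} {N M : Matrix ι ι k}

theorem one_add_mul_one_add (X Y : Matrix ι ι k) :
    (1 + X) * (1 + Y) = 1 + X + Y + X * Y := by
  rw [Matrix.add_mul, Matrix.one_mul, Matrix.mul_add, Matrix.mul_one]; abel

theorem inv_one_add {N : Matrix ι ι k} (h : N * N = 0) (c : k) :
    (1 + c • N) * (1 + (-c) • N) = 1 := by
  rw [one_add_mul_one_add, smul_mul_smul_comm, h, smul_zero, add_zero, add_assoc, ← add_smul,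
    add_neg_cancel, zero_smul, add_zero]

theorem Uni.map_inv (h : Uni f A N) {g : G} {c : k} (hg : f g = 1 + c • N) :
    f g⁻¹ = 1 + (-c) • N :=
  TvGroup.map_inv_eq (by rw [hg, inv_one_add h.sq])

theorem Uni.exists_mem (h : Uni f A N) (c : k) : ∃ g ∈ A, f g = 1 + c • N :=
  let ⟨g, hg⟩ := h.surj c; ⟨g, (h.mem g).2 ⟨c, hg⟩, hg⟩

theorem Uni.smul (h : Uni f A N) {s : k} (hs : s ≠ 0) : Uni f A (s • N) where
  sq := by rw [smul_mul_smul_comm, h.sq, smul_zero]
  mem g := by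
    rw [h.mem]
    constructor
    · rintro ⟨c, hc⟩; exact ⟨c / s, by rwa [smul_smul, div_mul_cancel₀ c hs]⟩
    · rintro ⟨c, hc⟩; exact ⟨c * s, by rwa [← smul_smul]⟩
  surj c := by
    obtain ⟨g, hg⟩ := h.surj (c * s); exact ⟨g, by rwa [smul_smul]⟩

theorem Uni.ne_bot (h : Uni f A N) (hN : N ≠ 0) : A ≠ ⊥ := by
  intro hA
  obtain ⟨g, hg, hgf⟩ := h.exists_mem 1
  rw [hA, Subgroup.mem_bot] at hg
  rw [hg, map_one, one_smul, left_eq_add] at hgf
  exact hN hgf

variable (hf : Function.Injective f)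
include hf

theorem Uni.commute_of (h : Uni f A N) (h' : Uni f B M) (hc : N * M = M * N) {g g' : G}
    (hg : g ∈ A) (hg' : g' ∈ B) : g * g' = g' * g := by
  obtain ⟨c, hc1⟩ := (h.mem g).1 hg
  obtain ⟨d, hd⟩ := (h'.mem g').1 hg'
  refine hf ?_
  rw [map_mul, map_mul, hc1, hd, one_add_mul_one_add, one_add_mul_one_add, smul_mul_smul_comm,
    smul_mul_smul_comm, hc, mul_comm c d]
  abel

theorem Uni.isMulCommutative (h : Uni f A N) : IsMulCommutative A :=
  ⟨⟨fun x y => Subtype.ext (h.commute_of hf h rfl x.2 y.2)⟩⟩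

theorem Uni.commutator_bot (h : Uni f A N) (h' : Uni f B M) (hc : N * M = M * N) : ⁅A, B⁆ = ⊥ :=
  commutator_eq_bot_of_comm fun _ hg _ hg' => h.commute_of hf h' hc hg hg'

theorem Uni.exists_ne_zero (h : Uni f A N) {g : G} (hg : g ∈ A) (hg1 : g ≠ 1) :
    ∃ c : k, c ≠ 0 ∧ f g = 1 + c • N := by
  obtain ⟨c, hc⟩ := (h.mem g).1 hg
  refine ⟨c, fun h0 => hg1 (hf ?_), hc⟩
  rw [hc, h0, zero_smul, add_zero, map_one]

/-- A multiplicative map of `2 × 2` matrices carrying the root matrices to `N` and `M`. -/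
theorem Uni.pairOver (h : Uni f A N) (h' : Uni f B M)
    (Φ : Matrix (Fin 2) (Fin 2) k →ₗ[k] Matrix ι ι k)
    (hΦ : ∀ X Y, Φ (X * Y) = Φ X * Φ Y)
    (hinj : Function.Injective Φ)
    (hN : Φ !![0, 1; 0, 0] = N) (hM : Φ !![0, 0; 1, 0] = M) :
    IsPSL2PairOver k A B := by
  let ρ : Matrix.SpecialLinearGroup (Fin 2) k →* Matrix ι ι k :=
    { toFun := fun X => 1 + Φ ((X : Matrix (Fin 2) (Fin 2) k) - 1)
      map_one' := by simp
      map_mul' := fun X Y => by
        rw [one_add_mul_one_add, ← hΦ, Matrix.SpecialLinearGroup.coe_mul, add_assoc, add_assoc,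
          ← map_add, ← map_add]
        congr 2
        simp only [Matrix.sub_mul, Matrix.mul_sub, Matrix.one_mul, Matrix.mul_one]
        abel }
  have hu : ∀ x : k, ρ (upp x) = 1 + x • N := fun x => by
    show 1 + Φ _ = _
    rw [← hN, ← map_smul]
    congr 2
    ext i j; fin_cases i <;> fin_cases j <;> simp [upp_val]
  have hl : ∀ x : k, ρ (low x) = 1 + x • M := fun x => by
    show 1 + Φ _ = _
    rw [← hM, ← map_smul]
    congr 2
    ext i j; fin_cases i <;> fin_cases j <;> simp [low_val]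
  have hρ : Function.Injective ρ := fun X Y hXY => by
    replace hXY : 1 + Φ ((X : Matrix (Fin 2) (Fin 2) k) - 1) =
      1 + Φ ((Y : Matrix (Fin 2) (Fin 2) k) - 1) := hXY
    exact Subtype.ext (sub_left_injective (hinj (add_left_cancel hXY)))
  have hrange : ∀ X, ρ X ∈ MonoidHom.mrange f := by
    let H : Subgroup (Matrix.SpecialLinearGroup (Fin 2) k) :=
      { (MonoidHom.mrange f).comap ρ with
        inv_mem' := fun {x} hx => by
          obtain ⟨g, hg⟩ := hx
          exact ⟨g⁻¹, TvGroup.map_inv_eq (by rw [hg, ← map_mul, mul_inv_cancel, map_one])⟩ }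
    intro X
    have hle : upperUnipotentSL2 k ⊔ lowerUnipotentSL2 k ≤ H := by
      refine sup_le ?_ ?_
      · intro g hg
        obtain ⟨x, rfl⟩ := PairOver.mem_upper.1 hg
        obtain ⟨g, hg⟩ := h.surj x
        exact ⟨g, hg.trans (hu x).symm⟩
      · intro g hg
        obtain ⟨x, rfl⟩ := PairOver.mem_lower.1 hg
        obtain ⟨g, hg⟩ := h'.surj x
        exact ⟨g, hg.trans (hl x).symm⟩
    rw [PairOver.sup_eq_top] at hle
    exact hle (Subgroup.mem_top X)
  choose θ hθ using hrange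
  let Θ : Matrix.SpecialLinearGroup (Fin 2) k →* G :=
    MonoidHom.mk' θ fun X Y => hf (by rw [map_mul, hθ, hθ, hθ, map_mul])
  have hΘ : ∀ X, f (Θ X) = ρ X := hθ
  have hA : (upperUnipotentSL2 k).map Θ = A := by
    ext g
    rw [h.mem]
    constructor
    · rintro ⟨_, hX, rfl⟩; obtain ⟨x, rfl⟩ := PairOver.mem_upper.1 hX
      exact ⟨x, (hΘ _).trans (hu x)⟩
    · rintro ⟨c, hc⟩
      exact ⟨upp c, PairOver.mem_upper.2 ⟨c, rfl⟩, hf (((hΘ _).trans (hu c)).trans hc.symm)⟩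
  have hB : (lowerUnipotentSL2 k).map Θ = B := by
    ext g
    rw [h'.mem]
    constructor
    · rintro ⟨_, hX, rfl⟩; obtain ⟨x, rfl⟩ := PairOver.mem_lower.1 hX
      exact ⟨x, (hΘ _).trans (hl x)⟩
    · rintro ⟨c, hc⟩
      exact ⟨low c, PairOver.mem_lower.2 ⟨c, rfl⟩, hf (((hΘ _).trans (hl c)).trans hc.symm)⟩
  refine ⟨Θ, ?_, ?_, hA, hB⟩
  · rw [← hA, ← hB, ← Subgroup.map_sup, PairOver.sup_eq_top, MonoidHom.range_eq_map]
  · rw [(MonoidHom.ker_eq_bot_iff Θ).2 fun X Y hXY => hρ (by rw [← hΘ, ← hΘ, hXY])]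
    exact bot_le

theorem Uni.commutatorCase (h : Uni f A N) (h' : Uni f B M) {K : Matrix ι ι k} (hC : Uni f C K)
    {r : k} (hr : r ≠ 0) (hK : N * M - M * N = r • K) (h1 : N * M * N = 0) (h2 : M * N * M = 0)
    (hKN : K * N = N * K) (hKM : K * M = M * K) (hN0 : N ≠ 0)
    {S : Set (Subgroup G)} (hCS : C ∈ S) : RootCommutatorCase S A B := by
  have eval : ∀ {x y : G} {s t : k}, f x = 1 + s • N → f y = 1 + t • M →
      f (x * y * x⁻¹ * y⁻¹) = 1 + (s * t * r) • K := by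
    intro x y s t hx hy
    rw [map_mul, map_mul, map_mul, hx, hy, h.map_inv hx, h'.map_inv hy]
    have h3 : N * M * M = 0 := by rw [Matrix.mul_assoc, h'.sq, Matrix.mul_zero]
    simp only [Matrix.mul_add, Matrix.add_mul, Matrix.one_mul, Matrix.mul_one, Matrix.mul_smul,
      Matrix.smul_mul, smul_add, smul_smul, ← Matrix.mul_assoc, h.sq, h'.sq, h1, h2, h3,
      Matrix.zero_mul, smul_zero, add_zero, zero_add]
    rw [← smul_smul (s * t) r K, ← hK]
    simp only [smul_sub, neg_mul, mul_neg, neg_neg, neg_smul, mul_comm t s]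
    abel
  have hcomm : ∀ x ∈ A, ∀ y ∈ B, x * y * x⁻¹ * y⁻¹ ∈ C := by
    intro x hx y hy
    obtain ⟨s, hs⟩ := (h.mem x).1 hx
    obtain ⟨t, ht⟩ := (h'.mem y).1 hy
    exact (hC.mem _).2 ⟨_, eval hs ht⟩
  have hL : ∀ x ∈ A, x ≠ 1 →
      Subgroup.closure ((fun y : G => x * y * x⁻¹ * y⁻¹) '' (B : Set G)) = C := by
    intro x hx hx1
    refine le_antisymm ((Subgroup.closure_le _).2 ?_) fun z hz => Subgroup.subset_closure ?_
    · rintro _ ⟨y, hy, rfl⟩; exact hcomm x hx y hy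
    obtain ⟨s, hs0, hs⟩ := h.exists_ne_zero hf hx hx1
    obtain ⟨c, hc⟩ := (hC.mem z).1 hz
    obtain ⟨y, hy, hyf⟩ := h'.exists_mem (c / (s * r))
    refine ⟨y, hy, hf ?_⟩
    rw [eval hs hyf, hc]
    congr 2
    field_simp
  have hR : ∀ y ∈ B, y ≠ 1 →
      Subgroup.closure ((fun x : G => x * y * x⁻¹ * y⁻¹) '' (A : Set G)) = C := by
    intro y hy hy1
    refine le_antisymm ((Subgroup.closure_le _).2 ?_) fun z hz => Subgroup.subset_closure ?_
    · rintro _ ⟨x, hx, rfl⟩; exact hcomm x hx y hy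
    obtain ⟨t, ht0, ht⟩ := h'.exists_ne_zero hf hy hy1
    obtain ⟨c, hc⟩ := (hC.mem z).1 hz
    obtain ⟨x, hx, hxf⟩ := h.exists_mem (c / (t * r))
    refine ⟨x, hx, hf ?_⟩
    rw [eval hxf ht, hc]
    congr 2
    field_simp
  have heq : ⁅A, B⁆ = C := by
    refine le_antisymm (Subgroup.commutator_le.2 fun x hx y hy => ?_) ?_
    · rw [commutatorElement_def]; exact hcomm x hx y hy
    · obtain ⟨x, hx, hx1⟩ := A.bot_or_exists_ne_one.resolve_left (h.ne_bot hN0)
      rw [← hL x hx hx1, Subgroup.closure_le]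
      rintro _ ⟨y, hy, rfl⟩
      simpa [commutatorElement_def] using Subgroup.commutator_mem_commutator hx hy
  refine ⟨heq ▸ hCS, ?_, heq ▸ hL, heq ▸ hR⟩
  rw [heq]
  intro c hc x hx
  have hle : A ⊔ B ≤ Subgroup.centralizer (C : Set G) := sup_le
    (fun y hy => Subgroup.mem_centralizer_iff.2 fun z hz => hC.commute_of hf h hKN hz hy)
    (fun y hy => Subgroup.mem_centralizer_iff.2 fun z hz => hC.commute_of hf h' hKM hz hy)
  exact Subgroup.mem_centralizer_iff.1 (hle hx) c hc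

end CfsgLib.Trans3.UniGroup
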