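import Cfsg.Prelude.Def_Classical
import Cfsg.Agent.Lib.Trans3.UniGroup

/-!
# Siegel transvections of the hyperbolic quadratic form: matrices
-/

set_option autoImplicit false
set_option linter.unusedSectionVars false

namespace CfsgLib.Trans3.Siegel

open Cfsg Matrix CfsgLib.MaxSub

variable {F : Type*} [Field F] {n : ℕ}

/-- The polar dual of a vector. -/
def dual (v : Fin n ⊕ Fin n → F) : Fin n ⊕ Fin n → F := fun i => v i.swap

/-- The polar form. -/
def pol (u v : Fin n ⊕ Fin n → F) : F := dual v ⬝ᵥ u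

theorem pol_eq (u v : Fin n ⊕ Fin n → F) : pol u v =
    ∑ i : Fin n, (u (Sum.inl i) * v (Sum.inr i) + u (Sum.inr i) * v (Sum.inl i)) := by
  simp only [pol, dual, dotProduct, Fintype.sum_sum_type, Sum.swap_inl, Sum.swap_inr,
    ← Finset.sum_add_distrib]
  exact Finset.sum_congr rfl fun i _ => by ring

theorem pol_comm (u v : Fin n ⊕ Fin n → F) : pol u v = pol v u := by
  rw [pol_eq, pol_eq]; exact Finset.sum_congr rfl fun i _ => by ring

theorem pol_add_left (u u' v : Fin n ⊕ Fin n → F) : pol (u + u') v = pol u v + pol u' v := dotProduct_add _ _ _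

theorem pol_smul_left (c : F) (u v : Fin n ⊕ Fin n → F) : pol (c • u) v = c * pol u v := dotProduct_smul _ _ _

theorem pol_add_right (u v v' : Fin n ⊕ Fin n → F) : pol u (v + v') = pol u v + pol u v' := by
  rw [pol_comm, pol_add_left, pol_comm v, pol_comm v']

theorem pol_smul_right (c : F) (u v : Fin n ⊕ Fin n → F) : pol u (c • v) = c * pol u v := by
  rw [pol_comm, pol_smul_left, pol_comm]

theorem pol_zero_left (v : Fin n ⊕ Fin n → F) : pol 0 v = 0 := dotProduct_zero _

theorem pol_zero_right (v : Fin n ⊕ Fin n → F) : pol v 0 = 0 := by rw [pol_comm, pol_zero_left]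

theorem pol_neg_left (u v : Fin n ⊕ Fin n → F) : pol (-u) v = -pol u v := dotProduct_neg _ _

theorem pol_sub_left (u u' v : Fin n ⊕ Fin n → F) : pol (u - u') v = pol u v - pol u' v := dotProduct_sub _ _ _

theorem pol_sub_right (u v v' : Fin n ⊕ Fin n → F) : pol u (v - v') = pol u v - pol u v' := by
  rw [pol_comm, pol_sub_left, pol_comm v, pol_comm v']

theorem qf_add (u v : Fin n ⊕ Fin n → F) :
    quadFormPlus n F (u + v) = quadFormPlus n F u + quadFormPlus n F v + pol u v := by
  rw [pol_eq, quadFormPlus, quadFormPlus, quadFormPlus, ← Finset.sum_add_distrib,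
    ← Finset.sum_add_distrib]
  exact Finset.sum_congr rfl fun i _ => by simp only [Pi.add_apply]; ring

theorem qf_smul (c : F) (u : Fin n ⊕ Fin n → F) : quadFormPlus n F (c • u) = c ^ 2 * quadFormPlus n F u := by
  rw [quadFormPlus, quadFormPlus, Finset.mul_sum]
  exact Finset.sum_congr rfl fun i _ => by simp only [Pi.smul_apply, smul_eq_mul]; ring

theorem pol_self {u : Fin n ⊕ Fin n → F} (h : quadFormPlus n F u = 0) : pol u u = 0 := by
  have h1 := qf_add u u
  rw [← two_smul F u, qf_smul, h, mul_zero, add_zero, zero_add] at h1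
  exact h1.symm

theorem polar_eq (u v : Fin n ⊕ Fin n → F) :
    quadFormPlus n F (u + v) - quadFormPlus n F u - quadFormPlus n F v = pol u v := by
  rw [qf_add]; ring

theorem eq_zero_of_pol {u : Fin n ⊕ Fin n → F} (h : ∀ v, pol v u = 0) : u = 0 := by
  funext i
  have := h (Pi.single i.swap 1)
  rw [pol, dotProduct_single, mul_one] at this
  simpa [dual] using this

/-- `(p, r)` spans a singular line. -/
structure Line (p r : Fin n ⊕ Fin n → F) : Prop where
  qp : quadFormPlus n F p = 0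
  qr : quadFormPlus n F r = 0
  pr : pol p r = 0
  ind : LinearIndependent F ![p, r]

variable {p r : Fin n ⊕ Fin n → F}

theorem Line.pp (h : Line p r) : pol p p = 0 := pol_self h.qp

theorem Line.rr (h : Line p r) : pol r r = 0 := pol_self h.qr

theorem Line.rp (h : Line p r) : pol r p = 0 := by rw [pol_comm, h.pr]

theorem Line.change (h : Line p r) {a b c d : F} (hdet : a * d - b * c ≠ 0) :
    Line (a • p + b • r) (c • p + d • r) where
  qp := by simp [qf_add, qf_smul, pol_smul_left, pol_smul_right, h.qp, h.qr, h.pr]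
  qr := by simp [qf_add, qf_smul, pol_smul_left, pol_smul_right, h.qp, h.qr, h.pr]
  pr := by
    simp [pol_add_left, pol_add_right, pol_smul_left, pol_smul_right, h.pr, h.rp, h.pp, h.rr]
  ind := by
    rw [LinearIndependent.pair_iff]
    intro x y hxy
    have h1 := LinearIndependent.pair_iff.1 h.ind (x * a + y * c) (x * b + y * d)
      (by rw [← hxy]; module)
    have e1 : x * (a * d - b * c) = 0 := by linear_combination d * h1.1 - c * h1.2
    have e2 : y * (a * d - b * c) = 0 := by linear_combination a * h1.2 - b * h1.1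
    exact ⟨(mul_eq_zero.1 e1).resolve_right hdet, (mul_eq_zero.1 e2).resolve_right hdet⟩

theorem exists_pol {k : ℕ} (x : Fin k → Fin n ⊕ Fin n → F) (hx : LinearIndependent F x) (c : Fin k → F) :
    ∃ v, ∀ i, pol v (x i) = c i := by
  let L : (Fin n ⊕ Fin n → F) →ₗ[F] (Fin k → F) :=
    { toFun := fun v i => pol v (x i)
      map_add' := fun u v => funext fun i => pol_add_left u v (x i)
      map_smul' := fun a v => funext fun i => pol_smul_left a v (x i) }
  have hsur : LinearMap.range L = ⊤ := by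
    by_contra hne
    obtain ⟨f, hf, hle⟩ := Submodule.exists_le_ker_of_lt_top _ (lt_top_iff_ne_top.2 hne)
    refine hf (LinearMap.ext fun y => ?_)
    have hcomb : ∑ i, f (Pi.single i 1) • x i = 0 := by
      refine eq_zero_of_pol fun v => ?_
      have h1 : f (L v) = 0 := hle (LinearMap.mem_range_self L v)
      have h2 : L v = ∑ i, pol v (x i) • (Pi.single i 1 : Fin k → F) := pi_eq_sum_univ' (L v)
      rw [h2, map_sum] at h1
      rw [← h1, pol, dotProduct_comm, dotProduct]
      simp only [map_smul, smul_eq_mul, pol, dual, dotProduct, Finset.sum_apply, Pi.smul_apply,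
        Finset.mul_sum, Finset.sum_mul]
      rw [Finset.sum_comm]
      exact Finset.sum_congr rfl fun i _ => Finset.sum_congr rfl fun j _ => by ring
    have h3 := Fintype.linearIndependent_iff.1 hx _ hcomb
    rw [pi_eq_sum_univ' y, map_sum, LinearMap.zero_apply]
    exact Finset.sum_eq_zero fun i _ => by rw [map_smul, h3 i, smul_zero]
  obtain ⟨v, hv⟩ := LinearMap.range_eq_top.1 hsur c
  exact ⟨v, fun i => congrFun hv i⟩

/-- The nilpotent matrix of a Siegel transvection. -/
def nil (p r : Fin n ⊕ Fin n → F) : Matrix (Fin n ⊕ Fin n) (Fin n ⊕ Fin n) F :=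
  vecMulVec r (dual p) - vecMulVec p (dual r)

theorem nil_mulVec (p r v : Fin n ⊕ Fin n → F) : nil p r *ᵥ v = pol v p • r - pol v r • p := by
  rw [nil, Matrix.sub_mulVec, vecMulVec_mulVec, vecMulVec_mulVec]
  ext i; simp [pol, mul_comm]

theorem nil_change (a b c d : F) (p r : Fin n ⊕ Fin n → F) :
    nil (a • p + b • r) (c • p + d • r) = (a * d - b * c) • nil p r := by
  refine Matrix.toLin'.injective (LinearMap.ext fun v => ?_)
  simp only [Matrix.toLin'_apply, nil_mulVec, Matrix.smul_mulVec, pol_add_right, pol_smul_right]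
  module

theorem mat_ext {A B : Matrix (Fin n ⊕ Fin n) (Fin n ⊕ Fin n) F} (h : ∀ v, A *ᵥ v = B *ᵥ v) :
    A = B :=
  Matrix.toLin'.injective (LinearMap.ext fun v => by simp only [Matrix.toLin'_apply, h])

theorem Line.nil_sq (h : Line p r) : nil p r * nil p r = 0 := mat_ext fun v => by
  simp [← mulVec_mulVec, nil_mulVec, pol_sub_left, pol_smul_left, h.pr, h.rp, h.pp, h.rr]

theorem Line.nil_ne_zero (h : Line p r) : nil p r ≠ 0 := by
  intro h0
  obtain ⟨z, hz⟩ := exists_pol ![p, r] h.ind ![1, 0]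
  have e := nil_mulVec p r z
  have hz0 : pol z p = 1 := by simpa using hz 0
  have hz1 : pol z r = 0 := by simpa using hz 1
  rw [h0, Matrix.zero_mulVec, hz0, hz1, one_smul, zero_smul, sub_zero] at e
  exact h.ind.ne_zero 1 (by simpa using e.symm)

theorem Line.preserves (h : Line p r) (c : F) (v : Fin n ⊕ Fin n → F) :
    quadFormPlus n F ((1 + c • nil p r) *ᵥ v) = quadFormPlus n F v := by
  rw [Matrix.add_mulVec, Matrix.one_mulVec, Matrix.smul_mulVec, nil_mulVec]
  simp [sub_eq_add_neg, ← neg_smul, qf_add, qf_smul, pol_add_right, pol_smul_right, pol_smul_left,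
    h.qp, h.qr, h.rp]
  ring

theorem iso_pol {g : Matrix (Fin n ⊕ Fin n) (Fin n ⊕ Fin n) F}
    (hg : ∀ v, quadFormPlus n F (g *ᵥ v) = quadFormPlus n F v) (u v : Fin n ⊕ Fin n → F) :
    pol (g *ᵥ u) (g *ᵥ v) = pol u v := by
  rw [← polar_eq, ← polar_eq, ← Matrix.mulVec_add, hg, hg, hg]

theorem Line.fixing (h : Line p r) {g : Matrix (Fin n ⊕ Fin n) (Fin n ⊕ Fin n) F}
    (hg : ∀ v, quadFormPlus n F (g *ᵥ v) = quadFormPlus n F v)
    (hfix : ∀ v, pol v p = 0 → pol v r = 0 → g *ᵥ v = v) : ∃ c : F, g = 1 + c • nil p r := by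
  obtain ⟨z, hz⟩ := exists_pol ![p, r] h.ind ![1, 0]
  obtain ⟨w, hw⟩ := exists_pol ![p, r] h.ind ![0, 1]
  have hzp : pol z p = 1 := by simpa using hz 0
  have hzr : pol z r = 0 := by simpa using hz 1
  have hwp : pol w p = 0 := by simpa using hw 0
  have hwr : pol w r = 1 := by simpa using hw 1
  have hpz : pol p z = 1 := by rw [pol_comm, hzp]
  have hrz : pol r z = 0 := by rw [pol_comm, hzr]
  have hpw : pol p w = 0 := by rw [pol_comm, hwp]
  have hrw : pol r w = 1 := by rw [pol_comm, hwr]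
  obtain ⟨proj, hproj⟩ : ∃ proj : (Fin n ⊕ Fin n → F) → (Fin n ⊕ Fin n → F), ∀ v, proj v = v - pol v p • z - pol v r • w :=
    ⟨_, fun _ => rfl⟩
  have hp0 : ∀ v, pol (proj v) p = 0 ∧ pol (proj v) r = 0 := fun v => by
    simp [hproj, pol_sub_left, pol_smul_left, hzp, hzr, hwp, hwr]
  have hspan : ∀ x, ∃ α β : F, g *ᵥ x - x = α • p + β • r := by
    intro x
    obtain ⟨a, ha⟩ : ∃ a, a = g *ᵥ x - x := ⟨_, rfl⟩
    refine ⟨pol a z, pol a w, ?_⟩
    rw [← ha]
    have h0 : ∀ u, pol u p = 0 → pol u r = 0 → pol u a = 0 := fun u hu hu' => by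
      have h1 := iso_pol hg u x
      rw [hfix u hu hu'] at h1
      rw [ha, pol_sub_right, h1, sub_self]
    refine eq_of_sub_eq_zero (eq_zero_of_pol fun v => ?_)
    have hv : v = proj v + pol v p • z + pol v r • w := by rw [hproj]; abel
    have h1 := h0 (proj v) (hp0 v).1 (hp0 v).2
    rw [hv]
    simp [pol_sub_right, pol_add_left, pol_add_right, pol_smul_left, pol_smul_right, h1,
      (hp0 v).1, (hp0 v).2, hzp, hzr, hwp, hwr, pol_comm z a, pol_comm w a]
    ring
  obtain ⟨α₁, β₁, e1⟩ := hspan z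
  obtain ⟨α₂, β₂, e2⟩ := hspan w
  rw [sub_eq_iff_eq_add] at e1 e2
  have q1 : α₁ = 0 := by
    have h1 := hg z
    rw [e1, qf_add] at h1
    simpa [qf_add, qf_smul, pol_add_left, pol_smul_left, pol_smul_right, h.qp, h.qr, h.pr, hpz,
      hrz] using h1
  have q2 : β₂ = 0 := by
    have h1 := hg w
    rw [e2, qf_add] at h1
    simpa [qf_add, qf_smul, pol_add_left, pol_smul_left, pol_smul_right, h.qp, h.qr, h.pr, hpw,
      hrw] using h1
  have q3 : α₂ + β₁ = 0 := by
    have h1 := iso_pol hg z w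
    rw [e1, e2, q1, q2] at h1
    simp [pol_add_left, pol_add_right, pol_smul_left, pol_smul_right, h.rp, h.pp, h.rr, hrw, hzp] at h1
    linear_combination h1
  refine ⟨β₁, mat_ext fun v => ?_⟩
  have hv : v = proj v + pol v p • z + pol v r • w := by rw [hproj]; abel
  rw [Matrix.add_mulVec, Matrix.one_mulVec, Matrix.smul_mulVec, nil_mulVec]
  conv_lhs => rw [hv]
  rw [Matrix.mulVec_add, Matrix.mulVec_add, Matrix.mulVec_smul, Matrix.mulVec_smul,
    hfix _ (hp0 v).1 (hp0 v).2, e1, e2, q1, q2, hproj, show α₂ = -β₁ by linear_combination q3]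
  module

theorem Line.cases {p r s t : Fin n ⊕ Fin n → F} (h : Line p r) (h' : Line s t) :
    (∀ a ∈ ({p, r} : Set (Fin n ⊕ Fin n → F)), ∀ b ∈ ({s, t} : Set (Fin n ⊕ Fin n → F)), pol a b = 0) ∨
    ∃ (a b c d a' b' c' d' : F), a * d - b * c ≠ 0 ∧ a' * d' - b' * c' ≠ 0 ∧
      pol (a • p + b • r) (a' • s + b' • t) = 1 ∧ pol (a • p + b • r) (c' • s + d' • t) = 0 ∧
      pol (c • p + d • r) (a' • s + b' • t) = 0 ∧
      (pol (c • p + d • r) (c' • s + d' • t) = 1 ∨ pol (c • p + d • r) (c' • s + d' • t) = 0) := by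
  by_cases hall : ∀ a ∈ ({p, r} : Set (Fin n ⊕ Fin n → F)), ∀ b ∈ ({s, t} : Set (Fin n ⊕ Fin n → F)), pol a b = 0
  · exact Or.inl hall
  right
  obtain ⟨a, b, c, d, a', b', c', d', hd1, hd2, hne⟩ : ∃ (a b c d a' b' c' d' : F),
      a * d - b * c ≠ 0 ∧ a' * d' - b' * c' ≠ 0 ∧
      pol (a • p + b • r) (a' • s + b' • t) ≠ 0 := by
    by_cases h1 : pol p s = 0
    · by_cases h2 : pol p t = 0
      · by_cases h3 : pol r s = 0
        · refine ⟨0, 1, 1, 0, 0, 1, 1, 0, by simp, by simp, fun h4 => hall ?_⟩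
          simp only [zero_smul, one_smul, zero_add] at h4
          rintro x (rfl | rfl) y (rfl | rfl) <;> assumption
        · exact ⟨0, 1, 1, 0, 1, 0, 0, 1, by simp, by simp, by simpa using h3⟩
      · exact ⟨1, 0, 0, 1, 0, 1, 1, 0, by simp, by simp, by simpa using h2⟩
    · exact ⟨1, 0, 0, 1, 1, 0, 0, 1, by simp, by simp, by simpa using h1⟩
  obtain ⟨e, he⟩ : ∃ e, pol (a • p + b • r) (a' • s + b' • t) = e := ⟨_, rfl⟩
  rw [he] at hne
  obtain ⟨β, hβ⟩ : ∃ β, pol (c • p + d • r) (a' • s + b' • t) = β := ⟨_, rfl⟩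
  obtain ⟨γ, hγ⟩ : ∃ γ, pol (a • p + b • r) (c' • s + d' • t) = γ := ⟨_, rfl⟩
  obtain ⟨δ, hδ⟩ : ∃ δ, pol (c • p + d • r) (c' • s + d' • t) = δ := ⟨_, rfl⟩
  simp only [pol_add_left, pol_add_right, pol_smul_left, pol_smul_right] at he hβ hγ hδ
  obtain ⟨u, hu0, hu⟩ : ∃ u : F, u ≠ 0 ∧
      (u * (δ - β / e * γ) = 1 ∨ u * (δ - β / e * γ) = 0) := by
    by_cases h0 : δ - β / e * γ = 0
    · exact ⟨1, one_ne_zero, Or.inr (by rw [h0, mul_zero])⟩
    · exact ⟨_, inv_ne_zero h0, Or.inl (inv_mul_cancel₀ h0)⟩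
  refine ⟨a, b, c - β / e * a, d - β / e * b, a' / e, b' / e, u * (c' - γ / e * a'),
    u * (d' - γ / e * b'), ?_, ?_, ?_, ?_, ?_, ?_⟩
  · convert hd1 using 1; ring
  · have : a' / e * (u * (d' - γ / e * b')) - b' / e * (u * (c' - γ / e * a')) =
        u / e * (a' * d' - b' * c') := by ring
    rw [this]; exact mul_ne_zero (div_ne_zero hu0 hne) hd2
  · simp only [pol_add_left, pol_add_right, pol_smul_left, pol_smul_right]
    field_simp
    linear_combination he
  · simp only [pol_add_left, pol_add_right, pol_smul_left, pol_smul_right]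
    field_simp
    linear_combination (u * e) * hγ - (u * γ) * he
  · simp only [pol_add_left, pol_add_right, pol_smul_left, pol_smul_right]
    field_simp
    linear_combination e * hβ - β * he
  · simp only [pol_add_left, pol_add_right, pol_smul_left, pol_smul_right]
    have key : ∀ w : F, (w = u * (δ - β / e * γ)) → (w = 1 ∨ w = 0) := fun w hw => hw ▸ hu
    refine key _ ?_
    have e1 : u * (δ - β / e * γ) = u * δ - u * β / e * γ := by ring
    have e2 : ∀ X : F, X / e * e = X := fun X => div_mul_cancel₀ X hne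
    calc _ = u * ((c' * (c * pol p s + d * pol r s) + d' * (c * pol p t + d * pol r t))
            - β / e * (c' * (a * pol p s + b * pol r s) + d' * (a * pol p t + b * pol r t))
            - γ / e * (a' * (c * pol p s + d * pol r s) + b' * (c * pol p t + d * pol r t))
            + β / e * (γ / e) * (a' * (a * pol p s + b * pol r s) + b' * (a * pol p t + b * pol r t))) := by
          ring
      _ = _ := by
          rw [hδ, hγ, hβ, he]
          field_simp
          ring

variable {s t : Fin n ⊕ Fin n → F}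

theorem commute_zero (h : Line p r) (h' : Line s t) (h1 : pol p s = 0) (h2 : pol p t = 0)
    (h3 : pol r s = 0) (h4 : pol r t = 0) : nil p r * nil s t = nil s t * nil p r :=
  mat_ext fun v => by
    simp [← mulVec_mulVec, nil_mulVec, pol_sub_left, pol_smul_left, h1, h2, h3, h4,
      pol_comm s p, pol_comm s r, pol_comm t p, pol_comm t r]

section RankOne

variable (h : Line p r) (h' : Line s t) (h1 : pol p s = 1) (h2 : pol p t = 0) (h3 : pol r s = 0)
  (h4 : pol r t = 0)
include h h' h1 h2 h3 h4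

theorem rankOne_comm {e : F} (he : t = e • r) : nil p r * nil s t = nil s t * nil p r :=
  mat_ext fun v => by
    simp [← mulVec_mulVec, nil_mulVec, pol_sub_left, pol_smul_left, h1, h2, h3, h4,
      pol_comm s p, pol_comm s r, pol_comm t p, pol_comm t r, he, pol_smul_right, smul_smul,
      h.rr, h.pr, h.rp, h.pp, mul_comm]

theorem rankOne_line (hind : LinearIndependent F ![r, t]) : Line r t :=
  ⟨h.qr, h'.qr, h4, hind⟩

theorem rankOne_commutator :
    nil p r * nil s t - nil s t * nil p r = (1 : F) • nil r t :=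
  mat_ext fun v => by
    simp [Matrix.sub_mulVec, ← mulVec_mulVec, nil_mulVec, pol_sub_left, pol_smul_left, h1, h2, h3,
      h4, pol_comm s p, pol_comm s r, pol_comm t p, pol_comm t r]
    module

theorem rankOne_nmn : nil p r * nil s t * nil p r = 0 := mat_ext fun v => by
  simp [← mulVec_mulVec, nil_mulVec, pol_sub_left, pol_smul_left, h1, h2, h3,
    h4, pol_comm s p, pol_comm s r, pol_comm t p, pol_comm t r, h.pr, h.rp, h.pp, h.rr, pol_neg_left]

theorem rankOne_mnm : nil s t * nil p r * nil s t = 0 := mat_ext fun v => by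
  simp [← mulVec_mulVec, nil_mulVec, pol_sub_left, pol_smul_left, h1, h2, h3,
    h4, pol_comm s p, pol_comm s r, pol_comm t p, pol_comm t r, h'.pr, h'.rp, h'.pp, h'.rr, pol_neg_left]

theorem rankOne_kn : nil r t * nil p r = nil p r * nil r t := mat_ext fun v => by
  simp [← mulVec_mulVec, nil_mulVec, pol_sub_left, pol_smul_left, h1, h2, h3,
    h4, pol_comm s p, pol_comm s r, pol_comm t p, pol_comm t r, h.pr, h.rp, h.pp, h.rr, pol_neg_left]

theorem rankOne_km : nil r t * nil s t = nil s t * nil r t := mat_ext fun v => by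
  simp [← mulVec_mulVec, nil_mulVec, pol_sub_left, pol_smul_left, h1, h2, h3,
    h4, pol_comm s p, pol_comm s r, pol_comm t p, pol_comm t r, h'.pr, h'.rp, h'.pp, h'.rr, pol_neg_left]

end RankOne

theorem exists_sl2 (h : Line p r) (h' : Line s t) (h1 : pol p s = 1) (h2 : pol p t = 0)
    (h3 : pol r s = 0) (h4 : pol r t = 1) :
    ∃ Φ : Matrix (Fin 2) (Fin 2) F →ₗ[F] Matrix (Fin n ⊕ Fin n) (Fin n ⊕ Fin n) F,
      (∀ X Y, Φ (X * Y) = Φ X * Φ Y) ∧ Function.Injective Φ ∧
      Φ !![0, 1; 0, 0] = nil p r ∧ Φ !![0, 0; 1, 0] = (-1 : F) • nil s t := by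
  let P : Matrix (Fin n ⊕ Fin n) (Fin 2) F := Matrix.of fun i j => ![r i, s i] j
  let Q : Matrix (Fin 2) (Fin n ⊕ Fin n) F := Matrix.of ![dual t, dual p]
  let P' : Matrix (Fin n ⊕ Fin n) (Fin 2) F := Matrix.of fun i j => ![p i, (-t) i] j
  let Q' : Matrix (Fin 2) (Fin n ⊕ Fin n) F := Matrix.of ![dual s, -dual r]
  have e : ∀ (a b c d : Fin n ⊕ Fin n → F) (i j : Fin 2),
      ((Matrix.of ![dual a, dual b] : Matrix (Fin 2) (Fin n ⊕ Fin n) F) *
        (Matrix.of fun l m => ![c l, d l] m : Matrix (Fin n ⊕ Fin n) (Fin 2) F)) i j =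
      pol (![c, d] j) (![a, b] i) := by
    intro a b c d i j
    fin_cases i <;> fin_cases j <;> simp [Matrix.mul_apply, pol, dotProduct]
  have hn : -dual r = dual (-r) := rfl
  have hnn : ∀ x, pol x (-r) = -pol x r := fun x => by rw [pol_comm, pol_neg_left, pol_comm]
  have hQP : Q * P = 1 := by
    ext i j; rw [e]; fin_cases i <;> fin_cases j <;>
      simp [h1, h2, h3, h4, h.rp, h'.pr, pol_comm s p]
  have hQP' : Q' * P' = 1 := by
    simp only [Q']
    rw [hn]
    ext i j; rw [e]; fin_cases i <;> fin_cases j <;>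
      simp [h1, h2, h3, h4, h.pr, h'.rp, hnn, pol_neg_left, pol_comm t r]
  have hz : Q * P' = 0 := by
    ext i j; rw [e]; fin_cases i <;> fin_cases j <;>
      simp [h1, h2, h3, h4, h.pp, h'.rr, pol_neg_left, pol_comm t p]
  have hz' : Q' * P = 0 := by
    simp only [Q']
    rw [hn]
    ext i j; rw [e]; fin_cases i <;> fin_cases j <;>
      simp [h1, h2, h3, h4, h.rr, h'.pp, hnn, pol_comm s r]
  refine ⟨{ toFun := fun X => P * X * Q + P' * X * Q'
            map_add' := fun X Y => by simp only [Matrix.mul_add, Matrix.add_mul]; abel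
            map_smul' := fun c X => by
              simp only [Matrix.mul_smul, Matrix.smul_mul, RingHom.id_apply, smul_add] },
    fun X Y => ?_, ?_, ?_, ?_⟩
  · show P * (X * Y) * Q + P' * (X * Y) * Q' = (P * X * Q + P' * X * Q') * (P * Y * Q + P' * Y * Q')
    simp only [Matrix.add_mul, Matrix.mul_add, Matrix.mul_assoc]
    simp only [← Matrix.mul_assoc Q P, ← Matrix.mul_assoc Q' P', ← Matrix.mul_assoc Q P',
      ← Matrix.mul_assoc Q' P, hQP, hQP', hz, hz', Matrix.one_mul, Matrix.zero_mul, Matrix.mul_zero,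
      add_zero, zero_add]
  · intro X Y hXY
    have key : ∀ Z : Matrix (Fin 2) (Fin 2) F, Q * (P * Z * Q + P' * Z * Q') * P = Z := fun Z => by
      simp only [Matrix.add_mul, Matrix.mul_add, ← Matrix.mul_assoc, hz, hQP, Matrix.one_mul,
        Matrix.zero_mul, add_zero]
      rw [Matrix.mul_assoc, hQP, Matrix.mul_one]
    replace hXY : P * X * Q + P' * X * Q' = P * Y * Q + P' * Y * Q' := hXY
    have hc := congrArg (fun Z : Matrix (Fin n ⊕ Fin n) (Fin n ⊕ Fin n) F => Q * Z * P) hXY
    rw [key, key] at hc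
    exact hc
  · ext i j
    simp [P, Q, P', Q', nil, dual, Matrix.mul_apply, Fin.sum_univ_two, vecMulVec_apply]
    ring
  · ext i j
    simp [P, Q, P', Q', nil, dual, Matrix.mul_apply, Fin.sum_univ_two, vecMulVec_apply]
    ring

end CfsgLib.Trans3.Siegel
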