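import Cfsg.Agent.Lib.Trans3.SiegelGroup

/-!
# Connectivity of the rank one graph on singular lines
-/

set_option autoImplicit false
set_option linter.unusedSectionVars false

namespace CfsgLib.Trans3.Siegel

open Cfsg Matrix CfsgLib.Trans3.UniGroup

variable {F : Type*} [Field F] {n : ℕ}

theorem exists_singular_space (p r : Fin n ⊕ Fin n → F) (hp : quadFormPlus n F p = 0)
    (hr : quadFormPlus n F r = 0) (hpr : pol p r = 0) :
    ∃ W : Submodule F (Fin n ⊕ Fin n → F), (∀ v ∈ W, quadFormPlus n F v = 0) ∧ p ∈ W ∧ r ∈ W ∧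
      n ≤ Module.finrank F W := by
  have hsing : ∀ W : Submodule F (Fin n ⊕ Fin n → F), (∀ v ∈ W, quadFormPlus n F v = 0) →
      ∀ u ∈ W, ∀ v ∈ W, pol u v = 0 := by
    intro W hW u hu v hv
    rw [← polar_eq, hW _ (W.add_mem hu hv), hW u hu, hW v hv]; ring
  -- enlarge by one singular vector
  have expand : ∀ (W : Submodule F (Fin n ⊕ Fin n → F)) (v : Fin n ⊕ Fin n → F),
      (∀ w ∈ W, quadFormPlus n F w = 0) → n ≤ Module.finrank F W → quadFormPlus n F v = 0 →
      ∃ W' : Submodule F (Fin n ⊕ Fin n → F), (∀ w ∈ W', quadFormPlus n F w = 0) ∧ v ∈ W' ∧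
        (∀ w ∈ W, pol w v = 0 → w ∈ W') ∧ n ≤ Module.finrank F W' := by
    intro W v hW hn hv
    by_cases hvW : v ∈ W
    · exact ⟨W, hW, hvW, fun w hw _ => hw, hn⟩
    let L : ↥W →ₗ[F] F :=
      { toFun := fun w => pol w.1 v
        map_add' := fun a b => pol_add_left _ _ _
        map_smul' := fun c a => pol_smul_left _ _ _ }
    let K := (LinearMap.ker L).map W.subtype
    have hK : ∀ w, w ∈ K ↔ w ∈ W ∧ pol w v = 0 := fun w => by
      constructor
      · rintro ⟨x, hx, rfl⟩; exact ⟨x.2, hx⟩
      · rintro ⟨h1, h2⟩; exact ⟨⟨w, h1⟩, h2, rfl⟩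
    refine ⟨K ⊔ Submodule.span F {v}, ?_, Submodule.mem_sup_right (Submodule.mem_span_singleton_self v),
      fun w hw hw' => Submodule.mem_sup_left ((hK w).2 ⟨hw, hw'⟩), ?_⟩
    · intro w hw
      obtain ⟨a, ha, b, hb, rfl⟩ := Submodule.mem_sup.1 hw
      obtain ⟨c, rfl⟩ := Submodule.mem_span_singleton.1 hb
      obtain ⟨h1, h2⟩ := (hK a).1 ha
      rw [qf_add, hW a h1, qf_smul, hv, pol_smul_right, h2]; ring
    · have h1 : Module.finrank F W ≤ Module.finrank F K + 1 := by
        have h2 := LinearMap.finrank_range_add_finrank_ker L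
        have h3 : Module.finrank F (LinearMap.range L) ≤ 1 := by
          simpa using Submodule.finrank_le (LinearMap.range L)
        have h4 : Module.finrank F K = Module.finrank F (LinearMap.ker L) :=
          (Submodule.equivMapOfInjective W.subtype W.subtype_injective _).finrank_eq.symm
        omega
      have hlt : K < K ⊔ Submodule.span F {v} := by
        refine lt_of_le_of_ne le_sup_left fun he => hvW ?_
        have : v ∈ K := he ▸ Submodule.mem_sup_right (Submodule.mem_span_singleton_self v)
        exact ((hK v).1 this).1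
      have := Submodule.finrank_lt_finrank_of_lt hlt
      omega
  let E : (Fin n → F) →ₗ[F] (Fin n ⊕ Fin n → F) :=
    { toFun := fun x => Sum.elim x 0
      map_add' := fun x y => by ext (i | i) <;> simp
      map_smul' := fun c x => by ext (i | i) <;> simp }
  have hEinj : Function.Injective E := fun x y h => funext fun i => congrFun h (Sum.inl i)
  obtain ⟨W1, h1, hp1, -, hn1⟩ := expand (LinearMap.range E) p (by
      rintro _ ⟨x, rfl⟩
      simp [quadFormPlus, E]) (by
      rw [LinearMap.finrank_range_of_inj hEinj]; simp) hp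
  obtain ⟨W2, h2, hr2, hkeep, hn2⟩ := expand W1 r h1 hn1 hr
  exact ⟨W2, h2, hkeep p hp1 hpr, hr2, hn2⟩

/-- The relation to be shown universal. -/
def Reach (p r s t : Fin n ⊕ Fin n → F) : Prop :=
  Relation.ReflTransGen (FAdj grpSet) (grp p r) (grp s t)

theorem grp_congr {p r s t : Fin n ⊕ Fin n → F} (h : Line p r) (h' : Line s t) {e : F}
    (he : e ≠ 0) (hN : nil s t = e • nil p r) : grp p r = grp s t := by
  ext g
  rw [((uni_grp h).smul he).mem, (uni_grp h').mem, hN]

theorem adj_of_values {p r s t : Fin n ⊕ Fin n → F} (h : Line p r) (h' : Line s t)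
    (h1 : pol p s = 1) (h2 : pol p t = 0) (h3 : pol r s = 0) (h4 : pol r t = 1) :
    FAdj grpSet (grp p r) (grp s t) := by
  obtain ⟨Φ, a, b, c, d⟩ := exists_sl2 h h' h1 h2 h3 h4
  exact ⟨mem_grpSet.2 ⟨_, _, h, rfl⟩, mem_grpSet.2 ⟨_, _, h', rfl⟩,
    PairOver.isRankOnePair_of_pairOver ((uni_grp h).pairOver isoVal_injective
      ((uni_grp h').smul (neg_ne_zero.2 one_ne_zero)) Φ a b c d)⟩

theorem reach_coplanar {p r r' : Fin n ⊕ Fin n → F} (h : Line p r) (h' : Line p r')
    (hrr : pol r r' = 0) : Reach p r p r' := by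
  have h'r : pol r' r = 0 := by rw [pol_comm, hrr]
  by_cases hind : LinearIndependent F ![p, r, r']
  · obtain ⟨w, hw⟩ := exists_pol ![p, r, r'] hind ![1, 0, 0]
    have hwp : pol w p = 1 := by simpa using hw 0
    have hwr : pol w r = 0 := by simpa using hw 1
    have hwr' : pol w r' = 0 := by simpa using hw 2
    obtain ⟨s, hs⟩ : ∃ s, s = w + (-quadFormPlus n F w) • p := ⟨_, rfl⟩
    have qs : quadFormPlus n F s = 0 := by
      rw [hs, qf_add, qf_smul, h.qp, pol_smul_right, hwp]; ring
    have sp : pol s p = 1 := by rw [hs, pol_add_left, pol_smul_left, h.pp, hwp]; ring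
    have sr : pol s r = 0 := by rw [hs, pol_add_left, pol_smul_left, h.pr, hwr]; ring
    have sr' : pol s r' = 0 := by rw [hs, pol_add_left, pol_smul_left, h'.pr, hwr']; ring
    have hind4 : LinearIndependent F ![s, p, r, r'] := by
      rw [Fintype.linearIndependent_iff]
      intro g hg
      simp only [Fin.sum_univ_four, Matrix.cons_val_zero, Matrix.cons_val_one, Matrix.cons_val] at hg
      have h0 : g 0 = 0 := by
        have := congrArg (fun x => pol x p) hg
        simpa [pol_add_left, pol_smul_left, sp, h.pp, h.rp, h'.rp, pol_zero_left] using this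
      rw [h0, zero_smul, zero_add] at hg
      have h3 := Fintype.linearIndependent_iff.1 hind ![g 1, g 2, g 3] (by
        simpa [Fin.sum_univ_three] using hg)
      intro i
      fin_cases i
      exacts [h0, h3 0, h3 1, h3 2]
    obtain ⟨w', hw'⟩ := exists_pol ![s, p, r, r'] hind4 ![0, 0, 1, 1]
    have ws : pol w' s = 0 := by simpa using hw' 0
    have wp : pol w' p = 0 := by simpa using hw' 1
    have wr : pol w' r = 1 := by simpa using hw' 2
    have wr' : pol w' r' = 1 := by simpa using hw' 3
    obtain ⟨t, ht⟩ : ∃ t, t = w' + (-quadFormPlus n F w') • r := ⟨_, rfl⟩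
    have qt : quadFormPlus n F t = 0 := by
      rw [ht, qf_add, qf_smul, h.qr, pol_smul_right, wr]; ring
    have rs : pol r s = 0 := by rw [pol_comm, sr]
    have ts : pol t s = 0 := by rw [ht, pol_add_left, pol_smul_left, rs, ws]; ring
    have tp : pol t p = 0 := by rw [ht, pol_add_left, pol_smul_left, h.rp, wp]; ring
    have tr : pol t r = 1 := by rw [ht, pol_add_left, pol_smul_left, h.rr, wr]; ring
    have tr' : pol t r' = 1 := by rw [ht, pol_add_left, pol_smul_left, hrr, wr']; ring
    have hst : Line s t := by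
      refine ⟨qs, qt, by rw [pol_comm, ts], LinearIndependent.pair_iff.2 fun x y hxy => ?_⟩
      have e1 := congrArg (fun z => pol z p) hxy
      have e2 := congrArg (fun z => pol z r) hxy
      simp [pol_add_left, pol_smul_left, sp, tp, sr, tr, pol_zero_left] at e1 e2
      exact ⟨e1, e2⟩
    have A1 := adj_of_values h hst (by rw [pol_comm, sp]) (by rw [pol_comm, tp])
      (by rw [pol_comm, sr]) (by rw [pol_comm, tr])
    have A2 := adj_of_values h' hst (by rw [pol_comm, sp]) (by rw [pol_comm, tp])
      (by rw [pol_comm, sr']) (by rw [pol_comm, tr'])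
    exact (Relation.ReflTransGen.single A1).tail
      ⟨A2.2.1, A2.1, RankOnePair_symm A2.2.2⟩
  · rw [Fintype.linearIndependent_iff] at hind
    push Not at hind
    obtain ⟨g, hg, i, hi⟩ := hind
    simp only [Fin.sum_univ_three, Matrix.cons_val_zero, Matrix.cons_val_one, Matrix.cons_val] at hg
    have h2 : g 2 ≠ 0 := by
      intro h0
      rw [h0, zero_smul, add_zero] at hg
      have := LinearIndependent.pair_iff.1 h.ind _ _ hg
      fin_cases i
      exacts [hi this.1, hi this.2, hi h0]
    have h1 : g 1 ≠ 0 := by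
      intro h0
      rw [h0, zero_smul, add_zero] at hg
      exact h2 (LinearIndependent.pair_iff.1 h'.ind _ _ hg).2
    have hN : g 2 • nil p r' = (-g 1) • nil p r := by
      refine mat_ext fun v => ?_
      have e : g 2 • r' = -(g 0 • p + g 1 • r) := by linear_combination (norm := module) hg
      have e' : g 2 * pol v r' = -(g 0 * pol v p + g 1 * pol v r) := by
        rw [← pol_smul_right, e, pol_comm, pol_neg_left, pol_comm, pol_add_right, pol_smul_right,
          pol_smul_right]
      simp only [Matrix.smul_mulVec, nil_mulVec, smul_sub, smul_smul]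
      rw [mul_comm (g 2) (pol v p), ← smul_smul, e, e']
      module
    have : grp p r = grp p r' := grp_congr h h' (e := -g 1 / g 2)
      (div_ne_zero (neg_ne_zero.2 h1) h2) (by
        rw [div_eq_inv_mul, ← smul_smul, ← hN, smul_smul, inv_mul_cancel₀ h2, one_smul])
    rw [Reach, this]

variable (hn : 3 ≤ n)
include hn

theorem exists_common (p r q : Fin n ⊕ Fin n → F) (h : Line p r) :
    ∃ x, Line p x ∧ pol r x = 0 ∧ pol q x = 0 := by
  obtain ⟨W, hW, hpW, hrW, hdim⟩ := exists_singular_space p r h.qp h.qr h.pr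
  have hsing : ∀ u ∈ W, ∀ v ∈ W, pol u v = 0 := fun u hu v hv => by
    rw [← polar_eq, hW _ (W.add_mem hu hv), hW u hu, hW v hv]; ring
  let L : ↥W →ₗ[F] F :=
    { toFun := fun w => pol w.1 q
      map_add' := fun a b => pol_add_left _ _ _
      map_smul' := fun c a => pol_smul_left _ _ _ }
  have hker : 2 ≤ Module.finrank F (LinearMap.ker L) := by
    have h2 := LinearMap.finrank_range_add_finrank_ker L
    have h3 : Module.finrank F (LinearMap.range L) ≤ 1 := by
      simpa using Submodule.finrank_le (LinearMap.range L)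
    omega
  obtain ⟨x, hx, hxp⟩ : ∃ x, x ∈ LinearMap.ker L ∧ x ∉ Submodule.span F {(⟨p, hpW⟩ : ↥W)} := by
    by_contra! hall
    have h4 := Submodule.finrank_mono (show LinearMap.ker L ≤ Submodule.span F {(⟨p, hpW⟩ : ↥W)}
      from hall)
    rw [finrank_span_singleton (fun h0 => h.ind.ne_zero 0 (congrArg Subtype.val h0))] at h4
    omega
  refine ⟨x.1, ⟨h.qp, hW _ x.2, hsing p hpW _ x.2, ?_⟩, hsing r hrW _ x.2,
    by rw [pol_comm]; exact hx⟩
  rw [LinearIndependent.pair_iff' (show p ≠ 0 from h.ind.ne_zero 0)]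
  exact fun a ha => hxp (Submodule.mem_span_singleton.2 ⟨a, Subtype.ext ha⟩)

theorem reach_share {p r r' : Fin n ⊕ Fin n → F} (h : Line p r) (h' : Line p r') :
    Reach p r p r' := by
  obtain ⟨x, hx, hrx, hr'x⟩ := exists_common hn p r r' h
  exact (reach_coplanar h hx hrx).trans (reach_coplanar hx h' (by rw [pol_comm, hr'x]))

omit hn in
theorem grp_swap {p r : Fin n ⊕ Fin n → F} (h : Line p r) :
    grp p r = grp r p ∧ Line r p := by
  have h' : Line r p := by simpa using h.change (a := 0) (b := 1) (c := 1) (d := 0) (by simp)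
  refine ⟨grp_congr h h' (e := -1) (neg_ne_zero.2 one_ne_zero) ?_, h'⟩
  simp [nil]

theorem reach_all {p r p' r' : Fin n ⊕ Fin n → F} (h : Line p r) (h' : Line p' r') :
    Reach p r p' r' := by
  obtain ⟨x, hx, -, hp'x⟩ := exists_common hn p r p' h
  refine (reach_share hn h hx).trans ?_
  obtain ⟨e1, hx'⟩ := grp_swap hx
  try unfold Reach
  rw [e1]
  by_cases hind : LinearIndependent F ![x, p']
  · have hl : Line x p' := ⟨hx.qr, h'.qp, by rw [pol_comm, hp'x], hind⟩
    obtain ⟨e2, hl'⟩ := grp_swap hl
    refine (reach_share hn hx' hl).trans ?_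
    try unfold Reach
    rw [e2]
    exact reach_share hn hl' h'
  · rw [LinearIndependent.pair_iff' (show x ≠ 0 from hx.ind.ne_zero 1)] at hind
    push Not at hind
    obtain ⟨e, he⟩ := hind
    have he0 : e ≠ 0 := by
      rintro rfl
      rw [zero_smul] at he
      exact h'.ind.ne_zero 0 he.symm
    have hl : Line p' p := by
      rw [← he]
      simpa using hx'.change (a := e) (b := 0) (c := 0) (d := 1) (by simpa using he0)
    have e2 : grp x p = grp p' p := by
      refine grp_congr hx' hl he0 ?_
      rw [← he]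
      simpa using nil_change e 0 0 1 x p
    rw [e2]
    exact reach_share hn hl h'

theorem isConnected : IsConnectedFamily (FAdj (grpSet (F := F) (n := n))) grpSet := by
  intro A hA B hB
  obtain ⟨p, r, h, rfl⟩ := mem_grpSet.1 hA
  obtain ⟨s, t, h', rfl⟩ := mem_grpSet.1 hB
  exact reach_all hn h h'

end CfsgLib.Trans3.Siegel
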