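import Cfsg.Agent.Lib.Trans3.SiegelBasic

/-!
# The set of Siegel transvection groups
-/

set_option autoImplicit false
set_option linter.unusedSectionVars false

namespace CfsgLib.Trans3.Siegel

open Cfsg Matrix CfsgLib.Trans3.UniGroup CfsgLib.Trans3.RankOne

variable {F : Type*} [Field F] {n : ℕ}

/-- `T(⟨p, r⟩)`. -/
def grp (p r : Fin n ⊕ Fin n → F) : Subgroup ↥(isometryGroup F (quadFormPlus n F)) :=
  Subgroup.closure {σ : ↥(isometryGroup F (quadFormPlus n F)) | ∀ v : Fin n ⊕ Fin n → F,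
    quadFormPlus n F (v + p) - quadFormPlus n F v - quadFormPlus n F p = 0 →
    quadFormPlus n F (v + r) - quadFormPlus n F v - quadFormPlus n F r = 0 →
      ((σ : GL (Fin n ⊕ Fin n) F) : Matrix (Fin n ⊕ Fin n) (Fin n ⊕ Fin n) F) *ᵥ v = v}

/-- All of them. -/
def grpSet : Set (Subgroup ↥(isometryGroup F (quadFormPlus n F))) :=
  {A | ∃ p r : Fin n ⊕ Fin n → F, LinearIndependent F ![p, r] ∧
    quadFormPlus n F p = 0 ∧ quadFormPlus n F r = 0 ∧ quadFormPlus n F (p + r) = 0 ∧ A = grp p r}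

/-- The inclusion in the matrices. -/
def isoVal : ↥(isometryGroup F (quadFormPlus n F)) →* Matrix (Fin n ⊕ Fin n) (Fin n ⊕ Fin n) F :=
  (Units.coeHom _).comp (isometryGroup F (quadFormPlus n F)).subtype

theorem isoVal_injective : Function.Injective (isoVal (F := F) (n := n)) :=
  fun _ _ h => Subtype.ext (Units.ext h)

theorem isoVal_preserves (g : ↥(isometryGroup F (quadFormPlus n F))) (v : Fin n ⊕ Fin n → F) :
    quadFormPlus n F (isoVal g *ᵥ v) = quadFormPlus n F v := g.2 v v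

theorem mem_grpSet {A : Subgroup ↥(isometryGroup F (quadFormPlus n F))} :
    A ∈ grpSet ↔ ∃ p r, Line p r ∧ A = grp p r := by
  constructor
  · rintro ⟨p, r, h, hp, hr, hpr, rfl⟩
    refine ⟨p, r, ⟨hp, hr, ?_, h⟩, rfl⟩
    rw [← polar_eq, hp, hr, hpr]; ring
  · rintro ⟨p, r, h, rfl⟩
    refine ⟨p, r, h.ind, h.qp, h.qr, ?_, rfl⟩
    rw [qf_add, h.qp, h.qr, h.pr]; ring

theorem uni_grp {p r : Fin n ⊕ Fin n → F} (h : Line p r) :
    Uni isoVal (grp p r) (nil p r) := by
  have hgen : ∀ σ : ↥(isometryGroup F (quadFormPlus n F)), (∀ v : Fin n ⊕ Fin n → F,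
      quadFormPlus n F (v + p) - quadFormPlus n F v - quadFormPlus n F p = 0 →
      quadFormPlus n F (v + r) - quadFormPlus n F v - quadFormPlus n F r = 0 →
        ((σ : GL (Fin n ⊕ Fin n) F) : Matrix (Fin n ⊕ Fin n) (Fin n ⊕ Fin n) F) *ᵥ v = v) ↔
      ∃ c : F, isoVal σ = 1 + c • nil p r := by
    intro σ
    simp only [polar_eq]
    constructor
    · exact fun hσ => h.fixing (isoVal_preserves σ) hσ
    · rintro ⟨c, hc⟩ v h1 h2
      show isoVal σ *ᵥ v = v
      rw [hc, Matrix.add_mulVec, Matrix.one_mulVec, Matrix.smul_mulVec, nil_mulVec, h1, h2,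
        zero_smul, zero_smul, sub_zero, smul_zero, add_zero]
  have hsurj : ∀ c : F, ∃ g, isoVal (F := F) (n := n) g = 1 + c • nil p r := fun c =>
    ⟨⟨⟨1 + c • nil p r, 1 + (-c) • nil p r, inv_one_add h.nil_sq c, by
      have := inv_one_add h.nil_sq (-c); rwa [neg_neg] at this⟩,
      fun u _ => h.preserves c u⟩, rfl⟩
  refine ⟨h.nil_sq, fun g => ?_, hsurj⟩
  constructor
  · intro hg
    induction hg using Subgroup.closure_induction with
    | mem t ht => exact (hgen t).1 ht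
    | one => exact ⟨0, by rw [zero_smul, add_zero, map_one]⟩
    | mul x y _ _ hx hy =>
        obtain ⟨c, hc⟩ := hx; obtain ⟨d, hd⟩ := hy
        refine ⟨c + d, ?_⟩
        rw [map_mul, hc, hd, one_add_mul_one_add, smul_mul_smul_comm, h.nil_sq, smul_zero,
          add_zero, add_assoc, add_smul]
    | inv x _ hx =>
        obtain ⟨c, hc⟩ := hx
        exact ⟨-c, TvGroup.map_inv_eq (by rw [hc, inv_one_add h.nil_sq])⟩
  · exact fun hg => Subgroup.subset_closure ((hgen g).2 hg)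

theorem uni_subgroupOf {ι : Type} [Fintype ι] [DecidableEq ι] {G : Type*} [Group G]
    {f : G →* Matrix ι ι F} {A : Subgroup G} {N : Matrix ι ι F} (h : Uni f A N) (H : Subgroup G)
    (hAH : A ≤ H) : Uni (f.comp H.subtype) (A.subgroupOf H) N where
  sq := h.sq
  mem g := h.mem g.1
  surj c := by
    obtain ⟨g, hg, hgf⟩ := h.exists_mem c
    exact ⟨⟨g, hAH hg⟩, hgf⟩

theorem Line.nil_change' {p r : Fin n ⊕ Fin n → F} {G : Type*} [Group G]
    {f : G →* Matrix (Fin n ⊕ Fin n) (Fin n ⊕ Fin n) F} {A : Subgroup G}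
    (hA : Uni f A (nil p r)) {a b c d : F} (hd : a * d - b * c ≠ 0) :
    Uni f A (nil (a • p + b • r) (c • p + d • r)) := by
  rw [nil_change]; exact hA.smul hd

theorem pair_cases {G : Type*} [Group G]
    {f : G →* Matrix (Fin n ⊕ Fin n) (Fin n ⊕ Fin n) F} (hf : Function.Injective f)
    {S : Set (Subgroup G)}
    (hS : ∀ p r, Line p r → ∃ C ∈ S, Uni f C (nil p r))
    {A B : Subgroup G} {p r s t : Fin n ⊕ Fin n → F} (h : Line p r) (h' : Line s t)
    (hA : Uni f A (nil p r)) (hB : Uni f B (nil s t)) :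
    ⁅A, B⁆ = ⊥ ∨ IsPSL2PairOver F A B ∨ RootCommutatorCase S A B := by
  rcases h.cases h' with hall | ⟨a, b, c, d, a', b', c', d', hd1, hd2, e1, e2, e3, e4⟩
  · exact Or.inl (hA.commutator_bot hf hB (commute_zero h h'
      (hall p (Or.inl rfl) s (Or.inl rfl)) (hall p (Or.inl rfl) t (Or.inr rfl))
      (hall r (Or.inr rfl) s (Or.inl rfl)) (hall r (Or.inr rfl) t (Or.inr rfl))))
  have hA' := Line.nil_change' hA hd1
  have hB' := Line.nil_change' hB hd2
  have L1 := h.change hd1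
  have L2 := h'.change hd2
  rcases e4 with e4 | e4
  · obtain ⟨Φ, h1, h2, h3, h4⟩ := exists_sl2 L1 L2 e1 e2 e3 e4
    exact Or.inr (Or.inl (hA'.pairOver hf (hB'.smul (neg_ne_zero.2 one_ne_zero)) Φ h1 h2 h3 h4))
  · by_cases hind : LinearIndependent F ![c • p + d • r, c' • s + d' • t]
    · have L3 := rankOne_line L1 L2 e1 e2 e3 e4 hind
      obtain ⟨C, hC, hTC⟩ := hS _ _ L3
      exact Or.inr (Or.inr (hA'.commutatorCase hf hB' hTC one_ne_zero
        (rankOne_commutator L1 L2 e1 e2 e3 e4) (rankOne_nmn L1 L2 e1 e2 e3 e4)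
        (rankOne_mnm L1 L2 e1 e2 e3 e4) (rankOne_kn L1 L2 e1 e2 e3 e4)
        (rankOne_km L1 L2 e1 e2 e3 e4) L1.nil_ne_zero hC))
    · have hr0 : c • p + d • r ≠ 0 := L1.ind.ne_zero 1
      rw [LinearIndependent.pair_iff' hr0] at hind
      push Not at hind
      obtain ⟨e, he⟩ := hind
      exact Or.inl (hA'.commutator_bot hf hB' (rankOne_comm L1 L2 e1 e2 e3 e4 he.symm))

/-- The subgroup generated by all of them. -/
def gen (F : Type*) [Field F] (n : ℕ) : Subgroup ↥(isometryGroup F (quadFormPlus n F)) :=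
  ⨆ B ∈ (grpSet : Set (Subgroup ↥(isometryGroup F (quadFormPlus n F)))), B

/-- The same groups inside `gen`. -/
def subSet (F : Type*) [Field F] (n : ℕ) : Set (Subgroup ↥(gen F n)) :=
  (fun A : Subgroup ↥(isometryGroup F (quadFormPlus n F)) => A.subgroupOf (gen F n)) '' grpSet

theorem conj_grp {p r : Fin n ⊕ Fin n → F} (h : Line p r)
    (g : ↥(isometryGroup F (quadFormPlus n F))) : conjBy (grp p r) g ∈ grpSet := by
  have hpres := isoVal_preserves g
  have hcancel : ∀ x, isoVal g⁻¹ *ᵥ (isoVal g *ᵥ x) = x := fun x => by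
    rw [mulVec_mulVec, ← map_mul, inv_mul_cancel, map_one, one_mulVec]
  have hcancel' : ∀ x, isoVal g *ᵥ (isoVal g⁻¹ *ᵥ x) = x := fun x => by
    rw [mulVec_mulVec, ← map_mul, mul_inv_cancel, map_one, one_mulVec]
  have L : Line (isoVal g *ᵥ p) (isoVal g *ᵥ r) := by
    refine ⟨(hpres p).trans h.qp, (hpres r).trans h.qr, (iso_pol hpres p r).trans h.pr, ?_⟩
    rw [LinearIndependent.pair_iff]
    intro x y hxy
    refine LinearIndependent.pair_iff.1 h.ind x y ?_
    rw [← mulVec_smul, ← mulVec_smul, ← mulVec_add] at hxy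
    have := congrArg (fun v => isoVal g⁻¹ *ᵥ v) hxy
    simpa only [hcancel, mulVec_zero] using this
  have key : isoVal g * nil p r = nil (isoVal g *ᵥ p) (isoVal g *ᵥ r) * isoVal g :=
    mat_ext fun v => by
      simp [← mulVec_mulVec, nil_mulVec, Matrix.mulVec_sub, Matrix.mulVec_smul, iso_pol hpres]
  refine mem_grpSet.2 ⟨_, _, L, ?_⟩
  ext x
  rw [mem_conjBy, (uni_grp h).mem, (uni_grp L).mem]
  refine exists_congr fun c => ?_
  have e : isoVal g * (1 + c • nil p r) * isoVal g⁻¹ =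
      1 + c • nil (isoVal g *ᵥ p) (isoVal g *ᵥ r) := by
    rw [Matrix.mul_add, Matrix.mul_one, Matrix.mul_smul, key, Matrix.add_mul, ← map_mul,
      mul_inv_cancel, map_one, Matrix.smul_mul, Matrix.mul_assoc, ← map_mul, mul_inv_cancel,
      map_one, Matrix.mul_one]
  rw [← e]
  constructor
  · intro hc; rw [← hc, ← map_mul, ← map_mul]; group
  · intro hc
    rw [map_mul, map_mul, hc]
    simp only [← mul_assoc]
    rw [← map_mul, inv_mul_cancel, map_one, one_mul, mul_assoc, ← map_mul, inv_mul_cancel,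
      map_one, mul_one]

theorem isKRootSubgroupSet : IsKRootSubgroupSet F (subSet F n) := by
  have hinj : Function.Injective (isoVal.comp (gen F n).subtype :
      ↥(gen F n) →* Matrix (Fin n ⊕ Fin n) (Fin n ⊕ Fin n) F) :=
    fun _ _ h => Subtype.ext (isoVal_injective h)
  have hle : ∀ A ∈ (grpSet : Set (Subgroup ↥(isometryGroup F (quadFormPlus n F)))),
      A ≤ gen F n := fun A hA => le_iSup₂_of_le (f := fun B (_ : B ∈ grpSet) => B) A hA le_rfl
  have hdata : ∀ A ∈ subSet F n,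
      ∃ p r, Line p r ∧ Uni (isoVal.comp (gen F n).subtype) A (nil p r) := by
    rintro _ ⟨A, hA, rfl⟩
    obtain ⟨p, r, h, rfl⟩ := mem_grpSet.1 hA
    exact ⟨p, r, h, uni_subgroupOf (uni_grp h) _ (hle _ hA)⟩
  have hC : ∀ p r, Line p r → ∃ C ∈ subSet F n,
      Uni (isoVal.comp (gen F n).subtype) C (nil p r) := fun p r h =>
    ⟨_, ⟨_, mem_grpSet.2 ⟨p, r, h, rfl⟩, rfl⟩,
      uni_subgroupOf (uni_grp h) _ (hle _ (mem_grpSet.2 ⟨p, r, h, rfl⟩))⟩
  have hcases : ∀ A ∈ subSet F n, ∀ B ∈ subSet F n,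
      ⁅A, B⁆ = ⊥ ∨ IsPSL2PairOver F A B ∨ RootCommutatorCase (subSet F n) A B := by
    intro A hA B hB
    obtain ⟨p, r, h, hTA⟩ := hdata A hA
    obtain ⟨s, t, h', hTB⟩ := hdata B hB
    exact pair_cases hinj hC h h' hTA hTB
  have hS : IsRootSubgroupSet (subSet F n) := by
    refine ⟨fun A hA => ?_, fun A hA => ?_, ?_, ?_, fun A hA B hB => ?_⟩
    · obtain ⟨p, r, -, hT⟩ := hdata A hA; exact hT.isMulCommutative hinj
    · obtain ⟨p, r, h, hT⟩ := hdata A hA; exact hT.ne_bot h.nil_ne_zero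
    · refine Subgroup.map_injective (gen F n).subtype_injective ?_
      rw [← MonoidHom.range_eq_map, Subgroup.range_subtype]
      refine le_antisymm (Subgroup.map_subtype_le _) (iSup₂_le fun A hA x hx => ?_)
      exact ⟨⟨x, hle A hA hx⟩, Subgroup.mem_iSup_of_mem (A.subgroupOf (gen F n))
        (Subgroup.mem_iSup_of_mem ⟨A, hA, rfl⟩ hx), rfl⟩
    · rintro _ ⟨A, hA, rfl⟩ g
      obtain ⟨p, r, h, rfl⟩ := mem_grpSet.1 hA
      refine ⟨_, conj_grp h (g : ↥(isometryGroup F (quadFormPlus n F))), ?_⟩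
      show (conjBy (grp p r) _).subgroupOf (gen F n) = _
      ext x
      simp only [Subgroup.mem_subgroupOf, mem_conjBy, Subgroup.coe_mul, Subgroup.coe_inv]
    · rcases hcases A hA B hB with h | h | h
      exacts [Or.inl h, Or.inr (Or.inl (PairOver.isRankOnePair_of_pairOver h)), Or.inr (Or.inr h)]
  refine ⟨hS, fun A hA B hB hr => ?_⟩
  rcases hcases A hA B hB with h | h | h
  · exact absurd h (not_commutator_bot hr)
  · exact h
  · exact absurd h (PairOver.not_commutatorCase hr (hS.commutative A hA) (hS.commutative B hB))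

end CfsgLib.Trans3.Siegel
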