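import Cfsg.Agent.Lib.Trans3.SixLattice

/-!
# The fixed vectors of norm eight of an element of order three with six fixed points
-/

set_option autoImplicit false
set_option maxRecDepth 100000

namespace CfsgLib.Trans3

open Cfsg CfsgLib.Golay CfsgLib.Mathieu

/-- The fixed code words, each with a parity. -/
def sixKeys : List (ℕ × ℕ) := ([0, 1] : List ℕ).flatMap fun m => sixCodes.map fun w => (m, w)

/-- The candidate values in a residue class modulo four, with squares. -/
def sVals : ℕ → List (ℤ × ℕ)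
  | 0 => [(0, 0), (4, 16), (-4, 16), (8, 64), (-8, 64)]
  | 1 => [(1, 1), (-3, 9), (5, 25), (-7, 49)]
  | 2 => [(2, 4), (-2, 4), (6, 36), (-6, 36)]
  | _ => [(-1, 1), (3, 9), (-5, 25), (7, 49)]

/-- The residue and the length of each cycle. -/
def sResList (k : ℕ × ℕ) : List (ℕ × ℕ) :=
  (List.range 12).map fun j =>
    ((k.1 + 2 * (if k.2.testBit (sixReps.getD j 0) then 1 else 0)) % 4, sixCyc.count j)

/-- The candidates allowed by the remaining norm. -/
def sCands (r l left : ℕ) : List (ℤ × ℕ) := (sVals r).filter fun x => Nat.ble (l * x.2) left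

/-- The number of value lists. -/
def sCountV : List (ℕ × ℕ) → ℕ → ℤ → ℤ → ℕ
  | [], left, s, tgt => if left = 0 ∧ s % 8 = tgt then 1 else 0
  | (r, l) :: R, left, s, tgt =>
    ((sCands r l left).map fun x => sCountV R (left - l * x.2) (s + l * x.1) tgt).sum

/-- The value lists. -/
def sAllV : List (ℕ × ℕ) → ℕ → ℤ → ℤ → List (List ℤ)
  | [], left, s, tgt => if left = 0 ∧ s % 8 = tgt then [[]] else []
  | (r, l) :: R, left, s, tgt =>
    (sCands r l left).flatMap fun x =>
      (sAllV R (left - l * x.2) (s + l * x.1) tgt).map (x.1 :: ·)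

theorem sAllV_length : ∀ R left s tgt, (sAllV R left s tgt).length = sCountV R left s tgt
  | [], left, s, tgt => by
    simp only [sAllV, sCountV]
    split_ifs <;> rfl
  | (r, l) :: R, left, s, tgt => by
    simp only [sAllV, sCountV, List.length_flatMap, List.length_map, sAllV_length R]

/-- The norm of a value list. -/
def sNorm : List (ℕ × ℕ) → List ℤ → ℤ
  | (_, l) :: R, x :: xs => (l : ℤ) * x ^ 2 + sNorm R xs
  | _, _ => 0

/-- The sum of a value list. -/
def sSum : List (ℕ × ℕ) → List ℤ → ℤ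
  | (_, l) :: R, x :: xs => (l : ℤ) * x + sSum R xs
  | _, _ => 0

theorem sNorm_nonneg : ∀ R xs, 0 ≤ sNorm R xs
  | [], _ => by simp [sNorm]
  | _ :: _, [] => by simp [sNorm]
  | (_, l) :: R, x :: xs => by
    simp only [sNorm]
    exact add_nonneg (mul_nonneg (Int.natCast_nonneg l) (sq_nonneg x)) (sNorm_nonneg R xs)

theorem sVals_spec {r : ℕ} (hr : r < 4) {x : ℤ} : (∃ n, (x, n) ∈ sVals r) ↔
    x % 4 = r ∧ x ^ 2 ≤ 64 := by
  constructor
  · rintro ⟨n, hn⟩
    have key : ∀ r : ℕ, r < 4 → ∀ e ∈ sVals r, e.1 % 4 = (r : ℤ) ∧ e.1 ^ 2 ≤ 64 := by decide +kernel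
    exact key r hr (x, n) hn
  · rintro ⟨h1, h2⟩
    have hb : -8 ≤ x ∧ x ≤ 8 := ⟨by nlinarith, by nlinarith⟩
    have key : ∀ r : ℕ, r < 4 → ∀ y : ℕ, y < 17 → ((y : ℤ) - 8) % 4 = (r : ℤ) →
        ((y : ℤ) - 8) ∈ (sVals r).map Prod.fst := by decide +kernel
    have := key r hr (x + 8).toNat (by omega) (by rw [show (((x + 8).toNat : ℕ) : ℤ) - 8 = x by omega]; exact h1)
    rw [show (((x + 8).toNat : ℕ) : ℤ) - 8 = x by omega, List.mem_map] at this
    obtain ⟨⟨y, n⟩, hy, rfl⟩ := this
    exact ⟨n, hy⟩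

theorem sVals_sq {r : ℕ} {x : ℤ} {n : ℕ} (h : (x, n) ∈ sVals r) : (n : ℤ) = x ^ 2 := by
  have key : ∀ e ∈ sVals r, (e.2 : ℤ) = e.1 ^ 2 := by unfold sVals; split <;> decide
  exact key (x, n) h

theorem mem_sAllV : ∀ {R : List (ℕ × ℕ)} {left : ℕ} {s tgt : ℤ} {xs : List ℤ},
    (∀ p ∈ R, p.1 < 4 ∧ 0 < p.2) → left ≤ 64 →
    (xs ∈ sAllV R left s tgt ↔ List.Forall₂ (fun (p : ℕ × ℕ) (x : ℤ) => x % 4 = (p.1 : ℤ)) R xs ∧
      sNorm R xs = left ∧ (s + sSum R xs) % 8 = tgt)
  | [], left, s, tgt, xs, _, _ => by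
    simp only [sAllV, List.forall₂_nil_left_iff]
    constructor
    · intro h
      split_ifs at h with h'
      · simp only [List.mem_singleton] at h
        subst h
        exact ⟨rfl, by simp [sNorm, h'.1], by simpa [sSum] using h'.2⟩
      · simp at h
    · rintro ⟨rfl, h1, h2⟩
      simp only [sNorm] at h1
      simp only [sSum, add_zero] at h2
      rw [if_pos ⟨by omega, h2⟩]
      simp
  | (r, l) :: R, left, s, tgt, xs, hR, hl => by
    obtain ⟨hr, hl0⟩ := hR (r, l) (List.mem_cons_self ..)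
    have hR' : ∀ p ∈ R, p.1 < 4 ∧ 0 < p.2 := fun p hp => hR p (List.mem_cons_of_mem _ hp)
    simp only [sAllV, List.mem_flatMap, sCands, List.mem_filter, Nat.ble_eq, List.mem_map]
    constructor
    · rintro ⟨⟨x, n⟩, ⟨hx, hle⟩, ys, hys, rfl⟩
      obtain ⟨h1, h2, h3⟩ := (mem_sAllV hR' (by omega)).1 hys
      have hn := sVals_sq hx
      refine ⟨List.Forall₂.cons ((sVals_spec hr).1 ⟨n, hx⟩).1 h1, ?_, ?_⟩
      · simp only [sNorm]
        rw [h2, ← hn, Nat.cast_sub hle]
        push_cast; ring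
      · simp only [sSum]
        rw [← h3]; congr 1; ring
    · rintro ⟨h1, h2, h3⟩
      obtain ⟨x, ys, hx, hys, rfl⟩ := List.forall₂_cons_left_iff.1 h1
      simp only [sNorm] at h2
      simp only [sSum] at h3
      have h0 := sNorm_nonneg R ys
      have hl1 : (1 : ℤ) ≤ l := by exact_mod_cast hl0
      have hsq : x ^ 2 ≤ 64 := by nlinarith [sq_nonneg x, (show (left : ℤ) ≤ 64 by exact_mod_cast hl)]
      obtain ⟨n, hn⟩ := (sVals_spec hr).2 ⟨hx, hsq⟩
      have hn' := sVals_sq hn
      have hle : l * n ≤ left := by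
        have : ((l * n : ℕ) : ℤ) ≤ (left : ℤ) := by push_cast; rw [hn']; linarith
        exact_mod_cast this
      refine ⟨(x, n), ⟨hn, hle⟩, ys, (mem_sAllV hR' (by omega)).2 ⟨hys, ?_, ?_⟩, rfl⟩
      · rw [Nat.cast_sub hle]; push_cast; rw [hn']; linarith
      · rw [← h3]; congr 1; ring

theorem sVals_nodup : ∀ r, ((sVals r).map Prod.fst).Nodup := by
  intro r
  unfold sVals
  split <;> decide

theorem sAllV_nodup : ∀ (R : List (ℕ × ℕ)) (left : ℕ) (s tgt : ℤ), (sAllV R left s tgt).Nodup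
  | [], left, s, tgt => by
    simp only [sAllV]
    split_ifs <;> simp
  | (r, l) :: R, left, s, tgt => by
    simp only [sAllV]
    rw [List.nodup_flatMap]
    refine ⟨fun x _ => (sAllV_nodup R _ _ _).map fun a b h => List.cons.inj h |>.2, ?_⟩
    have h : ((sCands r l left).map Prod.fst).Nodup :=
      (List.Sublist.map Prod.fst List.filter_sublist).nodup (sVals_nodup r)
    rw [List.Nodup, List.pairwise_map] at h
    refine h.imp fun {a b} hab => ?_
    intro ys ha hb
    obtain ⟨u, -, rfl⟩ := List.mem_map.1 ha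
    obtain ⟨v, -, hv⟩ := List.mem_map.1 hb
    exact hab (List.cons.inj hv).1.symm

/-- All value lists of a given norm. -/
def sixLeavesOf (n : ℕ) : List (List ℤ) :=
  sixKeys.flatMap fun k => sAllV (sResList k) n 0 (4 * (k.1 : ℤ) % 8)

/-- All value lists. -/
def sixLeaves : List (List ℤ) := sixLeavesOf 64

theorem sixCount_eq :
    (sixKeys.map fun k => sCountV (sResList k) 64 0 (4 * (k.1 : ℤ) % 8)).sum = 20412 := by
  decide +kernel

theorem sResList_ok : ∀ k ∈ sixKeys, k.1 < 2 ∧ ∀ p ∈ sResList k, p.1 < 4 ∧ 0 < p.2 := by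
  decide +kernel

theorem sixLeaves_length : sixLeaves.length = 20412 := by
  rw [sixLeaves, sixLeavesOf, List.length_flatMap, ← sixCount_eq]
  simp only [sAllV_length]

theorem sixLeaves_nodup : sixLeaves.Nodup := by
  rw [sixLeaves, sixLeavesOf, List.nodup_flatMap]
  refine ⟨fun k _ => sAllV_nodup _ _ _ _, ?_⟩
  have key : sixKeys.Pairwise fun a b => (sResList a).map Prod.fst ≠ (sResList b).map Prod.fst := by
    decide +kernel
  refine key.imp_of_mem fun {a b} ha hb hab ys hya hyb => hab ?_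
  have hres : ∀ {R : List (ℕ × ℕ)} {zs : List ℤ},
      List.Forall₂ (fun (p : ℕ × ℕ) (x : ℤ) => x % 4 = (p.1 : ℤ)) R zs →
      R.map Prod.fst = zs.map fun x => (x % 4).toNat := by
    intro R zs h
    induction h with
    | nil => rfl
    | cons h1 _ ih => simp [ih, h1]
  rw [hres ((mem_sAllV (sResList_ok a ha).2 le_rfl).1 hya).1,
    hres ((mem_sAllV (sResList_ok b hb).2 le_rfl).1 hyb).1]

theorem sum_cycles (g : Fin 12 → ℤ) :
    ∑ q : GolayPt, g (sCy q) = ∑ j : Fin 12, (sixCyc.count j.val : ℤ) * g j := by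
  rw [← Finset.sum_fiberwise Finset.univ sCy]
  refine Finset.sum_congr rfl fun j _ => ?_
  have key : ∀ j : Fin 12, (Finset.univ.filter fun q => sCy q = j).card = sixCyc.count j.val := by
    decide +kernel
  rw [Finset.sum_congr rfl fun q hq => by rw [(Finset.mem_filter.1 hq).2], Finset.sum_const, key,
    nsmul_eq_mul]

theorem sNorm_sum (k : ℕ × ℕ) (g : Fin 12 → ℤ) :
    sNorm (sResList k) (List.ofFn g) = sqNorm (fun q => g (sCy q)) ∧
      sSum (sResList k) (List.ofFn g) = ∑ q : GolayPt, g (sCy q) := by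
  rw [sqNorm, sum_cycles g, sum_cycles fun j => g j ^ 2]
  simp only [sResList, List.range_succ, List.range_zero, List.nil_append, List.cons_append,
    List.map_cons, List.map_nil, List.ofFn_succ, List.ofFn_zero, sNorm, sSum, Fin.sum_univ_succ,
    Fin.sum_univ_zero]
  constructor <;> simp

/-- A representation with parity zero or one. -/
theorem leechRep_norm {x : GolayPt → ℤ} (hx : x ∈ leechLattice) :
    ∃ m a, (m = 0 ∨ m = 1) ∧ IsLeechRep x m a := by
  obtain ⟨m, a, h1, h2, h3⟩ := mem_leechLattice_iff.1 hx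
  refine ⟨m % 2, fun q => a q + m / 2, by omega, fun q => by dsimp only; rw [h1 q]; omega, ?_, ?_⟩
  · have e : mod2 (fun q => a q + m / 2) = mod2 a + ((m / 2 : ℤ) : ZMod 2) • (1 : GolayPt → ZMod 2) := by
      funext q; simp [mod2]
    rw [e]
    exact Submodule.add_mem _ h2 (Submodule.smul_mem _ _
      (by rw [← mword_full, mword_mem_iff (by norm_num)]; decide +kernel))
  · rw [Finset.sum_add_distrib, Finset.sum_const]
    simp only [Finset.card_univ, show Fintype.card GolayPt = 24 from rfl, nsmul_eq_mul]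
    push_cast
    omega

theorem sixCodes_ok : ∀ w ∈ sixCodes, isCode w = true ∧
    ∀ i < 24, w.testBit i = w.testBit (idx (sRep (sCy (pt i)))) := by decide +kernel

theorem sixCodes_complete : ∀ k < 4096,
    (∀ i < 24, (enc k).testBit i = (enc k).testBit (idx (sRep (sCy (pt i))))) → enc k ∈ sixCodes := by
  decide +kernel

theorem sRep_idx : ∀ j : Fin 12, idx (sRep j) = sixReps.getD j 0 := by decide +kernel

/-- The value list of a fixed vector. -/
noncomputable def sValues (v : leechLattice) : List ℤ :=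
  List.ofFn fun j => (v : GolayPt → ℤ) (sRep j)

theorem forall₂_ofFn {α β : Type*} {P : α → β → Prop} : ∀ {n : ℕ} {f : Fin n → α} {g : Fin n → β},
    List.Forall₂ P (List.ofFn f) (List.ofFn g) ↔ ∀ j, P (f j) (g j)
  | 0, f, g => by simp
  | n + 1, f, g => by
    rw [List.ofFn_succ, List.ofFn_succ, List.forall₂_cons, forall₂_ofFn, Fin.forall_fin_succ]

theorem forall₂_res (k : ℕ × ℕ) (g : Fin 12 → ℤ) :
    List.Forall₂ (fun (p : ℕ × ℕ) (x : ℤ) => x % 4 = (p.1 : ℤ)) (sResList k) (List.ofFn g) ↔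
      ∀ j : Fin 12, g j % 4 =
        (((k.1 + 2 * (if k.2.testBit (idx (sRep j)) then 1 else 0)) % 4 : ℕ) : ℤ) := by
  have e : sResList k = List.ofFn fun j : Fin 12 =>
      (((k.1 + 2 * (if k.2.testBit (idx (sRep j)) then 1 else 0)) % 4, sixCyc.count j.val) : ℕ × ℕ) := by
    simp only [sRep_idx]
    simp [sResList, List.range_succ, List.ofFn_succ]
  rw [e, forall₂_ofFn]

theorem sValues_mem_of {v : leechLattice} (hv : sixA • v = v) {n : ℕ} (hn : n ≤ 64)
    (hq : sqNorm (v : GolayPt → ℤ) = n) : sValues v ∈ sixLeavesOf n := by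
  obtain ⟨m, a, hm, h1, h2, h3⟩ := leechRep_norm v.2
  have hconst : ∀ q, a q = a (sRep (sCy q)) := fun q => by
    have := six_const hv q
    rw [h1 q, h1 (sRep (sCy q))] at this
    omega
  obtain ⟨w, hw, hwe⟩ := mem_supports_iff.1 (mem_supports_word.2 h2)
  have hbit : ∀ q : GolayPt, w.testBit (idx q) = decide (a q % 2 = 1) := fun q => by
    rw [Bool.eq_iff_iff, decide_eq_true_iff, ← mem_mset, hwe, mem_support_mod2]
  have hwk : w ∈ sixCodes := by
    have hlt : w % 4096 < 4096 := Nat.mod_lt _ (by norm_num)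
    have he := isCode_iff.1 hw
    rw [← he]
    refine sixCodes_complete _ hlt fun i hi => ?_
    rw [he, hbit, ← hconst (pt i), ← hbit, idx_pt hi]
  refine List.mem_flatMap.2 ⟨(m.toNat, w), ?_, ?_⟩
  · rcases hm with rfl | rfl <;> simp [sixKeys, hwk]
  have hok := sResList_ok (m.toNat, w) (by rcases hm with rfl | rfl <;> simp [sixKeys, hwk])
  rw [mem_sAllV hok.2 hn, sValues, forall₂_res, (sNorm_sum _ _).1, (sNorm_sum _ _).2]
  have hfun : (fun q => (v : GolayPt → ℤ) (sRep (sCy q))) = (v : GolayPt → ℤ) :=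
    funext fun q => (six_const hv q).symm
  refine ⟨fun j => ?_, ?_, ?_⟩
  · dsimp only
    rw [h1, hbit]
    by_cases h : a (sRep j) % 2 = 1 <;> simp [h] <;> omega
  · rw [hfun, hq]
  · rw [show (∑ q, (v : GolayPt → ℤ) (sRep (sCy q))) = ∑ q, (v : GolayPt → ℤ) q from
      Finset.sum_congr rfl fun q _ => (six_const hv q).symm, sum_rep h1]
    dsimp only
    omega

theorem sValues_mem {v : leechLattice} (hv : sixA • v = v) (hq : leechR.q v = 8) :
    sValues v ∈ sixLeaves :=
  sValues_mem_of hv (n := 64) le_rfl (by rw [← leech_q, hq]; rfl)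

theorem sixA_fix_of_const {v : leechLattice} (g : Fin 12 → ℤ)
    (h : (v : GolayPt → ℤ) = fun q => g (sCy q)) : sixA • v = v := by
  refine Subtype.ext (funext fun q => ?_)
  obtain ⟨q, rfl⟩ := (permOf sSix).surjective q
  rw [sixA_smul, h]
  simp only [sCy_perm]

theorem sValues_surj {xs : List ℤ} (h : xs ∈ sixLeaves) :
    ∃ v : leechLattice, sixA • v = v ∧ leechR.q v = 8 ∧ sValues v = xs := by
  obtain ⟨⟨m, w⟩, hk, hxs⟩ := List.mem_flatMap.1 h
  obtain ⟨hm, hok⟩ := sResList_ok _ hk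
  rw [mem_sAllV hok le_rfl] at hxs
  obtain ⟨g, rfl⟩ : ∃ g : Fin 12 → ℤ, xs = List.ofFn g := by
    have hl : xs.length = 12 := by rw [← hxs.1.length_eq]; simp [sResList]
    exact ⟨_, (List.ofFn_get xs).symm.trans (List.ofFn_congr hl _)⟩
  rw [forall₂_res, (sNorm_sum _ _).1, (sNorm_sum _ _).2] at hxs
  obtain ⟨hres, hnorm, hsum⟩ := hxs
  have hwk : w ∈ sixCodes := by
    simp only [sixKeys, List.mem_flatMap, List.mem_map, Prod.mk.injEq] at hk
    obtain ⟨_, -, w', hw', -, rfl⟩ := hk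
    exact hw'
  obtain ⟨hwc, hwi⟩ := sixCodes_ok w hwk
  have hbit : ∀ q : GolayPt, w.testBit (idx q) = w.testBit (idx (sRep (sCy q))) := fun q => by
    have := hwi _ (idx_lt q)
    rwa [pt_idx] at this
  set a : GolayPt → ℤ := fun q => (g (sCy q) - (m : ℤ)) / 2 with ha
  have hx : ∀ q, g (sCy q) = (m : ℤ) + 2 * a q ∧ ((a q % 2 = 1) ↔ w.testBit (idx q) = true) := fun q => by
    have := hres (sCy q)
    rw [← hbit q] at this
    dsimp only at this hm
    simp only [ha]
    cases hb : w.testBit (idx q) <;> simp [hb] at this ⊢ <;> omega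
  have hmem : (fun q => g (sCy q)) ∈ leechLattice := by
    refine mem_leechLattice_iff.2 ⟨(m : ℤ), a, fun q => (hx q).1, ?_, ?_⟩
    · refine mem_supports_word.1 (mem_supports_iff.2 ⟨w, hwc, ?_⟩)
      ext q
      rw [mem_mset, mem_support_mod2, (hx q).2]
    · have hs : ∑ q, g (sCy q) = 24 * (m : ℤ) + 2 * ∑ q, a q := sum_rep fun q => (hx q).1
      dsimp only at hsum hm
      omega
  refine ⟨⟨_, hmem⟩, sixA_fix_of_const g rfl, ?_, ?_⟩
  · have := leech_q ⟨_, hmem⟩
    rw [hnorm] at this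
    push_cast at this
    omega
  · have key : ∀ j : Fin 12, sCy (sRep j) = j := by decide +kernel
    simp [sValues, key]

theorem sValues_inj {v w : leechLattice} (hv : sixA • v = v) (hw : sixA • w = w)
    (h : sValues v = sValues w) : v = w := by
  refine Subtype.ext (funext fun q => ?_)
  rw [six_const hv q, six_const hw q]
  exact congrFun (List.ofFn_injective h) _

/-- There are `20412` fixed vectors of norm eight. -/
theorem six_card_eight :
    Nat.card {v : leechLattice // sixA • v = v ∧ leechR.q v = 8} = 20412 := by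
  classical
  rw [← sixLeaves_length, ← List.toFinset_card_of_nodup sixLeaves_nodup, ← Nat.card_eq_finsetCard]
  refine Nat.card_congr (Equiv.ofBijective
    (fun v => ⟨sValues v.1, List.mem_toFinset.2 (sValues_mem v.2.1 v.2.2)⟩) ⟨?_, ?_⟩)
  · intro v w h
    exact Subtype.ext (sValues_inj v.2.1 w.2.1 (congrArg Subtype.val h))
  · rintro ⟨xs, hxs⟩
    obtain ⟨v, h1, h2, h3⟩ := sValues_surj (List.mem_toFinset.1 hxs)
    exact ⟨⟨v, h1, h2⟩, Subtype.ext h3⟩

end CfsgLib.Trans3
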