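import Cfsg.Agent.Lib.Trans3.SixForm
import Cfsg.Agent.Lib.Trans3.SixVectors
import Cfsg.Agent.Lib.Trans3.MonsterLocal
import Cfsg.Agent.Lib.Trans3.MonsterJoint
import Cfsg.Agent.Lib.Mathieu.OrderThree

/-!
# The order of the centraliser of an element of order three with six fixed points
-/

set_option autoImplicit false
set_option maxRecDepth 100000
set_option synthInstance.maxSize 2000

namespace CfsgLib.Trans3

open Cfsg CfsgLib.Golay CfsgLib.Mathieu
open scoped Pointwise

theorem six_code_mset {w : ℕ} (hw : w ∈ sixCodes) :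
    mset w ∈ supports (golayCode : Set (GolayPt → ZMod 2)) :=
  mem_supports_iff.2 ⟨w, (sixCodes_ok w hw).1, rfl⟩

set_option maxHeartbeats 1000000 in
theorem six_code_iff {c : Finset GolayPt} (hc : c ∈ supports (golayCode : Set (GolayPt → ZMod 2))) :
    (permOf sSix • c = c) ↔ ∃ w ∈ sixCodes, mset w = c := by
  obtain ⟨w, hw, rfl⟩ := mem_supports_iff.1 hc
  have hkey : ∀ k < 4096, Nat.beq (mimg sSix (enc k)) (enc k) = decide (enc k ∈ sixCodes) := by
    decide +kernel
  have hm : ∀ k < 4096, mimg sSix (enc k) < 16777216 := by decide +kernel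
  have he := isCode_iff.1 hw
  have hk : w % 4096 < 4096 := Nat.mod_lt _ (by norm_num)
  rw [smul_mset sSix_valid]
  constructor
  · intro h
    have e := mset_inj (by rw [← he]; exact hm _ hk) (isCode_lt hw) h
    refine ⟨w, ?_, rfl⟩
    have := hkey _ hk
    rw [he, e, Nat.beq_refl] at this
    simpa using this.symm
  · rintro ⟨u, hu, e⟩
    obtain rfl := mset_inj (isCode_lt (sixCodes_ok u hu).1) (isCode_lt hw) e
    have := hkey _ hk
    rw [he, decide_eq_true hu] at this
    rw [Nat.eq_of_beq_eq_true this]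

theorem mono_comm_sixA_iff (σ : M24) {c : Finset GolayPt}
    (hc : c ∈ supports (golayCode : Set (GolayPt → ZMod 2))) :
    monoCo0 σ σ.2 c hc ∈ sixH ↔ (σ : Equiv.Perm GolayPt) * permOf sSix = permOf sSix * σ ∧
      permOf sSix • c = c := by
  have h1 := monoCo0_mul σ sixPerm hc empty_code
  have h2 := monoCo0_mul sixPerm σ empty_code hc
  have e0 : symmDiff c ((σ : Equiv.Perm GolayPt) • (∅ : Finset GolayPt)) = c := by
    rw [Finset.smul_finset_empty]; exact symmDiff_bot c
  have e1 : symmDiff (∅ : Finset GolayPt) (permOf sSix • c) = permOf sSix • c := bot_symmDiff _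
  rw [mem_sixH]
  constructor
  · intro h
    obtain ⟨e2, e3⟩ := monoCo0_inj (h1.symm.trans (h.trans h2))
    exact ⟨e2, (e0.symm.trans (e3.trans e1)).symm⟩
  · rintro ⟨e2, e3⟩
    refine h1.trans ((LocalData.mono_congr e2 ?_).trans h2.symm)
    exact e0.trans (e3.symm.trans e1.symm)

theorem mem_commFix_six {σ : Equiv.Perm GolayPt} :
    σ ∈ commFix [] sSixPows ↔ σ ∈ M24 ∧ σ * permOf sSix = permOf sSix * σ := by
  rw [mem_commFix, fixMasks_nil, sSixPows_eq]
  refine and_congr_right fun _ => ⟨fun h => h sSix (by simp), fun h t ht => ?_⟩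
  simp only [List.mem_cons, List.not_mem_nil, or_false] at ht
  rcases ht with rfl | rfl
  · exact h
  · rw [sSixSq_eq.2]; exact (comm_sq sSix_cube (Or.inl h)).2

/-- The monomial part of the centraliser. -/
theorem six_N0_card : Nat.card (N0.subgroupOf sixH) = 1080 * 64 := by
  classical
  let F : commFix [] sSixPows × ↥sixCodes.toFinset → N0.subgroupOf sixH := fun x =>
    ⟨⟨monoCo0 (x.1 : Equiv.Perm GolayPt) (mem_commFix_six.1 x.1.2).1 (mset x.2)
        (six_code_mset (List.mem_toFinset.1 x.2.2)),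
      (mono_comm_sixA_iff ⟨x.1, (mem_commFix_six.1 x.1.2).1⟩ _).2
        ⟨(mem_commFix_six.1 x.1.2).2,
          (six_code_iff (six_code_mset (List.mem_toFinset.1 x.2.2))).2
            ⟨x.2, List.mem_toFinset.1 x.2.2, rfl⟩⟩⟩,
      mono_mem_N0 ⟨x.1, (mem_commFix_six.1 x.1.2).1⟩ (mset x.2)
        (six_code_mset (List.mem_toFinset.1 x.2.2))⟩
  have hF : Function.Bijective F := by
    constructor
    · rintro ⟨σ, w⟩ ⟨τ, u⟩ h
      obtain ⟨e1, e2⟩ := monoCo0_inj (hσ := (mem_commFix_six.1 σ.2).1) (hτ := (mem_commFix_six.1 τ.2).1)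
        (hc := six_code_mset (List.mem_toFinset.1 w.2)) (hd := six_code_mset (List.mem_toFinset.1 u.2))
        (congrArg (fun a : N0.subgroupOf sixH => ((a : sixH) : Co0)) h)
      exact Prod.ext (Subtype.ext e1) (Subtype.ext (mset_inj
        (isCode_lt (sixCodes_ok _ (List.mem_toFinset.1 w.2)).1)
        (isCode_lt (sixCodes_ok _ (List.mem_toFinset.1 u.2)).1) e2))
    · rintro ⟨⟨g, hgH⟩, hgN⟩
      obtain ⟨σ, c, hc, rfl⟩ := N0_rep hgN
      obtain ⟨h1, h2⟩ := (mono_comm_sixA_iff σ hc).1 hgH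
      obtain ⟨w, hw, rfl⟩ := (six_code_iff hc).1 h2
      exact ⟨(⟨σ, mem_commFix_six.2 ⟨σ.2, h1⟩⟩, ⟨w, List.mem_toFinset.2 hw⟩), rfl⟩
  rw [← Nat.card_eq_of_bijective F hF, Nat.card_prod, card_comm_sSix, Nat.card_eq_finsetCard,
    List.toFinset_card_of_nodup (by decide +kernel)]
  decide +kernel

/-- The fixed points. -/
def sixPt (i : Fin 6) : GolayPt := pt ([4, 5, 6, 9, 12, 17].getD i 0)

theorem sixPt_spec : ∀ q : GolayPt, permOf sSix q = q ↔ ∃ i, sixPt i = q := by
  have key : ∀ k < 24, (Nat.beq (img sSix k) k = true) ↔ ∃ i : Fin 6, sixPt i = pt k := by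
    decide +kernel
  intro q
  have := key _ (idx_lt q)
  rw [pt_idx] at this
  rw [← this, permOf_apply sSix_valid, Nat.beq_eq]
  constructor
  · intro h
    conv_rhs => rw [← h]
    rw [idx_pt (valid_lt sSix_valid (idx_lt q))]
  · intro h; rw [h, pt_idx]

theorem sixPt_inj : Function.Injective sixPt := by decide +kernel

/-- The twelve fixed vectors over the class of `8 e`. -/
def sixEight (x : Fin 6 × Bool) : leechLattice := if x.2 then -vec8 (sixPt x.1) else vec8 (sixPt x.1)

theorem sixA_vec8 {p : GolayPt} (h : permOf sSix p = p) : sixA • vec8 p = vec8 p := by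
  refine Subtype.ext (funext fun q => ?_)
  obtain ⟨q, rfl⟩ := (permOf sSix).surjective q
  rw [sixA_smul]
  show (Pi.single p 8 : GolayPt → ℤ) q = (Pi.single p 8 : GolayPt → ℤ) (permOf sSix q)
  by_cases hq : q = p
  · subst hq; rw [h]
  · rw [Pi.single_eq_of_ne hq, Pi.single_eq_of_ne]
    exact fun e => hq ((permOf sSix).injective (e.trans h.symm))

theorem sixA_sixEight (x : Fin 6 × Bool) : sixA • sixEight x = sixEight x := by
  have h := sixA_vec8 ((sixPt_spec _).2 ⟨x.1, rfl⟩)
  unfold sixEight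
  split_ifs
  · rw [co0_neg, h]
  · exact h

theorem sixEight_cls (x : Fin 6 × Bool) :
    leechR.q (sixEight x) = 8 ∧ leechR.cls (sixEight x) = leechR.cls (vec8 pinf) := by
  refine (mem_std_iff _ pinf).1 ?_
  unfold sixEight
  split_ifs
  · exact ⟨sixPt x.1, -8, Or.inr rfl, by simp [vec8, Pi.single_neg]⟩
  · exact ⟨sixPt x.1, 8, Or.inl rfl, rfl⟩

theorem sixEight_inj : Function.Injective sixEight := by
  rintro ⟨i, a⟩ ⟨j, b⟩ h
  have h1 := congrFun (congrArg Subtype.val h) (sixPt i)
  by_cases hij : i = j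
  · subst hij
    cases a <;> cases b <;> simp [sixEight, vec8] at h1 ⊢
  · exfalso
    have : sixPt i ≠ sixPt j := fun e => hij (sixPt_inj e)
    cases a <;> cases b <;> simp [sixEight, vec8, this] at h1

/-- A fixed vector of the standard cross. -/
theorem six_std_fixed {v : leechLattice} (hv : sixA • v = v) (hs : (v : GolayPt → ℤ) ∈ stdCross) :
    ∃ x, sixEight x = v := by
  obtain ⟨i, t, ht, e⟩ := hs
  have hi : permOf sSix i = i := by
    by_contra hne
    have h1 := sixA_smul v i
    rw [hv, e, Pi.single_eq_same, Pi.single_eq_of_ne hne] at h1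
    omega
  obtain ⟨j, rfl⟩ := (sixPt_spec i).1 hi
  rcases ht with rfl | rfl
  · exact ⟨(j, false), Subtype.ext e.symm⟩
  · exact ⟨(j, true), Subtype.ext (by rw [e]; simp [sixEight, vec8, Pi.single_neg])⟩

theorem sixInv_conj : permOf sixInv * permOf sSix = permOf sSixSq * permOf sixInv := by
  have hv : valid sixInv = true := by decide +kernel
  have key : ∀ i < 24, img sixInv (img sSix i) = img sSixSq (img sixInv i) := by decide +kernel
  refine Equiv.ext fun p => ?_
  rw [Equiv.Perm.mul_apply, Equiv.Perm.mul_apply, permOf_apply sSix_valid p, permOf_apply hv p,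
    permOf_pt hv (valid_lt sSix_valid (idx_lt p)), permOf_pt sSixSq_eq.1 (valid_lt hv (idx_lt p)),
    key _ (idx_lt p)]

theorem sixInv_mem : permOf sixInv ∈ M24 := inM24_mem (by decide +kernel)

/-- A permutation of order three with a fixed point is conjugate to the standard one. -/
theorem six_perm_conj {σ : M24} (h3 : orderOf σ = 3) {p : GolayPt}
    (hp : (σ : Equiv.Perm GolayPt) p = p) : ∃ c : M24, c * σ * c⁻¹ = sixPerm := by
  rcases order3_cases σ.2 (by rw [← Subgroup.orderOf_coe] at h3; exact h3) with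
    ⟨c, hc, hσ, -⟩ | ⟨c, -, -, hf⟩
  · rcases hσ with e | e
    · refine ⟨⟨c, hc⟩⁻¹, Subtype.ext ?_⟩
      show c⁻¹ * (σ : Equiv.Perm GolayPt) * c⁻¹⁻¹ = permOf sSix
      rw [e]; group
    · refine ⟨(⟨c, hc⟩ * ⟨_, sixInv_mem⟩)⁻¹, Subtype.ext ?_⟩
      show (c * permOf sixInv)⁻¹ * (σ : Equiv.Perm GolayPt) * (c * permOf sixInv)⁻¹⁻¹ = permOf sSix
      rw [e, eq_mul_inv_of_mul_eq sixInv_conj.symm]
      group
  · exfalso
    have : p ∈ fixS (σ : Equiv.Perm GolayPt) := by simp [fixS, hp]
    rw [hf] at this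
    simp at this

/-- An element of order three of `N0` with the image of the standard element is conjugate to it in `N0`. -/
theorem six_N0_conj {a : N0} (h3 : orderOf a = 3) {c : M24} (hc : c * permPart a * c⁻¹ = sixPerm) :
    ∃ t : N0, (t : Co0) * a * (t : Co0)⁻¹ = sixA := by
  obtain ⟨m, hm⟩ := permPart_surjective c
  obtain ⟨n, hn⟩ := permPart_ker_card
  have ho : orderOf (⟨sixA, sixA_mem_N0⟩ : N0) = 3 := by
    rw [← Subgroup.orderOf_coe]; exact orderOf_sixA
  have hm3 : orderOf (m * a * m⁻¹) = 3 := by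
    rw [← h3]
    exact (MulEquiv.orderOf_eq (MulAut.conj m) a)
  obtain ⟨t, ht, -⟩ := coprime_lift (p := 3) Nat.prime_three rfl permPart hn hm3 ho
    (by rw [map_mul, map_mul, map_inv, hm, hc, permPart_sixA])
  refine ⟨t * m, ?_⟩
  have := congrArg Subtype.val ht
  simp only [Subgroup.coe_mul, Subgroup.coe_inv] at this ⊢
  rw [← this]
  group

/-- The centraliser is transitive on the classes of the fixed vectors of norm eight. -/
theorem six_trans {v : leechLattice} (hv : sixA • v = v) (hq : leechR.q v = 8) :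
    ∃ h ∈ sixH, leechR.cls (h • vec8 pinf) = leechR.cls v := by
  obtain ⟨g, hg⟩ := co0_trans8 (vec8_q pinf) hq
  set a := g⁻¹ * sixA * g with ha
  have hav : a • vec8 pinf = vec8 pinf := by
    rw [ha, mul_smul, mul_smul, hg, hv, ← hg, inv_smul_smul]
  have haN : a ∈ N0 := mem_classStab.2 (congrArg leechR.cls hav)
  have h3 : orderOf (⟨a, haN⟩ : N0) = 3 := by
    rw [← Subgroup.orderOf_coe, ← orderOf_sixA]
    show orderOf a = orderOf sixA
    rw [← MulEquiv.orderOf_eq (MulAut.conj g) a]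
    congr 1
    rw [MulAut.conj_apply, ha]; group
  have hfix : (permPart ⟨a, haN⟩ : Equiv.Perm GolayPt) pinf = pinf := by
    obtain ⟨σ, c, hc, e⟩ := N0_rep haN
    have e' : (⟨a, haN⟩ : N0) = ⟨_, mono_mem_N0 σ c hc⟩ := Subtype.ext e
    rw [e', permPart_mono]
    by_contra hne
    have h1 := congrFun (congrArg Subtype.val (show monoCo0 σ σ.2 c hc • vec8 pinf = vec8 pinf from e ▸ hav))
      ((σ : Equiv.Perm GolayPt) pinf)
    rw [monoCo0_smul] at h1
    simp only [signedPerm, Equiv.symm_apply_apply, vec8, Pi.single_eq_same, Pi.single_eq_of_ne hne] at h1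
    split_ifs at h1 <;> omega
  have hp3 : orderOf (permPart ⟨a, haN⟩) = 3 := by
    haveI : Fact (Nat.Prime 3) := ⟨Nat.prime_three⟩
    refine orderOf_eq_prime (by rw [← map_pow, ← h3, pow_orderOf_eq_one, map_one]) fun h1 => ?_
    obtain ⟨n, hn⟩ := permPart_ker_card
    have h2 : orderOf (⟨⟨a, haN⟩, h1⟩ : permPart.ker) ∣ 2 ^ n := hn ▸ orderOf_dvd_natCard _
    rw [← Subgroup.orderOf_coe, h3] at h2
    have := Nat.prime_three.dvd_of_dvd_pow h2
    omega
  obtain ⟨c, hc⟩ := six_perm_conj hp3 hfix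
  obtain ⟨t, ht⟩ := six_N0_conj h3 hc
  refine ⟨g * (t : Co0)⁻¹, mem_sixH.2 ?_, ?_⟩
  · calc g * (t : Co0)⁻¹ * sixA = g * (t : Co0)⁻¹ * ((t : Co0) * a * (t : Co0)⁻¹) := by
          rw [show (t : Co0) * a * (t : Co0)⁻¹ = sixA from ht]
      _ = sixA * (g * (t : Co0)⁻¹) := by rw [ha]; group
  · rw [mul_smul, co0_cls g (mem_classStab.1 (inv_mem t.2)), hg]

/-- The order of the centraliser. -/
theorem six_card : Nat.card sixH = 1701 * (1080 * 64) := by
  classical
  set S := N0.subgroupOf sixH with hS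
  have hmem : ∀ {g k : sixH}, g⁻¹ * k ∈ S ↔
      leechR.cls ((g : Co0) • vec8 pinf) = leechR.cls ((k : Co0) • vec8 pinf) := by
    intro g k
    show leechR.cls (((g : Co0)⁻¹ * (k : Co0)) • vec8 pinf) = leechR.cls (vec8 pinf) ↔ _
    constructor
    · intro h
      have := co0_cls (g : Co0) h
      rw [← mul_smul, mul_inv_cancel_left] at this
      exact this.symm
    · intro h
      have := co0_cls (g : Co0)⁻¹ h
      rw [inv_smul_smul, ← mul_smul] at this
      exact this.symm
  let F : (sixH ⧸ S) × (Fin 6 × Bool) → {v : leechLattice // sixA • v = v ∧ leechR.q v = 8} := fun x =>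
    ⟨((x.1.out : sixH) : Co0) • sixEight x.2, sixH_fix x.1.out.2 (sixA_sixEight _),
      by rw [co0_q]; exact (sixEight_cls _).1⟩
  have hF : Function.Bijective F := by
    constructor
    · rintro ⟨u, x⟩ ⟨w, y⟩ h
      have h' : ((u.out : sixH) : Co0) • sixEight x = ((w.out : sixH) : Co0) • sixEight y :=
        congrArg Subtype.val h
      have huw : u = w := by
        rw [← u.out_eq, ← w.out_eq]
        refine QuotientGroup.eq.2 (hmem.2 ?_)
        rw [co0_cls _ (sixEight_cls x).2.symm, h', co0_cls _ (sixEight_cls y).2.symm]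
      subst huw
      exact Prod.ext rfl (sixEight_inj (MulAction.injective _ h'))
    · rintro ⟨v, hv, hq⟩
      obtain ⟨h, hh, hc⟩ := six_trans hv hq
      set u : sixH ⧸ S := QuotientGroup.mk ⟨h, hh⟩
      have hu := hmem.1 (QuotientGroup.eq.1 u.out_eq)
      obtain ⟨x, hx⟩ := six_std_fixed (v := ((u.out : sixH) : Co0)⁻¹ • v)
        (sixH_fix (sixH.inv_mem u.out.2) hv) ((mem_std_iff _ pinf).2 ⟨by rw [co0_q, hq], by
          rw [co0_cls _ (hc.symm.trans hu.symm), inv_smul_smul]⟩)
      refine ⟨(u, x), Subtype.ext ?_⟩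
      show ((u.out : sixH) : Co0) • sixEight x = v
      rw [hx, smul_inv_smul]
  have h1 := Nat.card_eq_of_bijective F hF
  rw [six_card_eight, Nat.card_prod, ← Subgroup.index, Nat.card_prod, Nat.card_fin,
    Nat.card_eq_fintype_card (α := Bool), Fintype.card_bool] at h1
  have h2 : S.index = 1701 := by omega
  rw [← S.index_mul_card, h2, six_N0_card]

end CfsgLib.Trans3
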