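import Cfsg.Agent.Lib.Mathieu.Action

/-!
# Data for the centraliser in `Co0` of an element of order three with six fixed points
-/

set_option autoImplicit false

namespace CfsgLib.Trans3

/-- The cycle of each point under the permutation. -/
def sixCyc : List ℕ := [0, 0, 1, 1, 2, 3, 4, 5, 5, 6, 7, 8, 9, 8, 1, 5, 7, 10, 11, 7, 11, 8, 11, 0]

/-- A point of each cycle. -/
def sixReps : List ℕ := [0, 2, 4, 5, 6, 7, 9, 10, 11, 12, 17, 18]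

/-- A basis of the fixed lattice, as values on the cycles. -/
def sixBasis : List (List ℤ) := [[1, 1, 1, 1, 1, 1, 1, 1, 1, 1, 1, -3],
  [0, 2, 0, 0, 2, 0, 0, 0, 0, 0, 2, 2],
  [0, 0, 2, 0, 2, 2, 0, 0, 0, 0, 0, 2],
  [0, 0, 0, 2, 2, 2, 2, 0, 0, 2, 2, 0],
  [0, 0, 0, 0, 2, 0, 0, 2, 0, 2, 0, 2],
  [0, 0, 0, 0, 0, 4, 0, 0, 0, 0, 4, 0],
  [0, 0, 0, 0, 0, 0, 2, 2, 2, 2, 0, 0],
  [0, 0, 0, 0, 0, 0, 0, 4, 0, 0, 4, 0],
  [0, 0, 0, 0, 0, 0, 0, 0, 4, 0, 4, 0],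
  [0, 0, 0, 0, 0, 0, 0, 0, 0, 4, 0, 4],
  [0, 0, 0, 0, 0, 0, 0, 0, 0, 0, 4, 4],
  [0, 0, 0, 0, 0, 0, 0, 0, 0, 0, 0, 8]]

/-- The scaled inverse of the basis. -/
def sixBinv : List (List ℤ) := [[8, -4, -4, -4, 8, 2, 0, -6, -2, -4, 8, 1],
  [0, 4, 0, 0, -4, 0, 0, 2, 0, 2, -4, 1],
  [0, 0, 4, 0, -4, -2, 0, 2, 0, 2, 0, -1],
  [0, 0, 0, 4, -4, -2, -4, 4, 2, 2, -6, 3],
  [0, 0, 0, 0, 4, 0, 0, -2, 0, -2, 2, -1],
  [0, 0, 0, 0, 0, 2, 0, 0, 0, 0, -2, 1],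
  [0, 0, 0, 0, 0, 0, 4, -2, -2, -2, 4, -1],
  [0, 0, 0, 0, 0, 0, 0, 2, 0, 0, -2, 1],
  [0, 0, 0, 0, 0, 0, 0, 0, 2, 0, -2, 1],
  [0, 0, 0, 0, 0, 0, 0, 0, 0, 2, 0, -1],
  [0, 0, 0, 0, 0, 0, 0, 0, 0, 0, 2, -1],
  [0, 0, 0, 0, 0, 0, 0, 0, 0, 0, 0, 1]]

/-- The scale. -/
def sixDen : ℤ := 8

/-- Vectors giving a hyperbolic basis of the quotient modulo three. -/
def sixU : List (List ℤ) := [[2, 2, 0, 2, 0, 0, 0, 0, 0, 4, -2, 0],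
  [2, 2, 0, 2, 0, 0, 0, 0, 0, -4, -2, 0],
  [2, -2, 0, 2, 0, 0, 4, 0, 0, 0, 2, 0],
  [2, -2, 0, 2, 0, 0, -4, 0, 0, 0, 2, 0],
  [0, 0, 4, 0, 4, 0, 0, 0, 0, 0, 0, 0],
  [0, 0, 4, 0, -4, 0, 0, 0, 0, 0, 0, 0]]

/-- The fixed code words. -/
def sixCodes : List ℕ := [0, 21116, 168928, 180636, 628112, 641004, 722544, 742412, 2141072, 2161132, 2242672, 2255372, 2702848, 2714748, 2862560, 2883484, 5538256, 5559212, 5640752, 5652556, 6100032, 6112828, 6260640, 6280668, 7612992, 7632956, 7780768, 7793628, 8241104, 8252844, 8334384, 8355404, 8421811, 8442831, 8524371, 8536111, 8983587, 8996447, 9144259, 9164223, 10496547, 10516575, 10664387, 10677183, 11124659, 11136463, 11218003, 11238959, 13893731, 13914655, 14062467, 14074367, 14521843, 14534543, 14616083, 14636143, 16034803, 16054671, 16136211, 16149103, 16596579, 16608287, 16756099, 16777215]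

/-- A permutation inverting the element. -/
def sixInv : ℕ := 59251667140687953360251756965464800

end CfsgLib.Trans3
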