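import Cfsg.Agent.Lib.Trans3.SixLattice
import Cfsg.Prelude.Def_Classical

/-!
# The fixed lattice modulo three as a quadratic space of minus type
-/

set_option autoImplicit false
set_option maxRecDepth 100000

namespace CfsgLib.Trans3

open Cfsg CfsgLib.Golay CfsgLib.Mathieu

/-- The index type of the quadratic space. -/
abbrev SIx : Type := (Fin 2 ⊕ Fin 2) ⊕ Fin 2

/-- The position of an index. -/
def sPos : SIx → Fin 6
  | .inl (.inl i) => ⟨2 * i.val, by omega⟩
  | .inl (.inr i) => ⟨2 * i.val + 1, by omega⟩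
  | .inr i => ⟨4 + i.val, by omega⟩

/-- The dual index. -/
def sDual : SIx → SIx
  | .inl (.inl i) => .inl (.inr i)
  | .inl (.inr i) => .inl (.inl i)
  | .inr i => .inr i

/-- The basis vectors as functions. -/
def sUFun (i : SIx) : GolayPt → ℤ := fun q => (sixU.getD (sPos i) []).getD (sCy q) 0

theorem sUFun_mem : ∀ i : SIx, inLat (sUFun i) = true := by decide +kernel

/-- The basis vectors. -/
def sU (i : SIx) : leechLattice := ⟨sUFun i, inLat_mem (sUFun_mem i)⟩

theorem sU_fix (i : SIx) : sixA • sU i = sU i := by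
  refine Subtype.ext (funext fun q => ?_)
  obtain ⟨q, rfl⟩ := (permOf sSix).surjective q
  rw [sixA_smul]
  simp only [sU, sUFun, sCy_perm]

/-- The coordinates of a function. -/
def sKapF (y : GolayPt → ℤ) (i : SIx) : ZMod 3 :=
  (match i with | .inl _ => 1 | .inr _ => 2) * (dotInt y (sUFun (sDual i)) : ZMod 3)

/-- The symmetric bilinear form. -/
def sBf (x y : SIx → ZMod 3) : ZMod 3 :=
  2 * (x (.inl (.inl 0)) * y (.inl (.inr 0)) + x (.inl (.inr 0)) * y (.inl (.inl 0)) +
    x (.inl (.inl 1)) * y (.inl (.inr 1)) + x (.inl (.inr 1)) * y (.inl (.inl 1))) +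
    x (.inr 0) * y (.inr 0) + x (.inr 1) * y (.inr 1)

/-- The quadratic form. -/
abbrev sQm : (SIx → ZMod 3) → ZMod 3 := quadFormMinus 2 (ZMod 3) 0 1

theorem sQm_eq (x : SIx → ZMod 3) : sQm x = sBf x x := by
  show quadFormMinus 2 (ZMod 3) 0 1 x = _
  simp only [quadFormMinus, sBf, Fin.sum_univ_two]
  have h3 : (3 : ZMod 3) = 0 := rfl
  linear_combination (-(x (.inl (.inl 0)) * x (.inl (.inr 0))) - x (.inl (.inl 1)) * x (.inl (.inr 1))) * h3

/-- The coordinates of a vector. -/
noncomputable def sKap : leechLattice →+ SIx → ZMod 3 where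
  toFun v := sKapF (v : GolayPt → ℤ)
  map_zero' := funext fun i => by simp [sKapF, dotInt]
  map_add' v w := funext fun i => by
    simp only [sKapF, dotInt, AddSubgroup.coe_add, Pi.add_apply, add_mul, Finset.sum_add_distrib,
      Int.cast_add, mul_add]

theorem sKap_apply (v : leechLattice) : sKap v = sKapF (v : GolayPt → ℤ) := rfl

theorem sKap_sU (j : SIx) : sKap (sU j) = Pi.single j 1 := by
  have key : ∀ j i : SIx, sKapF (sUFun j) i = if i = j then 1 else 0 := by decide +kernel
  funext i
  rw [Pi.single_apply]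
  exact key j i

theorem sBf_add_left (x y z : SIx → ZMod 3) : sBf (x + y) z = sBf x z + sBf y z := by
  simp only [sBf, Pi.add_apply]; ring

theorem sBf_comm (x y : SIx → ZMod 3) : sBf x y = sBf y x := by
  simp only [sBf]; ring

theorem sBf_zero_left (z : SIx → ZMod 3) : sBf 0 z = 0 := by simp [sBf]

theorem dotInt_add_left (x y z : GolayPt → ℤ) : dotInt (x + y) z = dotInt x z + dotInt y z := by
  simp [dotInt, add_mul, Finset.sum_add_distrib]

/-- The form modulo three on the fixed lattice. -/
theorem six_gram {v w : leechLattice} (hv : sixA • v = v) (hw : sixA • w = w) :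
    2 * (dotInt (v : GolayPt → ℤ) (w : GolayPt → ℤ) : ZMod 3) = sBf (sKap v) (sKap w) := by
  obtain ⟨n, rfl⟩ := six_span hv
  obtain ⟨m, rfl⟩ := six_span hw
  let F : leechLattice → (Fin 12 → ℤ) →+ ZMod 3 := fun w =>
    { toFun := fun n => 2 * (dotInt (sVec n) (w : GolayPt → ℤ) : ZMod 3) - sBf (sKap (sLift n)) (sKap w)
      map_zero' := by rw [map_zero, map_zero, sBf_zero_left]; simp [dotInt, sVec]
      map_add' := fun a b => by
        rw [show sVec (a + b) = sVec a + sVec b from congrArg Subtype.val (sLift.map_add a b),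
          map_add, map_add, sBf_add_left, dotInt_add_left]
        push_cast; ring }
  have key : ∀ k l : Fin 12,
      2 * (dotInt (sVec (Pi.single k 1)) (sVec (Pi.single l 1)) : ZMod 3) -
        sBf (sKapF (sVec (Pi.single k 1))) (sKapF (sVec (Pi.single l 1))) = 0 := by decide +kernel
  have hsum : ∀ n : Fin 12 → ℤ, n = ∑ k, n k • (Pi.single k 1 : Fin 12 → ℤ) := fun n => by
    funext j
    simp [Finset.sum_apply, Pi.single_apply]
  have h1 : ∀ (l : Fin 12) (n : Fin 12 → ℤ), F (sLift (Pi.single l 1)) n = 0 := fun l n => by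
    rw [hsum n, map_sum]
    refine Finset.sum_eq_zero fun k _ => ?_
    rw [map_zsmul, show F (sLift (Pi.single l 1)) (Pi.single k 1) = 0 from key k l, smul_zero]
  have h2 : ∀ n m : Fin 12 → ℤ, F (sLift n) m = 0 := fun n m => by
    have e : ∀ l, F (sLift m) (Pi.single l 1) = 0 := fun l => by
      have := h1 l m
      show 2 * (dotInt (sVec (Pi.single l 1)) (sVec m) : ZMod 3) - sBf _ _ = 0
      rw [dotInt_comm, sBf_comm]
      exact this
    have e' : ∀ a, F (sLift m) a = 0 := fun a => by
      rw [hsum a, map_sum]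
      refine Finset.sum_eq_zero fun k _ => ?_
      rw [map_zsmul, e k, smul_zero]
    show 2 * (dotInt (sVec m) (sVec n) : ZMod 3) - sBf _ _ = 0
    rw [dotInt_comm, sBf_comm]
    exact e' n
  exact sub_eq_zero.1 (h2 m n)

/-- The centraliser of the element. -/
noncomputable abbrev sixH : Subgroup Co0 := Subgroup.centralizer {sixA}

theorem mem_sixH {g : Co0} : g ∈ sixH ↔ g * sixA = sixA * g :=
  Subgroup.mem_centralizer_singleton_iff

theorem sixH_fix {g : Co0} (hg : g ∈ sixH) {v : leechLattice} (hv : sixA • v = v) :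
    sixA • g • v = g • v := by
  rw [← mul_smul, ← mem_sixH.1 hg, mul_smul, hv]

/-- The matrix of an element. -/
noncomputable def sMat (g : Co0) : Matrix SIx SIx (ZMod 3) := fun i j => sKap (g • sU j) i

theorem six_lift (x : SIx → ZMod 3) :
    ∃ v : leechLattice, sixA • v = v ∧ sKap v = x ∧ v = ∑ j, ((x j).val : ℤ) • sU j := by
  refine ⟨_, ?_, ?_, rfl⟩
  · refine (map_sum (co0Hom sixA) _ _).trans (Finset.sum_congr rfl fun j _ => ?_)
    rw [map_zsmul]
    exact congrArg _ (sU_fix j)
  · rw [map_sum]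
    funext i
    rw [Finset.sum_apply, Finset.sum_eq_single i]
    · rw [map_zsmul, sKap_sU, Pi.smul_apply, Pi.single_eq_same, zsmul_eq_mul, mul_one, Int.cast_natCast,
        ZMod.natCast_zmod_val]
    · intro j _ hj
      rw [map_zsmul, sKap_sU, Pi.smul_apply, Pi.single_eq_of_ne (Ne.symm hj), smul_zero]
    · simp

/-- The action on the coordinates is linear. -/
theorem six_lin {g : Co0} (hg : g ∈ sixH) {v : leechLattice} (hv : sixA • v = v) :
    sKap (g • v) = (sMat g).mulVec (sKap v) := by
  obtain ⟨w, hw, hwx, hws⟩ := six_lift (sKap v)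
  set d := v - w with hd
  have hdfix : sixA • d = d := by rw [hd, co0_sub, hv, hw]
  have hd0 : sKap d = 0 := by rw [hd, map_sub, hwx, sub_self]
  have hgd : sKap (g • d) = 0 := by
    funext i
    have hgi : sixA • g⁻¹ • sU (sDual i) = g⁻¹ • sU (sDual i) := sixH_fix (sixH.inv_mem hg) (sU_fix _)
    have h1 := six_gram hdfix hgi
    rw [hd0, sBf_zero_left] at h1
    have h2 := co0_dot g d (g⁻¹ • sU (sDual i))
    rw [smul_inv_smul] at h2
    rw [← h2] at h1
    have h3 : (dotInt ((g • d : leechLattice) : GolayPt → ℤ) (sUFun (sDual i)) : ZMod 3) = 0 :=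
      (mul_eq_zero.1 h1).resolve_left (by decide)
    show _ * _ = (0 : ZMod 3)
    rw [h3, mul_zero]
  have e1 : sKap (g • v) = sKap (g • w) := by
    rw [show v = d + w by rw [hd]; abel, co0_add, map_add, hgd, zero_add]
  rw [e1]
  have e2 : g • w = ∑ j, ((sKap v j).val : ℤ) • g • sU j := by
    rw [hws]
    refine (map_sum (co0Hom g) _ _).trans (Finset.sum_congr rfl fun j _ => ?_)
    exact map_zsmul _ _ _
  rw [e2, map_sum]
  funext i
  simp only [map_zsmul, Finset.sum_apply, Pi.smul_apply, zsmul_eq_mul, Matrix.mulVec, dotProduct, sMat,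
    Pi.mul_apply]
  refine Finset.sum_congr rfl fun j _ => ?_
  rw [mul_comm]
  simp

/-- The matrices, as a homomorphism. -/
noncomputable def sMatHom : sixH →* Matrix SIx SIx (ZMod 3) where
  toFun g := sMat g
  map_one' := by
    ext i j
    simp only [sMat, Subgroup.coe_one, one_smul, sKap_sU, Pi.single_apply, Matrix.one_apply]
  map_mul' a b := by
    ext i j
    show sKap (((a : Co0) * (b : Co0)) • sU j) i = _
    rw [mul_smul, six_lin a.2 (sixH_fix b.2 (sU_fix j))]
    rfl

theorem sMat_isom (g : sixH) (x : SIx → ZMod 3) : sQm ((sMat g).mulVec x) = sQm x := by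
  obtain ⟨v, hv, hvx, -⟩ := six_lift x
  rw [← hvx, ← six_lin g.2 hv, sQm_eq, sQm_eq, ← six_gram (sixH_fix g.2 hv) (sixH_fix g.2 hv),
    ← six_gram hv hv, co0_dot]

/-- The homomorphism to the orthogonal group. -/
noncomputable def sixPhi : sixH →* isometryGroup (ZMod 3) sQm :=
  MonoidHom.codRestrict sMatHom.toHomUnits (isometryGroup (ZMod 3) sQm) fun g u _ => sMat_isom g u

theorem sixPhi_val (g : sixH) :
    ((sixPhi g : Matrix.GeneralLinearGroup SIx (ZMod 3)) : Matrix SIx SIx (ZMod 3)) = sMat g := rfl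

/-- The kernel fixes the coordinates of fixed vectors. -/
theorem sixPhi_ker {g : sixH} (hg : sixPhi g = 1) {v : leechLattice} (hv : sixA • v = v) :
    sKap ((g : Co0) • v) = sKap v := by
  rw [six_lin g.2 hv, ← sixPhi_val, hg]
  simp

end CfsgLib.Trans3
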