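import Cfsg.Agent.Lib.Trans3.SixKernel
import Cfsg.Agent.Lib.Classical.OrthOmega
import Cfsg.Agent.Lib.Classical.ExcIsoMinusSix
import Mathlib.FieldTheory.Finite.GaloisField

/-!
# The centraliser modulo the element and the sign: `3.U₄(3).2`
-/

set_option autoImplicit false
set_option maxRecDepth 100000
set_option synthInstance.maxSize 2000

namespace CfsgLib.Trans3

open Cfsg CfsgLib.Golay CfsgLib.Mathieu CfsgLib.Classical
open CfsgLib.Geom (quadIsoms orEquiv omega_index_odd quad_smul)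
open scoped commutatorElement

local instance : Fact (Nat.Prime 3) := ⟨Nat.prime_three⟩

/-- The quadratic form. -/
noncomputable abbrev sixQ : QuadraticForm (ZMod 3) (SIx → ZMod 3) := qfMinus 2 (ZMod 3) 0 1

/-- The orthogonal group. -/
noncomputable abbrev sixO : Subgroup (Matrix.GeneralLinearGroup SIx (ZMod 3)) :=
  isometryGroup (ZMod 3) (⇑sixQ)

theorem six_aniso : ∀ z₁ z₂ : ZMod 3, z₁ ^ 2 + 0 * z₁ * z₂ + 1 * z₂ ^ 2 = 0 → z₁ = 0 ∧ z₂ = 0 := by
  decide

theorem six_sep : ∀ x : SIx → ZMod 3, (∀ y, QuadraticMap.polar sixQ x y = 0) → x = 0 :=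
  qfMinus_sep 2 six_aniso

theorem six_five : 5 ≤ Fintype.card SIx := by decide

/-- The map to the orthogonal group. -/
noncomputable def sixPsi : sixH →* sixO :=
  (MulEquiv.subgroupCongr (show isometryGroup (ZMod 3) sQm = sixO by
    rw [sixO, qfMinus_coe])).toMonoidHom.comp sixPhi

theorem sixPsi_val (g : sixH) :
    ((sixPsi g : Matrix.GeneralLinearGroup SIx (ZMod 3)) : Matrix SIx SIx (ZMod 3)) = sMat g := rfl

theorem sixPsi_eq_one {g : sixH} : sixPsi g = 1 ↔ sixPhi g = 1 := by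
  rw [sixPsi, MonoidHom.comp_apply, MulEquiv.coe_toMonoidHom, MulEquiv.map_eq_one_iff]

theorem six_O_card : Nat.card sixO = 26127360 := by
  rw [card_isometryGroup_eq _ sixQ fun _ => rfl, card_qfMinus_isoms six_aniso, ZMod.card]
  simp [Finset.prod_range_succ]

theorem six_pOmega_card : Nat.card (POmega (ZMod 3) (⇑sixQ)) = 3265920 := by
  have h := card_pOmega_minus (F := ZMod 3) (ZMod.card 3) 2 le_rfl six_aniso
  rw [← qfMinus_coe] at h
  norm_num [Finset.prod_range_succ, Nat.gcd] at h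
  exact Nat.eq_of_mul_eq_mul_left (show 0 < 4 by norm_num) (h.trans (by norm_num))

theorem six_omega_index : (Omega (ZMod 3) (⇑sixQ)).index = 4 :=
  omega_index_odd sixQ six_sep (by decide) (by decide)

theorem six_center_card : Nat.card (Subgroup.center ↥(Omega (ZMod 3) (⇑sixQ))) = 2 := by
  have h := card_pOmega_mul sixQ
  rw [six_omega_index, six_pOmega_card, card_qfMinus_isoms six_aniso, ZMod.card] at h
  simp [Finset.prod_range_succ] at h
  omega

/-- The centre of `Ω` as a subgroup of the orthogonal group. -/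
noncomputable abbrev sixZ : Subgroup sixO :=
  (Subgroup.center ↥(Omega (ZMod 3) (⇑sixQ))).map (Omega (ZMod 3) (⇑sixQ)).subtype

theorem sixZ_card : Nat.card sixZ = 2 := by
  exact ((Nat.card_congr (Subgroup.equivMapOfInjective _ _ (Subgroup.subtype_injective _)).toEquiv).symm).trans
    six_center_card

theorem sixZ_le : sixZ ≤ Omega (ZMod 3) (⇑sixQ) := Subgroup.map_subtype_le _

theorem neg_one_mem_sixZ {x : sixO}
    (hx : ((x : Matrix.GeneralLinearGroup SIx (ZMod 3)) : Matrix SIx SIx (ZMod 3)) = -1) : x ∈ sixZ := by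
  obtain ⟨a, ha⟩ : ∃ a : Subgroup.center ↥(Omega (ZMod 3) (⇑sixQ)), a ≠ 1 := by
    haveI : Nontrivial (Subgroup.center ↥(Omega (ZMod 3) (⇑sixQ))) :=
      Finite.one_lt_card_iff_nontrivial.1 (by rw [six_center_card]; norm_num)
    exact exists_ne 1
  rcases (mem_center_omega_iff sixQ six_sep six_five a.1).1 a.2 with h | h
  · exact absurd (Subtype.ext (Subtype.ext (Subtype.ext (Units.ext h)))) ha
  · exact ⟨a.1, a.2, Subtype.ext (Units.ext (h.trans hx.symm))⟩

theorem sixZ_central {x : sixO} (hx : x ∈ sixZ) (y : sixO) : x * y = y * x := by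
  obtain ⟨a, ha, rfl⟩ := hx
  refine Subtype.ext (Units.ext ?_)
  simp only [Subgroup.coe_mul, Units.val_mul]
  rcases (mem_center_omega_iff sixQ six_sep six_five a).1 ha with h | h <;> simp [h]

instance sixZ_normal : sixZ.Normal :=
  ⟨fun x hx y => by rw [← sixZ_central hx y, mul_inv_cancel_right]; exact hx⟩

theorem negCo0_mem_sixH : negCo0 ∈ sixH :=
  mem_sixH.2 (Subgroup.mem_center_iff.1 negCo0_central sixA).symm

/-- The standard element in the centraliser. -/
noncomputable def sixAH : sixH := ⟨sixA, sixA_mem_sixH⟩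

/-- Minus one in the centraliser. -/
noncomputable def sixNH : sixH := ⟨negCo0, negCo0_mem_sixH⟩

theorem sixPsi_A : sixPsi sixAH = 1 := by
  refine Subtype.ext (Units.ext ?_)
  rw [sixPsi_val]
  ext i j
  show sKap (sixA • sU j) i = (1 : Matrix SIx SIx (ZMod 3)) i j
  rw [sU_fix, sKap_sU, Pi.single_apply, Matrix.one_apply]

theorem sixPsi_N : ((sixPsi sixNH : Matrix.GeneralLinearGroup SIx (ZMod 3)) : Matrix SIx SIx (ZMod 3)) = -1 := by
  rw [sixPsi_val]
  ext i j
  show sKap (negCo0 • sU j) i = (-1 : Matrix SIx SIx (ZMod 3)) i j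
  rw [negCo0_smul, map_neg, Pi.neg_apply, sKap_sU, Pi.single_apply, Matrix.neg_apply, Matrix.one_apply]

theorem six_ker_card : Nat.card sixPsi.ker = 9 ∧ sixPsi.range.index = 2 := by
  have hk : Nat.card sixPsi.ker ≤ 9 := by
    refine le_trans (le_of_eq ?_) six_ker_card_le
    exact Nat.card_congr (Equiv.subtypeEquivRight fun g => sixPsi_eq_one)
  have h1 := sixPsi.ker.card_mul_index
  rw [Subgroup.index_ker, six_card] at h1
  have h2 := sixPsi.range.card_mul_index
  rw [six_O_card] at h2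
  set k := Nat.card sixPsi.ker
  set r := Nat.card sixPsi.range
  set i := sixPsi.range.index
  have hi : 1 ≤ i := Nat.one_le_iff_ne_zero.2 Subgroup.index_ne_zero_of_finite
  have h3 : k * 2 = 9 * i := by
    have e : (k * 2) * r = (9 * i) * r := by linarith
    exact Nat.eq_of_mul_eq_mul_right Nat.card_pos e
  omega

theorem six_omega_le_range : Omega (ZMod 3) (⇑sixQ) ≤ sixPsi.range := by
  refine Subgroup.commutator_le.2 fun a _ b _ => ?_
  have h := @Subgroup.mul_mem_iff_of_index_two _ _ _ six_ker_card.2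
  rw [commutatorElement_def]
  have i : ∀ x : sixO, x⁻¹ ∈ sixPsi.range ↔ x ∈ sixPsi.range := fun x => Subgroup.inv_mem_iff _
  have key : ∀ A B B' : Prop, (B' ↔ B) → (((A ↔ B) ↔ A) ↔ B') := fun A B B' e => by
    rw [e]
    by_cases hA : A <;> simp [hA]
  exact h.2 (h.trans ((iff_congr h (i a)).trans (key _ _ _ (i b))))

/-- The subgroup generated by the element and minus one. -/
noncomputable def sixT : Subgroup sixH := Subgroup.zpowers (sixNH * sixAH)

theorem sixNH_comm (g : sixH) : Commute g sixNH :=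
  Subtype.ext (Subgroup.mem_center_iff.1 negCo0_central (g : Co0))

theorem sixAH_comm (g : sixH) : Commute g sixAH := Subtype.ext (mem_sixH.1 g.2)

instance sixT_normal : sixT.Normal := ⟨fun x hx g => by
  obtain ⟨i, rfl⟩ := Subgroup.mem_zpowers_iff.1 hx
  rw [(((sixNH_comm g).mul_right (sixAH_comm g)).zpow_right i).eq, mul_inv_cancel_right]
  exact Subgroup.zpow_mem_zpowers _ i⟩

theorem sixNH_sq : sixNH * sixNH = 1 := Subtype.ext negCo0_sq

theorem sixAH_cube : sixAH ^ 3 = 1 := Subtype.ext sixA_cube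

theorem sixNH_mem : sixNH ∈ sixT := by
  refine ⟨3, ?_⟩
  show (sixNH * sixAH) ^ (3 : ℤ) = sixNH
  rw [show (3 : ℤ) = ((3 : ℕ) : ℤ) from rfl, zpow_natCast, ((sixNH_comm sixAH).symm).mul_pow,
    sixAH_cube, mul_one, pow_succ, pow_two, sixNH_sq, one_mul]

theorem sixAH_mem : sixAH ∈ sixT := by
  have h : sixAH = sixNH * (sixNH * sixAH) := by rw [← mul_assoc, sixNH_sq, one_mul]
  rw [h]
  exact Subgroup.mul_mem _ sixNH_mem (Subgroup.mem_zpowers _)

theorem mem_sixT {g : sixH} (h : g ∈ sixT) :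
    ∃ t < 3, (g : Co0) = sixA ^ t ∨ (g : Co0) = negCo0 * sixA ^ t := by
  obtain ⟨i, rfl⟩ := Subgroup.mem_zpowers_iff.1 h
  have e : ((sixNH * sixAH) ^ i : sixH) = sixNH ^ i * sixAH ^ i := ((sixNH_comm sixAH).symm).mul_zpow i
  have eA : (sixA ^ i : Co0) = sixA ^ (i % 3).toNat := by
    rw [← zpow_natCast, Int.toNat_of_nonneg (Int.emod_nonneg _ (by norm_num)), ← zpow_mod_orderOf,
      orderOf_sixA]
    rfl
  refine ⟨(i % 3).toNat, by omega, ?_⟩
  rw [e]
  show (negCo0 ^ i * sixA ^ i : Co0) = _ ∨ (negCo0 ^ i * sixA ^ i : Co0) = _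
  rw [eA]
  rcases Int.even_or_odd i with ⟨k, rfl⟩ | ⟨k, rfl⟩
  · left
    rw [← two_mul, zpow_mul, zpow_two, negCo0_sq, one_zpow, one_mul]
  · right
    rw [zpow_add, zpow_one, zpow_mul, zpow_two, negCo0_sq, one_zpow, one_mul]

theorem sixT_card : Nat.card sixT = 6 := by
  rw [sixT, Nat.card_zpowers]
  have hN : orderOf sixNH = 2 := orderOf_eq_prime (by rw [pow_two, sixNH_sq])
    fun h => negCo0_ne_one (congrArg Subtype.val h)
  have hA : orderOf sixAH = 3 := by rw [← Subgroup.orderOf_coe]; exact orderOf_sixA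
  rw [(sixNH_comm sixAH).symm.orderOf_mul_eq_mul_orderOf_of_coprime (by rw [hN, hA]; norm_num), hN, hA]

/-- The centraliser modulo the element and the sign. -/
abbrev sixX : Type := sixH ⧸ sixT

theorem sixT_le : sixT ≤ ((QuotientGroup.mk' sixZ).comp sixPsi).ker := by
  rw [sixT, Subgroup.zpowers_le, MonoidHom.mem_ker, MonoidHom.comp_apply, map_mul, sixPsi_A, mul_one]
  exact (QuotientGroup.eq_one_iff _).2 (neg_one_mem_sixZ sixPsi_N)

/-- The action on the quotient. -/
noncomputable def sixBar : sixX →* sixO ⧸ sixZ :=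
  QuotientGroup.lift sixT ((QuotientGroup.mk' sixZ).comp sixPsi) sixT_le

theorem sixBar_mk (g : sixH) : sixBar (QuotientGroup.mk g) = QuotientGroup.mk (sixPsi g) := rfl

theorem sixBar_ker_card : Nat.card sixBar.ker = 3 := by
  set K := ((QuotientGroup.mk' sixZ).comp sixPsi).ker with hK
  have hKc : Nat.card K = 18 := by
    have h1 : K = sixZ.comap sixPsi := by rw [hK, ← MonoidHom.comap_ker, QuotientGroup.ker_mk']
    rw [h1]
    have h3 := (sixPsi.comp (sixZ.comap sixPsi).subtype).ker.card_mul_index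
    rw [Subgroup.index_ker] at h3
    have e1 : (sixPsi.comp (sixZ.comap sixPsi).subtype).range = sixZ := by
      rw [MonoidHom.range_eq_map, ← Subgroup.map_map, ← MonoidHom.range_eq_map, Subgroup.range_subtype,
        Subgroup.map_comap_eq, inf_eq_right.2 (sixZ_le.trans six_omega_le_range)]
    have e2 : Nat.card (sixPsi.comp (sixZ.comap sixPsi).subtype).ker = 9 := by
      rw [← six_ker_card.1]
      exact Nat.card_congr
        { toFun := fun a => ⟨a.1.1, a.2⟩
          invFun := fun a => ⟨⟨a.1, by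
            show sixPsi a.1 ∈ sixZ
            rw [MonoidHom.mem_ker.1 a.2]; exact sixZ.one_mem⟩, a.2⟩
          left_inv := fun _ => rfl
          right_inv := fun _ => rfl }
    rw [e1, e2, sixZ_card] at h3
    exact h3.symm
  have h1 : sixBar.ker = K.map (QuotientGroup.mk' sixT) := by
    rw [sixBar, QuotientGroup.ker_lift]
  have h2 := ((QuotientGroup.mk' sixT).comp K.subtype).ker.card_mul_index
  rw [Subgroup.index_ker] at h2
  have e1 : ((QuotientGroup.mk' sixT).comp K.subtype).range = sixBar.ker := by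
    rw [h1, MonoidHom.range_eq_map, ← Subgroup.map_map, ← MonoidHom.range_eq_map, Subgroup.range_subtype]
  have e2 : Nat.card ((QuotientGroup.mk' sixT).comp K.subtype).ker = 6 := by
    rw [← sixT_card]
    exact Nat.card_congr
      { toFun := fun a => ⟨a.1.1, (QuotientGroup.eq_one_iff _).1 a.2⟩
        invFun := fun a => ⟨⟨a.1, sixT_le a.2⟩, (QuotientGroup.eq_one_iff _).2 a.2⟩
        left_inv := fun _ => rfl
        right_inv := fun _ => rfl }
  rw [e1, e2, hKc] at h2
  exact Nat.eq_of_mul_eq_mul_left (by norm_num : 0 < 6) h2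

/-- The image of `Ω`. -/
noncomputable def sixOm : Subgroup (sixO ⧸ sixZ) := (Omega (ZMod 3) (⇑sixQ)).map (QuotientGroup.mk' sixZ)

theorem sixOm_le : sixOm ≤ sixBar.range := by
  rintro _ ⟨a, ha, rfl⟩
  obtain ⟨g, rfl⟩ := six_omega_le_range ha
  exact ⟨QuotientGroup.mk g, rfl⟩

theorem sixOm_iso : Nonempty (sixOm ≃* POmega (ZMod 3) (⇑sixQ)) := by
  let f := (QuotientGroup.mk' sixZ).subgroupMap (Omega (ZMod 3) (⇑sixQ))
  have hf : f.ker = Subgroup.center ↥(Omega (ZMod 3) (⇑sixQ)) := by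
    ext a
    rw [MonoidHom.mem_ker, ← Subtype.coe_inj]
    show (QuotientGroup.mk (a : sixO) : sixO ⧸ sixZ) = 1 ↔ _
    rw [QuotientGroup.eq_one_iff]
    exact Subgroup.mem_map_iff_mem (Subgroup.subtype_injective _)
  exact ⟨((QuotientGroup.quotientMulEquivOfEq hf.symm).trans
    (QuotientGroup.quotientKerEquivOfSurjective f (MonoidHom.subgroupMap_surjective _ _))).symm⟩

theorem sixOm_index : sixOm.relIndex sixBar.range = 2 := by
  have h1 : (Omega (ZMod 3) (⇑sixQ)).relIndex sixPsi.range = 2 := by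
    have := Subgroup.relIndex_mul_index six_omega_le_range
    rw [six_ker_card.2, six_omega_index] at this
    omega
  refine Eq.trans ?_ h1
  have h2 : sixBar.range = sixPsi.range.map (QuotientGroup.mk' sixZ) := by
    rw [sixBar, MonoidHom.range_eq_map]
    ext a
    constructor
    · rintro ⟨b, -, rfl⟩
      obtain ⟨g, rfl⟩ := QuotientGroup.mk_surjective b
      exact ⟨_, ⟨g, rfl⟩, rfl⟩
    · rintro ⟨_, ⟨g, rfl⟩, rfl⟩
      exact ⟨QuotientGroup.mk g, trivial, rfl⟩
  rw [h2, sixOm, Subgroup.relIndex_map_map, QuotientGroup.ker_mk', sup_eq_left.2 sixZ_le,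
    sup_eq_left.2 (sixZ_le.trans six_omega_le_range)]

instance sixOm_normal : sixOm.Normal :=
  Subgroup.Normal.map inferInstance _ (QuotientGroup.mk'_surjective _)

theorem six_omega_perfect :
    ⁅Omega (ZMod 3) (⇑sixQ), Omega (ZMod 3) (⇑sixQ)⁆ = Omega (ZMod 3) (⇑sixQ) := by
  have h := commutator_commutator_quadIsoms sixQ six_sep (by
    rw [Module.finrank_fintype_fun_eq_card]; exact six_five)
  have h' : commutator ↥(Omega (ZMod 3) (⇑sixQ)) = ⊤ := by
    have := congrArg (Subgroup.map (omegaEquiv sixQ).toMonoidHom) h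
    rw [Subgroup.map_top_of_surjective _ (omegaEquiv sixQ).surjective] at this
    refine Eq.trans ?_ this
    rw [commutator_def (G := ↥(commutator ↥(quadIsoms sixQ))), Subgroup.map_commutator,
      Subgroup.map_top_of_surjective _ (omegaEquiv sixQ).surjective]
    rfl
  rw [← Subgroup.map_subtype_commutator, h', ← MonoidHom.range_eq_map, Subgroup.range_subtype]

/-- An element commuting with `Ω` modulo its centre lies in the centre. -/
theorem six_centralizer {x : sixO} (h : ∀ a ∈ Omega (ZMod 3) (⇑sixQ), ⁅x, a⁆ ∈ sixZ) : x ∈ sixZ := by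
  have hc : Omega (ZMod 3) (⇑sixQ) ≤ Subgroup.centralizer {x} := by
    rw [← six_omega_perfect, Subgroup.commutator_le]
    intro a ha b hb
    rw [Subgroup.mem_centralizer_singleton_iff]
    have ea : x * a * x⁻¹ = ⁅x, a⁆ * a := by rw [commutatorElement_def]; group
    have eb : x * b * x⁻¹ = ⁅x, b⁆ * b := by rw [commutatorElement_def]; group
    have ca : ∀ y, Commute ⁅x, a⁆ y := sixZ_central (h a ha)
    have cb : ∀ y, Commute ⁅x, b⁆ y := sixZ_central (h b hb)
    have key : x * ⁅a, b⁆ * x⁻¹ = ⁅a, b⁆ := by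
      calc x * ⁅a, b⁆ * x⁻¹ = ⁅x * a * x⁻¹, x * b * x⁻¹⁆ := by simp only [commutatorElement_def]; group
        _ = ⁅⁅x, a⁆ * a, ⁅x, b⁆ * b⁆ := by rw [ea, eb]
        _ = ⁅a, b⁆ := by
          rw [(ca a).eq, (cb b).eq]
          simp only [commutatorElement_def, mul_inv_rev]
          calc a * ⁅x, a⁆ * (b * ⁅x, b⁆) * (⁅x, a⁆⁻¹ * a⁻¹) * (⁅x, b⁆⁻¹ * b⁻¹)
              = a * (⁅x, a⁆ * (b * ⁅x, b⁆)) * ⁅x, a⁆⁻¹ * a⁻¹ * ⁅x, b⁆⁻¹ * b⁻¹ := by group
            _ = a * b * (⁅x, b⁆ * a⁻¹) * ⁅x, b⁆⁻¹ * b⁻¹ := by rw [(ca (b * ⁅x, b⁆)).eq]; group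
            _ = a * b * a⁻¹ * b⁻¹ := by rw [(cb a⁻¹).eq]; group
    exact (mul_inv_eq_iff_eq_mul.1 key).symm
  obtain ⟨k, rfl⟩ := (orEquiv sixQ).surjective x
  have h5 : 5 ≤ Module.finrank (ZMod 3) (SIx → ZMod 3) := by
    rw [Module.finrank_fintype_fun_eq_card]; exact six_five
  obtain ⟨a, ha⟩ := exists_scalar_of_commute_siegel sixQ six_sep h5 k fun u w => by
    have hm : siegel sixQ u w ∈ commutator (quadIsoms sixQ) := by
      rw [commutator_eq_siegelGroup sixQ six_sep h5]; exact siegel_mem sixQ u w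
    have := Subgroup.mem_centralizer_singleton_iff.1 (hc (omegaEquiv sixQ ⟨_, hm⟩).2)
    rw [omegaEquiv_coe, ← map_mul, ← map_mul] at this
    exact ((orEquiv sixQ).injective this).symm
  obtain ⟨u, -, -, hu⟩ := exists_perp_anisotropic sixQ six_sep h5 0 0
  have h1 : a * a = 1 := by
    have := CfsgLib.Geom.mem_quadIsoms.1 k.2 u
    rw [ha, quad_smul] at this
    exact mul_right_cancel₀ hu (this.trans (one_mul _).symm)
  have hm : ∀ z, Matrix.mulVec ((orEquiv sixQ k : Matrix.GeneralLinearGroup SIx (ZMod 3)) :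
      Matrix SIx SIx (ZMod 3)) z = k.1 z := CfsgLib.Geom.orEquiv_mulVec sixQ k
  rcases mul_self_eq_one_iff.1 h1 with rfl | rfl
  · rw [show orEquiv sixQ k = 1 from Subtype.ext (Units.ext (Matrix.ext_iff_mulVec.2 fun z => by
      rw [hm, ha]; simp))]
    exact sixZ.one_mem
  · exact neg_one_mem_sixZ (Matrix.ext_iff_mulVec.2 fun z => by rw [hm, ha]; simp [Matrix.neg_mulVec])

/-- No normal 2-subgroup. -/
theorem sixX_no_two_normal (P : Subgroup sixX) (hP : P.Normal) (hp : IsPGroup 2 P) : P = ⊥ := by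
  classical
  haveI : Fact (Nat.Prime 2) := ⟨Nat.prime_two⟩
  haveI : IsSimpleGroup (POmega (ZMod 3) (⇑sixQ)) := isSimpleGroup_pOmega sixQ six_sep six_five
  obtain ⟨eOm⟩ := sixOm_iso
  haveI : IsSimpleGroup sixOm := eOm.isSimpleGroup
  have hnR : sixBar.range ≤ Subgroup.normalizer ((P.map sixBar : Subgroup (sixO ⧸ sixZ)) : Set (sixO ⧸ sixZ)) := by
    rw [MonoidHom.range_eq_map, ← Subgroup.normalizer_eq_top (H := P)]
    exact Subgroup.le_normalizer_map sixBar
  set P' := (P.map sixBar).subgroupOf sixOm with hP'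
  haveI : P'.Normal := ⟨fun n hn g => by
    have := (Subgroup.mem_normalizer_iff.1 (hnR (sixOm_le g.2)) (n : sixO ⧸ sixZ)).1 (Subgroup.mem_subgroupOf.1 hn)
    exact this⟩
  have hP'2 : IsPGroup 2 P' := (hp.map sixBar).comap_subtype
  have hPbot : P' = ⊥ := by
    rcases (inferInstance : P'.Normal).eq_bot_or_eq_top with h | h
    · exact h
    exfalso
    obtain ⟨k, hk⟩ := IsPGroup.iff_card.1 hP'2
    rw [h, Subgroup.card_top, Nat.card_congr eOm.toEquiv, six_pOmega_card] at hk
    have : 3 ∣ 2 ^ k := hk ▸ (by norm_num)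
    exact absurd (Nat.prime_three.dvd_of_dvd_pow this) (by norm_num)
  have hcomm : ∀ p ∈ P.map sixBar, ∀ a ∈ sixOm, ⁅p, a⁆ = 1 := fun p hp a ha => by
    have h1 : ⁅p, a⁆ ∈ P.map sixBar := by
      have := (Subgroup.mem_normalizer_iff.1 (hnR (sixOm_le ha)) p⁻¹).1 (inv_mem hp)
      rw [commutatorElement_def, mul_assoc, mul_assoc, ← mul_assoc a]
      exact Subgroup.mul_mem _ hp this
    have h2 : ⁅p, a⁆ ∈ sixOm := by
      rw [commutatorElement_def]
      exact Subgroup.mul_mem _ (sixOm_normal.conj_mem a ha p) (inv_mem ha)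
    have h3 : (⟨_, h2⟩ : sixOm) ∈ P' := h1
    rw [hPbot, Subgroup.mem_bot] at h3
    exact congrArg Subtype.val h3
  have hker : P ≤ sixBar.ker := fun x hx => by
    obtain ⟨g, rfl⟩ := QuotientGroup.mk_surjective x
    rw [MonoidHom.mem_ker, sixBar_mk, QuotientGroup.eq_one_iff]
    refine six_centralizer fun a ha => (QuotientGroup.eq_one_iff _).1 ?_
    have := hcomm _ ⟨_, hx, rfl⟩ _ ⟨a, ha, rfl⟩
    rw [sixBar_mk, QuotientGroup.mk'_apply] at this
    rw [commutatorElement_def] at this ⊢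
    exact this
  have h3 := Subgroup.card_dvd_of_le hker
  rw [sixBar_ker_card] at h3
  obtain ⟨k, hk⟩ := IsPGroup.iff_card.1 hp
  rw [hk] at h3
  rcases Nat.eq_zero_or_pos k with rfl | hk0
  · exact Subgroup.eq_bot_of_card_eq _ hk
  · exact absurd ((dvd_pow_self 2 hk0.ne').trans h3) (by norm_num)

/-- The subgroups required of a group mapping onto the quotient. -/
theorem six_struct {D : Type*} [Group D] [Finite D] (χ : D →* sixX) (hχ : Function.Surjective χ) :
    ∃ (N M : Subgroup D) (_ : N.Normal) (_ : M.Normal),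
      χ.ker ≤ N ∧ N ≤ M ∧ Nat.card N = 3 * Nat.card χ.ker ∧
      (∃ (K : Type) (_ : Field K) (_ : Fintype K), Fintype.card K = 9 ∧
        Nonempty (M ⧸ N.subgroupOf M ≃* PSU 4 K 3)) ∧
      M.index = 2 := by
  classical
  set F := sixBar.comp χ with hF
  have hrange : F.range = sixBar.range := by
    rw [hF, MonoidHom.range_eq_map, ← Subgroup.map_map, Subgroup.map_top_of_surjective χ hχ,
      ← MonoidHom.range_eq_map]
  refine ⟨F.ker, sixOm.comap F, inferInstance, sixOm_normal.comap F, ?_, ?_, ?_, ?_, ?_⟩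
  · intro x hx
    rw [MonoidHom.mem_ker, hF, MonoidHom.comp_apply, MonoidHom.mem_ker.1 hx, map_one]
  · intro x hx
    show F x ∈ sixOm
    rw [MonoidHom.mem_ker.1 hx]
    exact sixOm.one_mem
  · have h := (χ.comp F.ker.subtype).ker.card_mul_index
    rw [Subgroup.index_ker] at h
    have e1 : (χ.comp F.ker.subtype).range = sixBar.ker := by
      rw [MonoidHom.range_eq_map, ← Subgroup.map_map, ← MonoidHom.range_eq_map, Subgroup.range_subtype,
        hF, ← MonoidHom.comap_ker, Subgroup.map_comap_eq_self_of_surjective hχ]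
    have e2 : Nat.card (χ.comp F.ker.subtype).ker = Nat.card χ.ker :=
      Nat.card_congr
        { toFun := fun a => ⟨a.1.1, a.2⟩
          invFun := fun a => ⟨⟨a.1, by
            rw [hF, MonoidHom.mem_ker, MonoidHom.comp_apply, MonoidHom.mem_ker.1 a.2, map_one]⟩, a.2⟩
          left_inv := fun _ => rfl
          right_inv := fun _ => rfl }
    rw [e1, e2, sixBar_ker_card] at h
    rw [← h, mul_comm]
  · obtain ⟨e1⟩ := sixOm_iso
    letI : Fintype (GaloisField 3 2) := Fintype.ofFinite _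
    refine ⟨GaloisField 3 2, inferInstance, Fintype.ofFinite _, by
      rw [← Nat.card_eq_fintype_card, GaloisField.card 3 2 (by norm_num)]; rfl, ?_⟩
    obtain ⟨e2⟩ := pOmega_minus_six (F := ZMod 3) (K := GaloisField 3 2) (q := 3) (ZMod.card 3)
      (by rw [← Nat.card_eq_fintype_card, GaloisField.card 3 2 (by norm_num)]) 0 1 six_aniso
    rw [← qfMinus_coe] at e2
    let f : ↥(sixOm.comap F) →* ↥sixOm := F.subgroupComap sixOm
    have hf : Function.Surjective f := by
      rintro ⟨y, hy⟩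
      obtain ⟨x, rfl⟩ := (hrange ▸ sixOm_le hy : y ∈ F.range)
      exact ⟨⟨x, hy⟩, rfl⟩
    have hker : f.ker = F.ker.subgroupOf (sixOm.comap F) := by
      ext a
      rw [MonoidHom.mem_ker, Subgroup.mem_subgroupOf, MonoidHom.mem_ker, ← Subtype.coe_inj]
      rfl
    exact ⟨(((QuotientGroup.quotientMulEquivOfEq hker.symm).trans
      (QuotientGroup.quotientKerEquivOfSurjective f hf)).trans e1).trans e2⟩
  · rw [Subgroup.index_comap, hrange, sixOm_index]

end CfsgLib.Trans3
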