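import Cfsg.Agent.Lib.Trans3.SixCount

/-!
# The kernel of the action on the fixed lattice modulo three
-/

set_option autoImplicit false
set_option maxRecDepth 100000
set_option synthInstance.maxSize 2000

namespace CfsgLib.Trans3

open Cfsg CfsgLib.Golay CfsgLib.Mathieu
open scoped Pointwise

/-- The products along a chain of transversals, as lists of factors. -/
def cProds : List CLevel → List (List ℕ)
  | [] => [[]]
  | lv :: L => lv.2.1.flatMap fun g => (cProds L).map (g :: ·)

/-- The image of a point under a product of encoded permutations. -/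
def imgProd : List ℕ → ℕ → ℕ
  | [], i => i
  | g :: l, i => img g (imgProd l i)

theorem commFix_decomp : ∀ {L : List CLevel} {X ts : List ℕ} {fin : List (ℕ × ℕ × ℕ)},
    cChainOK X ts L fin = true → ∀ σ ∈ commFix X ts,
      ∃ l ∈ cProds L, ∀ i < 24, imgProd l i < 24 ∧ σ (pt i) = pt (imgProd l i)
  | [], X, ts, fin, h, σ, hσ => by
    have hle : Nat.card (commFix X ts) = 1 := card_commFix h
    haveI := (Nat.card_eq_one_iff_unique.1 hle).1
    have e : (⟨σ, hσ⟩ : commFix X ts) = 1 := Subsingleton.elim _ _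
    refine ⟨[], by simp [cProds], fun i hi => ⟨hi, ?_⟩⟩
    rw [show σ = 1 from congrArg Subtype.val e]
    rfl
  | lv :: L, X, ts, fin, h, σ, hσ => by
    simp only [cChainOK, Bool.and_eq_true] at h
    obtain ⟨hb, -, hv, hT, horb⟩ := cLevelOK_unpack h.1
    obtain ⟨g, hg, hgi⟩ := testBit_orbMask.1 (mem_mset.1 ((horb (σ (pt lv.1))).1 ⟨σ, hσ, rfl⟩))
    have hgv : valid g = true := by
      have hok := h.1
      simp only [cLevelOK, Bool.and_eq_true, List.all_eq_true] at hok
      exact inFix_valid (hok.1.2 g hg).1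
    have hτ : (permOf g)⁻¹ * σ ∈ commFix (nextX X ts lv.1) ts := by
      refine (mem_commFix_next hv hb).2 ⟨Subgroup.mul_mem _ (Subgroup.inv_mem _ (hT g hg)) hσ, ?_⟩
      rw [Equiv.Perm.mul_apply, Equiv.Perm.inv_eq_iff_eq, permOf_pt hgv hb, hgi, pt_idx]
    obtain ⟨l, hl, hli⟩ := commFix_decomp h.2 _ hτ
    refine ⟨g :: l, List.mem_flatMap.2 ⟨g, hg, List.mem_map.2 ⟨l, hl, rfl⟩⟩, fun i hi => ?_⟩
    obtain ⟨h1, h2⟩ := hli i hi
    refine ⟨valid_lt hgv h1, ?_⟩
    rw [Equiv.Perm.mul_apply, Equiv.Perm.inv_eq_iff_eq, permOf_pt hgv h1] at h2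
    exact h2

theorem six_chain : cChainOK [] sSixPows sSixLevels sSixFin = true := by decide +kernel

/-- An element of the centraliser fixing the six points is a power of the standard element. -/
theorem six_fix_pow {σ : M24} (hc : (σ : Equiv.Perm GolayPt) * permOf sSix = permOf sSix * σ)
    (hfix : ∀ i, (σ : Equiv.Perm GolayPt) (sixPt i) = sixPt i) : ∃ t < 3, σ = sixPerm ^ t := by
  obtain ⟨l, hl, hli⟩ := commFix_decomp six_chain _ (mem_commFix_six.2 ⟨σ.2, hc⟩)
  have key : ∀ l ∈ cProds sSixLevels, (∀ i ∈ [4, 5, 6, 9, 12, 17], imgProd l i = i) →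
      ∃ t < 3, ∀ i < 24, imgProd l i = imgIter sSix t i := by decide +kernel
  obtain ⟨t, ht, hti⟩ := key l hl fun i hi => by
    obtain ⟨j, rfl⟩ : ∃ j : Fin 6, i = idx (sixPt j) := by
      revert i
      decide +kernel
    have h1 := (hli _ (idx_lt (sixPt j)))
    rw [pt_idx, hfix] at h1
    have := congrArg idx h1.2
    rw [idx_pt h1.1] at this
    exact this.symm
  refine ⟨t, ht, Subtype.ext (Equiv.ext fun q => ?_)⟩
  have h1 := (hli _ (idx_lt q)).2
  rw [pt_idx, hti _ (idx_lt q)] at h1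
  rw [h1, SubgroupClass.coe_pow]
  have h2 := (imgIter_spec sSix_valid t (idx_lt q)).1
  rw [pt_idx] at h2
  exact h2.symm

/-- The sign change of a fixed code word. -/
def sixSigned (w : ℕ) (y : GolayPt → ℤ) : GolayPt → ℤ := fun q => if w.testBit (idx q) then -y q else y q

theorem sign0_smul_six {w : ℕ} (hw : w ∈ sixCodes) (v : leechLattice) :
    ((sign0 (mset w) (six_code_mset hw) • v : leechLattice) : GolayPt → ℤ) = sixSigned w v := by
  funext q
  rw [sign0, monoCo0_smul]
  simp [signedPerm, sixSigned, mem_mset, Equiv.Perm.one_symm]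

theorem sixEight_val (x : Fin 6 × Bool) :
    ((sixEight x : leechLattice) : GolayPt → ℤ) = Pi.single (sixPt x.1) (if x.2 then -8 else 8) := by
  rcases x with ⟨i, b⟩
  cases b <;> simp [sixEight, vec8, Pi.single_neg]

theorem six_kap_inj : ∀ x y : Fin 6 × Bool,
    sKapF (Pi.single (sixPt x.1) (if x.2 then -8 else 8)) =
      sKapF (Pi.single (sixPt y.1) (if y.2 then -8 else 8)) → x = y := by
  decide +kernel

theorem sixA_mem_sixH : sixA ∈ sixH := mem_sixH.2 rfl

theorem sixA_smul_fix (t : ℕ) {v : leechLattice} (hv : sixA • v = v) : sixA ^ t • v = v := by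
  induction t with
  | zero => simp
  | succ t ih => rw [pow_succ, mul_smul, hv, ih]

theorem sixA_pow_kap (t : ℕ) {v : leechLattice} (hv : sixA • v = v) :
    sKap (sixA ^ t • v) = sKap v := by rw [sixA_smul_fix t hv]

/-- The monomial part with trivial permutation: a sign change of a fixed code word. -/
theorem six_sign_of_perm {g : Co0} (hgH : g ∈ sixH) (hgN : g ∈ N0) {t : ℕ}
    (ht : permPart ⟨g, hgN⟩ = sixPerm ^ t) : ∃ (w : ℕ) (hw : w ∈ sixCodes),
      g = sixA ^ t * sign0 (mset w) (six_code_mset hw) := by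
  have hAN : sixA ^ t ∈ N0 := Subgroup.pow_mem _ sixA_mem_N0 t
  have hk : permPart (⟨sixA ^ t, hAN⟩⁻¹ * ⟨g, hgN⟩) = 1 := by
    rw [map_mul, map_inv, ht, show (⟨sixA ^ t, hAN⟩ : N0) = ⟨sixA, sixA_mem_N0⟩ ^ t from Subtype.ext rfl,
      map_pow, permPart_sixA, inv_mul_cancel]
  obtain ⟨c, hc, e⟩ := permPart_eq_one hk
  have e' : (sixA ^ t)⁻¹ * g = sign0 c hc := e
  have hH : sign0 c hc ∈ sixH := e' ▸ Subgroup.mul_mem _ (inv_mem (pow_mem sixA_mem_sixH t)) hgH
  obtain ⟨w, hw, rfl⟩ := (six_code_iff hc).1 ((mono_comm_sixA_iff 1 hc).1 hH).2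
  exact ⟨w, hw, inv_mul_eq_iff_eq_mul.1 e'⟩

/-- The kernel meets the monomial group in the powers of the element. -/
theorem six_ker_N0 {g : sixH} (hg : sixPhi g = 1) (hN : (g : Co0) ∈ N0) :
    ∃ t < 3, (g : Co0) = sixA ^ t := by
  obtain ⟨σ, c, hc, e⟩ := N0_rep hN
  have hσc := (mono_comm_sixA_iff σ hc).1 (e ▸ g.2)
  have hfix : ∀ i, (σ : Equiv.Perm GolayPt) (sixPt i) = sixPt i ∧ sixPt i ∉ c := fun i => by
    obtain ⟨j, hj⟩ : ∃ j, sixPt j = (σ : Equiv.Perm GolayPt) (sixPt i) := (sixPt_spec _).1 (by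
      have := congrArg (fun π : Equiv.Perm GolayPt => π (sixPt i)) hσc.1
      simp only [Equiv.Perm.mul_apply, (sixPt_spec _).2 ⟨i, rfl⟩] at this
      exact this.symm)
    have h1 : (g : Co0) • sixEight (i, false) = sixEight (j, decide (sixPt j ∈ c)) := by
      rw [e]
      refine Subtype.ext (funext fun q => ?_)
      obtain ⟨q, rfl⟩ := (σ : Equiv.Perm GolayPt).surjective q
      rw [monoCo0_smul, signedPerm_apply, sixEight_val, sixEight_val]
      dsimp only
      by_cases hq : q = sixPt i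
      · subst hq
        rw [← hj]
        by_cases hm : sixPt j ∈ c <;> simp [hm]
      · have hq' : (σ : Equiv.Perm GolayPt) q ≠ sixPt j := fun h => hq ((σ : Equiv.Perm GolayPt).injective (h.trans hj))
        rw [Pi.single_eq_of_ne hq, Pi.single_eq_of_ne hq']
        simp
    have h2 := sixPhi_ker hg (sixA_sixEight (i, false))
    rw [h1, sKap_apply, sKap_apply, sixEight_val, sixEight_val] at h2
    have h3 := six_kap_inj _ _ h2
    simp only [Prod.mk.injEq] at h3
    obtain ⟨rfl, h3⟩ := h3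
    exact ⟨hj.symm, of_decide_eq_false h3⟩
  obtain ⟨t, ht, hσt⟩ := six_fix_pow hσc.1 fun i => (hfix i).1
  refine ⟨t, ht, ?_⟩
  obtain ⟨w, hw, he⟩ := six_sign_of_perm g.2 hN (t := t) (by
    rw [show (⟨(g : Co0), hN⟩ : N0) = ⟨_, mono_mem_N0 σ c hc⟩ from Subtype.ext e, permPart_mono, hσt])
  have hS : sign0 (mset w) (six_code_mset hw) = (sixA ^ t)⁻¹ * (g : Co0) := by
    rw [he, inv_mul_cancel_left]
  have hker : ∀ i, sKapF (sixSigned w (sUFun i)) = sKapF (sUFun i) := fun i => by
    have h1 : sKap (sign0 (mset w) (six_code_mset hw) • sU i) = sKap (sU i) := by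
      rw [hS, mul_smul, ← sixPhi_ker hg (sU_fix i)]
      congr 1
      rw [inv_smul_eq_iff, sixA_smul_fix t (sixH_fix g.2 (sU_fix i))]
    rw [sKap_apply, sKap_apply, sign0_smul_six hw] at h1
    exact h1
  have hout : ∀ i, w.testBit (idx (sixPt i)) = false := fun i => by
    have h1 : (g : Co0) • sixEight (i, false) = sign0 (mset w) (six_code_mset hw) • sixEight (i, false) := by
      rw [hS, mul_smul, eq_inv_smul_iff, sixA_smul_fix t (sixH_fix g.2 (sixA_sixEight _))]
    by_contra hb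
    rw [Bool.not_eq_false] at hb
    have h2 : sign0 (mset w) (six_code_mset hw) • sixEight (i, false) = sixEight (i, true) := by
      refine Subtype.ext ?_
      rw [sign0_smul_six hw, sixEight_val, sixEight_val]
      funext q
      by_cases hq : q = sixPt i
      · subst hq; simp [sixSigned, hb]
      · simp [sixSigned, Pi.single_eq_of_ne hq]
    have h3 := sixPhi_ker hg (sixA_sixEight (i, false))
    rw [h1, h2, sKap_apply, sKap_apply, sixEight_val, sixEight_val] at h3
    exact absurd (six_kap_inj _ _ h3) (by simp)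
  have key : ∀ w ∈ sixCodes, (∀ i : Fin 6, w.testBit (idx (sixPt i)) = false) →
      (∀ i : SIx, sKapF (sixSigned w (sUFun i)) = sKapF (sUFun i)) → w = 0 := by decide +kernel
  obtain rfl := key w hw hout hker
  rw [he, show sign0 (mset 0) (six_code_mset hw) = 1 from ?_, mul_one]
  refine co0_ext fun v => Subtype.ext ?_
  rw [one_smul, sign0_smul_six hw]
  funext q
  simp [sixSigned]

/-- The targets of norm four. -/
def sixFour (i : Fin 4) : List (List ℤ) :=
  [[[0, 0, 4, 4, 0, 0, 0, 0, 0, 0, 0, 0], [2, 0, -2, -2, 0, 2, 0, 0, 0, 0, 0, 0],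
      [-2, 0, -2, -2, 0, -2, 0, 0, 0, 0, 0, 0]],
    [[0, 0, 4, -4, 0, 0, 0, 0, 0, 0, 0, 0], [2, 0, -2, 2, 0, -2, 0, 0, 0, 0, 0, 0],
      [-2, 0, -2, 2, 0, 2, 0, 0, 0, 0, 0, 0]],
    [[0, 0, 4, 0, 4, 0, 0, 0, 0, 0, 0, 0], [0, 0, -2, 0, -2, 2, 0, 0, 0, 0, 0, 2],
      [0, 0, -2, 0, -2, -2, 0, 0, 0, 0, 0, -2]],
    [[0, 0, 4, 0, -4, 0, 0, 0, 0, 0, 0, 0], [0, 0, -2, 0, 2, 2, 0, 0, 0, 0, 0, -2],
      [0, 0, -2, 0, 2, -2, 0, 0, 0, 0, 0, 2]]].getD i []

/-- The three possible images of the first fixed point. -/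
def sixThree : List (List ℤ) :=
  [[0, 0, 8, 0, 0, 0, 0, 0, 0, 0, 0, 0], [0, 0, -4, 0, 0, 4, 0, 0, 0, 0, 0, 0],
    [0, 0, -4, 0, 0, -4, 0, 0, 0, 0, 0, 0]]

/-- A value list as a function. -/
def sixOfVals (xs : List ℤ) : GolayPt → ℤ := fun q => xs.getD (sCy q) 0

theorem sixFour_spec : ∀ xs ∈ sixLeavesOf 32, ∀ i : Fin 4,
    sKapF (sixOfVals xs) = sKapF (sixOfVals ((sixFour i).getD 0 [])) → xs ∈ sixFour i := by
  decide +kernel

theorem sixFour_sum : ∀ a ∈ sixFour 0, ∀ b ∈ sixFour 1, ∀ c ∈ sixFour 2, ∀ d ∈ sixFour 3,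
    List.zipWith (· + ·) a b = List.zipWith (· + ·) c d → List.zipWith (· + ·) a b ∈ sixThree := by
  decide +kernel

theorem sixOfVals_sValues {v : leechLattice} (hv : sixA • v = v) :
    sixOfVals (sValues v) = (v : GolayPt → ℤ) := by
  funext q
  rw [six_const hv q, sixOfVals, sValues, List.getD_eq_getElem _ _ (by simp), List.getElem_ofFn]

/-- The vectors of norm four. -/
noncomputable def sixU4 (i : Fin 4) : leechLattice :=
  ⟨sixOfVals ((sixFour i).getD 0 []), inLat_mem ((show ∀ i : Fin 4,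
    inLat (sixOfVals ((sixFour i).getD 0 [])) = true by decide +kernel) i)⟩

theorem sixU4_fix (i : Fin 4) : sixA • sixU4 i = sixU4 i :=
  sixA_fix_of_const (fun j => ((sixFour i).getD 0 []).getD j 0) rfl

theorem sValues_add (v w : leechLattice) :
    sValues (v + w) = List.zipWith (· + ·) (sValues v) (sValues w) := by
  simp [sValues]

theorem six_ker_image {g : sixH} (hg : sixPhi g = 1) :
    sValues ((g : Co0) • vec8 (sixPt 0)) ∈ sixThree := by
  have hmem : ∀ i, sValues ((g : Co0) • sixU4 i) ∈ sixFour i := fun i => by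
    have hfix := sixH_fix g.2 (sixU4_fix i)
    refine sixFour_spec _ (sValues_mem_of hfix (n := 32) (by norm_num) ?_) i ?_
    · rw [← dotInt_self, co0_dot, dotInt_self]
      exact (show ∀ i : Fin 4, sqNorm (sixOfVals ((sixFour i).getD 0 [])) = ((32 : ℕ) : ℤ) by
        decide +kernel) i
    · rw [sixOfVals_sValues hfix, ← sKap_apply, sixPhi_ker hg (sixU4_fix i)]
      rfl
  have hs : ∀ a b : Fin 4, (a = 0 ∧ b = 1) ∨ (a = 2 ∧ b = 3) → sixU4 a + sixU4 b = vec8 (sixPt 0) := by
    intro a b hab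
    refine Subtype.ext (funext fun q => ?_)
    have key : ∀ q : GolayPt,
        sixOfVals ((sixFour 0).getD 0 []) q + sixOfVals ((sixFour 1).getD 0 []) q =
          (Pi.single (sixPt 0) 8 : GolayPt → ℤ) q ∧
        sixOfVals ((sixFour 2).getD 0 []) q + sixOfVals ((sixFour 3).getD 0 []) q =
          (Pi.single (sixPt 0) 8 : GolayPt → ℤ) q := by decide +kernel
    rcases hab with ⟨rfl, rfl⟩ | ⟨rfl, rfl⟩
    · exact (key q).1
    · exact (key q).2
  have h1 := hs 0 1 (Or.inl ⟨rfl, rfl⟩)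
  have h2 := hs 2 3 (Or.inr ⟨rfl, rfl⟩)
  have e1 : sValues ((g : Co0) • vec8 (sixPt 0)) =
      List.zipWith (· + ·) (sValues ((g : Co0) • sixU4 0)) (sValues ((g : Co0) • sixU4 1)) := by
    rw [← sValues_add, ← co0_add, h1]
  have e2 : sValues ((g : Co0) • vec8 (sixPt 0)) =
      List.zipWith (· + ·) (sValues ((g : Co0) • sixU4 2)) (sValues ((g : Co0) • sixU4 3)) := by
    rw [← sValues_add, ← co0_add, h2]
  rw [e1]
  exact sixFour_sum _ (hmem 0) _ (hmem 1) _ (hmem 2) _ (hmem 3) (e1.symm.trans e2)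

/-- The kernel has at most nine elements. -/
theorem six_ker_card_le : Nat.card sixPhi.ker ≤ 9 := by
  classical
  have hN : ∀ g k : sixPhi.ker,
      ((g : sixH) : Co0) • vec8 (sixPt 0) = ((k : sixH) : Co0) • vec8 (sixPt 0) →
      ∃ t < 3, ((g : sixH) : Co0)⁻¹ * ((k : sixH) : Co0) = sixA ^ t := fun g k h => by
    refine six_ker_N0 (g := (g : sixH)⁻¹ * (k : sixH))
      (MonoidHom.mem_ker.1 (Subgroup.mul_mem _ (inv_mem g.2) k.2)) (mem_classStab.2 ?_)
    show leechR.cls ((((g : sixH) : Co0)⁻¹ * ((k : sixH) : Co0)) • vec8 pinf) = _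
    rw [co0_cls _ (vec8_cls pinf (sixPt 0)), mul_smul, ← h, inv_smul_smul]
    exact vec8_cls _ _
  let V : sixPhi.ker → ↥sixThree.toFinset := fun g =>
    ⟨sValues (((g : sixH) : Co0) • vec8 (sixPt 0)), List.mem_toFinset.2 (six_ker_image g.2)⟩
  have hV : ∀ g k, V g = V k → ((g : sixH) : Co0) • vec8 (sixPt 0) = ((k : sixH) : Co0) • vec8 (sixPt 0) :=
    fun g k h => sValues_inj (sixH_fix g.1.2 (sixA_vec8 ((sixPt_spec _).2 ⟨0, rfl⟩)))
      (sixH_fix k.1.2 (sixA_vec8 ((sixPt_spec _).2 ⟨0, rfl⟩))) (congrArg Subtype.val h)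
  have hsel : ∀ g, ∃ t : Fin 3, ∀ g₀, g₀ = Function.invFun V (V g) →
      ((g₀ : sixPhi.ker).1 : Co0)⁻¹ * ((g : sixH) : Co0) = sixA ^ t.val := fun g => by
    obtain ⟨t, ht, e⟩ := hN (Function.invFun V (V g)) g (hV _ _ (Function.invFun_eq ⟨g, rfl⟩))
    exact ⟨⟨t, ht⟩, fun g₀ h => by rw [h]; exact e⟩
  choose T hT using hsel
  have hinj : Function.Injective fun g => (V g, T g) := fun g k h => by
    obtain ⟨h1, h2⟩ := Prod.mk.injEq .. ▸ h
    have e1 := hT g _ rfl
    have e2 := hT k _ rfl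
    rw [h1, h2] at e1
    exact Subtype.ext (Subtype.ext (mul_left_cancel (e1.trans e2.symm)))
  refine (Nat.card_le_card_of_injective _ hinj).trans ?_
  rw [Nat.card_prod, Nat.card_eq_finsetCard, Nat.card_fin]
  exact Nat.mul_le_mul_right 3 sixThree.toFinset_card_le

/-- Elements fixing all fixed classes are signed powers of the element. -/
theorem six_faithful {g : Co0} (hg : g ∈ sixH)
    (h : ∀ s, leechR.cls (g • shv s) = leechR.cls (shv s)) :
    ∃ t < 3, g = sixA ^ t ∨ g = negCo0 * sixA ^ t := by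
  have hcls : ∀ {v : leechLattice}, sixA • v = v → leechR.cls (g • v) = leechR.cls v := fun {v} hv => by
    obtain ⟨s, hs⟩ := (six_cls_fixed v).1 (by rw [hv])
    rw [co0_cls g hs, h s, hs]
  have hN : g ∈ N0 := by
    refine mem_classStab.2 ?_
    rw [co0_cls g (vec8_cls pinf (sixPt 0)), hcls (sixA_vec8 ((sixPt_spec _).2 ⟨0, rfl⟩))]
    exact vec8_cls _ _
  obtain ⟨σ, c, hc, e⟩ := N0_rep hN
  have hσc := (mono_comm_sixA_iff σ hc).1 (e ▸ hg)
  have hpair : ∀ i j : Fin 6, i ≠ j →
      ((σ : Equiv.Perm GolayPt) (sixPt i) = sixPt i ∨ (σ : Equiv.Perm GolayPt) (sixPt i) = sixPt j) ∧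
      ((σ : Equiv.Perm GolayPt) (sixPt i) = sixPt i → (σ : Equiv.Perm GolayPt) (sixPt j) = sixPt j →
        (sixPt i ∈ c ↔ sixPt j ∈ c)) := by
    intro i j hij
    have hne : sixPt i ≠ sixPt j := fun e => hij (sixPt_inj e)
    have hu : inLat (fun q => if q = sixPt i ∨ q = sixPt j then 4 else 0) = true :=
      (show ∀ i j : Fin 6, i ≠ j →
        inLat (fun q => if q = sixPt i ∨ q = sixPt j then 4 else 0) = true by decide +kernel) i j hij
    set u : leechLattice := ⟨_, inLat_mem hu⟩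
    have hfix : sixA • u = u := by
      refine Subtype.ext (funext fun q => ?_)
      obtain ⟨q, rfl⟩ := (permOf sSix).surjective q
      rw [sixA_smul]
      have hq : ∀ k, permOf sSix q = sixPt k ↔ q = sixPt k := fun k => by
        conv_lhs => rw [← (sixPt_spec _).2 ⟨k, rfl⟩]
        exact (permOf sSix).injective.eq_iff
      simp only [u, hq]
    have hq4 : leechR.q u = 4 := by
      have h1 := leech_q u
      have h2 := (show ∀ i j : Fin 6, i ≠ j →
        sqNorm (fun q => if q = sixPt i ∨ q = sixPt j then (4 : ℤ) else 0) = 32 by decide +kernel) i j hij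
      simp only [u] at h1 ⊢
      omega
    have hgu := leechR.short_congr (hcls hfix) (by rw [co0_q, hq4]; norm_num) (by rw [hq4]; norm_num)
    have hval : ∀ q, ((g • u : leechLattice) : GolayPt → ℤ) ((σ : Equiv.Perm GolayPt) q) =
        if (σ : Equiv.Perm GolayPt) q ∈ c then -(if q = sixPt i ∨ q = sixPt j then 4 else 0)
        else (if q = sixPt i ∨ q = sixPt j then 4 else 0) := fun q => by
      rw [e, monoCo0_smul, signedPerm_apply]
    have hcase : u = g • u ∨ u = -(g • u) := by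
      rcases hgu with h' | h' | ⟨-, h', -⟩
      · exact Or.inl h'
      · exact Or.inr h'
      · omega
    constructor
    · have h1 := hval (sixPt i)
      simp only [true_or, if_true] at h1
      by_contra hcon
      rw [not_or] at hcon
      rcases hcase with h' | h' <;>
        · have h2 := congrFun (congrArg Subtype.val h') ((σ : Equiv.Perm GolayPt) (sixPt i))
          simp only [u, AddSubgroup.coe_neg, Pi.neg_apply, hcon.1, hcon.2, or_self, if_false] at h2
          simp only [u] at h1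
          split_ifs at h1 <;> omega
    · intro hi hj
      have h1 := hval (sixPt i)
      have h2 := hval (sixPt j)
      rw [hi] at h1
      rw [hj] at h2
      simp only [true_or, or_true, if_true, u] at h1 h2
      rcases hcase with h' | h' <;>
        · have h3 := congrFun (congrArg Subtype.val h') (sixPt i)
          have h4 := congrFun (congrArg Subtype.val h') (sixPt j)
          simp only [u, AddSubgroup.coe_neg, Pi.neg_apply, true_or, or_true, if_true] at h3 h4
          by_cases a1 : sixPt i ∈ c <;> by_cases a2 : sixPt j ∈ c <;> simp [a1, a2] at h1 h2 ⊢ <;>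
            omega
  have hfix : ∀ i, (σ : Equiv.Perm GolayPt) (sixPt i) = sixPt i := fun i => by
    obtain ⟨j, k, hj, hk, hjk⟩ : ∃ j k : Fin 6, i ≠ j ∧ i ≠ k ∧ j ≠ k :=
      (show ∀ i : Fin 6, ∃ j k : Fin 6, i ≠ j ∧ i ≠ k ∧ j ≠ k by decide) i
    rcases (hpair i j hj).1 with h1 | h1
    · exact h1
    rcases (hpair i k hk).1 with h2 | h2
    · exact h2
    · exact absurd (sixPt_inj (h1.symm.trans h2)) hjk
  obtain ⟨t, ht, hσt⟩ := six_fix_pow hσc.1 hfix
  obtain ⟨w, hw, he⟩ := six_sign_of_perm hg hN (t := t) (by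
    rw [show (⟨g, hN⟩ : N0) = ⟨_, mono_mem_N0 σ c hc⟩ from Subtype.ext e, permPart_mono, hσt])
  have hsame : ∀ i j, w.testBit (idx (sixPt i)) = w.testBit (idx (sixPt j)) := fun i j => by
    by_cases hij : i = j
    · rw [hij]
    have hc' := (hpair i j hij).2 (hfix i) (hfix j)
    have hi : ∀ k, (sixPt k ∈ c ↔ w.testBit (idx (sixPt k)) = true) := fun k => by
      have h1 : g • sixEight (k, false) = sign0 (mset w) (six_code_mset hw) • sixEight (k, false) := by
        rw [he, mul_smul]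
        refine sixA_smul_fix t ?_
        refine sixH_fix (v := sixEight (k, false)) ?_ (sixA_sixEight _)
        exact (mono_comm_sixA_iff 1 (six_code_mset hw)).2 ⟨by simp,
          (six_code_iff (six_code_mset hw)).2 ⟨w, hw, rfl⟩⟩
      have h2 := congrFun (congrArg Subtype.val h1) (sixPt k)
      rw [sign0_smul_six hw, e, monoCo0_smul] at h2
      simp only [sixSigned, sixEight_val, signedPerm, (Equiv.symm_apply_eq _).2 (hfix k).symm, Pi.single_eq_same] at h2
      by_cases a1 : sixPt k ∈ c <;> cases a2 : w.testBit (idx (sixPt k)) <;> simp [a1, a2] at h2 ⊢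
    rw [hi i, hi j] at hc'
    exact Bool.eq_iff_iff.2 hc'
  have hdot : ∀ k l : Fin 12, dotInt (sixSigned w (sVec (Pi.single k 1))) (sVec (Pi.single l 1)) % 16 =
      dotInt (sVec (Pi.single k 1)) (sVec (Pi.single l 1)) % 16 := fun k l => by
    have h1 : leechR.cls (sign0 (mset w) (six_code_mset hw) • sLift (Pi.single k 1)) =
        leechR.cls (sLift (Pi.single k 1)) := by
      have := hcls (sixA_fix (Pi.single k 1))
      rwa [he, mul_smul, sixA_smul_fix t] at this
      refine sixH_fix ?_ (sixA_fix _)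
      exact (mono_comm_sixA_iff 1 (six_code_mset hw)).2 ⟨by simp,
        (six_code_iff (six_code_mset hw)).2 ⟨w, hw, rfl⟩⟩
    obtain ⟨z, hz⟩ := leechR.cls_eq_iff.1 h1
    obtain ⟨b, hb⟩ := leech_dot_dvd z.2 (sLift (Pi.single l 1)).2
    have h2 := congrArg (fun v : leechLattice => dotInt (v : GolayPt → ℤ) (sVec (Pi.single l 1))) hz
    simp only [sign0_smul_six hw, AddSubgroup.coe_add, dotInt_add_left, sLift_coe] at h2
    rw [sLift_coe] at hb
    rw [h2, hb]
    omega
  have key : ∀ w ∈ sixCodes,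
      (∀ i j : Fin 6, w.testBit (idx (sixPt i)) = w.testBit (idx (sixPt j))) →
      (∀ k l : Fin 12, dotInt (sixSigned w (sVec (Pi.single k 1))) (sVec (Pi.single l 1)) % 16 =
        dotInt (sVec (Pi.single k 1)) (sVec (Pi.single l 1)) % 16) → w = 0 ∨ w = 16777215 := by
    decide +kernel
  refine ⟨t, ht, ?_⟩
  rcases key w hw hsame hdot with rfl | rfl
  · left
    rw [he, show sign0 (mset 0) (six_code_mset hw) = 1 from ?_, mul_one]
    refine co0_ext fun v => Subtype.ext ?_
    rw [one_smul, sign0_smul_six hw]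
    funext q
    simp [sixSigned]
  · right
    rw [he, Subgroup.mem_center_iff.1 negCo0_central (sixA ^ t) |>.symm]
    congr 1

end CfsgLib.Trans3
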