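import Cfsg.Agent.Lib.Trans3.SixData
import Cfsg.Agent.Lib.Golay.Co0Mono
import Cfsg.Agent.Lib.Golay.StdCrossMax
import Cfsg.Agent.Lib.Golay.MatrixElement

/-!
# The fixed lattice of an element of order three with six fixed points
-/

set_option autoImplicit false
set_option maxRecDepth 100000

namespace CfsgLib.Trans3

open Cfsg CfsgLib.Golay CfsgLib.Mathieu
open scoped Pointwise

/-- The element. -/
noncomputable def sixA : Co0 := monoCo0 (permOf sSix) sSix_mem ∅ empty_code

/-- The permutation. -/
noncomputable def sixPerm : M24 := ⟨permOf sSix, sSix_mem⟩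

/-- The cycle of a point. -/
def sCy (q : GolayPt) : Fin 12 := Fin.ofNat 12 (sixCyc.getD (idx q) 0)

/-- The chosen point of a cycle. -/
def sRep (j : Fin 12) : GolayPt := pt (sixReps.getD j 0)

/-- The basis. -/
def sB (k j : Fin 12) : ℤ := (sixBasis.getD k []).getD j 0

/-- The scaled inverse. -/
def sBinv (j l : Fin 12) : ℤ := (sixBinv.getD j []).getD l 0

/-- A combination as a vector. -/
def sVec (n : Fin 12 → ℤ) : GolayPt → ℤ := fun q => ∑ k, n k * sB k (sCy q)

theorem sB_mem : ∀ k : Fin 12, inLat (fun q => sB k (sCy q)) = true := by decide +kernel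

theorem sVec_mem (n : Fin 12 → ℤ) : sVec n ∈ leechLattice := by
  rw [show sVec n = ∑ k, n k • (fun q => sB k (sCy q)) from funext fun q => by
    simp [sVec, Finset.sum_apply]]
  exact sum_mem fun k _ => leechLattice.zsmul_mem (inLat_mem (sB_mem k)) _

/-- The parametrisation of the fixed lattice. -/
def sLift : (Fin 12 → ℤ) →+ leechLattice where
  toFun n := ⟨sVec n, sVec_mem n⟩
  map_zero' := Subtype.ext (funext fun q => by simp [sVec])
  map_add' n m := Subtype.ext (funext fun q => by simp [sVec, add_mul, Finset.sum_add_distrib])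

theorem sLift_coe (n : Fin 12 → ℤ) : ((sLift n : leechLattice) : GolayPt → ℤ) = sVec n := rfl

theorem sCy_perm (q : GolayPt) : sCy (permOf sSix q) = sCy q := by
  have key : ∀ i < 24, sCy (pt (img sSix i)) = sCy (pt i) := by decide +kernel
  rw [permOf_apply sSix_valid, key _ (idx_lt q), pt_idx]

theorem sixA_smul (v : leechLattice) (q : GolayPt) :
    ((sixA • v : leechLattice) : GolayPt → ℤ) (permOf sSix q) = (v : GolayPt → ℤ) q := by
  rw [sixA, monoCo0_smul]
  simp [signedPerm]

theorem sixA_fix (n : Fin 12 → ℤ) : sixA • sLift n = sLift n := by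
  refine Subtype.ext (funext fun q => ?_)
  obtain ⟨q, rfl⟩ := (permOf sSix).surjective q
  rw [sixA_smul]
  simp only [sLift_coe, sVec, sCy_perm]

theorem sixA_pow_smul (t : ℕ) (v : leechLattice) (q : GolayPt) :
    ((sixA ^ t • v : leechLattice) : GolayPt → ℤ) ((permOf sSix ^ t) q) = (v : GolayPt → ℤ) q := by
  induction t generalizing v q with
  | zero => simp
  | succ t ih => rw [pow_succ', pow_succ', mul_smul, Equiv.Perm.mul_apply, sixA_smul, ih]

theorem sixPerm_cube : permOf sSix ^ 3 = 1 :=
  (powOneIn_sound (X := []) (by decide +kernel : powOneIn [] 3 sSix = true)).2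

theorem sixA_cube : sixA ^ 3 = 1 := by
  refine co0_ext fun v => Subtype.ext (funext fun q => ?_)
  have := sixA_pow_smul 3 v q
  rw [sixPerm_cube, Equiv.Perm.one_apply] at this
  rw [one_smul]; exact this

theorem sixA_mem_N0 : sixA ∈ N0 := mono_mem_N0 sixPerm ∅ empty_code

theorem permPart_sixA : permPart ⟨sixA, sixA_mem_N0⟩ = sixPerm := permPart_mono sixPerm ∅ empty_code

theorem sixPerm_ne_one : sixPerm ≠ 1 := fun e => by
  have e1 : permOf sSix = 1 := congrArg Subtype.val e
  have := congrArg (fun σ : Equiv.Perm GolayPt => idx (σ (pt 0))) e1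
  simp only [permOf_pt sSix_valid (show 0 < 24 by norm_num), Equiv.Perm.one_apply] at this
  revert this
  decide +kernel

theorem sixA_ne_one : sixA ≠ 1 := fun e => sixPerm_ne_one (by
  rw [← permPart_sixA, show (⟨sixA, sixA_mem_N0⟩ : N0) = 1 from Subtype.ext e, map_one])

theorem orderOf_sixA : orderOf sixA = 3 :=
  haveI : Fact (Nat.Prime 3) := ⟨by norm_num⟩
  orderOf_eq_prime sixA_cube sixA_ne_one

/-- The values of a fixed vector are constant on cycles. -/
theorem six_const {v : leechLattice} (hv : sixA • v = v) (q : GolayPt) :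
    (v : GolayPt → ℤ) q = (v : GolayPt → ℤ) (sRep (sCy q)) := by
  have hpow : ∀ t : ℕ, sixA ^ t • v = v := fun t => by
    induction t with
    | zero => simp
    | succ t ih => rw [pow_succ, mul_smul, hv, ih]
  have key : ∀ i < 24, ∃ t < 3, imgIter sSix t (idx (sRep (sCy (pt i)))) = i := by decide +kernel
  obtain ⟨t, -, ht⟩ := key _ (idx_lt q)
  rw [pt_idx] at ht
  have h1 := sixA_pow_smul t v (sRep (sCy q))
  rw [hpow] at h1
  rwa [show (permOf sSix ^ t) (sRep (sCy q)) = q from by
    have := (imgIter_spec sSix_valid t (idx_lt (sRep (sCy q)))).1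
    rwa [pt_idx, ht, pt_idx] at this] at h1

/-- The weight of a cycle in the coordinate functionals. -/
noncomputable def sWt (j : Fin 12) : ℤ := if sRep j = permOf sSix (sRep j) then 3 else 1

/-- The coordinate functionals, times three times the scale. -/
noncomputable def sPsi (l : Fin 12) (y : GolayPt → ℤ) : ℤ := ∑ q, y q * (sWt (sCy q) * sBinv (sCy q) l)

/-- The weight computed on indices. -/
def sWtN (j : Fin 12) : ℤ := if idx (sRep j) = img sSix (idx (sRep j)) then 3 else 1

theorem sWt_eq (j : Fin 12) : sWt j = sWtN j := by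
  rw [sWt, sWtN, permOf_apply sSix_valid]
  refine if_congr ⟨fun h => ?_, fun h => ?_⟩ rfl rfl
  · conv_lhs => rw [h]
    exact idx_pt (valid_lt sSix_valid (idx_lt _))
  · rw [← h, pt_idx]

theorem sPsi_dvd (l : Fin 12) {y : GolayPt → ℤ} (hy : y ∈ leechLattice) : sixDen ∣ sPsi l y := by
  let S : AddSubgroup (GolayPt → ℤ) :=
    { carrier := {y | sixDen ∣ sPsi l y}
      zero_mem' := by simp [sPsi]
      add_mem' := fun {a b} ha hb => by
        show sixDen ∣ sPsi l (a + b)
        simp only [sPsi, Pi.add_apply, add_mul, Finset.sum_add_distrib]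
        exact dvd_add ha hb
      neg_mem' := fun {a} ha => by
        show sixDen ∣ sPsi l (-a)
        simp only [sPsi, Pi.neg_apply, neg_mul, Finset.sum_neg_distrib]
        exact (dvd_neg).2 ha }
  refine leech_le_of_gens (S := S) (fun v hv => ?_) hy
  show sixDen ∣ sPsi l v
  simp only [sPsi, sWt_eq]
  have key : ∀ v ∈ latGens, ∀ l : Fin 12,
      sixDen ∣ ∑ q, v q * (sWtN (sCy q) * sBinv (sCy q) l) := by decide +kernel
  exact key v hv l

theorem sInverse : ∀ j i : Fin 12, ∑ l, sBinv j l * sB l i = if j = i then sixDen else 0 := by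
  decide +kernel

theorem sInverse' : ∀ k l : Fin 12, ∑ j, sB k j * sBinv j l = if k = l then sixDen else 0 := by
  decide +kernel

/-- The fixed lattice is spanned by the basis. -/
theorem six_span {v : leechLattice} (hv : sixA • v = v) : ∃ n, v = sLift n := by
  classical
  set x : Fin 12 → ℤ := fun j => (v : GolayPt → ℤ) (sRep j)
  set c : Fin 12 → ℤ := fun l => ∑ j, x j * sBinv j l with hc
  have hd : ∀ l, sixDen ∣ c l := fun l => by
    have h3 : sixDen ∣ 3 * c l := by
      have e : sPsi l v = 3 * c l := by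
        rw [hc, Finset.mul_sum, sPsi, ← Finset.sum_fiberwise Finset.univ sCy]
        refine Finset.sum_congr rfl fun j _ => ?_
        have key : ∀ j : Fin 12, ((Finset.univ.filter fun q => sCy q = j).card : ℤ) * sWtN j = 3 := by
          decide +kernel
        rw [Finset.sum_congr rfl fun q hq => by rw [six_const hv q, (Finset.mem_filter.1 hq).2]]
        rw [Finset.sum_const, nsmul_eq_mul, sWt_eq]
        linear_combination (x j * sBinv j l) * key j
      rw [← e]
      exact sPsi_dvd l v.2
    exact Int.dvd_of_dvd_mul_right_of_gcd_one h3 (by decide +kernel)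
  choose n hn using hd
  refine ⟨n, Subtype.ext (funext fun q => ?_)⟩
  rw [sLift_coe, six_const hv q]
  show x (sCy q) = sVec n q
  have h1 : sixDen * sVec n q = sixDen * x (sCy q) := by
    simp only [sVec, Finset.mul_sum, ← mul_assoc, ← hn, c, Finset.sum_mul]
    rw [Finset.sum_comm]
    simp only [mul_assoc, ← Finset.mul_sum, sInverse, mul_ite, mul_zero, Finset.sum_ite_eq',
      Finset.mem_univ, if_true]
    ring
  exact (mul_left_cancel₀ (by decide +kernel) h1).symm

theorem sLift_injective : Function.Injective sLift := by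
  rw [injective_iff_map_eq_zero]
  intro n hn
  have key : ∀ j : Fin 12, sCy (sRep j) = j := by decide +kernel
  have h0 : ∀ j : Fin 12, ∑ k, n k * sB k j = 0 := fun j => by
    have := congrFun (congrArg Subtype.val hn) (sRep j)
    simp only [sLift_coe, sVec, key] at this
    exact this
  funext l
  have e : ∑ j, (∑ k, n k * sB k j) * sBinv j l = n l * sixDen := by
    simp only [Finset.sum_mul, mul_assoc]
    rw [Finset.sum_comm]
    simp only [← Finset.mul_sum, sInverse', mul_ite, mul_zero, Finset.sum_ite_eq', Finset.mem_univ,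
      if_true]
  simp only [h0, zero_mul, Finset.sum_const_zero] at e
  exact (mul_eq_zero.1 e.symm).resolve_right (by decide +kernel)

/-- The representative of a class. -/
def shv (s : Fin 12 → ZMod 2) : leechLattice := sLift fun k => ((s k).val : ℤ)

theorem sLift_cls (n : Fin 12 → ℤ) :
    leechR.cls (sLift n) = leechR.cls (shv fun k => (n k : ZMod 2)) := by
  refine leechR.cls_eq_iff.2 ⟨sLift fun k => (n k - ((n k : ZMod 2).val : ℤ)) / 2, ?_⟩
  rw [shv, ← map_add, ← map_add]
  congr 1
  funext k
  simp only [Pi.add_apply]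
  have h2 : (2 : ℤ) ∣ n k - ((n k : ZMod 2).val : ℤ) := by
    refine (ZMod.intCast_zmod_eq_zero_iff_dvd _ 2).1 ?_
    push_cast
    simp
  omega

theorem shv_zero : shv 0 = 0 := by
  rw [shv, show (fun k => (((0 : Fin 12 → ZMod 2) k).val : ℤ)) = 0 from funext fun k => by simp]
  exact map_zero _

theorem six_two_inj {z : leechLattice} (h : sixA • (z + z) = z + z) : sixA • z = z := by
  rw [co0_add] at h
  refine Subtype.ext (funext fun q => ?_)
  have := congrArg (fun v : leechLattice => (v : GolayPt → ℤ) q) h
  simp only [AddSubgroup.coe_add, Pi.add_apply] at this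
  omega

theorem shv_inj {s t : Fin 12 → ZMod 2} (e : leechR.cls (shv s) = leechR.cls (shv t)) : s = t := by
  obtain ⟨z, hz⟩ := leechR.cls_eq_iff.1 e
  have hA : sixA • z = z := six_two_inj (by
    rw [show z + z = shv s - shv t by rw [hz]; abel, co0_sub, shv, shv, sixA_fix, sixA_fix])
  obtain ⟨n, rfl⟩ := six_span hA
  rw [shv, shv, ← map_add, ← map_add, sLift_injective.eq_iff] at hz
  funext k
  have := congrArg (fun x : ℤ => (x : ZMod 2)) (congrFun hz k)
  simp only [Pi.add_apply, Int.cast_add, Int.cast_natCast, ZMod.natCast_zmod_val] at this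
  rw [this, CharTwo.add_self_eq_zero, add_zero]

/-- The classes modulo two fixed by the element. -/
theorem six_cls_fixed (v : leechLattice) :
    leechR.cls (sixA • v) = leechR.cls v ↔ ∃ s, leechR.cls v = leechR.cls (shv s) := by
  constructor
  · intro hfx
    set w := v + sixA • v + sixA • sixA • v with hw
    have h3 : sixA • sixA • sixA • v = v := by
      rw [← mul_smul, ← mul_smul, show sixA * sixA * sixA = sixA ^ 3 by rw [pow_succ, pow_two],
        sixA_cube, one_smul]
    have hfix : sixA • w = w := by rw [hw, co0_add, co0_add, h3]; abel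
    obtain ⟨n, hn⟩ := six_span hfix
    refine ⟨fun k => (n k : ZMod 2), ?_⟩
    rw [← sLift_cls, ← hn]
    obtain ⟨u, hu⟩ := leechR.cls_eq_iff.1 hfx
    refine (leechR.cls_eq_iff.2 ⟨v + u + u + sixA • u, ?_⟩).symm
    rw [hw, hu, co0_add, co0_add, hu]
    abel
  · rintro ⟨s, hs⟩
    rw [co0_cls sixA hs, shv, sixA_fix, ← shv, hs]

theorem six_e0 : ∃ s, leechR.cls (vec8 pinf) = leechR.cls (shv s) :=
  (six_cls_fixed _).1 (mem_classStab.1 sixA_mem_N0)

end CfsgLib.Trans3
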