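import Cfsg.Agent.Lib.Trans3.SpecialPerfect

/-!
# The diagonal subgroup of a special rank one group moves all of `A`

The monomial elements `a⁻¹ b a⁻¹` exchange `A` and `B`, and two of them differ by a diagonal
element.  So the partner map induces one map `A/⁅A, H⁆ → B/⁅B, H⁆`, which the sum formula kills.
-/

set_option autoImplicit false

namespace CfsgLib.Trans3.RankOne

open Subgroup Cfsg
open scoped commutatorElement

variable {G : Type*} [Group G] {A B : Subgroup G}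

/-- Compatible maps to an abelian group kill `A` if `A` has more than three elements. -/
theorem eq_one_of_rel (h : SpecialData A B) {Q : Type*} [CommGroup Q] (f : A →* Q) (g : B →* Q)
    (hrel : ∀ p q (hp : IsPartner A B p q), g ⟨q, hp.2.2.1⟩ = (f ⟨p, hp.1⟩)⁻¹)
    (hδ : ∀ x y a (hp : IsPartner A B x y) (ha : a ∈ A)
      (hm : x⁻¹ * (y * a * y⁻¹) * x ∈ B), g ⟨_, hm⟩ = f ⟨a, ha⟩)
    (hcard : 3 < ENat.card A) : ∀ a, f a = 1 := by
  have key : ∀ x a : A, x ≠ 1 → a ≠ 1 → x * a ≠ 1 → f a * f a * f x = 1 := by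
    rintro ⟨x, hx⟩ ⟨a, ha⟩ hx1 ha1 hxa
    replace hx1 : x ≠ 1 := fun e => hx1 (Subtype.ext e)
    replace ha1 : a ≠ 1 := fun e => ha1 (Subtype.ext e)
    replace hxa : x * a ≠ 1 := fun e => hxa (Subtype.ext e)
    obtain ⟨y, hy⟩ := exists_isPartner h.pair hx hx1
    obtain ⟨y', hy'⟩ := exists_isPartner h.pair (mul_mem hx ha) hxa
    obtain ⟨δ, α, z, hd, hα, hz, hzy⟩ := partner_mul h ha ha1 hy hy'
    subst hd
    have h1 := hδ x y a hy ha hα.1
    have h2 := hrel α _ hα.symm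
    rw [h1] at h2
    have h3 := hrel _ _ hy'
    have h4 : (⟨y', hy'.2.2.1⟩ : B) = ⟨z, hz.2.2.1⟩ * ⟨y, hy.2.2.1⟩ := Subtype.ext hzy
    have hα' : f ⟨α, hα.2.2.1⟩ = (f ⟨a, ha⟩)⁻¹ := by rw [h2, inv_inv]
    rw [h4, map_mul, hrel _ _ hz, hrel _ _ hy,
      show (⟨α * x⁻¹, hz.1⟩ : A) = ⟨α, hα.2.2.1⟩ * ⟨x, hx⟩⁻¹ from rfl,
      show (⟨x * a, hy'.1⟩ : A) = ⟨x, hx⟩ * ⟨a, ha⟩ from rfl, map_mul, map_inv, map_mul, hα'] at h3
    have e : ((f ⟨a, ha⟩)⁻¹ * (f ⟨x, hx⟩)⁻¹)⁻¹ * (f ⟨x, hx⟩)⁻¹ = f ⟨a, ha⟩ := by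
      rw [mul_inv_rev, inv_inv, inv_inv, mul_comm (f ⟨x, hx⟩), mul_inv_cancel_right]
    rw [e] at h3
    calc f ⟨a, ha⟩ * f ⟨a, ha⟩ * f ⟨x, hx⟩ = f ⟨a, ha⟩ * (f ⟨x, hx⟩ * f ⟨a, ha⟩) := by
          rw [mul_assoc, mul_comm (f ⟨a, ha⟩) (f ⟨x, hx⟩)]
      _ = 1 := by nth_rewrite 1 [h3]; exact inv_mul_cancel _
  have heq : ∀ x a : A, x ≠ 1 → a ≠ 1 → x * a ≠ 1 → f x = f a := by
    intro x a hx ha hxa
    have h1 := key x a hx ha hxa
    have h2 := key a x ha hx (by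
      rwa [show a * x = x * a from Subtype.ext (h.commA a a.2 x x.2)])
    have h3 : f a * f a * f x = f x * f x * f a := h1.trans h2.symm
    rw [mul_assoc, mul_comm (f x * f x), ← mul_assoc (f a) (f x)] at h3
    rw [mul_assoc (f a) (f x) (f x)] at h3
    exact ((mul_right_cancel (mul_left_cancel h3))).symm
  have big : ∀ s : Finset A, s.card ≤ 3 → ∃ p, p ∉ s := by
    intro s hs
    by_contra! hall
    haveI : Fintype A := ⟨s, hall⟩
    rw [ENat.card_eq_coe_fintype_card] at hcard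
    have h3 : (3 : ℕ) < Fintype.card A := by exact_mod_cast hcard
    have h4 : Fintype.card A ≤ s.card := Finset.card_le_card (fun p _ => hall p)
    omega
  classical
  have hall : ∀ x a : A, x ≠ 1 → a ≠ 1 → f x = f a := by
    intro x a hx ha
    by_cases hxa : x * a = 1
    · obtain ⟨p, hp⟩ := big {1, x, a} Finset.card_le_three
      simp only [Finset.mem_insert, Finset.mem_singleton, not_or] at hp
      refine (heq x p hx hp.1 fun e => hp.2.2 ?_).trans (heq p a hp.1 ha fun e => hp.2.1 ?_)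
      · exact mul_left_cancel (e.trans hxa.symm)
      · exact mul_right_cancel (e.trans hxa.symm)
    · exact heq x a hx ha hxa
  intro a
  rcases eq_or_ne a 1 with rfl | ha
  · exact map_one f
  obtain ⟨p, hp⟩ := big {1, a⁻¹} (Finset.card_le_two.trans (by norm_num))
  simp only [Finset.mem_insert, Finset.mem_singleton, not_or] at hp
  have h1 := hall (a * p) a (fun e => hp.2 (eq_inv_of_mul_eq_one_right e)) ha
  rw [map_mul, hall p a hp.1 ha, mul_eq_right] at h1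
  exact h1

/-- The monomial element of a partner pair exchanges `A` and `B`. -/
theorem monomial_swap (h : SpecialData A B) {a b : G} (hp : IsPartner A B a b) :
    conjBy A (a⁻¹ * b * a⁻¹) = B ∧ conjBy B (a⁻¹ * b * a⁻¹) = A := by
  have hi := (hp.inv h).2.2.2.2
  simp only [inv_inv] at hi
  constructor
  · rw [← conjBy_conjBy, conjBy_of_mem (inv_mem hp.1), ← conjBy_conjBy, hi, conjBy_conjBy,
      inv_mul_cancel, conjBy_one]
  · rw [← conjBy_conjBy, ← hp.2.2.2.2, conjBy_conjBy, mul_inv_cancel_right,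
      conjBy_of_mem (inv_mem hp.1)]

/-- A partner pair `x, y`: the monomial element sends `x` to `y⁻¹`. -/
theorem monomial_apply (h : SpecialData A B) {x y : G} (hp : IsPartner A B x y) :
    x⁻¹ * y * x⁻¹ * x * (x⁻¹ * y * x⁻¹)⁻¹ = y⁻¹ := by
  have hr := specialRel_inv (h.rel x hp.1 hp.2.1 y hp.2.2.1 hp.2.2.2.1 hp.2.2.2.2)
  unfold SpecialRel at hr
  simp only [inv_inv] at hr
  have h2 : y * x * y⁻¹ = x * y⁻¹ * x⁻¹ := by
    have h3 := congrArg (·⁻¹) hr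
    simpa [mul_assoc] using h3
  calc x⁻¹ * y * x⁻¹ * x * (x⁻¹ * y * x⁻¹)⁻¹ = x⁻¹ * (y * x * y⁻¹) * x := by group
    _ = y⁻¹ := by rw [h2]; group

theorem le_commutator_diagonal (h : SpecialData A B) (hcard : 3 < ENat.card A) :
    A ≤ ⁅A, rankOneDiagonal A B⁆ := by
  classical
  obtain ⟨a₀, ha₀, ha₀1⟩ := exists_mem_ne_one h.pair
  obtain ⟨b₀, hp₀⟩ := exists_isPartner h.pair ha₀ ha₀1
  obtain ⟨hAB₀, hBA₀⟩ := monomial_swap h hp₀
  obtain ⟨m₀, hm₀⟩ : ∃ m, a₀⁻¹ * b₀ * a₀⁻¹ = m := ⟨_, rfl⟩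
  rw [hm₀] at hAB₀ hBA₀
  letI : CommGroup A := { (inferInstance : Group A) with
    mul_comm := fun u v => Subtype.ext (h.commA u u.2 v v.2) }
  let K : Subgroup A := (⁅A, rankOneDiagonal A B⁆).subgroupOf A
  let f : A →* A ⧸ K := QuotientGroup.mk' K
  have hmem : ∀ q ∈ B, m₀⁻¹ * q * m₀ ∈ A := fun q hq => by
    have := hAB₀.symm ▸ hq
    rwa [mem_conjBy] at this
  let g₀ : B →* A :=
    { toFun := fun q => ⟨m₀⁻¹ * q * m₀, hmem q q.2⟩
      map_one' := Subtype.ext (by simp)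
      map_mul' := fun p q => Subtype.ext (by
        simp only [Subgroup.coe_mul]; group) }
  have hK : ∀ {m : G}, conjBy A m = B → conjBy B m = A → m ∈ A ⊔ B → ∀ (a : A) (q : B),
      m * a * m⁻¹ = q → f (g₀ q) = f a := by
    intro m hAB hBA hm a q hq
    have hm₀X : m₀ ∈ A ⊔ B := hm₀ ▸ mul_mem (mul_mem (mem_sup_left (inv_mem ha₀))
      (mem_sup_right hp₀.2.2.1)) (mem_sup_left (inv_mem ha₀))
    have hH : m₀⁻¹ * m ∈ rankOneDiagonal A B := by
      refine ⟨⟨(A ⊔ B).mul_mem ((A ⊔ B).inv_mem hm₀X) hm, conjBy_eq_self_iff.1 ?_⟩, conjBy_eq_self_iff.1 ?_⟩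
      · rw [← conjBy_conjBy, hAB, ← hAB₀, conjBy_conjBy, inv_mul_cancel, conjBy_one]
      · rw [← conjBy_conjBy, hBA, ← hBA₀, conjBy_conjBy, inv_mul_cancel, conjBy_one]
    refine QuotientGroup.eq.2 (Subgroup.mem_subgroupOf.2 ?_)
    simp only [Subgroup.coe_mul, Subgroup.coe_inv]
    show (m₀⁻¹ * (q : G) * m₀)⁻¹ * (a : G) ∈ _
    rw [← hq, show (m₀⁻¹ * (m * (a : G) * m⁻¹) * m₀)⁻¹ * (a : G) =
      ⁅m₀⁻¹ * m, (a : G)⁻¹⁆ by rw [commutatorElement_def]; group, Subgroup.commutator_comm]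
    exact commutator_mem_commutator hH (inv_mem a.2)
  have hf := eq_one_of_rel h f (f.comp g₀) (fun p q hp => ?_) (fun x y a hp ha hm => ?_) hcard
  · intro a ha
    have h1 := hf ⟨a, ha⟩
    exact Subgroup.mem_subgroupOf.1 ((QuotientGroup.eq_one_iff _).1 h1)
  · obtain ⟨hAB, hBA⟩ := monomial_swap h hp
    have h1 := hK hAB hBA (mul_mem (mul_mem (mem_sup_left (inv_mem hp.1))
      (mem_sup_right hp.2.2.1)) (mem_sup_left (inv_mem hp.1))) ⟨p, hp.1⟩
      ⟨q⁻¹, inv_mem hp.2.2.1⟩ (monomial_apply h hp)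
    rw [MonoidHom.comp_apply, ← h1, ← map_inv, ← map_inv]
    congr 2
    exact Subtype.ext (inv_inv q).symm
  · obtain ⟨hAB, hBA⟩ := monomial_swap h hp
    refine hK hAB hBA (mul_mem (mul_mem (mem_sup_left (inv_mem hp.1))
      (mem_sup_right hp.2.2.1)) (mem_sup_left (inv_mem hp.1))) ⟨a, ha⟩ ⟨_, hm⟩ ?_
    show x⁻¹ * y * x⁻¹ * a * (x⁻¹ * y * x⁻¹)⁻¹ = x⁻¹ * (y * a * y⁻¹) * x
    have h2 : x⁻¹ * a * x = a := by rw [mul_assoc, h.commA a ha x hp.1, inv_mul_cancel_left]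
    calc x⁻¹ * y * x⁻¹ * a * (x⁻¹ * y * x⁻¹)⁻¹ = x⁻¹ * (y * (x⁻¹ * a * x) * y⁻¹) * x := by group
      _ = _ := by rw [h2]

end CfsgLib.Trans3.RankOne
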