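import Cfsg.Agent.Lib.Trans3.RankOneSpecial
import Cfsg.Agent.Lib.Trans3.SL2Hom

/-!
# A partner pair of order `p` generates an image of `SL₂(p)`
-/

set_option autoImplicit false

namespace CfsgLib.Trans3.RankOne

open Cfsg CfsgLib.Trans3.SL2Rel

variable {G : Type*} [Group G] {A B : Subgroup G} {p : ℕ} [Fact p.Prime]

/-- `t ↦ a ^ t` on `ZMod p`. -/
def powFam (a : G) (t : ZMod p) : G := a ^ t.val

theorem powFam_natCast {a : G} (ha : a ^ p = 1) (n : ℕ) : powFam a (n : ZMod p) = a ^ n := by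
  rw [powFam, ZMod.val_natCast, ← pow_mod_orderOf, ← pow_mod_orderOf a n,
    Nat.mod_mod_of_dvd n (orderOf_dvd_of_pow_eq_one ha)]

theorem powFam_add {a : G} (ha : a ^ p = 1) (x y : ZMod p) :
    powFam a (x + y) = powFam a x * powFam a y := by
  have h := powFam_natCast ha (x.val + y.val)
  rw [Nat.cast_add, ZMod.natCast_zmod_val, ZMod.natCast_zmod_val, pow_add] at h
  exact h

theorem powFam_mul {a : G} (ha : a ^ p = 1) (x y : ZMod p) :
    powFam a (x * y) = powFam a x ^ y.val := by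
  have h := powFam_natCast ha (x.val * y.val)
  rw [Nat.cast_mul, ZMod.natCast_zmod_val, ZMod.natCast_zmod_val, pow_mul] at h
  exact h

theorem powFam_one (a : G) : powFam a (1 : ZMod p) = a := by
  simp [powFam, ZMod.val_one]

variable {a b : G}

theorem rel_powFam (h : SpecialData A B) (hp : IsPartner A B a b) (ha : a ^ p = 1) :
    Rel (powFam (p := p) a) (powFam b) := by
  have hb : b ^ p = 1 := hp.pow_eq_one h ha
  have hord : orderOf a = p := orderOf_eq_prime ha hp.2.1
  have hneg : ∀ {c : G}, c ^ p = 1 → ∀ x : ZMod p, powFam c (-x) = (powFam c x)⁻¹ := by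
    intro c hc x
    refine eq_inv_of_mul_eq_one_right ?_
    rw [← powFam_add hc, add_neg_cancel]
    simp [powFam]
  have key : ∀ t : ZMod p, t ≠ 0 → ∃ x y : G, powFam a t = x ∧ powFam b (-t⁻¹) = y⁻¹ ∧
      x * y⁻¹ * x = y⁻¹ * x * y⁻¹ := by
    intro t ht
    have ht1 : a ^ t.val ≠ 1 := fun he => by
      have h1 := orderOf_dvd_of_pow_eq_one he
      rw [hord] at h1
      exact ht ((ZMod.val_eq_zero t).1 (Nat.eq_zero_of_dvd_of_lt h1 (ZMod.val_lt t)))
    obtain ⟨y, hy⟩ := exists_isPartner h.pair (pow_mem hp.1 t.val) ht1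
    have hyk : y ^ t.val = b := pow_partner h hp hy
    have hyp : y ^ p = 1 := hy.pow_eq_one h (by rw [← pow_mul, mul_comm, pow_mul, ha, one_pow])
    have hyb : powFam b t⁻¹ = y := by
      have h1 : powFam y t = b := hyk
      calc powFam b t⁻¹ = powFam y t ^ (t⁻¹).val := by rw [h1]; rfl
        _ = y := by rw [← powFam_mul hyp, mul_inv_cancel₀ ht, powFam_one]
    refine ⟨_, y, rfl, by rw [hneg hb, hyb], ?_⟩
    have hr := h.rel _ hy.1 hy.2.1 y hy.2.2.1 hy.2.2.2.1 hy.2.2.2.2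
    unfold SpecialRel at hr
    show a ^ t.val * y⁻¹ * a ^ t.val = y⁻¹ * a ^ t.val * y⁻¹
    have h3 := specialRel_inv (show SpecialRel (a ^ t.val) y from hr)
    unfold SpecialRel at h3
    simp only [inv_inv] at h3
    generalize a ^ t.val = x at h3 hr ⊢
    calc x * y⁻¹ * x = x * (y⁻¹ * x * y) * y⁻¹ := by group
      _ = x * (x⁻¹ * y⁻¹ * x) * y⁻¹ := by rw [hr]
      _ = y⁻¹ * x * y⁻¹ := by group
  refine ⟨powFam_add ha, powFam_add hb, ?_, ?_, ?_⟩
  · intro t ht
    obtain ⟨x, y, hx, hy, hb'⟩ := key t ht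
    rw [hx, hy, hb']
  · intro t ht z
    obtain ⟨x, y, hx, hy, hb'⟩ := key t ht
    have h1 : wel (powFam a) (powFam b) t * x * (wel (powFam a) (powFam b) t)⁻¹ = y⁻¹ := by
      rw [wel, hx, hy]
      calc x * y⁻¹ * x * x * (x * y⁻¹ * x)⁻¹ = (x * y⁻¹ * x) * y * x⁻¹ := by group
        _ = y⁻¹ := by rw [hb']; group
    rw [show powFam a z = x ^ (z / t).val by rw [← hx, ← powFam_mul ha, mul_div_cancel₀ z ht],
      ← conj_pow, h1, ← hy, ← powFam_mul hb]
    congr 1
    field_simp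
  · intro t ht z
    obtain ⟨x, y, hx, hy, hb'⟩ := key t ht
    have h1 : wel (powFam a) (powFam b) t * y⁻¹ * (wel (powFam a) (powFam b) t)⁻¹ = x := by
      rw [wel, hx, hy]
      calc x * y⁻¹ * x * y⁻¹ * (x * y⁻¹ * x)⁻¹ = x * (y⁻¹ * x * y⁻¹) * (x * y⁻¹ * x)⁻¹ := by group
        _ = x := by rw [← hb']; group
    rw [show powFam b z = (y⁻¹) ^ (-(t * z)).val by
        rw [← hy, ← powFam_mul hb]; congr 1; field_simp,
      ← conj_pow, h1, ← hx, ← powFam_mul ha]
    congr 1
    ring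

/-- `⟨a, b⟩` is an image of `SL₂(p)` with central kernel. -/
theorem exists_hom_sl2 (h : SpecialData A B) (hp : IsPartner A B a b) (ha : a ^ p = 1) :
    ∃ φ : Matrix.SpecialLinearGroup (Fin 2) (ZMod p) →* G,
      φ.range = Subgroup.closure {a, b} ∧
        φ.ker ≤ Subgroup.center (Matrix.SpecialLinearGroup (Fin 2) (ZMod p)) := by
  have R := rel_powFam h hp ha
  have hb : b ^ p = 1 := hp.pow_eq_one h ha
  refine ⟨hom R, ?_, ?_⟩
  · rw [hom_range R]
    refine le_antisymm ((Subgroup.closure_le _).2 ?_) ((Subgroup.closure_le _).2 ?_)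
    · rintro x (⟨t, rfl⟩ | ⟨t, rfl⟩)
      · exact pow_mem (Subgroup.subset_closure (Set.mem_insert a {b})) _
      · exact pow_mem (Subgroup.subset_closure (Set.mem_insert_of_mem a (Set.mem_singleton b))) _
    · rintro x (rfl | rfl)
      · exact Subgroup.subset_closure (Or.inl ⟨(1 : ZMod p), powFam_one _⟩)
      · exact Subgroup.subset_closure (Or.inr ⟨(1 : ZMod p), powFam_one _⟩)
  have hord : orderOf a = p := orderOf_eq_prime ha hp.2.1
  refine hom_ker_le_center R (Subgroup.zpowers a) (Subgroup.zpowers b)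
    (fun x => pow_mem (Subgroup.mem_zpowers a) _) (fun x => pow_mem (Subgroup.mem_zpowers b) _)
    ?_ ?_ ?_ ?_
  · intro x y hxy
    refine ZMod.val_injective p (pow_injOn_Iio_orderOf ?_ ?_ hxy) <;>
      simp [hord, ZMod.val_lt]
  · intro c hc hn
    refine eq_one_of_mem_normalizer h.pair (Subgroup.zpowers_le.2 hp.1 hc)
      (conjBy_eq_self_iff.1 ?_)
    by_contra hne
    have hm : c * b * c⁻¹ ∈ conjBy B c ⊓ B :=
      ⟨conj_mem_conjBy hp.2.2.1, Subgroup.zpowers_le.2 hp.2.2.1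
        ((Subgroup.mem_normalizer_iff.1 hn b).1 (Subgroup.mem_zpowers b))⟩
    rw [inf_eq_bot_of_mem h.pair
      (conjBy_mem (right_mem h.pair) (Subgroup.mem_sup_left (Subgroup.zpowers_le.2 hp.1 hc)))
      (right_mem h.pair) hne, Subgroup.mem_bot] at hm
    exact hp.2.2.2.1 (conj_eq_one_iff.1 hm)
  · intro x hx y hy
    exact h.commA x (Subgroup.zpowers_le.2 hp.1 hx) y (Subgroup.zpowers_le.2 hp.1 hy)
  · intro t ht
    have hfam : ∀ x, x ∈ Subgroup.zpowers b ↔ ∃ z : ZMod p, powFam b z = x := by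
      intro x
      constructor
      · intro hx
        obtain ⟨n, hn⟩ := (isOfFinOrder_iff_pow_eq_one.2
          ⟨p, (Fact.out : p.Prime).pos, hb⟩).mem_powers_iff_mem_zpowers.2 hx
        exact ⟨n, (powFam_natCast hb n).trans hn⟩
      · rintro ⟨z, rfl⟩; exact pow_mem (Subgroup.mem_zpowers b) _
    have hconj : ∀ z, tor (powFam a) (powFam b) t * powFam b z *
        (tor (powFam a) (powFam b) t)⁻¹ = powFam b (z / t ^ 2) := by
      intro z
      have h1 : (wel (powFam a) (powFam b) (1 : ZMod p))⁻¹ * powFam b z *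
          ((wel (powFam a) (powFam b) (1 : ZMod p))⁻¹)⁻¹ = powFam a (-z) := by
        rw [wel_inv R, R.conj_v _ (neg_ne_zero.2 one_ne_zero)]
        simp
      calc tor (powFam a) (powFam b) t * powFam b z * (tor (powFam a) (powFam b) t)⁻¹
          = wel (powFam a) (powFam b) t * ((wel (powFam a) (powFam b) (1 : ZMod p))⁻¹ * powFam b z *
              ((wel (powFam a) (powFam b) (1 : ZMod p))⁻¹)⁻¹) * (wel (powFam a) (powFam b) t)⁻¹ := by
            simp only [tor]; group
        _ = powFam b (z / t ^ 2) := by rw [h1, R.conj_u t ht]; congr 1; ring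
    rw [Subgroup.mem_normalizer_iff]
    intro x
    rw [hfam, hfam]
    constructor
    · rintro ⟨z, rfl⟩; exact ⟨_, (hconj z).symm⟩
    · rintro ⟨z, hz⟩
      refine ⟨z * t ^ 2, ?_⟩
      have h1 := hconj (z * t ^ 2)
      rw [mul_div_cancel_right₀ z (pow_ne_zero 2 ht), hz] at h1
      exact mul_left_cancel (mul_right_cancel h1)

/-- A surjection from `SL₂(p)` with central kernel gives `SL₂(p)` or `PSL₂(p)`. -/
theorem iso_of_central_ker {H : Type*} [Group H]
    (φ : Matrix.SpecialLinearGroup (Fin 2) (ZMod p) →* H) (hs : Function.Surjective φ)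
    (hk : φ.ker ≤ Subgroup.center (Matrix.SpecialLinearGroup (Fin 2) (ZMod p))) :
    Nonempty (H ≃* Matrix.SpecialLinearGroup (Fin 2) (ZMod p)) ∨
      Nonempty (H ≃* Matrix.ProjectiveSpecialLinearGroup (Fin 2) (ZMod p)) := by
  by_cases hb : φ.ker = ⊥
  · exact Or.inl ⟨(MulEquiv.ofBijective φ ⟨φ.ker_eq_bot_iff.1 hb, hs⟩).symm⟩
  right
  obtain ⟨z, hz, hz1⟩ := φ.ker.bot_or_exists_ne_one.resolve_left hb
  have hscal : ∀ g ∈ Subgroup.center (Matrix.SpecialLinearGroup (Fin 2) (ZMod p)),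
      g = 1 ∨ g = -1 := by
    intro g hg
    obtain ⟨r, hr, hgr⟩ := Matrix.SpecialLinearGroup.mem_center_iff.1 hg
    rcases sq_eq_one_iff.1 (show r ^ 2 = 1 by simpa using hr) with rfl | rfl
    · left; apply Subtype.ext; simp [← hgr]
    · right; apply Subtype.ext; rw [← hgr]; ext i j; fin_cases i <;> fin_cases j <;> simp
  have hle : Subgroup.center (Matrix.SpecialLinearGroup (Fin 2) (ZMod p)) ≤ φ.ker := by
    intro g hg
    rcases hscal g hg with rfl | rfl
    · exact one_mem _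
    · rcases hscal z (hk hz) with rfl | rfl
      exacts [absurd rfl hz1, hz]
  exact ⟨((QuotientGroup.quotientMulEquivOfEq (le_antisymm hle hk)).trans
    (QuotientGroup.quotientKerEquivOfSurjective φ hs)).symm⟩

theorem iso_closure_pair (h : SpecialData A B) (hp : IsPartner A B a b) (ha : a ^ p = 1) :
    Nonempty (↥(Subgroup.closure ({a, b} : Set G)) ≃* Matrix.SpecialLinearGroup (Fin 2) (ZMod p)) ∨
      Nonempty (↥(Subgroup.closure ({a, b} : Set G)) ≃*
        Matrix.ProjectiveSpecialLinearGroup (Fin 2) (ZMod p)) := by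
  obtain ⟨φ, hr, hk⟩ := exists_hom_sl2 h hp ha
  rw [← hr]
  refine iso_of_central_ker φ.rangeRestrict φ.rangeRestrict_surjective ?_
  rwa [MonoidHom.ker_rangeRestrict]

end CfsgLib.Trans3.RankOne
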