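import Cfsg.Agent.Lib.Trans3.ThreeTwoImage
import Mathlib

/-!
Conclusion of `ThreeTwoImage`: the group is `S₃` or is generated by a `Rel`-triple and has order 54.
-/

set_option autoImplicit false

namespace CfsgLib.Trans3.Fifty

namespace ActSetup

variable {Q W : Type*} [Group Q] [CommGroup W] (S : ActSetup Q W)

theorem ker_le : S.ρ.ker ≤ S.P := by
  intro k hk
  by_contra hkP
  apply S.nontriv
  have hdk : S.d * k ∈ S.P := (Subgroup.mul_mem_iff_of_index_two S.hidx).2 (iff_of_false S.hdP hkP)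
  obtain ⟨e, he⟩ := S.hP ⟨_, hdk⟩
  have he' : (S.d * k) ^ 3 ^ e = 1 := by simpa using congrArg Subtype.val he
  obtain ⟨m, hm⟩ : Odd (3 ^ e) := Odd.pow (by decide)
  have h := congrArg S.ρ he'
  have hk' : S.ρ k = 1 := hk
  rwa [map_pow, map_mul, hk', mul_one, map_one, hm, pow_add, pow_mul, pow_two, ← map_mul, S.hd,
    map_one, one_pow, pow_one, one_mul] at h

variable [Finite Q]

/-- The faithful image. -/
noncomputable def image : ActSetup S.ρ.range W where
  d := S.ρ.rangeRestrict S.d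
  P := S.P.map S.ρ.rangeRestrict
  ρ := S.ρ.range.subtype
  hP := S.hP.map _
  hidx := by
    rw [Subgroup.index_map_eq S.P S.ρ.rangeRestrict_surjective
      (by rw [MonoidHom.ker_rangeRestrict]; exact S.ker_le), S.hidx]
  hd := by rw [← map_mul, S.hd, map_one]
  hdP := by
    rintro ⟨p, hp, he⟩
    have hk : p⁻¹ * S.d ∈ S.ρ.ker := by
      rw [← MonoidHom.ker_rangeRestrict, MonoidHom.mem_ker, map_mul, map_inv, he, inv_mul_cancel]
    have := mul_mem hp (S.ker_le hk)
    rw [mul_inv_cancel_left] at this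
    exact S.hdP this
  gen := by
    rw [eq_top_iff]
    have h : (⊤ : Subgroup S.ρ.range) = (Subgroup.closure (conjugatesOf S.d)).map S.ρ.rangeRestrict := by
      rw [S.gen, Subgroup.map_top_of_surjective _ S.ρ.rangeRestrict_surjective]
    rw [h, MonoidHom.map_closure]
    refine Subgroup.closure_mono ?_
    rintro _ ⟨a, ha, rfl⟩
    exact MonoidHom.map_isConj _ ha
  three := by
    intro a ha b hb
    obtain ⟨g, rfl⟩ := isConj_iff.1 ha
    obtain ⟨g', rfl⟩ := isConj_iff.1 hb
    obtain ⟨x, rfl⟩ := S.ρ.rangeRestrict_surjective g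
    obtain ⟨y, rfl⟩ := S.ρ.rangeRestrict_surjective g'
    simp only [← map_inv, ← map_mul, ← map_pow]
    rw [S.three _ (isConj_iff.2 ⟨x, rfl⟩) _ (isConj_iff.2 ⟨y, rfl⟩), map_one]
  sq := S.sq
  fix := by
    intro a ha b hb hab u hu
    obtain ⟨g, rfl⟩ := isConj_iff.1 ha
    obtain ⟨g', rfl⟩ := isConj_iff.1 hb
    obtain ⟨x, rfl⟩ := S.ρ.rangeRestrict_surjective g
    obtain ⟨y, rfl⟩ := S.ρ.rangeRestrict_surjective g'
    simp only [← map_inv, ← map_mul] at hab hu ⊢
    exact S.fix _ (isConj_iff.2 ⟨x, rfl⟩) _ (isConj_iff.2 ⟨y, rfl⟩)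
      (fun e => hab (congrArg _ e)) u hu
  nontriv := S.nontriv
  irr := fun A hA => S.irr A fun g u hu => hA (S.ρ.rangeRestrict g) u hu

theorem ker_le_center : S.ρ.ker ≤ Subgroup.center Q := by
  intro k hk
  refine S.center_of_class fun t ht => ?_
  obtain ⟨g, rfl⟩ := isConj_iff.1 ht
  have key : ∀ z ∈ S.ρ.ker, Commute S.d z := by
    intro z hz
    set r := z⁻¹ * (S.d * z * S.d) with hr
    have hzP := S.ker_le hz
    have hdz : S.d * z * S.d ∈ S.ρ.ker := by
      have := (MonoidHom.normal_ker S.ρ).conj_mem _ hz S.d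
      rwa [inv_eq_self' S.hd] at this
    have hinv : S.Inv r := by
      refine ⟨mul_mem (inv_mem hzP) (S.ker_le hdz), ?_⟩
      simp only [hr, mul_inv_rev, inv_eq_self' S.hd, inv_inv, mul_assoc, S.dd]
      simp only [S.hd, mul_one]
    have h1 : r = 1 := S.eq_one_of_map hinv (mul_mem (inv_mem hz) hdz)
    have h2 : z = S.d * z * S.d := inv_mul_eq_one.1 h1
    show S.d * z = z * S.d
    calc S.d * z = (S.d * z * S.d) * S.d := by rw [mul_assoc (S.d * z), S.hd, mul_one]
      _ = z * S.d := by rw [← h2]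
  have hh := key _ ((MonoidHom.normal_ker S.ρ).conj_mem k hk g⁻¹)
  have h3 : Commute (g * S.d * g⁻¹) (g * (g⁻¹ * k * g⁻¹⁻¹) * g⁻¹) := hh.map (MulAut.conj g)
  rwa [show g * (g⁻¹ * k * g⁻¹⁻¹) * g⁻¹ = k by group] at h3

theorem exists_triple :
    ∃ a ∈ conjugatesOf S.d, ∃ b ∈ conjugatesOf S.d, Subgroup.closure {S.d, a, b} = ⊤ := by
  have : Finite S.ρ.range := Finite.of_surjective _ S.ρ.rangeRestrict_surjective
  obtain ⟨a, ha, b, hb, hgen⟩ := S.image.core Subtype.val_injective
  obtain ⟨g, rfl⟩ := isConj_iff.1 ha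
  obtain ⟨g', rfl⟩ := isConj_iff.1 hb
  obtain ⟨x, rfl⟩ := S.ρ.rangeRestrict_surjective g
  obtain ⟨y, rfl⟩ := S.ρ.rangeRestrict_surjective g'
  refine ⟨x * S.d * x⁻¹, isConj_iff.2 ⟨x, rfl⟩, y * S.d * y⁻¹, isConj_iff.2 ⟨y, rfl⟩, ?_⟩
  set L := Subgroup.closure ({S.d, x * S.d * x⁻¹, y * S.d * y⁻¹} : Set Q) with hL
  have hmap : L.map S.ρ.rangeRestrict = ⊤ := by
    rw [hL, MonoidHom.map_closure, ← hgen]
    simp only [Set.image_insert_eq, Set.image_singleton, map_mul, map_inv]
    rfl
  rw [eq_top_iff, ← S.gen, Subgroup.closure_le]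
  intro t ht
  obtain ⟨q, rfl⟩ := isConj_iff.1 ht
  obtain ⟨l, hl, he⟩ := (hmap ▸ Subgroup.mem_top (S.ρ.rangeRestrict q) :
    S.ρ.rangeRestrict q ∈ L.map S.ρ.rangeRestrict)
  have hk : l⁻¹ * q ∈ Subgroup.center Q := S.ker_le_center (by
    rw [← MonoidHom.ker_rangeRestrict, MonoidHom.mem_ker, map_mul, map_inv, he, inv_mul_cancel])
  have e : q * S.d * q⁻¹ = l * S.d * l⁻¹ := by
    have hc := Subgroup.mem_center_iff.1 hk S.d
    calc q * S.d * q⁻¹ = l * ((l⁻¹ * q) * S.d) * q⁻¹ := by group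
      _ = l * (S.d * (l⁻¹ * q)) * q⁻¹ := by rw [hc]
      _ = l * S.d * l⁻¹ := by group
  rw [SetLike.mem_coe, e]
  exact mul_mem (mul_mem hl (Subgroup.subset_closure (by simp))) (inv_mem hl)

include S in
theorem card_six_iso (h6 : Nat.card Q = 6) : Nonempty (Q ≃* Equiv.Perm (Fin 3)) := by
  classical
  let K := Subgroup.zpowers S.d
  have hd1 : S.d ≠ 1 := fun h => S.hdP (h ▸ one_mem _)
  have hod : orderOf S.d = 2 := orderOf_eq_prime (by rw [pow_two, S.hd]) hd1
  have hK : Nat.card K = 2 := by rw [Nat.card_zpowers, hod]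
  have hidx : K.index = 3 := by
    have := K.card_mul_index
    rw [h6, hK] at this
    omega
  have : Fintype (Q ⧸ K) := Fintype.ofFinite _
  have h3 : Fintype.card (Q ⧸ K) = 3 := by
    rw [← Nat.card_eq_fintype_card, ← Subgroup.index_eq_card, hidx]
  let f : Q →* Equiv.Perm (Fin 3) :=
    ((Fintype.equivFinOfCardEq h3).permCongrHom).toMonoidHom.comp (MulAction.toPermHom Q (Q ⧸ K))
  have hf : Function.Injective f := by
    have : Function.Injective (MulAction.toPermHom Q (Q ⧸ K)) := by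
      rw [← MonoidHom.ker_eq_bot_iff, ← Subgroup.normalCore_eq_ker]
      rw [Subgroup.eq_bot_iff_forall]
      intro z hz
      obtain ⟨n, hn⟩ := Subgroup.mem_zpowers_iff.1 (Subgroup.normalCore_le K hz)
      rcases Int.even_or_odd n with ⟨m, hm⟩ | ⟨m, hm⟩
      · rw [← hn, hm, ← two_mul, zpow_mul, zpow_ofNat, pow_two, S.hd, one_zpow]
      · exfalso
        have hzd : z = S.d := by
          rw [← hn, hm, zpow_add, zpow_mul, zpow_ofNat, pow_two, S.hd, one_zpow, one_mul, zpow_one]
        subst hzd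
        -- then `d` is central, so the group is cyclic of order two
        have hall : ∀ t ∈ conjugatesOf S.d, t = S.d := by
          intro t ht
          obtain ⟨g, rfl⟩ := isConj_iff.1 ht
          obtain ⟨n', hn'⟩ := Subgroup.mem_zpowers_iff.1 (hz g)
          rcases Int.even_or_odd n' with ⟨m', hm'⟩ | ⟨m', hm'⟩
          · exfalso
            rw [hm', ← two_mul, zpow_mul, zpow_ofNat, pow_two, S.hd, one_zpow] at hn'
            exact hd1 (conj_eq_one_iff.1 hn'.symm)
          · rw [← hn', hm', zpow_add, zpow_mul, zpow_ofNat, pow_two, S.hd, one_zpow, one_mul,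
              zpow_one]
        have htop : (⊤ : Subgroup Q) ≤ K := by
          rw [← S.gen, Subgroup.closure_le]
          intro t ht
          rw [hall t ht]
          exact Subgroup.mem_zpowers _
        have := Subgroup.card_le_of_le htop
        rw [Subgroup.card_top, h6, hK] at this
        omega
    exact (Fintype.equivFinOfCardEq h3).permCongrHom.injective.comp this
  exact ⟨MulEquiv.ofBijective f ((Nat.bijective_iff_injective_and_card f).2
    ⟨hf, by rw [h6]; simp [Nat.card_eq_fintype_card, Fintype.card_perm, Nat.factorial]⟩)⟩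

include S in
/-- The conclusion. -/
theorem main : Nonempty (Q ≃* Equiv.Perm (Fin 3)) ∨
    Nat.card Q = 54 ∧ ∃ a b c : Q, Rel a b c ∧ Subgroup.closure {a, b, c} = ⊤ := by
  have : Fact (Nat.Prime 3) := ⟨Nat.prime_three⟩
  obtain ⟨a, ha, b, hb, hgen⟩ := S.exists_triple
  have hbab : b * b * b⁻¹ = b := by group
  have habb : a * b * a⁻¹ ∈ conjugatesOf S.d := by
    obtain ⟨g, rfl⟩ := isConj_iff.1 hb
    exact isConj_iff.2 ⟨a * g, by group⟩
  have habb' : a * b * a ∈ conjugatesOf S.d := by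
    rwa [inv_eq_self' (S.conj_sq ha)] at habb
  have hrel : Rel S.d a b :=
    ⟨S.hd, S.conj_sq ha, S.conj_sq hb, S.three _ S.self_mem _ ha, S.three _ ha _ hb,
      S.three _ hb _ S.self_mem, S.three _ S.self_mem _ habb'⟩
  have hle : Nat.card Q ≤ 54 := by
    have := card_closure_le hrel
    rwa [hgen, Subgroup.card_top] at this
  obtain ⟨k, hk⟩ := IsPGroup.iff_card.1 S.hP
  have hc : Nat.card Q = 3 ^ k * 2 := by rw [S.card_eq, hk]
  have hk3 : k ≤ 3 := by
    by_contra h
    have : 3 ^ 4 ≤ 3 ^ k := Nat.pow_le_pow_right (by norm_num) (by omega)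
    norm_num at this
    omega
  interval_cases k
  · exfalso
    have hP : S.P = ⊥ := Subgroup.card_eq_one.1 (by simpa using hk)
    refine S.nontriv ?_
    have hall : ∀ t ∈ conjugatesOf S.d, t = S.d := fun t ht => by
      have h := (S.inv_of_conj ht).1
      rw [hP, Subgroup.mem_bot] at h
      rw [eq_inv_of_mul_eq_one_right h, inv_eq_self' S.hd]
    -- every element acts through `d`, whose fixed points are invariant
    let A : Subgroup W :=
      { carrier := {u | S.ρ S.d u = u}
        one_mem' := map_one _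
        mul_mem' := fun {u v} hu hv => by
          show S.ρ S.d (u * v) = u * v
          rw [map_mul, hu, hv]
        inv_mem' := fun {u} hu => by
          show S.ρ S.d u⁻¹ = u⁻¹
          rw [map_inv, hu] }
    have hcomm : ∀ g, S.d * g = g * S.d := fun g => by
      have := hall _ (isConj_iff.2 ⟨g, rfl⟩ : g * S.d * g⁻¹ ∈ conjugatesOf S.d)
      exact (mul_inv_eq_iff_eq_mul.1 this).symm
    have hA : ∀ g, ∀ u ∈ A, S.ρ g u ∈ A := fun g u hu => by
      show S.ρ S.d (S.ρ g u) = S.ρ g u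
      rw [← MulAut.mul_apply, ← map_mul, hcomm, map_mul, MulAut.mul_apply, hu]
    rcases S.irr A hA with h | h
    · refine MulEquiv.ext fun u => ?_
      have hm : u * S.ρ S.d u ∈ A := by
        show S.ρ S.d (u * S.ρ S.d u) = _
        rw [map_mul, ← MulAut.mul_apply, ← map_mul, S.hd, map_one, MulAut.one_apply, mul_comm]
      rw [h, Subgroup.mem_bot] at hm
      rw [MulAut.one_apply, eq_inv_of_mul_eq_one_right hm, inv_eq_self' (S.sq u)]
    · exact MulEquiv.ext fun u => (h ▸ Subgroup.mem_top u : u ∈ A)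
  · exact Or.inl (S.card_six_iso (by simpa using hc))
  · exfalso
    have hPc : ∀ x ∈ S.P, ∀ y ∈ S.P, Commute x y := fun x hx y hy =>
      congrArg Subtype.val ((IsPGroup.isMulCommutative_of_card_eq_prime_sq hk).is_comm.comm
        (⟨x, hx⟩ : S.P) ⟨y, hy⟩)
    obtain ⟨hdnd, hda, hab, hbd, -⟩ := distinct_of_six_lt hrel hgen (by rw [hc]; norm_num)
    have hx := S.inv_of_conj ha
    have hy := S.inv_of_conj hb
    have hx1 : S.d * a ≠ 1 := fun e => hda (by
      rw [eq_inv_of_mul_eq_one_right e, inv_eq_self' S.hd])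
    have hmem := S.no_commute hx hy (hPc _ hx.1 _ hy.1) hx1
    have hb' : b ∈ Subgroup.closure ({S.d, a} : Set Q) := by
      have hd' : S.d ∈ Subgroup.closure ({S.d, a} : Set Q) := Subgroup.subset_closure (by simp)
      have hxm : S.d * a ∈ Subgroup.closure ({S.d, a} : Set Q) :=
        mul_mem hd' (Subgroup.subset_closure (by simp))
      have := mul_mem hd' ((Subgroup.zpowers_le.2 hxm) hmem)
      rwa [S.dd] at this
    have htop : (⊤ : Subgroup Q) ≤ Subgroup.closure {S.d, a} := by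
      rw [← hgen, Subgroup.closure_le]
      rintro z (rfl | rfl | rfl)
      exacts [Subgroup.subset_closure (by simp), Subgroup.subset_closure (by simp), hb']
    have h6 := card_closure_pair_le S.hd (S.conj_sq ha) hrel.hab
    rw [top_le_iff.1 htop, Subgroup.card_top, hc] at h6
    norm_num at h6
  · exact Or.inr ⟨by simpa using hc, S.d, a, b, hrel, hgen⟩

end ActSetup

end CfsgLib.Trans3.Fifty
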