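import Cfsg.Agent.Lib.Trans3.AffineFiftyFour
import Cfsg.Agent.Lib.Trans3.FiftyFourLift
import Mathlib

/-!
A group `Q = P⟨d⟩`, `P` a 3-group, generated by the conjugates of the involution `d`, any two of
them having product of order at most three, which acts on an elementary abelian 2-group in such a
way that fixed points of `ab` are fixed by `a`, is `S₃` or has order 54.
-/

set_option autoImplicit false

namespace CfsgLib.Trans3.Fifty

/-- The hypotheses. -/
structure ActSetup (Q W : Type*) [Group Q] [CommGroup W] where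
  d : Q
  P : Subgroup Q
  ρ : Q →* MulAut W
  hP : IsPGroup 3 P
  hidx : P.index = 2
  hd : d * d = 1
  hdP : d ∉ P
  gen : Subgroup.closure (conjugatesOf d) = ⊤
  three : ∀ a ∈ conjugatesOf d, ∀ b ∈ conjugatesOf d, (a * b) ^ 3 = 1
  sq : ∀ u : W, u * u = 1
  fix : ∀ a ∈ conjugatesOf d, ∀ b ∈ conjugatesOf d, a ≠ b → ∀ u, ρ (a * b) u = u → ρ a u = u
  nontriv : ρ d ≠ 1
  irr : ∀ A : Subgroup W, (∀ g, ∀ u ∈ A, ρ g u ∈ A) → A = ⊥ ∨ A = ⊤

namespace ActSetup

variable {Q W : Type*} [Group Q] [CommGroup W] (S : ActSetup Q W)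

theorem conj_sq {a : Q} (ha : a ∈ conjugatesOf S.d) : a * a = 1 := by
  obtain ⟨g, rfl⟩ := isConj_iff.1 ha
  rw [conj_mul, S.hd, mul_one, mul_inv_cancel]

theorem self_mem : S.d ∈ conjugatesOf S.d := mem_conjugatesOf_self

theorem normalP : S.P.Normal := Subgroup.normal_of_index_eq_two S.hidx

theorem dd (x : Q) : S.d * (S.d * x) = x := cancel S.hd x

theorem not_mem_of_conj {a : Q} (ha : a ∈ conjugatesOf S.d) : a ∉ S.P := by
  obtain ⟨g, rfl⟩ := isConj_iff.1 ha
  intro h
  apply S.hdP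
  have := S.normalP.conj_mem _ h g⁻¹
  simpa [mul_assoc] using this

theorem odd_eq_one {r : Q} (hr : r ∈ S.P) (h : r = r⁻¹) : r = 1 := by
  obtain ⟨k, hk⟩ := S.hP ⟨r, hr⟩
  have hk' : r ^ 3 ^ k = 1 := by simpa using congrArg Subtype.val hk
  obtain ⟨m, hm⟩ : Odd (3 ^ k) := Odd.pow (by decide)
  have h2 : r ^ 2 = 1 := by rw [pow_two]; nth_rw 2 [h]; rw [mul_inv_cancel]
  rw [hm, pow_add, pow_mul, h2, one_pow, pow_one, one_mul] at hk'
  exact hk'

/-- Inverted elements of `P`. -/
def Inv (r : Q) : Prop := r ∈ S.P ∧ S.d * r * S.d = r⁻¹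

theorem inv_one : S.Inv 1 := ⟨one_mem _, by rw [mul_one, S.hd, _root_.inv_one]⟩

theorem inv_of_conj {a : Q} (ha : a ∈ conjugatesOf S.d) : S.Inv (S.d * a) := by
  refine ⟨(Subgroup.mul_mem_iff_of_index_two S.hidx).2
    (iff_of_false S.hdP (S.not_mem_of_conj ha)), ?_⟩
  rw [mul_inv_rev, inv_eq_self' (S.conj_sq ha), inv_eq_self' S.hd, ← mul_assoc S.d, S.hd, one_mul]

theorem inv_pow {r : Q} (hr : S.Inv r) (n : ℕ) : S.Inv (r ^ n) := by
  refine ⟨pow_mem hr.1 n, ?_⟩
  induction n with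
  | zero => simp [S.hd]
  | succ n ih =>
    calc S.d * r ^ (n + 1) * S.d = (S.d * r ^ n * S.d) * (S.d * r * S.d) := by
          simp only [pow_succ, mul_assoc, S.dd]
      _ = (r ^ n)⁻¹ * r⁻¹ := by rw [ih, hr.2]
      _ = (r ^ (n + 1))⁻¹ := by rw [pow_succ', mul_inv_rev]

section

variable [Finite Q]

theorem card_eq : Nat.card Q = Nat.card S.P * 2 := by rw [← S.hidx, Subgroup.card_mul_index]

theorem exists_conj {a : Q} (ha : a * a = 1) (ha1 : a ≠ 1) : a ∈ conjugatesOf S.d := by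
  have : Fact (Nat.Prime 2) := ⟨Nat.prime_two⟩
  have : Fact (Nat.Prime 3) := ⟨Nat.prime_three⟩
  obtain ⟨k, hk⟩ := IsPGroup.iff_card.1 S.hP
  have hc : Nat.card Q = 3 ^ k * 2 := by rw [S.card_eq, hk]
  have h2 : 2 ^ (Nat.card Q).factorization 2 = 2 := by
    rw [hc, Nat.factorization_def _ Nat.prime_two,
      padicValNat.mul (pow_ne_zero _ (by norm_num)) (by norm_num), padicValNat.self (by norm_num),
      padicValNat.eq_zero_of_not_dvd (fun h => by
        have := Nat.prime_two.dvd_of_dvd_pow h; norm_num at this)]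
    rfl
  have hd1 : S.d ≠ 1 := fun h => S.hdP (h ▸ one_mem _)
  have hod : orderOf S.d = 2 := orderOf_eq_prime (by rw [pow_two, S.hd]) hd1
  have hoa : orderOf a = 2 := orderOf_eq_prime (by rw [pow_two, ha]) ha1
  let A := Sylow.ofCard (p := 2) (Subgroup.zpowers S.d) (by rw [Nat.card_zpowers, hod, h2])
  let B := Sylow.ofCard (p := 2) (Subgroup.zpowers a) (by rw [Nat.card_zpowers, hoa, h2])
  obtain ⟨g, hg⟩ := MulAction.exists_smul_eq Q A B
  have hgx : g * S.d * g⁻¹ ∈ (B : Subgroup Q) := by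
    rw [← hg]
    exact Subgroup.smul_mem_pointwise_smul S.d (MulAut.conj g) _ (Subgroup.mem_zpowers S.d)
  change g * S.d * g⁻¹ ∈ Subgroup.zpowers a at hgx
  obtain ⟨n, hn⟩ := Subgroup.mem_zpowers_iff.1 hgx
  refine isConj_iff.2 ⟨g, ?_⟩
  rcases Int.even_or_odd n with ⟨m, hm⟩ | ⟨m, hm⟩
  · exfalso
    rw [hm, ← two_mul, zpow_mul, zpow_ofNat, pow_two, ha, one_zpow] at hn
    exact hd1 (conj_eq_one_iff.1 hn.symm)
  · rw [← hn, hm, zpow_add, zpow_mul, zpow_ofNat, pow_two, ha, one_zpow, one_mul, zpow_one]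

theorem conj_of_inv {r : Q} (hr : S.Inv r) : S.d * r ∈ conjugatesOf S.d := by
  refine S.exists_conj ?_ ?_
  · rw [← mul_assoc, hr.2, inv_mul_cancel]
  · intro h
    apply S.hdP
    rw [eq_inv_of_mul_eq_one_left h]
    exact inv_mem hr.1

theorem inv_cube {r : Q} (hr : S.Inv r) : r ^ 3 = 1 := by
  have := S.three S.d S.self_mem _ (S.conj_of_inv hr)
  rwa [S.dd] at this

theorem fix_inv {r : Q} (hr : S.Inv r) (h1 : r ≠ 1) {u : W} (hu : S.ρ r u = u) :
    S.ρ S.d u = u := by
  refine S.fix S.d S.self_mem _ (S.conj_of_inv hr) (fun h => h1 ?_) u (by rwa [S.dd])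
  exact mul_left_cancel (a := S.d) (h.symm.trans (mul_one _).symm)

theorem eq_one_of_map {r : Q} (hr : S.Inv r) (h : S.ρ r = 1) : r = 1 := by
  by_contra h1
  refine S.nontriv (MulEquiv.ext fun u => ?_)
  exact S.fix_inv hr h1 (by rw [h]; rfl)

end

/-- Sum of the translates of `u` under the powers of an element of order three. -/
def nrm (r : Q) (u : W) : W := u * S.ρ r u * S.ρ r (S.ρ r u)

theorem nrm_fixed {r : Q} (h : r ^ 3 = 1) (u : W) : S.ρ r (S.nrm r u) = S.nrm r u := by
  have e : S.ρ r (S.ρ r (S.ρ r u)) = u := by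
    rw [← MulAut.mul_apply, ← MulAut.mul_apply, ← map_mul, ← map_mul,
      show r * r * r = r ^ 3 by rw [pow_succ, pow_two], h, map_one]
    rfl
  simp only [nrm, map_mul, e]
  ac_rfl

theorem five {x y : Q} (hxy : Commute x y) (hx : x ^ 3 = 1) (hy : y ^ 3 = 1) (u : W) :
    S.nrm x u * S.nrm y u * S.nrm (x * y) u * S.nrm (x * (y * y)) u * S.nrm x (S.nrm y u) = u := by
  set X : W ≃* W := S.ρ x
  set Y : W ≃* W := S.ρ y
  have c : ∀ v, Y (X v) = X (Y v) := fun v => by
    show (S.ρ y * S.ρ x) v = (S.ρ x * S.ρ y) v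
    rw [← map_mul, ← map_mul, hxy.eq]
  have y3 : ∀ v, Y (Y (Y v)) = v := fun v => by
    show (S.ρ y * (S.ρ y * S.ρ y)) v = v
    rw [← map_mul, ← map_mul, show y * (y * y) = y ^ 3 by rw [pow_succ', pow_two], hy, map_one]
    rfl
  have e1 : ∀ v, S.ρ (x * y) v = X (Y v) := fun v => by rw [map_mul]; rfl
  have e2 : ∀ v, S.ρ (x * (y * y)) v = X (Y (Y v)) := fun v => by rw [map_mul, map_mul]; rfl
  simp only [nrm, e1, e2, map_mul]
  change u * X u * X (X u) * (u * Y u * Y (Y u)) *
    (u * X (Y u) * X (Y (X (Y u)))) * (u * X (Y (Y u)) * X (Y (Y (X (Y (Y u)))))) *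
    (u * Y u * Y (Y u) * (X u * X (Y u) * X (Y (Y u))) *
      (X (X u) * X (X (Y u)) * X (X (Y (Y u))))) = u
  simp only [c, y3]
  calc _ = (u * u) * (u * u) * (X u * X u) * (X (X u) * X (X u)) * (Y u * Y u) *
        (Y (Y u) * Y (Y u)) * (X (Y u) * X (Y u)) * (X (X (Y u)) * X (X (Y u))) *
        (X (Y (Y u)) * X (Y (Y u))) * (X (X (Y (Y u))) * X (X (Y (Y u)))) * u := by ac_rfl
    _ = u := by simp only [S.sq, one_mul, mul_one]

theorem fix_subgroup_invariant {z : Q} (hz : z ∈ Subgroup.center Q) (g : Q) {u : W}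
    (hu : S.ρ z u = u) : S.ρ z (S.ρ g u) = S.ρ g u := by
  rw [← MulAut.mul_apply, ← map_mul, ← Subgroup.mem_center_iff.1 hz g, map_mul, MulAut.mul_apply,
    hu]

/-- The fixed points of a central element. -/
def fixSub (z : Q) : Subgroup W where
  carrier := {u | S.ρ z u = u}
  one_mem' := map_one (S.ρ z)
  mul_mem' := fun {a b} ha hb => by
    show S.ρ z (a * b) = a * b
    rw [map_mul, ha, hb]
  inv_mem' := fun {a} ha => by
    show S.ρ z a⁻¹ = a⁻¹
    rw [map_inv, ha]

variable [Finite Q]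

theorem no_commute {x y : Q} (hx : S.Inv x) (hy : S.Inv y) (hc : Commute x y) (h1 : x ≠ 1) :
    y ∈ Subgroup.zpowers x := by
  by_contra hn
  have hx3 := S.inv_cube hx
  have hy3 := S.inv_cube hy
  have invmul : ∀ r, S.Inv r → Commute x r → S.Inv (x * r) := by
    intro r hr hcr
    refine ⟨mul_mem hx.1 hr.1, ?_⟩
    calc S.d * (x * r) * S.d = (S.d * x * S.d) * (S.d * r * S.d) := by
          simp only [mul_assoc, S.dd]
      _ = x⁻¹ * r⁻¹ := by rw [hx.2, hr.2]
      _ = (x * r)⁻¹ := by rw [← mul_inv_rev, hcr.eq]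
  have hy2 : S.Inv (y * y) := pow_two y ▸ S.inv_pow hy 2
  have hm := Subgroup.mem_zpowers x
  have n1 : x * y ≠ 1 := fun e => hn (by rw [eq_inv_of_mul_eq_one_right e]; exact inv_mem hm)
  have n2 : x * (y * y) ≠ 1 := fun e => hn (by
    have h2 : y * y ∈ Subgroup.zpowers x := by rw [eq_inv_of_mul_eq_one_right e]; exact inv_mem hm
    have : y = (y * y) * (y * y) := by
      have h3 : y * (y * y) = 1 := by rw [← hy3, pow_succ', pow_two]
      calc y = y * (y * (y * y)) := by rw [h3, mul_one]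
        _ = _ := by simp only [mul_assoc]
    rw [this]; exact mul_mem h2 h2)
  have ny : y ≠ 1 := fun e => hn (e ▸ one_mem _)
  have f : ∀ r, S.Inv r → r ≠ 1 → ∀ u, S.ρ S.d (S.nrm r u) = S.nrm r u := fun r hr hr1 u =>
    S.fix_inv hr hr1 (S.nrm_fixed (S.inv_cube hr) u)
  refine S.nontriv (MulEquiv.ext fun u => ?_)
  show S.ρ S.d u = u
  conv_lhs => rw [← S.five hc hx3 hy3 u]
  rw [map_mul, map_mul, map_mul, map_mul, f x hx h1, f y hy ny, f _ (invmul _ hy hc) n1,
    f _ (invmul _ hy2 (hc.mul_right hc)) n2, f x hx h1, S.five hc hx3 hy3 u]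

theorem central_cyclic (hinj : Function.Injective S.ρ) {z w : Q} (hz : z ∈ Subgroup.center Q)
    (hw : w ∈ Subgroup.center Q) (hz3 : z ^ 3 = 1) (hw3 : w ^ 3 = 1) (h1 : z ≠ 1) :
    w ∈ Subgroup.zpowers z := by
  by_contra hn
  have triv : ∀ r, r ∈ Subgroup.center Q → r ≠ 1 → ∀ u, S.ρ r u = u → u = 1 := by
    intro r hr hr1 u hu
    rcases S.irr (S.fixSub r) (fun g v hv => S.fix_subgroup_invariant hr g hv) with h | h
    · exact Subgroup.mem_bot.1 (h ▸ (hu : u ∈ S.fixSub r))
    · refine absurd (hinj (?_ : S.ρ r = S.ρ 1)) hr1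
      refine MulEquiv.ext fun v => ?_
      rw [map_one]
      exact (h ▸ Subgroup.mem_top v : v ∈ S.fixSub r)
  have hc : Commute z w := (Subgroup.mem_center_iff.1 hz w).symm
  have hm := Subgroup.mem_zpowers z
  have hw1 : w ≠ 1 := fun e => hn (e ▸ one_mem _)
  have hww : w * w ∈ Subgroup.center Q := mul_mem hw hw
  have hww3 : (w * w) ^ 3 = 1 := by rw [(Commute.refl w).mul_pow, hw3, one_mul]
  have n1 : z * w ≠ 1 := fun e => hn (by rw [eq_inv_of_mul_eq_one_right e]; exact inv_mem hm)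
  have n2 : z * (w * w) ≠ 1 := fun e => hn (by
    have h2 : w * w ∈ Subgroup.zpowers z := by rw [eq_inv_of_mul_eq_one_right e]; exact inv_mem hm
    have : w = (w * w) * (w * w) := by
      have h3 : w * (w * w) = 1 := by rw [← hw3, pow_succ', pow_two]
      calc w = w * (w * (w * w)) := by rw [h3, mul_one]
        _ = _ := by simp only [mul_assoc]
    rw [this]; exact mul_mem h2 h2)
  refine S.nontriv (MulEquiv.ext fun u => ?_)
  have f : ∀ r, r ∈ Subgroup.center Q → r ^ 3 = 1 → r ≠ 1 → ∀ v, S.nrm r v = 1 := fun r hr h3 hr1 v =>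
    triv r hr hr1 _ (S.nrm_fixed h3 v)
  have hu := S.five hc hz3 hw3 u
  rw [f z hz hz3 h1, f w hw hw3 hw1, f _ (mul_mem hz hw) (by rw [hc.mul_pow, hz3, hw3, mul_one]) n1,
    f _ (mul_mem hz hww) (by rw [(hc.mul_right hc).mul_pow, hz3, hww3, mul_one]) n2, f z hz hz3 h1]
    at hu
  simp only [one_mul] at hu
  rw [← hu, map_one, MulAut.one_apply]

theorem center_of {z : Q} (hzP : ∀ p ∈ S.P, Commute p z) (hzd : Commute S.d z) :
    z ∈ Subgroup.center Q := by
  refine Subgroup.mem_center_iff.2 fun g => ?_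
  by_cases hg : g ∈ S.P
  · exact hzP g hg
  · have : S.d * g ∈ S.P := (Subgroup.mul_mem_iff_of_index_two S.hidx).2 (iff_of_false S.hdP hg)
    have h := hzd.mul_left (hzP _ this)
    rw [S.dd] at h
    exact h.eq

theorem center_of_class {z : Q} (h : ∀ a ∈ conjugatesOf S.d, Commute a z) :
    z ∈ Subgroup.center Q := by
  refine Subgroup.mem_center_iff.2 fun g => ?_
  have : g ∈ Subgroup.closure (conjugatesOf S.d) := S.gen ▸ Subgroup.mem_top g
  have hle : Subgroup.closure (conjugatesOf S.d) ≤ Subgroup.centralizer ({z} : Set Q) := by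
    rw [Subgroup.closure_le]
    exact fun a ha => Subgroup.mem_centralizer_singleton_iff.2 (h a ha).eq
  exact Subgroup.mem_centralizer_singleton_iff.1 (hle this)

theorem gen_of_inv {x y : Q} (hx : S.Inv x) (hy : S.Inv y)
    (h : ∀ r, S.Inv r → r ∈ Subgroup.closure ({x, y} : Set Q)) :
    ∃ a ∈ conjugatesOf S.d, ∃ b ∈ conjugatesOf S.d, Subgroup.closure {S.d, a, b} = ⊤ := by
  refine ⟨_, S.conj_of_inv hx, _, S.conj_of_inv hy, ?_⟩
  set K := Subgroup.closure ({S.d, S.d * x, S.d * y} : Set Q)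
  have hdK : S.d ∈ K := Subgroup.subset_closure (by simp)
  have hK : Subgroup.closure ({x, y} : Set Q) ≤ K := by
    rw [Subgroup.closure_le]
    intro r hr
    have hdr : S.d * r ∈ K := Subgroup.subset_closure (by rcases hr with rfl | rfl <;> simp)
    have := mul_mem hdK hdr
    rwa [S.dd] at this
  rw [eq_top_iff, ← S.gen, Subgroup.closure_le]
  intro a ha
  have := mul_mem hdK (hK (h _ (S.inv_of_conj ha)))
  rwa [S.dd] at this

theorem core (hinj : Function.Injective S.ρ) :
    ∃ a ∈ conjugatesOf S.d, ∃ b ∈ conjugatesOf S.d, Subgroup.closure {S.d, a, b} = ⊤ := by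
  classical
  have : Fact (Nat.Prime 3) := ⟨Nat.prime_three⟩
  by_cases hA : ∃ z, S.Inv z ∧ z ≠ 1 ∧ ∀ p ∈ S.P, Commute p z
  · obtain ⟨z, hz, hz1, hzP⟩ := hA
    refine S.gen_of_inv hz hz fun r hr => ?_
    have : r ∈ Subgroup.zpowers z := S.no_commute hz hr (hzP r hr.1).symm hz1
    rw [Subgroup.zpowers_eq_closure] at this
    exact Subgroup.closure_mono (by simp) this
  push Not at hA
  -- elements centralizing `P` centralize `d`
  have hZd : ∀ z ∈ S.P, (∀ p ∈ S.P, Commute p z) → Commute S.d z := by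
    intro z hzP hz
    have hzd : ∀ p ∈ S.P, Commute p (S.d * z * S.d) := by
      intro p hp
      have hp' : S.d * p * S.d ∈ S.P := by
        have := S.normalP.conj_mem _ hp S.d
        rwa [inv_eq_self' S.hd] at this
      have h := (hz _ hp').eq
      show p * (S.d * z * S.d) = S.d * z * S.d * p
      calc p * (S.d * z * S.d) = S.d * ((S.d * p * S.d) * z) * S.d := by
            simp only [mul_assoc, S.dd]
        _ = S.d * (z * (S.d * p * S.d)) * S.d := by rw [h]
        _ = _ := by simp only [mul_assoc, S.hd, mul_one]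
    have hw : S.Inv (S.d * z * S.d * z⁻¹) := by
      refine ⟨mul_mem ?_ (inv_mem hzP), ?_⟩
      · have := S.normalP.conj_mem _ hzP S.d
        rwa [inv_eq_self' S.hd] at this
      · simp only [mul_inv_rev, inv_eq_self' S.hd, inv_inv, mul_assoc, S.dd]
    by_contra hne
    obtain ⟨p, hp, hpn⟩ := hA _ hw fun e => hne (by
      have h1 : S.d * z * S.d = z := mul_inv_eq_one.1 e
      show S.d * z = z * S.d
      calc S.d * z = S.d * z * S.d * S.d := by rw [mul_assoc (S.d * z), S.hd, mul_one]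
        _ = z * S.d := by rw [h1])
    exact hpn ((hzd p hp).mul_right (hz p hp).inv_right)
  have hZc : ∀ z ∈ S.P, (∀ p ∈ S.P, Commute p z) → z ∈ Subgroup.center Q :=
    fun z hzP hz => S.center_of hz (hZd z hzP hz)
  by_cases htop : Subgroup.center S.P = ⊤
  · refine S.gen_of_inv S.inv_one S.inv_one fun r hr => ?_
    have hall : ∀ p ∈ S.P, Commute p r := fun p hp => by
      have h := Subgroup.mem_center_iff.1
        (show (⟨r, hr.1⟩ : S.P) ∈ Subgroup.center S.P by rw [htop]; trivial) ⟨p, hp⟩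
      exact congrArg Subtype.val h
    have : S.d * r * S.d = r := by rw [(hZd r hr.1 hall).eq, mul_assoc, S.hd, mul_one]
    rw [S.odd_eq_one hr.1 (this.symm.trans hr.2)]
    exact one_mem _
  -- the centre of `P` as a subgroup of `Q`
  set Z : Subgroup Q := Subgroup.center Q ⊓ S.P with hZdef
  have : Z.Normal := by
    rw [hZdef]
    have := S.normalP
    infer_instance
  let π := QuotientGroup.mk' Z
  obtain ⟨a, haP, ha, hac⟩ : ∃ a ∈ S.P, a ∉ Subgroup.center Q ∧
      ∀ p ∈ S.P, Commute (π a) (π p) := by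
    have : Nontrivial (S.P ⧸ Subgroup.center S.P) := QuotientGroup.nontrivial_iff.2 htop
    have hq : IsPGroup 3 (S.P ⧸ Subgroup.center S.P) := S.hP.to_quotient _
    have := hq.center_nontrivial
    obtain ⟨c, hc1⟩ := exists_ne (1 : Subgroup.center (S.P ⧸ Subgroup.center S.P))
    obtain ⟨a, ha⟩ := QuotientGroup.mk_surjective c.1
    refine ⟨a, a.2, fun hcen => hc1 ?_, fun p hp => ?_⟩
    · refine Subtype.ext ?_
      rw [← ha]
      refine (QuotientGroup.eq_one_iff a).2 (Subgroup.mem_center_iff.2 fun q => Subtype.ext ?_)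
      exact Subgroup.mem_center_iff.1 hcen q
    · have h := Subgroup.mem_center_iff.1 c.2 (QuotientGroup.mk ⟨p, hp⟩)
      rw [← ha, ← QuotientGroup.mk_mul, ← QuotientGroup.mk_mul, QuotientGroup.eq] at h
      show π a * π p = π p * π a
      rw [← map_mul, ← map_mul]
      refine (QuotientGroup.eq.2 ?_).symm
      refine Subgroup.mem_inf.2 ⟨?_, mul_mem (inv_mem (mul_mem hp a.2)) (mul_mem a.2 hp)⟩
      refine hZc _ (mul_mem (inv_mem (mul_mem hp a.2)) (mul_mem a.2 hp)) fun q hq' => ?_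
      exact congrArg Subtype.val (Subgroup.mem_center_iff.1 h ⟨q, hq'⟩)
  set x := a * (S.d * a * S.d)⁻¹ with hx_def
  have haP' : S.d * a * S.d ∈ S.P := by
    have := S.normalP.conj_mem _ haP S.d
    rwa [inv_eq_self' S.hd] at this
  have hx : S.Inv x := by
    refine ⟨mul_mem haP (inv_mem haP'), ?_⟩
    simp only [x, mul_inv_rev, inv_eq_self' S.hd, inv_inv, mul_assoc, S.dd]
    simp only [S.hd, mul_one]
  have hxc : ∀ p ∈ S.P, Commute (π x) (π p) := by
    intro p hp
    have hp' : S.d * p * S.d ∈ S.P := by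
      have := S.normalP.conj_mem _ hp S.d
      rwa [inv_eq_self' S.hd] at this
    have h2 : Commute (π (S.d * a * S.d)) (π p) := by
      have hdd : π S.d * π S.d = 1 := by rw [← map_mul, S.hd, map_one]
      have h := (hac _ hp').eq
      simp only [map_mul] at h ⊢
      show π S.d * π a * π S.d * π p = π p * (π S.d * π a * π S.d)
      calc π S.d * π a * π S.d * π p
          = π S.d * (π a * (π S.d * π p * π S.d)) * π S.d := by
            simp only [mul_assoc, hdd, mul_one]
        _ = π S.d * ((π S.d * π p * π S.d) * π a) * π S.d := by rw [h]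
        _ = _ := by simp only [mul_assoc, cancel hdd]
    rw [hx_def, map_mul, map_inv]
    exact (hac p hp).mul_left h2.inv_left
  -- `x` is not central
  have hxn : x ∉ Subgroup.center Q := by
    intro hxcen
    have hxd : S.d * x * S.d = x := by
      rw [Subgroup.mem_center_iff.1 hxcen S.d, mul_assoc, S.hd, mul_one]
    have hx1 := S.odd_eq_one hx.1 (hxd.symm.trans hx.2)
    have had : S.d * a * S.d = a := (mul_inv_eq_one.1 hx1).symm
    apply ha
    refine S.center_of_class fun t ht => ?_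
    have hr := S.inv_of_conj ht
    set r := S.d * t with hr_def
    have hg : a * r * a⁻¹ * r⁻¹ ∈ Z := by
      rw [← QuotientGroup.eq_one_iff]
      show π (a * r * a⁻¹ * r⁻¹) = 1
      rw [map_mul, map_mul, map_mul, (hac r hr.1).eq, map_inv, map_inv, mul_inv_cancel_right,
        mul_inv_cancel]
    set g := a * r * a⁻¹ * r⁻¹ with hg_def
    have hgc := Subgroup.mem_center_iff.1 hg.1
    have e1 : S.d * g * S.d = g := by rw [hgc S.d, mul_assoc, S.hd, mul_one]
    have hai : S.d * a⁻¹ * S.d = a⁻¹ := by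
      have := congrArg (·⁻¹) had
      simpa [mul_inv_rev, inv_eq_self' S.hd, mul_assoc] using this
    have hri : S.d * r⁻¹ * S.d = r := by
      have := congrArg (·⁻¹) hr.2
      simpa [mul_inv_rev, inv_eq_self' S.hd, mul_assoc] using this
    have e2 : S.d * g * S.d = a * r⁻¹ * a⁻¹ * r := by
      calc S.d * g * S.d =
          (S.d * a * S.d) * (S.d * r * S.d) * (S.d * a⁻¹ * S.d) * (S.d * r⁻¹ * S.d) := by
            simp only [hg_def, mul_assoc, S.dd]
        _ = a * r⁻¹ * a⁻¹ * r := by rw [had, hr.2, hai, hri]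
    have e3 : a * r⁻¹ * a⁻¹ * r = g⁻¹ := by
      calc a * r⁻¹ * a⁻¹ * r = r⁻¹ * g⁻¹ * r := by simp only [hg_def]; group
        _ = g⁻¹ * r⁻¹ * r := by
          rw [← Subgroup.mem_center_iff.1 (inv_mem hg.1) r⁻¹]
        _ = g⁻¹ := inv_mul_cancel_right _ _
    have hg1 : g = 1 := S.odd_eq_one hg.2 (e1.symm.trans (e2.trans e3))
    have har : Commute a r := commutatorElement_eq_one_iff_commute.1 (by
      rw [commutatorElement_def]; exact hg1)
    have hd' : Commute a S.d := by
      show a * S.d = S.d * a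
      nth_rw 1 [← had]
      rw [mul_assoc (S.d * a), S.hd, mul_one]
    have := hd'.mul_right har
    rw [hr_def, S.dd] at this
    exact this.symm
  have hx3 := S.inv_cube hx
  -- commutators with `x`
  have hcom : ∀ r ∈ S.P, ∃ g ∈ Z, g ^ 3 = 1 ∧ x * r * x⁻¹ = g * r := by
    intro r hr
    have hg : x * r * x⁻¹ * r⁻¹ ∈ Z := by
      rw [← QuotientGroup.eq_one_iff]
      show π (x * r * x⁻¹ * r⁻¹) = 1
      rw [map_mul, map_mul, map_mul, (hxc r hr).eq, map_inv, map_inv, mul_inv_cancel_right,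
        mul_inv_cancel]
    set g := x * r * x⁻¹ * r⁻¹ with hg_def
    refine ⟨g, hg, ?_, by rw [hg_def]; group⟩
    have e : x * r * x⁻¹ = g * r := by rw [hg_def]; group
    have hgx : x * g = g * x := Subgroup.mem_center_iff.1 hg.1 x
    have cg : ∀ z, x * (g * z) * x⁻¹ = g * (x * z * x⁻¹) := fun z => by
      rw [← mul_assoc x g z, hgx]; simp only [mul_assoc]
    have e2 : x ^ 3 * r * (x ^ 3)⁻¹ = g ^ 3 * r := by
      calc x ^ 3 * r * (x ^ 3)⁻¹ = x * (x * (x * r * x⁻¹) * x⁻¹) * x⁻¹ := by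
            simp only [pow_succ, pow_zero, one_mul, mul_inv_rev, mul_assoc]
        _ = g * (g * (g * r)) := by rw [e, cg, e, cg, cg, e]
        _ = g ^ 3 * r := by simp only [pow_succ, pow_zero, one_mul, mul_assoc]
    rw [hx3, one_mul, _root_.inv_one, mul_one] at e2
    exact mul_right_cancel (e2.symm.trans (one_mul r).symm)
  obtain ⟨y, hy, hyx⟩ : ∃ y, S.Inv y ∧ ¬ Commute x y := by
    by_contra h
    push Not at h
    apply hxn
    have key : ∀ g ∈ Subgroup.closure (conjugatesOf S.d),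
        g * x * g⁻¹ = x ∨ g * x * g⁻¹ = x⁻¹ := by
      intro g hg
      induction hg using Subgroup.closure_induction with
      | mem t ht =>
        right
        have hc := (h _ (S.inv_of_conj ht)).eq
        calc t * x * t⁻¹ = S.d * ((S.d * t) * x) * t⁻¹ := by simp only [mul_assoc, S.dd]
          _ = S.d * (x * (S.d * t)) * t⁻¹ := by rw [hc]
          _ = S.d * x * S.d := by simp only [mul_assoc, mul_inv_cancel, mul_one]
          _ = x⁻¹ := hx.2
      | one => left; group
      | mul g g' _ _ h1 h2 =>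
        have e : g * g' * x * (g * g')⁻¹ = g * (g' * x * g'⁻¹) * g⁻¹ := by group
        have e' : g * x⁻¹ * g⁻¹ = (g * x * g⁻¹)⁻¹ := by group
        rcases h1 with h1 | h1 <;> rcases h2 with h2 | h2 <;> rw [e, h2]
        · exact Or.inl h1
        · right; rw [e', h1]
        · exact Or.inr h1
        · left; rw [e', h1, inv_inv]
      | inv g _ h1 =>
        rcases h1 with h1 | h1
        · left; nth_rw 1 [← h1]; group
        · right
          calc g⁻¹ * x * g⁻¹⁻¹ = (g⁻¹ * x⁻¹ * g)⁻¹ := by group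
            _ = (g⁻¹ * (g * x * g⁻¹) * g)⁻¹ := by rw [h1]
            _ = x⁻¹ := by group
    refine hZc x hx.1 fun p hp => ?_
    rcases key p (S.gen ▸ Subgroup.mem_top p) with h1 | h1
    · exact mul_inv_eq_iff_eq_mul.1 h1
    · exfalso
      obtain ⟨g, hg, -, e⟩ := hcom p hp
      have e' : g⁻¹ = x⁻¹ * x⁻¹ := by
        calc g⁻¹ = p * (g * p)⁻¹ := by group
          _ = p * (x * p * x⁻¹)⁻¹ := by rw [e]
          _ = (p * x * p⁻¹) * x⁻¹ := by group
          _ = x⁻¹ * x⁻¹ := by rw [h1]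
      have : x = x⁻¹ * x⁻¹ := by
        calc x = x ^ 3 * (x⁻¹ * x⁻¹) := by group
          _ = _ := by rw [hx3, one_mul]
      exact hxn (by rw [this, ← e']; exact inv_mem hg.1)
  obtain ⟨g, hgZ, hg3, hgy⟩ := hcom y hy.1
  have hg1 : g ≠ 1 := fun e => hyx (by
    rw [e, one_mul] at hgy
    exact mul_inv_eq_iff_eq_mul.1 hgy)
  refine S.gen_of_inv hx hy fun w hw => ?_
  obtain ⟨c, hcZ, hc3, hcw⟩ := hcom w hw.1
  obtain ⟨m, hm⟩ : ∃ m : ℕ, g ^ m = c := by
    obtain ⟨m, hm⟩ := Submonoid.mem_powers_iff _ _ |>.1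
      (mem_powers_iff_mem_zpowers.2 (S.central_cyclic hinj hgZ.1 hcZ.1 hg3 hc3 hg1))
    exact ⟨m, hm⟩
  have hgcen : ∀ z, z * g = g * z := fun z => Subgroup.mem_center_iff.1 hgZ.1 z
  have hym : x * y ^ m * x⁻¹ = g ^ m * y ^ m := by
    rw [← conj_pow, hgy]
    exact (Commute.symm (hgcen y)).mul_pow m
  set u := y ^ m * w * y ^ m with hu_def
  have hu : S.Inv u := by
    have h := S.inv_pow hy m
    refine ⟨mul_mem (mul_mem h.1 hw.1) h.1, ?_⟩
    calc S.d * u * S.d = (S.d * y ^ m * S.d) * (S.d * w * S.d) * (S.d * y ^ m * S.d) := by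
          simp only [hu_def, mul_assoc, S.dd]
      _ = u⁻¹ := by rw [h.2, hw.2, hu_def]; group
  have hux : Commute x u := by
    have hgm : ∀ z, z * g ^ m = g ^ m * z := fun z =>
      ((Commute.symm (hgcen z)).pow_left m).eq.symm
    apply mul_inv_eq_iff_eq_mul.1
    calc x * u * x⁻¹ = (x * y ^ m * x⁻¹) * (x * w * x⁻¹) * (x * y ^ m * x⁻¹) := by
          rw [hu_def]; group
      _ = (g ^ m * y ^ m) * (g ^ m * w) * (g ^ m * y ^ m) := by rw [hym, hcw, hm]
      _ = g ^ m * g ^ m * g ^ m * u := by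
          rw [hu_def]
          simp only [mul_assoc]
          rw [← mul_assoc (y ^ m) (g ^ m), hgm]
          simp only [mul_assoc]
          rw [← mul_assoc w (g ^ m), hgm]
          simp only [mul_assoc]
          rw [← mul_assoc (y ^ m) (g ^ m), hgm]
          simp only [mul_assoc]
      _ = u := by
          rw [← pow_add, ← pow_add, show m + m + m = 3 * m by ring, pow_mul, hg3, one_pow, one_mul]
  have hx1 : x ≠ 1 := fun e => hxn (e ▸ one_mem _)
  have humem := S.no_commute hx hu hux hx1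
  have hX : x ∈ Subgroup.closure ({x, y} : Set Q) := Subgroup.subset_closure (by simp)
  have hY : y ∈ Subgroup.closure ({x, y} : Set Q) := Subgroup.subset_closure (by simp)
  have hw' : w = (y ^ m)⁻¹ * u * (y ^ m)⁻¹ := by rw [hu_def]; group
  rw [hw']
  exact mul_mem (mul_mem (inv_mem (pow_mem hY _)) ((Subgroup.zpowers_le.2 hX) humem))
    (inv_mem (pow_mem hY _))

end ActSetup

end CfsgLib.Trans3.Fifty
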