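import Cfsg.Agent.Lib.Trans3.ThreeTwoGroup
import Cfsg.Agent.Lib.Trans3.Group
import Cfsg.Agent.Lib.Comp.FStar
import Cfsg.Agent.Lib.Solvable.Nilpotent
import Cfsg.Agent.Lib.Amalgam.PCore
import Mathlib

/-!
The quotient by `O₂` of a 3-transposition group with a normal Sylow 3-subgroup of 2-power index
in that quotient, and a chief factor in `O₂` on which it acts nontrivially.
-/

set_option autoImplicit false

namespace CfsgLib.Trans3.Fifty

/-- A `p`-group generated by the conjugates of one element is generated by that element. -/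
theorem zpowers_eq_top_of_class {G : Type*} [Group G] [Finite G] [Group.IsNilpotent G] {d : G}
    (h : Subgroup.closure (conjugatesOf d) = ⊤) : Subgroup.zpowers d = ⊤ := by
  rcases eq_top_or_exists_le_coatom (Subgroup.zpowers d) with h1 | ⟨M, hM, hle⟩
  · exact h1
  · exfalso
    have hMn : M.Normal :=
      Subgroup.NormalizerCondition.normal_of_coatom M (Group.normalizerCondition_of_isNilpotent) hM
    apply hM.1
    rw [eq_top_iff, ← h, Subgroup.closure_le]
    intro t ht
    obtain ⟨g, rfl⟩ := isConj_iff.1 ht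
    exact hMn.conj_mem _ (hle (Subgroup.mem_zpowers d)) g

theorem sq_cube_eq_one {G : Type*} [Group G] {x : G} (h2 : x ^ 2 = 1) (h3 : x ^ 3 = 1) : x = 1 := by
  rwa [pow_succ, h2, one_mul] at h3

theorem eq_one_of_isPGroup {G : Type*} [Group G] {p n : ℕ} {V : Subgroup G} (hV : IsPGroup p V)
    (hn : p.Coprime n) {c : G} (hc : c ∈ V) (h : c ^ n = 1) : c = 1 := by
  obtain ⟨k, hk⟩ := hV ⟨c, hc⟩
  have hk' : c ^ p ^ k = 1 := by simpa using congrArg Subtype.val hk
  rw [← orderOf_eq_one_iff]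
  exact Nat.eq_one_of_dvd_coprimes (hn.pow_left k) (orderOf_dvd_of_pow_eq_one hk')
    (orderOf_dvd_of_pow_eq_one h)

theorem nontrivial_action {H : Type*} [Group H] {V N R : Subgroup H} (hV : IsPGroup 2 V)
    (hNV : N ≤ V) (hRN : R ≤ N) {g : H} (hg : g ^ 3 = 1) (hgR : ∀ r ∈ R, Commute g r)
    (hgN : ∀ n ∈ N, g * n * g⁻¹ * n⁻¹ ∈ R) : ∀ n ∈ N, Commute g n := by
  intro n hn
  set c := g * n * g⁻¹ * n⁻¹ with hc
  have hcR := hgN n hn
  have e : g * n * g⁻¹ = c * n := by rw [hc]; group
  have hgc : g * c = c * g := (hgR c hcR).eq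
  have cg : ∀ z, g * (c * z) * g⁻¹ = c * (g * z * g⁻¹) := fun z => by
    rw [← mul_assoc g c z, hgc]; simp only [mul_assoc]
  have e2 : g ^ 3 * n * (g ^ 3)⁻¹ = c ^ 3 * n := by
    calc g ^ 3 * n * (g ^ 3)⁻¹ = g * (g * (g * n * g⁻¹) * g⁻¹) * g⁻¹ := by
          simp only [pow_succ, pow_zero, one_mul, mul_inv_rev, mul_assoc]
      _ = c * (c * (c * n)) := by rw [e, cg, e, cg, cg, e]
      _ = c ^ 3 * n := by simp only [pow_succ, pow_zero, one_mul, mul_assoc]
  rw [hg, one_mul, inv_one, mul_one] at e2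
  have h3 : c ^ 3 = 1 := mul_right_cancel (e2.symm.trans (one_mul n).symm)
  have : c = 1 := eq_one_of_isPGroup hV (by decide) (hNV (hRN hcR)) h3
  rw [this, one_mul] at e
  exact mul_inv_eq_iff_eq_mul.1 e

theorem commute_of_fix {X : Type*} [Group X] {A B u : X} {W : Subgroup X} [W.Normal]
    (hW : ∀ x ∈ W, ∀ y ∈ W, x * y = y * x) (hsq : ∀ x ∈ W, x * x = 1) (hu : u ∈ W)
    (hA : A * A = 1) (hB : B * B = 1) (hBA : (B * A) ^ 3 = 1)
    (h3 : (B * (u * A * u⁻¹)) ^ 3 = 1) (hfix : A * B * u = u * (A * B)) : A * u * A⁻¹ = u := by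
  have hAi := inv_eq_self' hA
  have hBi := inv_eq_self' hB
  set t := B * A with ht
  have hti : t⁻¹ = A * B := by rw [ht, mul_inv_rev, hAi, hBi]
  have htu : Commute t u := by
    have : Commute t⁻¹ u := by rw [hti]; exact hfix
    simpa using this.inv_left
  have hu' : A * u * A ∈ W := by
    have := Subgroup.Normal.conj_mem inferInstance u hu A
    rwa [hAi] at this
  have htu' : Commute t (A * u * A) := by
    have h1 : Commute (A * t * A⁻¹) (A * u * A⁻¹) := htu.map (MulAut.conj A)
    have h2 : A * t * A⁻¹ = t⁻¹ := by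
      rw [hti, hAi, ht, mul_assoc, mul_assoc B, hA, mul_one]
    rw [h2, hAi] at h1
    simpa using h1.inv_left
  set x := u * (A * u * A) with hx
  have hxW : x ∈ W := mul_mem hu hu'
  have hxt : Commute t x := htu.mul_right htu'
  set x' := B * x * B with hx'
  have hx'W : x' ∈ W := by
    have := Subgroup.Normal.conj_mem inferInstance x hxW B
    rwa [hBi] at this
  have hx't : Commute t x' := by
    have h1 : Commute (B * t * B⁻¹) (B * x * B⁻¹) := hxt.map (MulAut.conj B)
    have h2 : B * t * B⁻¹ = t⁻¹ := by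
      rw [hti, hBi, ht, ← mul_assoc B B A, hB, one_mul]
    rw [h2, hBi] at h1
    simpa using h1.inv_left
  have hui : u⁻¹ = u := inv_eq_self' (hsq u hu)
  have e : B * (u * A * u⁻¹) = x' * t := by
    rw [hui, hx', hx, ht]
    simp only [mul_assoc, cancel hA, cancel hB, hA, mul_one]
  rw [e, hx't.symm.mul_pow, hBA, mul_one] at h3
  have hx1 : x' = 1 := by
    refine sq_cube_eq_one ?_ h3
    rw [pow_two, hsq x' hx'W]
  have : x = 1 := by
    have h := congrArg (fun z => B * z * B) hx1
    simpa only [hx', mul_assoc, cancel hB, hB, mul_one, one_mul] using h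
  rw [hAi, eq_inv_of_mul_eq_one_right (this : u * (A * u * A) = 1), hui]

variable {H : Type*} [Group H] [Finite H] {E : Set H}

theorem exists_actSetup (hE : Cfsg.IsThreeTranspositionClass E)
    (hE2 : ∃ a ∈ E, ∃ b ∈ E, a ≠ b) (hF : Cfsg.generalizedFittingSubgroup H = Cfsg.pCore 2 H)
    [(Cfsg.pCore 2 H).Normal]
    (h232 : ∃ P : Sylow 3 (H ⧸ Cfsg.pCore 2 H), (P : Subgroup (H ⧸ Cfsg.pCore 2 H)).Normal ∧
      ∃ k : ℕ, (P : Subgroup (H ⧸ Cfsg.pCore 2 H)).index = 2 ^ k) :
    (Nonempty (H ⧸ Cfsg.pCore 2 H ≃* Equiv.Perm (Fin 3)) ∨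
      Nat.card (H ⧸ Cfsg.pCore 2 H) = 54 ∧ ∃ a b c : H ⧸ Cfsg.pCore 2 H,
        Rel a b c ∧ Subgroup.closure {a, b, c} = ⊤) := by
  classical
  have : Fact (Nat.Prime 2) := ⟨Nat.prime_two⟩
  have : Fact (Nat.Prime 3) := ⟨Nat.prime_three⟩
  set V := Cfsg.pCore 2 H with hV_def
  have hVp : IsPGroup 2 V := CfsgLib.Amalgam.isPGroup_pCore
  let mk := QuotientGroup.mk' V
  have hmk : Function.Surjective mk := QuotientGroup.mk'_surjective V
  obtain ⟨d, hdE, hEd⟩ := hE.2.1
  obtain ⟨P, hPn, k, hk⟩ := h232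
  have hd1 : d * d = 1 := sq_one hE.1 hdE
  have hmd : mk d * mk d = 1 := by rw [← map_mul, hd1, map_one]
  have himg : ∀ a ∈ conjugatesOf (mk d), ∃ e ∈ E, mk e = a := by
    intro a ha
    obtain ⟨g, rfl⟩ := isConj_iff.1 ha
    obtain ⟨g, rfl⟩ := hmk g
    exact ⟨g * d * g⁻¹, class_conj_mem hE g hdE, by simp⟩
  have hgen : Subgroup.closure (conjugatesOf (mk d)) = ⊤ := by
    rw [eq_top_iff]
    intro q _
    obtain ⟨h, rfl⟩ := hmk q
    have hh : h ∈ Subgroup.closure E := by rw [hE.2.2]; trivial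
    have := Subgroup.mem_map_of_mem mk hh
    rw [MonoidHom.map_closure] at this
    refine Subgroup.closure_mono ?_ this
    rintro _ ⟨e, he, rfl⟩
    rw [hEd] at he
    exact MonoidHom.map_isConj _ he
  have notTwo : ¬ IsPGroup 2 H := by
    intro h2
    have := h2.isNilpotent
    have hz := zpowers_eq_top_of_class (d := d) (hEd ▸ hE.2.2)
    obtain ⟨a, ha, b, hb, hab⟩ := hE2
    have hall : ∀ e ∈ E, e = d := by
      intro e he
      rw [hEd] at he
      obtain ⟨g, rfl⟩ := isConj_iff.1 he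
      obtain ⟨n, rfl⟩ := Subgroup.mem_zpowers_iff.1 (hz ▸ Subgroup.mem_top g : g ∈ Subgroup.zpowers d)
      rw [← zpow_add_one, ← zpow_neg, ← zpow_add]
      simp
    exact hab ((hall a ha).trans (hall b hb).symm)
  have hQ2 : ¬ IsPGroup 2 (H ⧸ V) := by
    intro h
    apply notTwo
    obtain ⟨i, hi⟩ := IsPGroup.iff_card.1 hVp
    obtain ⟨j, hj⟩ := IsPGroup.iff_card.1 h
    refine IsPGroup.of_card (n := j + i) ?_
    rw [Subgroup.card_eq_card_quotient_mul_card_subgroup V, hi, hj, pow_add]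
  have hdP : mk d ∉ (P : Subgroup (H ⧸ V)) := by
    intro h
    have htop : (⊤ : Subgroup (H ⧸ V)) ≤ P := by
      rw [← hgen, Subgroup.closure_le]
      intro a ha
      obtain ⟨g, rfl⟩ := isConj_iff.1 ha
      exact hPn.conj_mem _ h g
    have h1 : mk d = 1 := eq_one_of_isPGroup P.2 (by decide : Nat.Coprime 3 2) h (by rw [pow_two, hmd])
    apply hQ2
    have : ∀ x : H ⧸ V, x = 1 := by
      intro x
      have hx : x ∈ Subgroup.closure (conjugatesOf (mk d)) := by rw [hgen]; trivial
      have hle : Subgroup.closure (conjugatesOf (mk d)) ≤ ⊥ := by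
        rw [Subgroup.closure_le]
        intro a ha
        obtain ⟨g, rfl⟩ := isConj_iff.1 ha
        simp [h1]
      exact Subgroup.mem_bot.1 (hle hx)
    exact fun x => ⟨0, by rw [this x, one_pow]⟩
  have hidx : (P : Subgroup (H ⧸ V)).index = 2 := by
    let π := QuotientGroup.mk' (P : Subgroup (H ⧸ V))
    have hp : IsPGroup 2 ((H ⧸ V) ⧸ (P : Subgroup (H ⧸ V))) :=
      IsPGroup.of_card (n := k) (by rw [← Subgroup.index_eq_card]; exact hk)
    have := hp.isNilpotent
    have hz : Subgroup.zpowers (π (mk d)) = ⊤ := by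
      apply zpowers_eq_top_of_class
      rw [eq_top_iff]
      intro q _
      obtain ⟨h, rfl⟩ := QuotientGroup.mk'_surjective _ q
      have hh : h ∈ Subgroup.closure (conjugatesOf (mk d)) := by rw [hgen]; trivial
      have := Subgroup.mem_map_of_mem π hh
      rw [MonoidHom.map_closure] at this
      refine Subgroup.closure_mono ?_ this
      rintro _ ⟨e, he, rfl⟩
      exact MonoidHom.map_isConj _ he
    have ho : orderOf (π (mk d)) = 2 := orderOf_eq_prime
      (by rw [← map_pow, pow_two, hmd, map_one]) (fun h => hdP ((QuotientGroup.eq_one_iff _).1 h))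
    rw [Subgroup.index_eq_card, ← Subgroup.card_top (G := (H ⧸ V) ⧸ (P : Subgroup (H ⧸ V))), ← hz,
      Nat.card_zpowers, ho]
  have hout : ∀ a ∈ conjugatesOf (mk d), a ∉ (P : Subgroup (H ⧸ V)) := by
    intro a ha h
    obtain ⟨g, rfl⟩ := isConj_iff.1 ha
    apply hdP
    have := hPn.conj_mem _ h g⁻¹
    simpa [mul_assoc] using this
  have hne : ∀ a ∈ E, ∀ b ∈ E, mk a ≠ mk b → (a * b) ^ 3 = 1 := by
    intro a ha b hb hab
    refine (hE.1.2 a ha b hb).resolve_left fun h2 => hab ?_
    have h2' : (mk a * mk b) ^ 2 = 1 := by rw [← map_mul, ← map_pow, h2, map_one]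
    have hmem : mk a * mk b ∈ (P : Subgroup (H ⧸ V)) :=
      (Subgroup.mul_mem_iff_of_index_two hidx).2 (iff_of_false
        (hout _ (MonoidHom.map_isConj mk (hEd ▸ ha : a ∈ conjugatesOf d)))
        (hout _ (MonoidHom.map_isConj mk (hEd ▸ hb : b ∈ conjugatesOf d))))
    have h1 := eq_one_of_isPGroup P.2 (by decide : Nat.Coprime 3 2) hmem h2'
    have haa : mk a * mk a = 1 := by rw [← map_mul, sq_one hE.1 ha, map_one]
    exact mul_left_cancel (a := mk a) (haa.trans h1.symm)
  -- an element of order three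
  obtain ⟨e, heE, hed⟩ : ∃ e ∈ E, mk e ≠ mk d := by
    by_contra h
    push Not at h
    apply hQ2
    have : (⊤ : Subgroup (H ⧸ V)) ≤ Subgroup.zpowers (mk d) := by
      rw [← hgen, Subgroup.closure_le]
      intro a ha
      obtain ⟨e, he, rfl⟩ := himg a ha
      rw [h e he]
      exact Subgroup.mem_zpowers _
    have ho : orderOf (mk d) = 2 := orderOf_eq_prime (by rw [pow_two, hmd])
      (fun h => hdP (h ▸ one_mem _))
    refine IsPGroup.of_card (n := 1) ?_
    rw [← Subgroup.card_top (G := H ⧸ V), ← eq_top_iff.2 this, Nat.card_zpowers, ho, pow_one]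
  set g := d * e with hg_def
  have hg3 : g ^ 3 = 1 := hne d hdE e heE hed.symm
  obtain ⟨v, hvV, hgv⟩ : ∃ v ∈ V, ¬ Commute g v := by
    by_contra h
    push Not at h
    apply hed
    have hgV : g ∈ V := by
      have hc := CfsgLib.Comp.centralizer_generalizedFitting_le H
      rw [hF] at hc
      exact hc (Subgroup.mem_centralizer_iff.2 fun v hv => ((h v hv).eq).symm)
    have h1 : mk g = 1 := (QuotientGroup.eq_one_iff g).2 hgV
    rw [hg_def, map_mul] at h1
    exact mul_left_cancel (a := mk d) (h1.trans hmd.symm)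
  -- a chief factor
  obtain ⟨N, ⟨hNn, hNV, hgN⟩, hNmin⟩ := exists_minimal_of_wellFoundedLT
    (fun N : Subgroup H => N.Normal ∧ N ≤ V ∧ ∃ n ∈ N, ¬ Commute g n)
    ⟨V, inferInstance, le_rfl, v, hvV, hgv⟩
  have hNb : (⊥ : Subgroup H) < N := by
    rw [bot_lt_iff_ne_bot]
    intro h
    obtain ⟨n, hn, hn'⟩ := hgN
    rw [h, Subgroup.mem_bot] at hn
    exact hn' (hn ▸ Commute.one_right g)
  obtain ⟨R, ⟨hRn, hRN⟩, hRmax⟩ := exists_maximal_of_wellFoundedGT
    (fun R : Subgroup H => R.Normal ∧ R < N) ⟨⊥, inferInstance, hNb⟩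
  have hgR : ∀ r ∈ R, Commute g r := by
    intro r hr
    by_contra h
    exact hRN.not_ge (hNmin ⟨hRn, hRN.le.trans hNV, r, hr, h⟩ hRN.le)
  let m := QuotientGroup.mk' R
  have hm : Function.Surjective m := QuotientGroup.mk'_surjective R
  set W0 := N.map m with hW0
  have hW0n : W0.Normal := hNn.map m hm
  have hmin : ∀ A : Subgroup (H ⧸ R), A.Normal → A ≤ W0 → A = ⊥ ∨ A = W0 := by
    intro A hA hle
    set B := A.comap m ⊓ N with hB
    have : B.Normal := by
      rw [hB]; have := hA.comap m; infer_instance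
    have hRB : R ≤ B := le_inf (fun r hr => by
      show m r ∈ A
      rw [show m r = 1 from (QuotientGroup.eq_one_iff r).2 hr]; exact one_mem _) hRN.le
    have hBA : A = B.map m := by
      apply le_antisymm
      · intro a ha
        obtain ⟨n, hn, rfl⟩ := hle ha
        exact ⟨n, ⟨ha, hn⟩, rfl⟩
      · rintro _ ⟨b, hb, rfl⟩
        exact hb.1
    by_cases hBN : B = N
    · exact Or.inr (by rw [hBA, hBN, hW0])
    · left
      have hlt : B < N := lt_of_le_of_ne inf_le_right hBN
      have hBR : B ≤ R := hRmax ⟨inferInstance, hlt⟩ hRB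
      rw [hBA, eq_bot_iff]
      rintro _ ⟨b, hb, rfl⟩
      exact Subgroup.mem_bot.2 ((QuotientGroup.eq_one_iff b).2 (hBR hb))
  have hW0b : W0 ≠ ⊥ := by
    intro h
    apply hRN.not_ge
    intro n hn
    have : m n ∈ W0 := Subgroup.mem_map_of_mem m hn
    rw [h, Subgroup.mem_bot] at this
    exact (QuotientGroup.eq_one_iff n).1 this
  set V0 := V.map m with hV0
  have hV0p : IsPGroup 2 V0 := hVp.map m
  have hV0n : V0.Normal := Subgroup.Normal.map inferInstance m hm
  have hWV : W0 ≤ V0 := Subgroup.map_mono hNV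
  have hWp : IsPGroup 2 W0 := hV0p.to_le hWV
  have hcent : ∀ w ∈ W0, ∀ x ∈ V0, x * w = w * x := by
    set A := W0 ⊓ Subgroup.centralizer (V0 : Set (H ⧸ R)) with hA
    have : A.Normal := by rw [hA]; infer_instance
    rcases hmin A inferInstance inf_le_left with h | h
    · exfalso
      have := hV0p.isNilpotent
      have hb : W0.subgroupOf V0 ≠ ⊥ := by
        rw [Ne, Subgroup.subgroupOf_eq_bot]
        intro hd
        exact hW0b (disjoint_self.1 (hd.mono_right hWV))
      apply CfsgLib.Solvable.normal_inf_center_ne_bot (W0.subgroupOf V0) hb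
      rw [Subgroup.eq_bot_iff_forall]
      intro z hz
      refine Subtype.ext (Subgroup.mem_bot.1 (h ▸ ?_ : (z : H ⧸ R) ∈ (⊥ : Subgroup (H ⧸ R))))
      exact ⟨hz.1, Subgroup.mem_centralizer_iff.2 fun x hx =>
        congrArg Subtype.val (Subgroup.mem_center_iff.1 hz.2 ⟨x, hx⟩)⟩
    · intro w hw x hx
      rw [← h] at hw
      exact Subgroup.mem_centralizer_iff.1 hw.2 x hx
  have hcomm : ∀ a ∈ W0, ∀ b ∈ W0, a * b = b * a := fun a ha b hb => hcent b hb a (hWV ha)
  have hsq : ∀ w ∈ W0, w * w = 1 := by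
    let A : Subgroup (H ⧸ R) :=
      { carrier := {w | w ∈ W0 ∧ w * w = 1}
        one_mem' := ⟨one_mem _, mul_one _⟩
        mul_mem' := fun {a b} ha hb => ⟨mul_mem ha.1 hb.1, by
          rw [mul_assoc, ← mul_assoc b a b, hcomm b hb.1 a ha.1, mul_assoc a b b, hb.2, mul_one, ha.2]⟩
        inv_mem' := fun {a} ha => ⟨inv_mem ha.1, by rw [← mul_inv_rev, ha.2, inv_one]⟩ }
    have : A.Normal := ⟨fun a ha q => ⟨hW0n.conj_mem _ ha.1 q, by
      rw [conj_mul, ha.2, mul_one, mul_inv_cancel]⟩⟩
    rcases hmin A inferInstance (fun a ha => ha.1) with h | h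
    · exfalso
      obtain ⟨i, hi⟩ := IsPGroup.iff_card.1 hWp
      have hdvd : 2 ∣ Nat.card W0 := by
        rcases i with _ | i
        · exact absurd (Subgroup.card_eq_one.1 (by simpa using hi)) hW0b
        · rw [hi, pow_succ]; exact dvd_mul_left 2 _
      obtain ⟨z, hz⟩ := exists_prime_orderOf_dvd_card' 2 hdvd
      have hzA : (z : H ⧸ R) ∈ A := ⟨z.2, by
        have := pow_orderOf_eq_one z
        rw [hz, pow_two] at this
        exact congrArg Subtype.val this⟩
      rw [h, Subgroup.mem_bot] at hzA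
      rw [show z = 1 from Subtype.ext hzA, orderOf_one] at hz
      norm_num at hz
    · intro w hw
      exact (h ▸ hw : w ∈ A).2
  letI : CommGroup W0 :=
    { (inferInstance : Group W0) with mul_comm := fun a b => Subtype.ext (hcomm _ a.2 _ b.2) }
  let ρ₀ : H →* MulAut W0 := (MulAut.conjNormal (H := W0)).comp m
  have hρV : V ≤ ρ₀.ker := by
    intro x hx
    rw [MonoidHom.mem_ker]
    refine MulEquiv.ext fun w => Subtype.ext ?_
    show m x * (w : H ⧸ R) * (m x)⁻¹ = w
    rw [hcent _ w.2 _ (Subgroup.mem_map_of_mem m hx), mul_inv_cancel_right]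
  let ρ : H ⧸ V →* MulAut W0 := QuotientGroup.lift V ρ₀ hρV
  have hρ : ∀ (x : H) (w : W0), ((ρ (mk x) w : W0) : H ⧸ R) = m x * w * (m x)⁻¹ := fun x w => rfl
  have hnt : ρ (mk d) ≠ 1 := by
    intro h1
    have hall : ρ = 1 := by
      refine MonoidHom.eq_of_eqOn_dense hgen fun a ha => ?_
      obtain ⟨q, rfl⟩ := isConj_iff.1 ha
      simp [h1]
    obtain ⟨n, hn, hn'⟩ := hgN
    refine hn' (nontrivial_action hVp hNV hRN.le hg3 hgR (fun x hx => ?_) n hn)
    have h2 := hρ g ⟨m x, Subgroup.mem_map_of_mem m hx⟩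
    rw [hall, MonoidHom.one_apply, MulAut.one_apply] at h2
    rw [← QuotientGroup.eq_one_iff]
    show m (g * x * g⁻¹ * x⁻¹) = 1
    rw [map_mul, map_mul, map_mul, map_inv, map_inv, ← h2]
    exact mul_inv_cancel (m x)
  let S : ActSetup (H ⧸ V) W0 :=
    { d := mk d
      P := P
      ρ := ρ
      hP := P.2
      hidx := hidx
      hd := hmd
      hdP := hdP
      gen := hgen
      three := by
        intro a ha b hb
        obtain ⟨a, haE, rfl⟩ := himg a ha
        obtain ⟨b, hbE, rfl⟩ := himg b hb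
        by_cases hab : mk a = mk b
        · rw [← hab, ← map_mul, sq_one hE.1 haE, map_one, one_pow]
        · rw [← map_mul, ← map_pow, hne a haE b hbE hab, map_one]
      sq := fun w => Subtype.ext (hsq _ w.2)
      fix := by
        intro a ha b hb hab w hw
        obtain ⟨a, haE, rfl⟩ := himg a ha
        obtain ⟨b, hbE, rfl⟩ := himg b hb
        have hu : (m a * m b) * (w : H ⧸ R) = w * (m a * m b) := by
          have h := hρ (a * b) w
          rw [show mk (a * b) = mk a * mk b from map_mul mk a b, hw, map_mul] at h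
          exact mul_inv_eq_iff_eq_mul.1 h.symm
        obtain ⟨n, hn, hwn⟩ := w.2
        refine Subtype.ext ?_
        rw [hρ a w]
        refine commute_of_fix hcomm hsq w.2 (by rw [← map_mul, sq_one hE.1 haE, map_one])
          (by rw [← map_mul, sq_one hE.1 hbE, map_one])
          (by rw [← map_mul, ← map_pow, hne b hbE a haE (Ne.symm hab), map_one]) ?_ hu
        have hn1 : n * a * n⁻¹ ∈ E := class_conj_mem hE n haE
        have hmk1 : mk (n * a * n⁻¹) = mk a := by
          rw [map_mul, map_mul, map_inv, show mk n = 1 from (QuotientGroup.eq_one_iff n).2 (hNV hn),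
            one_mul, inv_one, mul_one]
        have h3 := hne b hbE _ hn1 (by rw [hmk1]; exact Ne.symm hab)
        rw [← hwn, ← map_inv, ← map_mul, ← map_mul, ← map_mul, ← map_pow, h3, map_one]
      nontriv := hnt
      irr := by
        intro A hA
        have : (A.map W0.subtype).Normal := ⟨by
          rintro _ ⟨a, ha, rfl⟩ q
          obtain ⟨h, rfl⟩ := hm q
          exact ⟨ρ (mk h) a, hA _ a ha, hρ h a⟩⟩
        rcases hmin _ this (Subgroup.map_subtype_le A) with h | h
        · left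
          exact (Subgroup.map_eq_bot_iff_of_injective _ W0.subtype_injective).1 h
        · right
          apply Subgroup.map_injective W0.subtype_injective
          rw [h, ← MonoidHom.range_eq_map, Subgroup.range_subtype] }
  exact S.main

end CfsgLib.Trans3.Fifty
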