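import Cfsg.Agent.Lib.Trans3.TvSL
import Mathlib.Algebra.CharP.Two

/-!
# Transvections of `SL(ι, F)` in characteristic two as root involutions
-/

set_option autoImplicit false

namespace CfsgLib.Trans3.TvCharTwo

open Cfsg Matrix CfsgLib.MaxSub CfsgLib.Trans3.TvGroup CfsgLib.Trans3.TvVec CfsgLib.Trans3.TvSL
  CfsgLib.Trans3.SL2Rel

variable {ι : Type} [Fintype ι] [DecidableEq ι] {F : Type*} [Field F]

/-- The conjugates of the elementary transvections. -/
def tvSet (i j : ι) : Set (Matrix.SpecialLinearGroup ι F) :=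
  {t | ∃ c : F, c ≠ 0 ∧ ∃ g : Matrix.SpecialLinearGroup ι F,
    ((g⁻¹ * t * g : Matrix.SpecialLinearGroup ι F) : Matrix ι ι F) = Matrix.transvection i j c}

theorem transvection_eq (i j : ι) (c : F) :
    Matrix.transvection i j c = tvMat (c • (Pi.single i 1 : ι → F)) (Pi.single j 1) := by
  rw [← tvMat_single i j c]
  congr 1
  ext l; simp [Pi.single_apply]

variable {i j : ι} (hij : i ≠ j) (hι : 3 ≤ Fintype.card ι)
include hij hι

theorem mem_tvSet {t : Matrix.SpecialLinearGroup ι F} :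
    t ∈ tvSet i j ↔ ∃ a φ : ι → F, a ≠ 0 ∧ φ ≠ 0 ∧ φ ⬝ᵥ a = 0 ∧ slVal t = tvMat a φ := by
  constructor
  · rintro ⟨c, hc, g, hg⟩
    have h : slVal t = slVal g * tvMat (c • (Pi.single i 1 : ι → F)) (Pi.single j 1) * slVal g⁻¹ := by
      rw [← transvection_eq]
      show _ = slVal g * _ * slVal g⁻¹
      rw [← hg]
      show slVal t = slVal g * slVal (g⁻¹ * t * g) * slVal g⁻¹
      rw [← map_mul, ← map_mul]; group
    rw [conj_tvMat] at h
    have hmem : (conjBy (rootGrp (k := F) i j) g) ∈ rootSet i j := ⟨g, rfl⟩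
    have hT := (tv_rootGrp (k := F) hij).conj slVal_injective g
    refine ⟨_, _, ?_, ?_, ?_, h⟩
    · intro h0
      have := congrArg (fun v => slVal g⁻¹ *ᵥ v) h0
      simp only [mulVec_mulVec, ← map_mul, inv_mul_cancel, map_one, one_mulVec, mulVec_zero] at this
      exact hc (by simpa using congrFun this i)
    · intro h0
      have := congrArg (fun v => v ᵥ* slVal g) h0
      simp only [vecMul_vecMul, ← map_mul, inv_mul_cancel, map_one, vecMul_one, zero_vecMul] at this
      exact one_ne_zero (α := F) (by simpa using congrFun this j)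
    · rw [mulVec_smul, dotProduct_smul, hT.dot, smul_zero]
  · rintro ⟨a, φ, ha, hφ, h0, ht⟩
    obtain ⟨g, hg1, hg2⟩ := moves_all hι (hasAllTv (ι := ι) (k := F)) (a := Pi.single i 1)
      (φ := Pi.single j 1) (by simp) ha (by simp) hφ (by simp [hij.symm]) h0
    refine ⟨1, one_ne_zero, g, ?_⟩
    show slVal (g⁻¹ * t * g) = _
    rw [transvection_eq, one_smul, map_mul, map_mul, ht, ← hg1, ← hg2,
      ← conj_tvMat]
    simp only [← mul_assoc]
    rw [← map_mul, inv_mul_cancel, map_one, one_mul, mul_assoc, ← map_mul, inv_mul_cancel, map_one,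
      mul_one]

theorem tvSet_conj {t : Matrix.SpecialLinearGroup ι F} (ht : t ∈ tvSet i j)
    (h : Matrix.SpecialLinearGroup ι F) : h * t * h⁻¹ ∈ tvSet i j := by
  obtain ⟨c, hc, g, hg⟩ := ht
  exact ⟨c, hc, h * g, by
    rw [← hg, show (h * g)⁻¹ * (h * t * h⁻¹) * (h * g) = g⁻¹ * t * g by
      simp only [_root_.mul_inv_rev, mul_assoc, inv_mul_cancel_left, inv_mul_cancel, mul_one]]⟩

theorem tvSet_class {t s : Matrix.SpecialLinearGroup ι F} (ht : t ∈ tvSet i j)
    (hs : s ∈ tvSet i j) : ∃ g, s = g * t * g⁻¹ := by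
  obtain ⟨a, φ, ha, hφ, h0, ht⟩ := (mem_tvSet hij hι).1 ht
  obtain ⟨b, ψ, hb, hψ, h0', hs⟩ := (mem_tvSet hij hι).1 hs
  obtain ⟨g, hg1, hg2⟩ := moves_all hι (hasAllTv (ι := ι) (k := F)) ha hb hφ hψ h0 h0'
  exact ⟨g, slVal_injective (by rw [map_mul, map_mul, ht, conj_tvMat, hg1, hg2, hs])⟩

variable [CharP F 2]

omit hij hι in
theorem tv_sq {a φ : ι → F} (h0 : φ ⬝ᵥ a = 0) : tvMat a φ * tvMat a φ = 1 := by
  rw [tvMat_mul_same_center _ _ _ h0,
    show φ + φ = 0 from funext fun l => CharTwo.add_self_eq_zero _, tvMat_zero]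

theorem orderOf_tvSet {t : Matrix.SpecialLinearGroup ι F} (ht : t ∈ tvSet i j) :
    orderOf t = 2 := by
  obtain ⟨a, φ, ha, hφ, h0, ht⟩ := (mem_tvSet hij hι).1 ht
  refine orderOf_eq_prime ?_ fun h => tvMat_ne_one ha hφ (by rw [← ht, h, map_one])
  exact slVal_injective (by rw [pow_two, map_mul, ht, tv_sq h0, map_one])

omit hij hι in
theorem sl2_pow (x y : F) (n : ℕ) : ∃ α β : F,
    ((upp x * low y) ^ n : Matrix.SpecialLinearGroup (Fin 2) F).1 =
      α • (upp x * low y).1 + β • (1 : Matrix (Fin 2) (Fin 2) F) := by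
  have hsq : (upp x * low y).1 * (upp x * low y).1 =
      (x * y) • (upp x * low y).1 + (1 : Matrix (Fin 2) (Fin 2) F) := by
    have h2 : (2 : F) = 0 := CharTwo.two_eq_zero
    ext p q
    fin_cases p <;> fin_cases q <;>
      simp [Matrix.SpecialLinearGroup.coe_mul, upp_val, low_val, Matrix.mul_apply]
    all_goals first
      | ring1
      | linear_combination (x * y) * h2
      | linear_combination x * h2
      | linear_combination y * h2
      | linear_combination (x * y + 1) * h2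
      | linear_combination h2
  induction n with
  | zero => exact ⟨0, 1, by simp⟩
  | succ n ih =>
      obtain ⟨α, β, h⟩ := ih
      refine ⟨α * (x * y) + β, α, ?_⟩
      rw [pow_succ, Matrix.SpecialLinearGroup.coe_mul, h, Matrix.add_mul, Matrix.smul_mul,
        Matrix.smul_mul, hsq, Matrix.one_mul, smul_add, smul_smul, add_smul]
      abel

omit hij hι in
theorem odd_orderOf_sl2 [Fintype F] {x y : F} (hx : x ≠ 0) (hy : y ≠ 0) :
    Odd (orderOf (upp x * low y : Matrix.SpecialLinearGroup (Fin 2) F)) := by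
  set M := (upp x * low y : Matrix.SpecialLinearGroup (Fin 2) F) with hM
  rw [← Nat.not_even_iff_odd]
  rintro ⟨m, hm⟩
  have hpos : 0 < orderOf M := orderOf_pos M
  have hne : M ^ m ≠ 1 := pow_ne_one_of_lt_orderOf (by omega) (by omega)
  have hsq : (M ^ m).1 * (M ^ m).1 = 1 := by
    rw [← Matrix.SpecialLinearGroup.coe_mul, ← pow_add, ← hm, pow_orderOf_eq_one]; rfl
  obtain ⟨α, β, hαβ⟩ := sl2_pow x y m
  rw [← hM] at hαβ
  have h01 : M.1 0 1 = x := by
    simp [hM, Matrix.SpecialLinearGroup.coe_mul, upp_val, low_val, Matrix.mul_apply]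
  have h00 : M.1 0 0 = 1 + x * y := by
    simp [hM, Matrix.SpecialLinearGroup.coe_mul, upp_val, low_val, Matrix.mul_apply]
  have h10 : M.1 1 0 = y := by
    simp [hM, Matrix.SpecialLinearGroup.coe_mul, upp_val, low_val, Matrix.mul_apply]
  have h11 : M.1 1 1 = 1 := by
    simp [hM, Matrix.SpecialLinearGroup.coe_mul, upp_val, low_val, Matrix.mul_apply]
  rw [hαβ] at hsq
  have e01 := congrFun (congrFun hsq 0) 1
  have e11 := congrFun (congrFun hsq 1) 1
  simp [Matrix.mul_apply, h00, h01, h10, h11] at e01 e11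
  have h2 : (2 : F) = 0 := CharTwo.two_eq_zero
  have hα : α = 0 := by
    have h3 : α ^ 2 * (x * x * y) = 0 := by linear_combination e01 - (α ^ 2 * x + α * β * x) * h2
    simpa [hx, hy] using h3
  subst hα
  have hβ : β = 1 := by
    have h3 : (β - 1) * (β - 1) = 0 := by linear_combination e11 - (β - 1) * h2
    simpa [sub_eq_zero] using h3
  subst hβ
  exact hne (Subtype.ext (by rw [hαβ, zero_smul, zero_add, one_smul]; rfl))

omit hij hι in
theorem sl2_cube_of_two (h : ∀ z : F, z = 0 ∨ z = 1) {x y : F} (hx : x ≠ 0) (hy : y ≠ 0) :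
    (upp x * low y : Matrix.SpecialLinearGroup (Fin 2) F) ^ 3 = 1 := by
  obtain rfl := (h x).resolve_left hx
  obtain rfl := (h y).resolve_left hy
  have h2 : (2 : F) = 0 := CharTwo.two_eq_zero
  ext p q
  fin_cases p <;> fin_cases q <;>
    simp [pow_succ, Matrix.SpecialLinearGroup.coe_mul, upp_val, low_val, Matrix.mul_apply]
  all_goals first
    | ring1
    | linear_combination h2
    | linear_combination (2 : F) * h2
    | linear_combination (3 : F) * h2
    | linear_combination (4 : F) * h2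
    | linear_combination (5 : F) * h2
    | linear_combination (6 : F) * h2

theorem tvSet_pair [Fintype F] {t s : Matrix.SpecialLinearGroup ι F} (ht : t ∈ tvSet i j)
    (hs : s ∈ tvSet i j) :
    t * s = s * t ∨ (Odd (orderOf (t * s)) ∧ ((∀ z : F, z = 0 ∨ z = 1) → orderOf (t * s) ∣ 3)) ∨
      (orderOf (t * s) = 4 ∧ (t * s) ^ 2 ∈ tvSet i j) := by
  haveI := Fact.mk Nat.prime_two
  have ht2 : t * t = 1 := by rw [← pow_two, ← orderOf_tvSet hij hι ht, pow_orderOf_eq_one]
  have hs2 : s * s = 1 := by rw [← pow_two, ← orderOf_tvSet hij hι hs, pow_orderOf_eq_one]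
  obtain ⟨a, φ, ha, hφ, h0, htv⟩ := (mem_tvSet hij hι).1 ht
  obtain ⟨b, ψ, hb, hψ, h0', hsv⟩ := (mem_tvSet hij hι).1 hs
  have four : ∀ {u v : Matrix.SpecialLinearGroup ι F}, u * u = 1 → v * v = 1 →
      u * v * u⁻¹ * v⁻¹ ∈ tvSet i j → orderOf (u * v) = 4 ∧ (u * v) ^ 2 ∈ tvSet i j := by
    intro u v hu hv hm
    have e : (u * v) ^ 2 = u * v * u⁻¹ * v⁻¹ := by
      rw [inv_eq_of_mul_eq_one_left hu, inv_eq_of_mul_eq_one_left hv, pow_two, mul_assoc (u * v) u v]
    have ho := orderOf_tvSet hij hι (e.symm ▸ hm)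
    refine ⟨orderOf_eq_prime_pow (p := 2) (n := 1) ?_ ?_, e.symm ▸ hm⟩
    · rw [pow_one]; intro h; rw [h, orderOf_one] at ho; omega
    · show (u * v) ^ (2 ^ (1 + 1)) = 1
      have h5 := pow_orderOf_eq_one ((u * v) ^ 2)
      rw [ho] at h5
      rw [show (2 : ℕ) ^ (1 + 1) = 2 * 2 from rfl, pow_mul, h5]
  have comm : ∀ {u v : Matrix.SpecialLinearGroup ι F} {c d α β : ι → F}, u * u = 1 → v * v = 1 →
      c ≠ 0 → α ≠ 0 → d ≠ 0 → α ⬝ᵥ c = 0 → β ⬝ᵥ d = 0 → α ⬝ᵥ d = 0 → β ⬝ᵥ c ≠ 0 →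
      slVal u = tvMat c α → slVal v = tvMat d β → u * v * u⁻¹ * v⁻¹ ∈ tvSet i j := by
    intro u v c d α β hu hv hc hα hd hαc hβd hαd hβc huv hvv
    refine (mem_tvSet hij hι).2 ⟨(-(β ⬝ᵥ c)) • d, α, smul_ne_zero (neg_ne_zero.2 hβc) hd, hα,
      by rw [dotProduct_smul, hαd, smul_zero], ?_⟩
    rw [inv_eq_of_mul_eq_one_left hu, inv_eq_of_mul_eq_one_left hv, map_mul, map_mul, map_mul, huv,
      hvv, mul_tvMat_mul _ _ _ _ (tv_sq hαc), tvMat_mulVec, vecMul_tvMat, hαd, zero_smul, add_zero,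
      tvMat_mul_same_center _ _ _ (by rw [add_dotProduct, hβd, smul_dotProduct, hαd, smul_zero,
        add_zero]), tvMat_smul]
    congr 1
    funext l
    simp only [Pi.add_apply, Pi.smul_apply, smul_eq_mul, CharTwo.neg_eq]
    linear_combination (β l) * (CharTwo.two_eq_zero (R := F))
  by_cases h1 : φ ⬝ᵥ b = 0 <;> by_cases h2 : ψ ⬝ᵥ a = 0
  · left
    exact slVal_injective (by rw [map_mul, map_mul, htv, hsv, tvMat_comm h1 h2])
  · exact Or.inr (Or.inr (four ht2 hs2 (comm ht2 hs2 ha hφ hb h0 h0' h1 h2 htv hsv)))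
  · right; right
    have h := four hs2 ht2 (comm hs2 ht2 hb hψ ha h0' h0 h2 h1 hsv htv)
    have e : t * s = (s * t)⁻¹ := by
      rw [_root_.mul_inv_rev, inv_eq_of_mul_eq_one_left ht2, inv_eq_of_mul_eq_one_left hs2]
    refine ⟨by rw [e, orderOf_inv]; exact h.1, ?_⟩
    rw [e, inv_pow]
    have h3 := h.2
    have h4 := orderOf_tvSet hij hι h3
    have h5 := pow_orderOf_eq_one ((s * t) ^ 2)
    rw [h4, pow_two ((s * t) ^ 2)] at h5
    rw [inv_eq_of_mul_eq_one_left h5]
    exact h3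
  · right; left
    obtain ⟨ρ, hρ, hu, hl, -⟩ := exists_planeHom slVal_injective
      (φ := (φ ⬝ᵥ b)⁻¹ • φ) (ψ := (ψ ⬝ᵥ a)⁻¹ • ψ) (a := a) (b := b)
      (by rw [smul_dotProduct, h0, smul_zero]) (by rw [smul_dotProduct, h0', smul_zero])
      (by rw [smul_dotProduct, smul_eq_mul, inv_mul_cancel₀ h1])
      (by rw [smul_dotProduct, smul_eq_mul, inv_mul_cancel₀ h2])
    have e : slVal (t * s) = ρ (upp (φ ⬝ᵥ b) * low (ψ ⬝ᵥ a)) := by
      rw [map_mul, map_mul, htv, hsv, hu, hl, tvMat_smul, tvMat_smul, smul_smul, smul_smul,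
        mul_inv_cancel₀ h1, mul_inv_cancel₀ h2, one_smul, one_smul]
    have ho : orderOf (t * s) = orderOf (upp (φ ⬝ᵥ b) * low (ψ ⬝ᵥ a) :
        Matrix.SpecialLinearGroup (Fin 2) F) := by
      rw [← orderOf_injective slVal slVal_injective (t * s), e, orderOf_injective ρ hρ]
    rw [ho]
    exact ⟨odd_orderOf_sl2 h1 h2, fun hz => orderOf_dvd_of_pow_eq_one (sl2_cube_of_two hz h1 h2)⟩

theorem isRootInvolutionClass [Fintype F] : IsRootInvolutionClass (tvSet (F := F) i j) := by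
  refine ⟨⟨fun t ht => orderOf_tvSet hij hι ht, ?_, fun t ht g => tvSet_conj hij hι ht g,
    fun t ht s hs => ?_⟩, ?_, fun t ht s hs => tvSet_class hij hι ht hs⟩
  · refine CfsgLib.Classical.sl_transvection_induction _ fun p q hpq c => ?_
    rcases eq_or_ne c 0 with rfl | hc
    · convert one_mem (Subgroup.closure (tvSet (F := F) i j))
      exact Subtype.ext (Matrix.transvection_zero p q)
    · refine Subgroup.subset_closure ((mem_tvSet hij hι).2 ⟨c • Pi.single p 1, Pi.single q 1,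
        smul_ne_zero hc (by simp), by simp, by simp [hpq.symm], ?_⟩)
      exact transvection_eq p q c
  · rcases tvSet_pair hij hι ht hs with h | h | h
    exacts [Or.inl h, Or.inr (Or.inl h.1), Or.inr (Or.inr h)]
  · obtain ⟨p, hp⟩ := hasAllTv (k := F) (Pi.single i 1) (Pi.single j 1) (by simp [hij.symm])
    exact ⟨p, (mem_tvSet hij hι).2 ⟨_, _, by simp, by simp, by simp [hij.symm], hp⟩⟩

theorem isThreeFourPlus [Fintype F] (h : ∀ z : F, z = 0 ∨ z = 1) :
    IsThreeFourPlusTranspositionSet (tvSet (F := F) i j) := by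
  refine ⟨(isRootInvolutionClass hij hι).1, fun t ht s hs ho => ?_⟩
  have h3 : orderOf (t * s) ∣ 3 := by
    rcases tvSet_pair hij hι ht hs with h' | h' | h'
    · have h2 : (t * s) ^ 2 = 1 := by
        rw [pow_two]; conv_lhs => arg 2; rw [h']
        have ht2 : t * t = 1 := by rw [← pow_two, ← orderOf_tvSet hij hι ht, pow_orderOf_eq_one]
        have hs2 : s * s = 1 := by rw [← pow_two, ← orderOf_tvSet hij hι hs, pow_orderOf_eq_one]
        rw [mul_assoc, ← mul_assoc s, hs2, one_mul, ht2]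
      rcases (Nat.dvd_prime Nat.prime_two).1 (orderOf_dvd_of_pow_eq_one h2) with h'' | h''
      · rw [h'']; exact one_dvd 3
      · rw [h''] at ho; exact absurd ho (by decide)
    · exact h'.2 h
    · rw [h'.1] at ho; exact absurd ho (by decide)
  exact (Nat.dvd_prime Nat.prime_three).1 h3

end CfsgLib.Trans3.TvCharTwo
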