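import Cfsg.Agent.Lib.Trans3.PairOver
import Cfsg.Agent.Lib.MaxSub.Transvection

/-!
# Transvection groups inside a matrix group
-/

set_option autoImplicit false
set_option linter.unusedSectionVars false

namespace CfsgLib.Trans3.TvGroup

open Cfsg Matrix CfsgLib.MaxSub CfsgLib.Trans3.SL2Rel CfsgLib.Trans3.RankOne

variable {ι : Type} [Fintype ι] [DecidableEq ι] {k : Type*} [Field k]
variable {G : Type*} [Group G]

/-- `A` is the group of all `1 + c a φᵀ`, seen through `f`. -/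
structure Tv (f : G →* Matrix ι ι k) (A : Subgroup G) (a φ : ι → k) : Prop where
  dot : φ ⬝ᵥ a = 0
  mem : ∀ g, g ∈ A ↔ ∃ c : k, f g = tvMat (c • a) φ
  surj : ∀ c : k, ∃ g, f g = tvMat (c • a) φ

variable {f : G →* Matrix ι ι k} {A B C : Subgroup G} {a b φ ψ : ι → k}

theorem Tv.exists_mem (h : Tv f A a φ) (c : k) : ∃ g ∈ A, f g = tvMat (c • a) φ :=
  let ⟨g, hg⟩ := h.surj c; ⟨g, (h.mem g).2 ⟨c, hg⟩, hg⟩

theorem Tv.smul_center (h : Tv f A a φ) {s : k} (hs : s ≠ 0) : Tv f A (s • a) φ where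
  dot := by rw [dotProduct_smul, h.dot, smul_zero]
  mem g := by
    rw [h.mem]
    constructor
    · rintro ⟨c, hc⟩; exact ⟨c / s, by rwa [smul_smul, div_mul_cancel₀ c hs]⟩
    · rintro ⟨c, hc⟩; exact ⟨c * s, by rwa [mul_smul]⟩
  surj c := by
    obtain ⟨g, hg⟩ := h.surj (c * s); exact ⟨g, by rwa [smul_smul]⟩

theorem Tv.smul_dual (h : Tv f A a φ) {s : k} (hs : s ≠ 0) : Tv f A a (s • φ) := by
  have h' := h.smul_center hs
  have key : ∀ c : k, tvMat (c • (s • a)) φ = tvMat (c • a) (s • φ) := fun c => by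
    rw [smul_comm, tvMat_smul]
  exact ⟨by rw [smul_dotProduct, h.dot, smul_zero],
    fun g => by simp only [h'.mem, key],
    fun c => by simpa only [key] using h'.surj c⟩

theorem tvMat_comm {a b φ ψ : ι → k} (h1 : φ ⬝ᵥ b = 0) (h2 : ψ ⬝ᵥ a = 0) :
    tvMat a φ * tvMat b ψ = tvMat b ψ * tvMat a φ := by
  rw [tvMat_mul, tvMat_mul, h1, h2, zero_smul, zero_smul]; abel

theorem tvMat_mul_neg (h : φ ⬝ᵥ a = 0) (c : k) :
    tvMat (c • a) φ * tvMat ((-c) • a) φ = 1 := by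
  rw [tvMat_mul_same_dual _ _ _ (by rw [dotProduct_smul, h, smul_zero]), ← add_smul,
    add_neg_cancel, zero_smul, tvMat_zero_left]

theorem map_inv_eq {g : G} {M : Matrix ι ι k} (h : f g * M = 1) : f g⁻¹ = M := by
  calc f g⁻¹ = f g⁻¹ * (f g * M) := by rw [h, mul_one]
    _ = M := by rw [← mul_assoc, ← map_mul, inv_mul_cancel, map_one, one_mul]

theorem Tv.map_inv (h : Tv f A a φ) {g : G} {c : k} (hg : f g = tvMat (c • a) φ) :
    f g⁻¹ = tvMat ((-c) • a) φ :=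
  map_inv_eq (by rw [hg, tvMat_mul_neg h.dot])

variable (hf : Function.Injective f)
include hf

theorem Tv.eq_of_same (h : Tv f A a φ) (h' : Tv f B a φ) : A = B := by
  ext g; rw [h.mem, h'.mem]

theorem Tv.commute_of (h : Tv f A a φ) (h' : Tv f B b ψ) (h1 : φ ⬝ᵥ b = 0) (h2 : ψ ⬝ᵥ a = 0)
    {g g' : G} (hg : g ∈ A) (hg' : g' ∈ B) : g * g' = g' * g := by
  obtain ⟨c, hc⟩ := (h.mem g).1 hg
  obtain ⟨d, hd⟩ := (h'.mem g').1 hg'
  refine hf ?_
  rw [map_mul, map_mul, hc, hd, tvMat_comm] <;> simp [h1, h2]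

theorem Tv.isMulCommutative (h : Tv f A a φ) : IsMulCommutative A :=
  ⟨⟨fun x y => Subtype.ext (h.commute_of hf h h.dot h.dot x.2 y.2)⟩⟩

theorem Tv.commutator_bot (h : Tv f A a φ) (h' : Tv f B b ψ) (h1 : φ ⬝ᵥ b = 0)
    (h2 : ψ ⬝ᵥ a = 0) : ⁅A, B⁆ = ⊥ :=
  commutator_eq_bot_of_comm fun _ hg _ hg' => h.commute_of hf h' h1 h2 hg hg'

omit hf in
theorem tvMat_ne_one {a φ : ι → k} (ha : a ≠ 0) (hφ : φ ≠ 0) : tvMat a φ ≠ 1 := by
  intro h
  obtain ⟨i, hi⟩ := Function.ne_iff.1 ha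
  obtain ⟨j, hj⟩ := Function.ne_iff.1 hφ
  rw [tvMat, add_eq_left] at h
  exact mul_ne_zero hi hj (congrFun (congrFun h i) j)

omit hf in
theorem Tv.ne_bot (h : Tv f A a φ) (ha : a ≠ 0) (hφ : φ ≠ 0) : A ≠ ⊥ := by
  intro hA
  obtain ⟨g, hg, hgf⟩ := h.exists_mem 1
  rw [hA, Subgroup.mem_bot] at hg
  rw [hg, map_one, one_smul] at hgf
  exact tvMat_ne_one ha hφ hgf.symm

theorem Tv.exists_ne_zero (h : Tv f A a φ) {g : G} (hg : g ∈ A) (hg1 : g ≠ 1) :
    ∃ c : k, c ≠ 0 ∧ f g = tvMat (c • a) φ := by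
  obtain ⟨c, hc⟩ := (h.mem g).1 hg
  refine ⟨c, fun h0 => hg1 (hf ?_), hc⟩
  rw [hc, h0, zero_smul, tvMat_zero_left, map_one]

omit hf in
theorem conj_tvMat (g : G) (a φ : ι → k) :
    f g * tvMat a φ * f g⁻¹ = tvMat (f g *ᵥ a) (φ ᵥ* f g⁻¹) :=
  mul_tvMat_mul _ _ _ _ (by rw [← map_mul, mul_inv_cancel, map_one])

theorem Tv.conj (h : Tv f A a φ) (g : G) :
    Tv f (conjBy A g) (f g *ᵥ a) (φ ᵥ* f g⁻¹) where
  dot := by
    rw [← dotProduct_mulVec, mulVec_mulVec, ← map_mul, inv_mul_cancel, map_one, one_mulVec, h.dot]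
  mem x := by
    rw [mem_conjBy, h.mem]
    refine exists_congr fun c => ?_
    rw [← mulVec_smul, ← conj_tvMat]
    constructor
    · intro hc; rw [← hc, ← map_mul, ← map_mul]; group
    · intro hc
      rw [map_mul, map_mul, hc]
      simp only [← mul_assoc]
      rw [← map_mul, inv_mul_cancel, map_one, one_mul, mul_assoc, ← map_mul, inv_mul_cancel,
        map_one, mul_one]
  surj c := by
    obtain ⟨x, hx⟩ := h.surj c
    exact ⟨g * x * g⁻¹, by rw [map_mul, map_mul, hx, conj_tvMat, mulVec_smul]⟩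

/-- The image of a `2 × 2` matrix on the plane of `a` and `b`. -/
theorem exists_planeHom (ha : φ ⬝ᵥ a = 0) (hb : ψ ⬝ᵥ b = 0) (hab : φ ⬝ᵥ b = 1)
    (hba : ψ ⬝ᵥ a = 1) : ∃ ρ : Matrix.SpecialLinearGroup (Fin 2) k →* Matrix ι ι k,
      Function.Injective ρ ∧ (∀ x, ρ (upp x) = tvMat (x • a) φ) ∧
        (∀ x, ρ (low x) = tvMat (x • b) ψ) ∧ ∀ M, (ρ M).det = 1 := by
  set P : Matrix ι (Fin 2) k := Matrix.of fun i j => ![a i, b i] j with hP
  set Q : Matrix (Fin 2) ι k := Matrix.of ![ψ, φ] with hQ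
  have hQP : Q * P = 1 := by
    ext i j
    fin_cases i <;> fin_cases j <;>
      simp [hP, hQ, Matrix.mul_apply] <;> (simp only [dotProduct] at ha hb hab hba; assumption)
  refine ⟨{
    toFun := fun M => 1 + P * ((M : Matrix (Fin 2) (Fin 2) k) - 1) * Q
    map_one' := by simp
    map_mul' := fun M N => ?_ }, ?_, ?_, ?_, ?_⟩
  · rw [Matrix.SpecialLinearGroup.coe_mul]
    simp only [Matrix.mul_add, Matrix.add_mul, Matrix.one_mul, Matrix.mul_one, Matrix.mul_sub,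
      Matrix.sub_mul, Matrix.mul_assoc, ← Matrix.mul_assoc Q P, hQP]
    abel
  · intro M N hMN
    replace hMN : 1 + P * ((M : Matrix (Fin 2) (Fin 2) k) - 1) * Q =
      1 + P * ((N : Matrix (Fin 2) (Fin 2) k) - 1) * Q := hMN
    have key : ∀ X : Matrix (Fin 2) (Fin 2) k, Q * (P * X * Q) * P = X := fun X => by
      rw [← Matrix.mul_assoc, ← Matrix.mul_assoc, hQP, Matrix.one_mul, Matrix.mul_assoc, hQP,
        Matrix.mul_one]
    have h := congrArg (fun X => Q * X * P) (add_left_cancel hMN)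
    simp only [key, sub_left_inj] at h
    exact Subtype.ext h
  · intro x
    show 1 + P * ((upp x : Matrix (Fin 2) (Fin 2) k) - 1) * Q = _
    ext i j
    simp [tvMat, hP, hQ, upp_val, Matrix.mul_apply, Fin.sum_univ_two, vecMulVec_apply,
      Matrix.one_apply]
    ring
  · intro x
    show 1 + P * ((low x : Matrix (Fin 2) (Fin 2) k) - 1) * Q = _
    ext i j
    simp [tvMat, hP, hQ, low_val, Matrix.mul_apply, Fin.sum_univ_two, vecMulVec_apply,
      Matrix.one_apply]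
    ring
  · intro M
    show (1 + P * ((M : Matrix (Fin 2) (Fin 2) k) - 1) * Q).det = 1
    rw [Matrix.mul_assoc, Matrix.det_one_add_mul_comm, Matrix.mul_assoc, hQP, Matrix.mul_one,
      add_sub_cancel]
    exact M.2

theorem Tv.exists_sl2Hom (h : Tv f A a φ) (h' : Tv f B b ψ) (hab : φ ⬝ᵥ b = 1)
    (hba : ψ ⬝ᵥ a = 1) : ∃ θ : Matrix.SpecialLinearGroup (Fin 2) k →* G,
      Function.Injective θ ∧ (∀ x, f (θ (upp x)) = tvMat (x • a) φ) ∧
        (∀ x, f (θ (low x)) = tvMat (x • b) ψ) := by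
  obtain ⟨ρ, hρ, hu, hl, -⟩ := exists_planeHom hf h.dot h'.dot hab hba
  have hrange : ∀ M, ρ M ∈ MonoidHom.mrange f := by
    have hinv : ∀ M, ρ M ∈ MonoidHom.mrange f → ρ M⁻¹ ∈ MonoidHom.mrange f := by
      rintro M ⟨g, hg⟩
      exact ⟨g⁻¹, map_inv_eq (by rw [hg, ← map_mul, mul_inv_cancel, map_one])⟩
    let H : Subgroup (Matrix.SpecialLinearGroup (Fin 2) k) :=
      { (MonoidHom.mrange f).comap ρ with inv_mem' := fun {x} hx => hinv x hx }
    intro M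
    have hle : upperUnipotentSL2 k ⊔ lowerUnipotentSL2 k ≤ H := by
      refine sup_le ?_ ?_
      · intro g hg
        obtain ⟨x, rfl⟩ := PairOver.mem_upper.1 hg
        obtain ⟨g, hg⟩ := h.surj x
        exact ⟨g, hg.trans (hu x).symm⟩
      · intro g hg
        obtain ⟨x, rfl⟩ := PairOver.mem_lower.1 hg
        obtain ⟨g, hg⟩ := h'.surj x
        exact ⟨g, hg.trans (hl x).symm⟩
    rw [PairOver.sup_eq_top] at hle
    exact hle (Subgroup.mem_top M)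
  choose θ hθ using hrange
  refine ⟨MonoidHom.mk' θ fun M N => hf (by rw [map_mul, hθ, hθ, hθ, map_mul]), ?_, ?_, ?_⟩
  · intro M N hMN; exact hρ (by rw [← hθ, ← hθ]; exact congrArg f hMN)
  · exact fun x => (hθ _).trans (hu x)
  · exact fun x => (hθ _).trans (hl x)

theorem Tv.pairOver (h : Tv f A a φ) (h' : Tv f B b ψ) (hab : φ ⬝ᵥ b ≠ 0) (hba : ψ ⬝ᵥ a ≠ 0) :
    IsPSL2PairOver k A B := by
  have h1 := h.smul_dual (inv_ne_zero hab)
  have h2 := h'.smul_dual (inv_ne_zero hba)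
  obtain ⟨θ, hθ, hu, hl⟩ := h1.exists_sl2Hom hf h2
    (by rw [smul_dotProduct, smul_eq_mul, inv_mul_cancel₀ hab])
    (by rw [smul_dotProduct, smul_eq_mul, inv_mul_cancel₀ hba])
  have hA : (upperUnipotentSL2 k).map θ = A := by
    ext g
    rw [h1.mem]
    constructor
    · rintro ⟨_, hM, rfl⟩; obtain ⟨x, rfl⟩ := PairOver.mem_upper.1 hM; exact ⟨x, hu x⟩
    · rintro ⟨c, hc⟩
      exact ⟨upp c, PairOver.mem_upper.2 ⟨c, rfl⟩, hf ((hu c).trans hc.symm)⟩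
  have hB : (lowerUnipotentSL2 k).map θ = B := by
    ext g
    rw [h2.mem]
    constructor
    · rintro ⟨_, hM, rfl⟩; obtain ⟨x, rfl⟩ := PairOver.mem_lower.1 hM; exact ⟨x, hl x⟩
    · rintro ⟨c, hc⟩
      exact ⟨low c, PairOver.mem_lower.2 ⟨c, rfl⟩, hf ((hl c).trans hc.symm)⟩
  refine ⟨θ, ?_, ?_, hA, hB⟩
  · rw [← hA, ← hB, ← Subgroup.map_sup, PairOver.sup_eq_top, MonoidHom.range_eq_map]
  · rw [(MonoidHom.ker_eq_bot_iff θ).2 hθ]; exact bot_le

theorem Tv.commutator_eval (h : Tv f A a φ) (h' : Tv f B b ψ) (h1 : φ ⬝ᵥ b = 0) {x y : G}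
    {s t : k} (hx : f x = tvMat (s • a) φ) (hy : f y = tvMat (t • b) ψ) :
    f (x * y * x⁻¹ * y⁻¹) = tvMat ((-(s * t) * (ψ ⬝ᵥ a)) • b) φ := by
  rw [map_mul, map_mul, map_mul, hx, hy, h.map_inv hx, h'.map_inv hy]
  rw [mul_tvMat_mul _ _ _ _ (tvMat_mul_neg h.dot s), tvMat_mulVec, vecMul_tvMat, dotProduct_smul,
    dotProduct_smul, h1, smul_zero, zero_smul, add_zero, tvMat_smul t b, tvMat_smul (-t) b,
    tvMat_mul_same_center _ _ _ (by simp [h'.dot, h1]), tvMat_smul]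
  congr 1
  ext i
  simp only [Pi.add_apply, Pi.smul_apply, smul_eq_mul]
  ring

theorem Tv.commutatorCase (h : Tv f A a φ) (h' : Tv f B b ψ) (hC : Tv f C b φ)
    (h1 : φ ⬝ᵥ b = 0) (h2 : ψ ⬝ᵥ a ≠ 0) (ha : a ≠ 0) (hφ : φ ≠ 0) (hb : b ≠ 0) (hψ : ψ ≠ 0)
    {S : Set (Subgroup G)} (hCS : C ∈ S) : RootCommutatorCase S A B := by
  have hcomm : ∀ x ∈ A, ∀ y ∈ B, x * y * x⁻¹ * y⁻¹ ∈ C := by
    intro x hx y hy
    obtain ⟨s, hs⟩ := (h.mem x).1 hx
    obtain ⟨t, ht⟩ := (h'.mem y).1 hy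
    exact (hC.mem _).2 ⟨_, h.commutator_eval hf h' h1 hs ht⟩
  have hL : ∀ x ∈ A, x ≠ 1 → Subgroup.closure ((fun y : G => x * y * x⁻¹ * y⁻¹) '' (B : Set G)) = C := by
    intro x hx hx1
    refine le_antisymm ((Subgroup.closure_le _).2 ?_) fun z hz => Subgroup.subset_closure ?_
    · rintro _ ⟨y, hy, rfl⟩; exact hcomm x hx y hy
    obtain ⟨s, hs0, hs⟩ := h.exists_ne_zero hf hx hx1
    obtain ⟨r, hr⟩ := (hC.mem z).1 hz
    obtain ⟨y, hy, hyf⟩ := h'.exists_mem (-r / (s * (ψ ⬝ᵥ a)))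
    refine ⟨y, hy, hf ?_⟩
    rw [h.commutator_eval hf h' h1 hs hyf, hr]
    congr 2
    field_simp
  have hR : ∀ y ∈ B, y ≠ 1 → Subgroup.closure ((fun x : G => x * y * x⁻¹ * y⁻¹) '' (A : Set G)) = C := by
    intro y hy hy1
    refine le_antisymm ((Subgroup.closure_le _).2 ?_) fun z hz => Subgroup.subset_closure ?_
    · rintro _ ⟨x, hx, rfl⟩; exact hcomm x hx y hy
    obtain ⟨t, ht0, ht⟩ := h'.exists_ne_zero hf hy hy1
    obtain ⟨r, hr⟩ := (hC.mem z).1 hz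
    obtain ⟨x, hx, hxf⟩ := h.exists_mem (-r / (t * (ψ ⬝ᵥ a)))
    refine ⟨x, hx, hf ?_⟩
    rw [h.commutator_eval hf h' h1 hxf ht, hr]
    congr 2
    field_simp
  have heq : ⁅A, B⁆ = C := by
    refine le_antisymm (Subgroup.commutator_le.2 fun x hx y hy => ?_) ?_
    · rw [commutatorElement_def]; exact hcomm x hx y hy
    · obtain ⟨x, hx, hx1⟩ := A.bot_or_exists_ne_one.resolve_left (h.ne_bot ha hφ)
      rw [← hL x hx hx1, Subgroup.closure_le]
      rintro _ ⟨y, hy, rfl⟩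
      simpa [commutatorElement_def] using Subgroup.commutator_mem_commutator hx hy
  refine ⟨heq ▸ hCS, ?_, heq ▸ hL, heq ▸ hR⟩
  rw [heq]
  intro c hc x hx
  have hle : A ⊔ B ≤ Subgroup.centralizer (C : Set G) := sup_le
    (fun y hy => Subgroup.mem_centralizer_iff.2 fun z hz => hC.commute_of hf h h.dot h1 hz hy)
    (fun y hy => Subgroup.mem_centralizer_iff.2 fun z hz => hC.commute_of hf h' h1 h'.dot hz hy)
  exact Subgroup.mem_centralizer_iff.1 (hle hx) c hc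

end CfsgLib.Trans3.TvGroup
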