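import Cfsg.Agent.Lib.Trans3.TvVec

/-!
# Transvection groups with scalars in a subfield
-/

set_option autoImplicit false
set_option linter.unusedSectionVars false

namespace CfsgLib.Trans3.TvOver

open Cfsg Matrix CfsgLib.MaxSub CfsgLib.Trans3.SL2Rel CfsgLib.Trans3.RankOne

variable {ι : Type} [Fintype ι] [DecidableEq ι] {k : Type*} [Field k]
variable {L : Type*} [Field L] [Algebra L k] {G : Type*} [Group G]

variable (L) in
/-- `A` is the group of all `1 + t a φᵀ` with `t ∈ L`. -/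
structure TvL (f : G →* Matrix ι ι k) (A : Subgroup G) (a φ : ι → k) : Prop where
  dot : φ ⬝ᵥ a = 0
  mem : ∀ g, g ∈ A ↔ ∃ t : L, f g = tvMat (algebraMap L k t • a) φ
  surj : ∀ t : L, ∃ g, f g = tvMat (algebraMap L k t • a) φ

variable {f : G →* Matrix ι ι k} {A B : Subgroup G} {a b φ ψ : ι → k}

theorem TvL.conj (h : TvL L f A a φ) (g : G) :
    TvL L f (conjBy A g) (f g *ᵥ a) (φ ᵥ* f g⁻¹) where
  dot := by
    rw [← dotProduct_mulVec, mulVec_mulVec, ← map_mul, inv_mul_cancel, map_one, one_mulVec, h.dot]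
  mem x := by
    rw [mem_conjBy, h.mem]
    refine exists_congr fun c => ?_
    rw [← mulVec_smul, ← TvGroup.conj_tvMat]
    constructor
    · intro hc; rw [← hc, ← map_mul, ← map_mul]; group
    · intro hc
      rw [map_mul, map_mul, hc]
      simp only [← mul_assoc]
      rw [← map_mul, inv_mul_cancel, map_one, one_mul, mul_assoc, ← map_mul, inv_mul_cancel,
        map_one, mul_one]
  surj c := by
    obtain ⟨x, hx⟩ := h.surj c
    exact ⟨g * x * g⁻¹, by rw [map_mul, map_mul, hx, TvGroup.conj_tvMat, mulVec_smul]⟩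

theorem TvL.ne_bot (h : TvL L f A a φ) (ha : a ≠ 0) (hφ : φ ≠ 0) : A ≠ ⊥ := by
  intro hA
  obtain ⟨g, hg⟩ := h.surj 1
  have h1 : g ∈ A := (h.mem g).2 ⟨1, hg⟩
  rw [hA, Subgroup.mem_bot] at h1
  rw [h1, map_one, map_one, one_smul] at hg
  exact TvGroup.tvMat_ne_one ha hφ hg.symm

variable (hf : Function.Injective f)
include hf

theorem TvL.eq_of_same (h : TvL L f A a φ) (h' : TvL L f B a φ) : A = B := by
  ext g; rw [h.mem, h'.mem]

theorem TvL.commute_of (h : TvL L f A a φ) (h' : TvL L f B b ψ) (h1 : φ ⬝ᵥ b = 0)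
    (h2 : ψ ⬝ᵥ a = 0) {g g' : G} (hg : g ∈ A) (hg' : g' ∈ B) : g * g' = g' * g := by
  obtain ⟨c, hc⟩ := (h.mem g).1 hg
  obtain ⟨d, hd⟩ := (h'.mem g').1 hg'
  refine hf ?_
  rw [map_mul, map_mul, hc, hd, TvGroup.tvMat_comm] <;> simp [h1, h2]

theorem TvL.commutator_bot (h : TvL L f A a φ) (h' : TvL L f B b ψ) (h1 : φ ⬝ᵥ b = 0)
    (h2 : ψ ⬝ᵥ a = 0) : ⁅A, B⁆ = ⊥ :=
  commutator_eq_bot_of_comm fun _ hg _ hg' => h.commute_of hf h' h1 h2 hg hg'

theorem TvL.isMulCommutative (h : TvL L f A a φ) : IsMulCommutative A :=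
  ⟨⟨fun x y => Subtype.ext (h.commute_of hf h h.dot h.dot x.2 y.2)⟩⟩

theorem TvL.pairOver (h : TvL L f A a φ) (h' : TvL L f B b ψ) (hab : φ ⬝ᵥ b ≠ 0) {r : L}
    (hr0 : r ≠ 0) (hr : (φ ⬝ᵥ b) * (ψ ⬝ᵥ a) = algebraMap L k r) :
    IsPSL2PairOver L A B := by
  obtain ⟨α, hα⟩ : ∃ α, φ ⬝ᵥ b = α := ⟨_, rfl⟩
  obtain ⟨β, hβ⟩ : ∃ β, ψ ⬝ᵥ a = β := ⟨_, rfl⟩
  rw [hα] at hab hr
  rw [hβ] at hr
  have hr' : algebraMap L k r ≠ 0 :=
    fun h => hr0 ((map_eq_zero_iff _ (algebraMap L k).injective).1 h)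
  have hαβ : α * β ≠ 0 := hr ▸ hr'
  obtain ⟨ρ, hρ, hu, hl, -⟩ := TvGroup.exists_planeHom (φ := α⁻¹ • φ) (ψ := (α * β)⁻¹ • ψ)
    (a := α • a) (b := b) hf
    (by rw [smul_dotProduct, dotProduct_smul, h.dot, smul_zero, smul_zero])
    (by rw [smul_dotProduct, h'.dot, smul_zero])
    (by rw [smul_dotProduct, hα, smul_eq_mul, inv_mul_cancel₀ hab])
    (by rw [smul_dotProduct, dotProduct_smul, hβ, smul_eq_mul, smul_eq_mul, inv_mul_cancel₀ hαβ])
  have eu : ∀ t : k, tvMat (t • α • a) (α⁻¹ • φ) = tvMat (t • a) φ := fun t => by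
    rw [← tvMat_smul, smul_smul, smul_smul]
    congr 2
    field_simp
  have el : ∀ t : L, tvMat (algebraMap L k t • b) ((α * β)⁻¹ • ψ) =
      tvMat (algebraMap L k (t / r) • b) ψ := fun t => by
    rw [← tvMat_smul, smul_smul, map_div₀, ← hr, div_eq_mul_inv, mul_comm]
  obtain ⟨ι', hι⟩ : ∃ ι' : Matrix.SpecialLinearGroup (Fin 2) L →* Matrix.SpecialLinearGroup (Fin 2) k,
      ι' = Matrix.SpecialLinearGroup.map (algebraMap L k) := ⟨_, rfl⟩
  have iu : ∀ t : L, ι' (upp t) = upp (algebraMap L k t) := fun t => by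
    subst hι; ext i j; fin_cases i <;> fin_cases j <;> simp [upp_val]
  have il : ∀ t : L, ι' (low t) = low (algebraMap L k t) := fun t => by
    subst hι; ext i j; fin_cases i <;> fin_cases j <;> simp [low_val]
  have hιinj : Function.Injective ι' := by
    subst hι
    intro M N hMN
    ext i j
    have := congrFun (congrFun (congrArg Subtype.val hMN) i) j
    exact (algebraMap L k).injective this
  have hu' : ∀ t : L, ρ (ι' (upp t)) = tvMat (algebraMap L k t • a) φ := fun t => by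
    rw [iu, hu, eu]
  have hl' : ∀ t : L, ρ (ι' (low t)) = tvMat (algebraMap L k (t / r) • b) ψ := fun t => by
    rw [il, hl, el]
  have hrange : ∀ M, (ρ.comp ι') M ∈ MonoidHom.mrange f := by
    let H : Subgroup (Matrix.SpecialLinearGroup (Fin 2) L) :=
      { (MonoidHom.mrange f).comap (ρ.comp ι') with
        inv_mem' := fun {x} hx => by
          obtain ⟨g, hg⟩ := hx
          exact ⟨g⁻¹, TvGroup.map_inv_eq (by rw [hg, ← map_mul, mul_inv_cancel, map_one])⟩ }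
    intro M
    have hle : upperUnipotentSL2 L ⊔ lowerUnipotentSL2 L ≤ H := by
      refine sup_le ?_ ?_
      · intro g hg
        obtain ⟨x, rfl⟩ := PairOver.mem_upper.1 hg
        obtain ⟨g, hg⟩ := h.surj x
        exact ⟨g, hg.trans (hu' x).symm⟩
      · intro g hg
        obtain ⟨x, rfl⟩ := PairOver.mem_lower.1 hg
        obtain ⟨g, hg⟩ := h'.surj (x / r)
        exact ⟨g, hg.trans (hl' x).symm⟩
    rw [PairOver.sup_eq_top] at hle
    exact hle (Subgroup.mem_top M)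
  choose θ hθ using hrange
  let Θ : Matrix.SpecialLinearGroup (Fin 2) L →* G :=
    MonoidHom.mk' θ fun M N => hf (by rw [map_mul, hθ, hθ, hθ, map_mul])
  have hΘ : ∀ M, f (Θ M) = ρ (ι' M) := hθ
  have hA : (upperUnipotentSL2 L).map Θ = A := by
    ext g
    rw [h.mem]
    constructor
    · rintro ⟨_, hM, rfl⟩; obtain ⟨x, rfl⟩ := PairOver.mem_upper.1 hM
      exact ⟨x, (hΘ _).trans (hu' x)⟩
    · rintro ⟨c, hc⟩
      exact ⟨upp c, PairOver.mem_upper.2 ⟨c, rfl⟩, hf (((hΘ _).trans (hu' c)).trans hc.symm)⟩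
  have hB : (lowerUnipotentSL2 L).map Θ = B := by
    ext g
    rw [h'.mem]
    constructor
    · rintro ⟨_, hM, rfl⟩; obtain ⟨x, rfl⟩ := PairOver.mem_lower.1 hM
      exact ⟨x / r, (hΘ _).trans (hl' x)⟩
    · rintro ⟨c, hc⟩
      refine ⟨low (c * r), PairOver.mem_lower.2 ⟨_, rfl⟩, hf (((hΘ _).trans (hl' _)).trans ?_)⟩
      rw [hc, mul_div_cancel_right₀ c hr0]
  refine ⟨Θ, ?_, ?_, hA, hB⟩
  · rw [← hA, ← hB, ← Subgroup.map_sup, PairOver.sup_eq_top, MonoidHom.range_eq_map]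
  · rw [(MonoidHom.ker_eq_bot_iff Θ).2 fun M N hMN => hιinj (hρ (by
      rw [← hΘ, ← hΘ, hMN]))]
    exact bot_le

end CfsgLib.Trans3.TvOver
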