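import Cfsg.Agent.Lib.Trans3.TvVec

/-!
# The class of transvection groups of `SL(ι, k)`
-/

set_option autoImplicit false

namespace CfsgLib.Trans3.TvSL

open Cfsg Matrix CfsgLib.MaxSub CfsgLib.Trans3.TvGroup CfsgLib.Trans3.TvVec CfsgLib.Trans3.RankOne

variable {ι : Type} [Fintype ι] [DecidableEq ι] {k : Type*} [Field k]

/-- The inclusion of `SL` in the matrices. -/
def slVal : Matrix.SpecialLinearGroup ι k →* Matrix ι ι k where
  toFun g := g.1
  map_one' := rfl
  map_mul' _ _ := rfl

theorem slVal_injective : Function.Injective (slVal (ι := ι) (k := k)) := Subtype.val_injective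

theorem hasAllTv : HasAllTv (slVal (ι := ι) (k := k)) := fun a φ h =>
  ⟨⟨tvMat a φ, det_tvMat a φ h⟩, rfl⟩

/-- The root group of elementary transvections. -/
def rootGrp (i j : ι) : Subgroup (Matrix.SpecialLinearGroup ι k) :=
  Subgroup.closure {t : Matrix.SpecialLinearGroup ι k |
    ∃ c : k, (t : Matrix ι ι k) = Matrix.transvection i j c}

theorem tv_rootGrp {i j : ι} (hij : i ≠ j) :
    Tv slVal (rootGrp (k := k) i j) (Pi.single i 1) (Pi.single j 1) := by
  have h0 : (Pi.single j 1 : ι → k) ⬝ᵥ Pi.single i 1 = 0 := by simp [hij.symm]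
  have key : ∀ c : k, tvMat (c • (Pi.single i 1 : ι → k)) (Pi.single j 1) =
      Matrix.transvection i j c := by
    intro c
    rw [← tvMat_single i j c]
    congr 1
    ext l; simp [Pi.single_apply]
  refine ⟨h0, fun g => ?_, fun c => hasAllTv _ _ (by rw [dotProduct_smul, h0, smul_zero])⟩
  simp only [key]
  constructor
  · intro hg
    induction hg using Subgroup.closure_induction with
    | mem t ht => exact ht
    | one => exact ⟨0, by rw [Matrix.transvection_zero, map_one]⟩
    | mul x y _ _ hx hy =>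
        obtain ⟨c, hc⟩ := hx; obtain ⟨d, hd⟩ := hy
        exact ⟨c + d, by rw [map_mul, hc, hd, Matrix.transvection_mul_transvection_same i j hij]⟩
    | inv x _ hx =>
        obtain ⟨c, hc⟩ := hx
        refine ⟨-c, map_inv_eq ?_⟩
        rw [hc, Matrix.transvection_mul_transvection_same i j hij, add_neg_cancel,
          Matrix.transvection_zero]
  · exact fun hg => Subgroup.subset_closure hg

/-- All conjugates. -/
def rootSet (i j : ι) : Set (Subgroup (Matrix.SpecialLinearGroup ι k)) :=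
  {A | ∃ g, A = conjBy (rootGrp i j) g}

variable {i j : ι} (hij : i ≠ j)
include hij

theorem exists_tv {A : Subgroup (Matrix.SpecialLinearGroup ι k)} (hA : A ∈ rootSet i j) :
    ∃ a φ, a ≠ 0 ∧ φ ≠ 0 ∧ Tv slVal A a φ := by
  obtain ⟨g, rfl⟩ := hA
  have h := (tv_rootGrp (k := k) hij).conj slVal_injective g
  refine ⟨_, _, ?_, ?_, h⟩
  · intro h0
    have := congrArg (fun v => slVal g⁻¹ *ᵥ v) h0
    simp only [mulVec_mulVec, ← map_mul, inv_mul_cancel, map_one, one_mulVec, mulVec_zero] at this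
    exact one_ne_zero (α := k) (by simpa using congrFun this i)
  · intro h0
    have := congrArg (fun v => v ᵥ* slVal g) h0
    simp only [vecMul_vecMul, ← map_mul, inv_mul_cancel, map_one, vecMul_one, zero_vecMul] at this
    exact one_ne_zero (α := k) (by simpa using congrFun this j)

variable (hι : 3 ≤ Fintype.card ι)
include hι

theorem exists_member {a φ : ι → k} (ha : a ≠ 0) (hφ : φ ≠ 0) (h : φ ⬝ᵥ a = 0) :
    ∃ A ∈ rootSet i j, Tv slVal A a φ := by
  obtain ⟨g, hg1, hg2⟩ := moves_all hι (hasAllTv (ι := ι) (k := k)) (a := Pi.single i 1)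
    (φ := Pi.single j 1) (by simp) ha (by simp) hφ (by simp [hij.symm]) h
  refine ⟨_, ⟨g, rfl⟩, ?_⟩
  have := (tv_rootGrp (k := k) hij).conj slVal_injective g
  rwa [hg1, hg2] at this

theorem pair_cases {A B : Subgroup (Matrix.SpecialLinearGroup ι k)} (hA : A ∈ rootSet i j)
    (hB : B ∈ rootSet i j) :
    ⁅A, B⁆ = ⊥ ∨ IsPSL2PairOver k A B ∨ RootCommutatorCase (rootSet i j) A B := by
  obtain ⟨a, φ, ha, hφ, hTA⟩ := exists_tv hij hA
  obtain ⟨b, ψ, hb, hψ, hTB⟩ := exists_tv hij hB
  by_cases h1 : φ ⬝ᵥ b = 0 <;> by_cases h2 : ψ ⬝ᵥ a = 0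
  · exact Or.inl (hTA.commutator_bot slVal_injective hTB h1 h2)
  · obtain ⟨C, hC, hTC⟩ := exists_member hij hι hb hφ h1
    exact Or.inr (Or.inr (hTA.commutatorCase slVal_injective hTB hTC h1 h2 ha hφ hb hψ hC))
  · obtain ⟨C, hC, hTC⟩ := exists_member hij hι ha hψ h2
    exact Or.inr (Or.inr (PairOver.commutatorCase_symm
      (hTB.commutatorCase slVal_injective hTA hTC h2 h1 hb hψ ha hφ hC)))
  · exact Or.inr (Or.inl (hTA.pairOver slVal_injective hTB h1 h2))

theorem isRootSubgroupClass : IsRootSubgroupClass (rootSet (k := k) i j) := by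
  refine ⟨⟨fun A hA => ?_, fun A hA => ?_, ?_, ?_, fun A hA B hB => ?_⟩,
    ⟨⟨_, 1, rfl⟩, ?_⟩⟩
  · obtain ⟨a, φ, -, -, h⟩ := exists_tv hij hA
    exact h.isMulCommutative slVal_injective
  · obtain ⟨a, φ, ha, hφ, h⟩ := exists_tv hij hA
    exact h.ne_bot ha hφ
  · refine CfsgLib.Classical.sl_transvection_induction _ fun p q hpq c => ?_
    obtain ⟨A, hA, hT⟩ := exists_member hij hι (k := k) (a := Pi.single p 1)
      (φ := Pi.single q 1) (by simp) (by simp) (by simp [hpq.symm])
    refine Subgroup.mem_iSup_of_mem A (Subgroup.mem_iSup_of_mem hA ((hT.mem _).2 ⟨c, ?_⟩))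
    show Matrix.transvection p q c = _
    rw [← tvMat_single p q c]
    congr 1
    ext l; simp [Pi.single_apply]
  · rintro A ⟨h, rfl⟩ g
    exact ⟨g * h, conjBy_conjBy _ _ _⟩
  · rcases pair_cases hij hι hA hB with h | h | h
    exacts [Or.inl h, Or.inr (Or.inl (PairOver.isRankOnePair_of_pairOver h)), Or.inr (Or.inr h)]
  · rintro A ⟨g, rfl⟩ B ⟨g', rfl⟩
    exact ⟨g' * g⁻¹, by rw [conjBy_conjBy, inv_mul_cancel_right]⟩

theorem isKRootSubgroupSet : IsKRootSubgroupSet k (rootSet (k := k) i j) := by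
  refine ⟨(isRootSubgroupClass hij hι).1, fun A hA B hB hr => ?_⟩
  rcases pair_cases hij hι hA hB with h | h | h
  · exact absurd h (not_commutator_bot hr)
  · exact h
  · exact absurd h (PairOver.not_commutatorCase hr ((isRootSubgroupClass hij hι).1.commutative A hA)
      ((isRootSubgroupClass hij hι).1.commutative B hB))

theorem isNondegenerate {l : ι} (hil : i ≠ l) (hjl : j ≠ l) :
    IsNondegenerateRootSet (rootSet (k := k) i j) := by
  let e : ι → (ι → k) := fun p => Pi.single p 1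
  have he : ∀ p, e p ≠ 0 := fun p => by simp [e]
  have hd : ∀ p q, p ≠ q → e p ⬝ᵥ e q = 0 := fun p q h => by simp [e, h]
  have hs : ∀ p, e p ⬝ᵥ e p = 1 := fun p => by simp [e]
  obtain ⟨A, hA, hTA⟩ := exists_member hij hι (he i) (he j) (hd j i hij.symm)
  obtain ⟨A', hA', hTA'⟩ := exists_member hij hι (he i) (he l) (hd l i hil.symm)
  obtain ⟨B, hB, hTB⟩ := exists_member hij hι (he j) (he i) (hd i j hij)
  obtain ⟨B', hB', hTB'⟩ := exists_member hij hι (he j) (he l) (hd l j hjl.symm)
  refine ⟨⟨A, hA, A', hA', ?_, hTA.commutator_bot slVal_injective hTA' (hd j i hij.symm)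
      (hd l i hil.symm)⟩,
    ⟨A, hA, B, hB, PairOver.isRankOnePair_of_pairOver (k := k)
      (hTA.pairOver slVal_injective hTB (by simp [hs]) (by simp [hs]))⟩,
    ⟨B', hB', A, hA, ?_⟩⟩
  · rintro rfl
    obtain ⟨g, hg, hgf⟩ := hTA.exists_mem 1
    obtain ⟨c, hc⟩ := (hTA'.mem g).1 hg
    have := congrArg (fun M => M *ᵥ e j) (hgf.symm.trans hc)
    simp only [tvMat_mulVec, hs, hd l j hjl.symm, one_smul, zero_smul, add_zero] at this
    exact he i (by simpa using this)
  · exact hTB'.commutatorCase slVal_injective hTA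
      ((exists_member hij hι (he i) (he l) (hd l i hil.symm)).choose_spec.2) (hd l i hil.symm)
      (by simp [hs]) (he j) (he l) (he i) (he j)
      ((exists_member hij hι (he i) (he l) (hd l i hil.symm)).choose_spec.1)

theorem isConnected : IsConnectedFamily (FAdj (rootSet (k := k) i j)) (rootSet i j) := by
  intro A hA B hB
  obtain ⟨a, φ, ha, hφ, hTA⟩ := exists_tv hij hA
  obtain ⟨b, ψ, hb, hψ, hTB⟩ := exists_tv hij hB
  obtain ⟨c, hc1, hc2⟩ := exists_dot_ne_ne hφ hψ
  have hc : c ≠ 0 := fun h => hc1 (by rw [h, dotProduct_zero])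
  obtain ⟨χ, hχc, hχa, hχb⟩ := exists_zero_ne_ne (c := c) (a := a) (b := b)
    (fun s hs => by
      have := hTA.dot
      rw [hs, dotProduct_smul, smul_eq_mul, mul_eq_zero, or_iff_left hc1] at this
      exact ha (by rw [hs, this, zero_smul]))
    (fun s hs => by
      have := hTB.dot
      rw [hs, dotProduct_smul, smul_eq_mul, mul_eq_zero, or_iff_left hc2] at this
      exact hb (by rw [hs, this, zero_smul])) hc
  rw [dotProduct_comm] at hχc hχa hχb
  have hχ : χ ≠ 0 := fun h => hχa (by rw [h, zero_dotProduct])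
  obtain ⟨C, hC, hTC⟩ := exists_member hij hι hc hχ hχc
  exact (Relation.ReflTransGen.single ⟨hA, hC, PairOver.isRankOnePair_of_pairOver (k := k)
    (hTA.pairOver slVal_injective hTC hc1 hχa)⟩).tail ⟨hC, hB,
      PairOver.isRankOnePair_of_pairOver (k := k) (hTC.pairOver slVal_injective hTB hχb hc2)⟩

end CfsgLib.Trans3.TvSL
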