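import Cfsg.Agent.Lib.Trans3.TvOver
import Cfsg.Agent.Lib.Classical.HermOrder

/-!
# The unitary transvection groups
-/

set_option autoImplicit false
set_option linter.unusedSectionVars false

namespace CfsgLib.Trans3.TvSU

open Cfsg Matrix CfsgLib.MaxSub CfsgLib.Classical CfsgLib.Trans3.TvVec CfsgLib.Trans3.TvOver
  CfsgLib.Trans3.RankOne

variable {F : Type*} [Field F] {q n : ℕ}

/-- A carrier type in `Type` with `q` elements. -/
def Fq (q : ℕ) : Type := Fin q

/-- `T(p)`. -/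
def grp (p : Fin n → F) : Subgroup ↥(Cfsg.SU n F q) :=
  Subgroup.closure {g : ↥(Cfsg.SU n F q) |
    (∀ v : Fin n → F, ∃ c : F,
      ((g : Matrix.SpecialLinearGroup (Fin n) F) : Matrix (Fin n) (Fin n) F) *ᵥ v = v + c • p) ∧
    ∀ v : Fin n → F, Cfsg.hermForm n F q v p = 0 →
      ((g : Matrix.SpecialLinearGroup (Fin n) F) : Matrix (Fin n) (Fin n) F) *ᵥ v = v}

/-- All `T(p)`, `p` isotropic. -/
def grpSet : Set (Subgroup ↥(Cfsg.SU n F q)) :=
  {A | ∃ p : Fin n → F, p ≠ 0 ∧ Cfsg.hermForm n F q p p = 0 ∧ A = grp p}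

/-- The subgroup generated by them. -/
def gen (F : Type*) [Field F] (q n : ℕ) : Subgroup ↥(Cfsg.SU n F q) :=
  ⨆ B ∈ (grpSet : Set (Subgroup ↥(Cfsg.SU n F q))), B

/-- The same groups inside `gen`. -/
def subSet (F : Type*) [Field F] (q n : ℕ) : Set (Subgroup ↥(gen F q n)) :=
  (fun A : Subgroup ↥(Cfsg.SU n F q) => A.subgroupOf (gen F q n)) '' grpSet

theorem herm_dot (u p : Fin n → F) :
    (fun i => p i ^ q) ⬝ᵥ u = Cfsg.hermForm n F q u p :=
  Finset.sum_congr rfl fun _ _ => mul_comm _ _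

/-- The inclusion of `SU` in the matrices. -/
def suVal : ↥(Cfsg.SU n F q) →* Matrix (Fin n) (Fin n) F :=
  (slToMat n F).comp (Cfsg.SU n F q).subtype

theorem suVal_injective : Function.Injective (suVal (F := F) (q := q) (n := n)) :=
  fun _ _ h => Subtype.ext (Subtype.ext h)

variable [Fintype F] (hF : Fintype.card F = q ^ 2)
include hF

theorem pow_add' (x y : F) : (x + y) ^ q = x ^ q + y ^ q := by
  simpa only [qFrob_apply] using map_add (qFrob hF) x y

theorem pow_pow' (x : F) : (x ^ q) ^ q = x := by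
  simpa only [qFrob_apply] using qFrob_qFrob hF x

theorem zero_pow' : (0 : F) ^ q = 0 := by
  simpa only [qFrob_apply] using map_zero (qFrob hF)

theorem one_pow' : (1 : F) ^ q = 1 := one_pow q

theorem herm_conj (u v : Fin n → F) :
    Cfsg.hermForm n F q u v ^ q = Cfsg.hermForm n F q v u := by
  have := hermB_conj hF v u
  rwa [hermB_apply, hermB_apply, qFrob_apply] at this

theorem herm_add_left (u u' v : Fin n → F) :
    Cfsg.hermForm n F q (u + u') v = Cfsg.hermForm n F q u v + Cfsg.hermForm n F q u' v := by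
  rw [← herm_dot, ← herm_dot, ← herm_dot, dotProduct_add]

theorem herm_smul_left (c : F) (u v : Fin n → F) :
    Cfsg.hermForm n F q (c • u) v = c * Cfsg.hermForm n F q u v := by
  rw [← herm_dot, ← herm_dot, dotProduct_smul, smul_eq_mul]

theorem herm_add_right (u v v' : Fin n → F) :
    Cfsg.hermForm n F q u (v + v') = Cfsg.hermForm n F q u v + Cfsg.hermForm n F q u v' := by
  rw [← herm_conj hF, herm_add_left hF, pow_add' hF, herm_conj hF, herm_conj hF]

theorem herm_smul_right (c : F) (u v : Fin n → F) :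
    Cfsg.hermForm n F q u (c • v) = c ^ q * Cfsg.hermForm n F q u v := by
  rw [← herm_conj hF, herm_smul_left hF, mul_pow, herm_conj hF]

theorem dual_ne {p : Fin n → F} (hp : p ≠ 0) : (fun i => p i ^ q) ≠ 0 := by
  intro h
  refine hp (funext fun i => ?_)
  have hi : p i ^ q = 0 := congrFun h i
  rw [← pow_pow' hF (p i), hi, zero_pow' hF]
  rfl

theorem gen_iff {p : Fin n → F} (hp : p ≠ 0) (hpp : Cfsg.hermForm n F q p p = 0)
    (g : ↥(Cfsg.SU n F q)) :
    ((∀ v : Fin n → F, ∃ c : F,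
        ((g : Matrix.SpecialLinearGroup (Fin n) F) : Matrix (Fin n) (Fin n) F) *ᵥ v = v + c • p) ∧
      ∀ v : Fin n → F, Cfsg.hermForm n F q v p = 0 →
        ((g : Matrix.SpecialLinearGroup (Fin n) F) : Matrix (Fin n) (Fin n) F) *ᵥ v = v) ↔
    ∃ c : F, c + c ^ q = 0 ∧ suVal g = tvMat (c • p) (fun i => p i ^ q) := by
  constructor
  · rintro ⟨h1, h2⟩
    obtain ⟨z, hz⟩ := exists_dot_eq_one (dual_ne hF hp)
    rw [herm_dot] at hz
    obtain ⟨c, hc⟩ := h1 z
    refine ⟨c, ?_, Matrix.toLin'.injective (LinearMap.ext fun v => ?_)⟩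
    · have h := g.2 z z
      have hz' : slToMat n F (g : Matrix.SpecialLinearGroup (Fin n) F) *ᵥ z = z + c • p := hc
      rw [hz'] at h
      simp only [herm_add_left hF, herm_add_right hF, herm_smul_left hF, herm_smul_right hF,
        hpp, hz] at h
      rw [show Cfsg.hermForm n F q p z = 1 by rw [← herm_conj hF z p, hz, one_pow]] at h
      linear_combination h
    · simp only [Matrix.toLin'_apply, tvMat_mulVec, herm_dot]
      have h3 : Cfsg.hermForm n F q (v + (-(Cfsg.hermForm n F q v p)) • z) p = 0 := by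
        rw [herm_add_left hF, herm_smul_left hF, hz, mul_one, add_neg_cancel]
      have h4 : suVal g *ᵥ (v + (-(Cfsg.hermForm n F q v p)) • z) = _ := h2 _ h3
      rw [mulVec_add, mulVec_smul, show suVal g *ᵥ z = z + c • p from hc, smul_add, neg_smul,
        neg_smul, smul_smul, eq_comm] at h4
      rw [smul_smul]
      linear_combination (norm := module) -h4
  · rintro ⟨c, -, hg⟩
    refine ⟨fun v => ⟨Cfsg.hermForm n F q v p * c, ?_⟩, fun v hv => ?_⟩
    · show suVal g *ᵥ v = _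
      rw [hg, tvMat_mulVec, herm_dot, smul_smul]
    · show suVal g *ᵥ v = v
      rw [hg, tvMat_mulVec, herm_dot, hv, zero_smul, add_zero]

theorem exists_su {p : Fin n → F} (hpp : Cfsg.hermForm n F q p p = 0) {c : F}
    (hc : c + c ^ q = 0) :
    ∃ g : ↥(Cfsg.SU n F q), suVal g = tvMat (c • p) (fun i => p i ^ q) := by
  refine ⟨⟨⟨_, det_tvMat (c • p) (fun i => p i ^ q)
    (by rw [dotProduct_smul, herm_dot, hpp, smul_zero])⟩, fun u v => ?_⟩, rfl⟩
  show Cfsg.hermForm n F q (tvMat (c • p) _ *ᵥ u) (tvMat (c • p) _ *ᵥ v) = _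
  simp only [tvMat_mulVec, herm_dot, smul_smul, herm_add_left hF, herm_add_right hF,
    herm_smul_left hF, herm_smul_right hF, hpp, mul_pow, herm_conj hF]
  linear_combination (Cfsg.hermForm n F q u p * Cfsg.hermForm n F q p v) * hc

theorem mem_grp {p : Fin n → F} (hp : p ≠ 0) (hpp : Cfsg.hermForm n F q p p = 0)
    (g : ↥(Cfsg.SU n F q)) :
    g ∈ grp p ↔ ∃ c : F, c + c ^ q = 0 ∧ suVal g = tvMat (c • p) (fun i => p i ^ q) := by
  have h0 : ∀ c : F, (fun i => p i ^ q) ⬝ᵥ (c • p) = 0 := fun c => by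
    rw [dotProduct_smul, herm_dot, hpp, smul_zero]
  constructor
  · intro hg
    induction hg using Subgroup.closure_induction with
    | mem t ht => exact (gen_iff hF hp hpp t).1 ht
    | one => exact ⟨0, by rw [zero_pow' hF, add_zero], by rw [zero_smul, tvMat_zero_left, map_one]⟩
    | mul x y _ _ hx hy =>
        obtain ⟨c, hc0, hc⟩ := hx; obtain ⟨d, hd0, hd⟩ := hy
        refine ⟨c + d, by rw [pow_add' hF]; linear_combination hc0 + hd0, ?_⟩
        rw [map_mul, hc, hd, tvMat_mul_same_dual _ _ _ (h0 d), add_smul]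
    | inv x _ hx =>
        obtain ⟨c, hc0, hc⟩ := hx
        have hneg : (-c) ^ q = -(c ^ q) := by
          simpa only [qFrob_apply] using map_neg (qFrob hF) c
        refine ⟨-c, by rw [hneg]; linear_combination -hc0, TvGroup.map_inv_eq ?_⟩
        rw [hc, tvMat_mul_same_dual _ _ _ (h0 _), ← add_smul, add_neg_cancel, zero_smul,
          tvMat_zero_left]
  · exact fun h => Subgroup.subset_closure ((gen_iff hF hp hpp g).2 h)

/-- The fixed field. -/
noncomputable def fixField : Subfield F := RingHom.eqLocusField (qFrob hF) (RingHom.id F)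

theorem mem_fixField {x : F} : x ∈ fixField hF ↔ x ^ q = x := by
  show qFrob hF x = x ↔ _
  rw [qFrob_apply]

theorem card_fixField : Nat.card (fixField hF) = q := by
  classical
  have hq := two_le_of_card_sq hF
  have bound : ∀ c : F, Nat.card {x : F // x ^ q = c * x} ≤ q := by
    intro c
    let P : Polynomial F := Polynomial.X ^ q - Polynomial.C c * Polynomial.X
    have hdeg : P.natDegree = q := by
      refine (Polynomial.natDegree_sub_eq_left_of_natDegree_lt ?_).trans (Polynomial.natDegree_X_pow q)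
      calc (Polynomial.C c * Polynomial.X).natDegree ≤ 1 :=
            (Polynomial.natDegree_C_mul_le c _).trans Polynomial.natDegree_X_le
        _ < q := by omega
        _ = _ := (Polynomial.natDegree_X_pow q).symm
    have hP : P ≠ 0 := fun h => by rw [h, Polynomial.natDegree_zero] at hdeg; omega
    rw [Nat.card_eq_fintype_card, Fintype.card_subtype, ← hdeg]
    refine Polynomial.card_le_degree_of_subset_roots fun x hx => ?_
    rw [Polynomial.mem_roots hP, Polynomial.IsRoot]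
    simp only [Finset.mem_filter, Finset.mem_univ, true_and, Finset.mem_val] at hx
    rw [hdeg] at hx
    simp [P, hx]
  let T : F →+ F :=
    AddMonoidHom.mk' (fun x => x + x ^ q) fun x y => by rw [pow_add' hF]; ring
  have hker : Nat.card T.ker ≤ q := by
    refine le_trans (le_of_eq (Nat.card_congr (Equiv.subtypeEquivRight fun x => ?_))) (bound (-1))
    show x + x ^ q = 0 ↔ _
    constructor <;> intro h <;> linear_combination h
  have hrg : Nat.card T.range ≤ Nat.card (fixField hF) := by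
    refine Nat.card_le_card_of_injective
      (fun y => (⟨y.1, (mem_fixField hF).2 ?_⟩ : fixField hF)) fun a b hab =>
        Subtype.ext (congrArg (fun z : fixField hF => (z : F)) hab)
    obtain ⟨x, hx⟩ := y.2
    rw [← hx]
    show (x + x ^ q) ^ q = x + x ^ q
    rw [pow_add' hF, pow_pow' hF, add_comm]
  have hfix : Nat.card (fixField hF) ≤ q := by
    refine le_trans (le_of_eq (Nat.card_congr (Equiv.subtypeEquivRight fun x => ?_))) (bound 1)
    rw [one_mul]; exact mem_fixField hF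
  have hcard : Nat.card T.ker * Nat.card T.range = q ^ 2 := by
    rw [← hF, ← Nat.card_eq_fintype_card, ← AddSubgroup.index_ker T, AddSubgroup.card_mul_index]
  nlinarith

theorem exists_traceZero : ∃ ω : F, ω ≠ 0 ∧ ω + ω ^ q = 0 := by
  obtain ⟨x, hx⟩ : ∃ x : F, x ^ q ≠ x := by
    by_contra! h
    exact qFrob_ne_id hF (RingHom.ext fun x => by rw [qFrob_apply, h, RingHom.id_apply])
  have hneg : (-(x ^ q)) ^ q = -x := by
    rw [← qFrob_apply hF, map_neg, qFrob_apply, pow_pow' hF]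
  refine ⟨x - x ^ q, sub_ne_zero.2 (Ne.symm hx), ?_⟩
  rw [sub_eq_add_neg, pow_add' hF, hneg]; ring

theorem exists_isotropic {n : ℕ} :
    ∃ p : Fin (n + 2) → F, p ≠ 0 ∧ Cfsg.hermForm (n + 2) F q p p = 0 := by
  classical
  have hm : (-1 : F) ^ q = -1 := by
    rw [← qFrob_apply hF, map_neg, map_one]
  have hc := card_norm_fibre hF (t := (-1 : F)) (neg_ne_zero.2 one_ne_zero) hm
  have hpos : 0 < Nat.card {x : F // x ^ (q + 1) = -1} := by omega
  obtain ⟨⟨l, hl⟩⟩ := (Nat.card_pos_iff.1 hpos).1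
  obtain ⟨e, he⟩ : ∃ e : Fin (n + 2) → F, e = Pi.single 0 1 := ⟨_, rfl⟩
  obtain ⟨e', he'⟩ : ∃ e' : Fin (n + 2) → F, e' = Pi.single 1 1 := ⟨_, rfl⟩
  refine ⟨e + l • e', fun h => ?_, ?_⟩
  · simpa [he, he'] using congrFun h 0
  · have hv : ∀ i j : Fin (n + 2), Cfsg.hermForm (n + 2) F q (Pi.single i 1) (Pi.single j 1) =
        if i = j then 1 else 0 := fun i j => by
      rw [← herm_dot, dotProduct_single, mul_one]
      show (Pi.single j (1 : F) : Fin (n + 2) → F) i ^ q = _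
      rw [Pi.single_apply]; split_ifs <;> simp [zero_pow' hF]
    simp only [herm_add_left hF, herm_add_right hF, herm_smul_left hF, herm_smul_right hF, he, he',
      hv]
    simp [← pow_succ', hl]

theorem exists_isotropic_ne {p r : Fin n → F} (hp : p ≠ 0) (hr : r ≠ 0)
    (hpp : Cfsg.hermForm n F q p p = 0) (hpr : Cfsg.hermForm n F q p r = 0) :
    ∃ s, s ≠ 0 ∧ Cfsg.hermForm n F q s s = 0 ∧ Cfsg.hermForm n F q s p ≠ 0 ∧
      Cfsg.hermForm n F q s r ≠ 0 := by
  obtain ⟨v, hv1, hv2⟩ := exists_dot_ne_ne (dual_ne hF hp) (dual_ne hF hr)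
  rw [herm_dot] at hv1 hv2
  obtain ⟨t, ht⟩ := exists_qFrob_trace_one hF
  rw [qFrob_apply] at ht
  obtain ⟨α, hα⟩ : ∃ α, Cfsg.hermForm n F q v p = α := ⟨_, rfl⟩
  obtain ⟨γ, hγ⟩ : ∃ γ, Cfsg.hermForm n F q v v = γ := ⟨_, rfl⟩
  have hγq : γ ^ q = γ := by rw [← hγ, herm_conj hF]
  have hα' : Cfsg.hermForm n F q p v = α ^ q := by rw [← hα, herm_conj hF]
  have hαq : α ^ q ≠ 0 := fun h => hv1 (by rw [hα, ← pow_pow' hF α, h, zero_pow' hF])
  obtain ⟨T, hT⟩ : ∃ T, T = -(γ * t) / α ^ q := ⟨_, rfl⟩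
  have e1 : T * α ^ q = -(γ * t) := by rw [hT, div_mul_cancel₀ _ hαq]
  have e2 : T ^ q * α = -(γ * t ^ q) := by
    have := congrArg (· ^ q) e1
    simp only [mul_pow, pow_pow' hF] at this
    rw [this, ← qFrob_apply hF, map_neg, qFrob_apply, mul_pow, hγq]
  have hne : Cfsg.hermForm n F q (v + T • p) p ≠ 0 := by
    rw [herm_add_left hF, herm_smul_left hF, hpp, mul_zero, add_zero]; exact hv1
  refine ⟨v + T • p, fun h => hne ?_, ?_, hne, ?_⟩
  · rw [h, ← herm_dot, dotProduct_zero]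
  · simp only [herm_add_left hF, herm_add_right hF, herm_smul_left hF, herm_smul_right hF, hpp,
      hα', hα, hγ]
    linear_combination e1 + e2 - γ * ht
  · rw [herm_add_left hF, herm_smul_left hF, hpr, mul_zero, add_zero]; exact hv2

variable {L : Type*} [Field L] [Algebra L F] (hL : ∀ x : F, (∃ t, algebraMap L F t = x) ↔ x ^ q = x)
variable {ω : F} (hω0 : ω ≠ 0) (hω : ω + ω ^ q = 0)
include hL hω0 hω

/-- The inclusion of `gen` in the matrices. -/
theorem tv_sub {p : Fin n → F} (hp : p ≠ 0) (hpp : Cfsg.hermForm n F q p p = 0) :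
    TvL L (suVal.comp (gen F q n).subtype) ((grp p).subgroupOf (gen F q n)) (ω • p)
      (fun i => p i ^ q) := by
  have hle : grp p ≤ gen F q n :=
    le_iSup₂_of_le (grp p) ⟨p, hp, hpp, rfl⟩ le_rfl
  have key : ∀ c : F, (∃ t : L, algebraMap L F t * ω = c) ↔ c + c ^ q = 0 := by
    intro c
    constructor
    · rintro ⟨t, rfl⟩
      rw [mul_pow, (hL _).1 ⟨t, rfl⟩]
      linear_combination algebraMap L F t * hω
    · intro hc
      have h1 : (c / ω) ^ q = c / ω := by
        rw [div_pow, show c ^ q = -c by linear_combination hc, show ω ^ q = -ω by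
          linear_combination hω, neg_div_neg_eq]
      obtain ⟨t, ht⟩ := (hL _).2 h1
      exact ⟨t, by rw [ht, div_mul_cancel₀ c hω0]⟩
  refine ⟨by rw [dotProduct_smul, herm_dot, hpp, smul_zero], fun g => ?_, fun t => ?_⟩
  · rw [Subgroup.mem_subgroupOf, mem_grp hF hp hpp]
    constructor
    · rintro ⟨c, hc, hg⟩
      obtain ⟨t, ht⟩ := (key c).2 hc
      exact ⟨t, by rw [smul_smul, ht]; exact hg⟩
    · rintro ⟨t, ht⟩
      exact ⟨_, (key _).1 ⟨t, rfl⟩, by rw [← smul_smul]; exact ht⟩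
  · obtain ⟨g, hg⟩ := exists_su hF hpp ((key _).1 ⟨t, rfl⟩)
    have hgm : g ∈ grp p := (mem_grp hF hp hpp g).2 ⟨_, (key _).1 ⟨t, rfl⟩, hg⟩
    exact ⟨⟨g, hle hgm⟩, by rw [smul_smul]; exact hg⟩

theorem pair {p r : Fin n → F} (hp : p ≠ 0) (hpp : Cfsg.hermForm n F q p p = 0) (hr : r ≠ 0)
    (hrr : Cfsg.hermForm n F q r r = 0) :
    (Cfsg.hermForm n F q r p = 0 →
      ⁅(grp p).subgroupOf (gen F q n), (grp r).subgroupOf (gen F q n)⁆ = ⊥) ∧
    (Cfsg.hermForm n F q r p ≠ 0 →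
      IsPSL2PairOver L ((grp p).subgroupOf (gen F q n)) ((grp r).subgroupOf (gen F q n))) := by
  have hinj : Function.Injective (suVal.comp (gen F q n).subtype :
      ↥(gen F q n) →* Matrix (Fin n) (Fin n) F) := fun _ _ h => Subtype.ext (suVal_injective h)
  have hP := tv_sub hF hL hω0 hω hp hpp
  have hR := tv_sub hF hL hω0 hω hr hrr
  have e1 : (fun i => p i ^ q) ⬝ᵥ (ω • r) = ω * Cfsg.hermForm n F q r p := by
    rw [dotProduct_smul, herm_dot, smul_eq_mul]
  have e2 : (fun i => r i ^ q) ⬝ᵥ (ω • p) = ω * Cfsg.hermForm n F q r p ^ q := by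
    rw [dotProduct_smul, herm_dot, smul_eq_mul, herm_conj hF]
  refine ⟨fun h => hP.commutator_bot hinj hR (by rw [e1, h, mul_zero])
    (by rw [e2, h, zero_pow' hF, mul_zero]), fun h => ?_⟩
  obtain ⟨t, ht⟩ := (hL (ω * Cfsg.hermForm n F q r p * (ω * Cfsg.hermForm n F q r p ^ q))).2 (by
    simp only [mul_pow, pow_pow' hF, show ω ^ q = -ω by linear_combination hω]; ring)
  refine hP.pairOver hinj hR (r := t) (by rw [e1]; exact mul_ne_zero hω0 h) ?_ (by rw [e1, e2, ht])
  rintro rfl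
  rw [map_zero, eq_comm] at ht
  simp [hω0, h] at ht

omit hL hω0 hω [Algebra L F] in
theorem gen_top : (⨆ A ∈ subSet F q n, A) = (⊤ : Subgroup ↥(gen F q n)) := by
  refine Subgroup.map_injective (gen F q n).subtype_injective ?_
  rw [← MonoidHom.range_eq_map, Subgroup.range_subtype]
  refine le_antisymm (Subgroup.map_subtype_le _) ?_
  refine iSup₂_le fun A hA x hx => ?_
  have hle : A ≤ gen F q n := le_iSup₂_of_le (f := fun B (_ : B ∈ grpSet) => B) A hA le_rfl
  exact ⟨⟨x, hle hx⟩, Subgroup.mem_iSup_of_mem (A.subgroupOf (gen F q n))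
    (Subgroup.mem_iSup_of_mem ⟨A, hA, rfl⟩ hx), rfl⟩

omit hL hω0 hω [Algebra L F] in
theorem conj_grp (g : ↥(Cfsg.SU n F q)) {p : Fin n → F} (hp : p ≠ 0)
    (hpp : Cfsg.hermForm n F q p p = 0) :
    conjBy (grp p) g = grp (suVal g *ᵥ p) ∧ suVal g *ᵥ p ≠ 0 ∧
      Cfsg.hermForm n F q (suVal g *ᵥ p) (suVal g *ᵥ p) = 0 := by
  have h1 : suVal g *ᵥ p ≠ 0 := fun h => hp (by
    have := congrArg (fun v => suVal g⁻¹ *ᵥ v) h
    simpa only [mulVec_mulVec, ← map_mul, inv_mul_cancel, map_one, one_mulVec, mulVec_zero]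
      using this)
  have h2 : Cfsg.hermForm n F q (suVal g *ᵥ p) (suVal g *ᵥ p) = 0 := (g.2 p p).trans hpp
  refine ⟨?_, h1, h2⟩
  have e : (fun i => p i ^ q) ᵥ* suVal g⁻¹ = fun i => (suVal g *ᵥ p) i ^ q := by
    refine dotProduct_eq _ _ fun x => ?_
    rw [← dotProduct_mulVec, herm_dot, herm_dot]
    have h3 := g.2 (suVal g⁻¹ *ᵥ x) p
    rw [← h3]
    congr 1
    show suVal g *ᵥ (suVal g⁻¹ *ᵥ x) = x
    rw [mulVec_mulVec, ← map_mul, mul_inv_cancel, map_one, one_mulVec]
  ext x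
  rw [mem_conjBy, mem_grp hF hp hpp, mem_grp hF h1 h2]
  refine exists_congr fun c => and_congr_right fun _ => ?_
  rw [← e, ← mulVec_smul, ← TvGroup.conj_tvMat]
  constructor
  · intro hc; rw [← hc, ← map_mul, ← map_mul]; group
  · intro hc
    rw [map_mul, map_mul, hc]
    simp only [← mul_assoc]
    rw [← map_mul, inv_mul_cancel, map_one, one_mul, mul_assoc, ← map_mul, inv_mul_cancel, map_one,
      mul_one]

omit hω0 hω in
theorem isConnected {ω : F} (hω0 : ω ≠ 0) (hω : ω + ω ^ q = 0) :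
    IsConnectedFamily (FAdj (subSet F q n)) (subSet F q n) := by
  rintro _ ⟨_, ⟨p, hp, hpp, rfl⟩, rfl⟩ _ ⟨_, ⟨r, hr, hrr, rfl⟩, rfl⟩
  have hmem : ∀ x : Fin n → F, x ≠ 0 → Cfsg.hermForm n F q x x = 0 →
      (grp x).subgroupOf (gen F q n) ∈ subSet F q n := fun x h h' => ⟨_, ⟨x, h, h', rfl⟩, rfl⟩
  have adj : ∀ {x y : Fin n → F}, x ≠ 0 → Cfsg.hermForm n F q x x = 0 → y ≠ 0 →
      Cfsg.hermForm n F q y y = 0 → Cfsg.hermForm n F q y x ≠ 0 →
      FAdj (subSet F q n) ((grp x).subgroupOf (gen F q n)) ((grp y).subgroupOf (gen F q n)) :=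
    fun hx hxx hy hyy h => ⟨hmem _ hx hxx, hmem _ hy hyy,
      PairOver.isRankOnePair_of_pairOver ((pair hF hL hω0 hω hx hxx hy hyy).2 h)⟩
  by_cases h : Cfsg.hermForm n F q p r = 0
  · obtain ⟨s, hs, hss, hsp, hsr⟩ := exists_isotropic_ne hF hp hr hpp h
    refine (Relation.ReflTransGen.single (adj hp hpp hs hss hsp)).tail (adj hs hss hr hrr ?_)
    intro h0
    exact hsr (by rw [← herm_conj hF r s, h0, zero_pow' hF])
  · refine Relation.ReflTransGen.single (adj hp hpp hr hrr fun h0 => h ?_)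
    rw [← herm_conj hF r p, h0, zero_pow' hF]

theorem main (hn : ∃ p : Fin n → F, p ≠ 0 ∧ Cfsg.hermForm n F q p p = 0) :
    IsRootSubgroupClass (subSet F q n) ∧ IsDegenerateRootSet (subSet F q n) ∧
      IsKRootSubgroupSet L (subSet F q n) := by
  have hinj : Function.Injective (suVal.comp (gen F q n).subtype :
      ↥(gen F q n) →* Matrix (Fin n) (Fin n) F) := fun _ _ h => Subtype.ext (suVal_injective h)
  have hne : ∀ A ∈ subSet F q n, A ≠ ⊥ := by
    rintro _ ⟨_, ⟨p, hp, hpp, rfl⟩, rfl⟩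
    exact (tv_sub hF hL hω0 hω hp hpp).ne_bot (smul_ne_zero hω0 hp) (dual_ne hF hp)
  have hcm : ∀ A ∈ subSet F q n, IsMulCommutative A := by
    rintro _ ⟨_, ⟨p, hp, hpp, rfl⟩, rfl⟩
    exact (tv_sub hF hL hω0 hω hp hpp).isMulCommutative hinj
  have hpair : ∀ A ∈ subSet F q n, ∀ B ∈ subSet F q n,
      ⁅A, B⁆ = ⊥ ∨ IsPSL2PairOver L A B := by
    rintro _ ⟨_, ⟨p, hp, hpp, rfl⟩, rfl⟩ _ ⟨_, ⟨r, hr, hrr, rfl⟩, rfl⟩
    by_cases h : Cfsg.hermForm n F q r p = 0
    · exact Or.inl ((pair hF hL hω0 hω hp hpp hr hrr).1 h)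
    · exact Or.inr ((pair hF hL hω0 hω hp hpp hr hrr).2 h)
  have hS : IsRootSubgroupSet (subSet F q n) := by
    refine ⟨hcm, hne, gen_top hF, ?_, fun A hA B hB => (hpair A hA B hB).elim Or.inl
      fun h => Or.inr (Or.inl (PairOver.isRankOnePair_of_pairOver h))⟩
    rintro _ ⟨_, ⟨p, hp, hpp, rfl⟩, rfl⟩ g
    obtain ⟨he, h1, h2⟩ := conj_grp hF (g : ↥(Cfsg.SU n F q)) hp hpp
    refine ⟨_, ⟨_, h1, h2, rfl⟩, ?_⟩
    show (grp _).subgroupOf (gen F q n) = _
    rw [← he]
    ext x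
    simp only [Subgroup.mem_subgroupOf, mem_conjBy, Subgroup.coe_mul, Subgroup.coe_inv]
  refine ⟨⟨hS, ?_, fun A hA B hB => ?_⟩, ?_, hS, fun A hA B hB h => ?_⟩
  · obtain ⟨p, hp, hpp⟩ := hn
    exact ⟨_, ⟨_, ⟨p, hp, hpp, rfl⟩, rfl⟩⟩
  · induction isConnected hF hL hω0 hω A hA B hB with
    | refl => exact ⟨1, (conjBy_one A).symm⟩
    | @tail C D _ hCD ih =>
        obtain ⟨g, hg⟩ := ih hCD.1
        obtain ⟨x, -, hx⟩ := right_mem hCD.2.2
        exact ⟨x * g, by rw [← conjBy_conjBy, ← hg]; exact hx⟩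
  · intro A hA B hB hc
    rcases hpair A hA B hB with h | h
    · have h1 := hc.1
      rw [h] at h1
      exact hne _ h1 rfl
    · exact PairOver.not_commutatorCase (PairOver.isRankOnePair_of_pairOver h) (hcm A hA) (hcm B hB) hc
  · exact (hpair A hA B hB).resolve_left (not_commutator_bot h)

end CfsgLib.Trans3.TvSU
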