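import Cfsg.Agent.Lib.Trans3.TvVec
import Cfsg.Agent.Lib.Geom.Symp

/-!
# The symplectic transvection groups
-/

set_option autoImplicit false

namespace CfsgLib.Trans3.TvSp

open Cfsg Matrix CfsgLib.MaxSub CfsgLib.Trans3.TvGroup CfsgLib.Trans3.TvVec CfsgLib.Trans3.RankOne

variable {F : Type*} [Field F] {m : ℕ}

/-- The transvection group of `p`. -/
def spGrp (p : Fin m ⊕ Fin m → F) : Subgroup ↥(Matrix.symplecticGroup (Fin m) F) :=
  Subgroup.closure {g : ↥(Matrix.symplecticGroup (Fin m) F) | ∃ c : F, ∀ v : Fin m ⊕ Fin m → F,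
    (g : Matrix (Fin m ⊕ Fin m) (Fin m ⊕ Fin m) F) *ᵥ v =
      v + (c * (v ⬝ᵥ (Matrix.J (Fin m) F *ᵥ p))) • p}

/-- All transvection groups. -/
def spSet : Set (Subgroup ↥(Matrix.symplecticGroup (Fin m) F)) :=
  {A | ∃ p : Fin m ⊕ Fin m → F, p ≠ 0 ∧ A = spGrp p}

/-- The inclusion in the matrices. -/
def spVal : ↥(Matrix.symplecticGroup (Fin m) F) →* Matrix (Fin m ⊕ Fin m) (Fin m ⊕ Fin m) F :=
  (Matrix.symplecticGroup (Fin m) F).subtype

theorem spVal_injective : Function.Injective (spVal (F := F) (m := m)) := Subtype.val_injective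

theorem dual_dot (p v : Fin m ⊕ Fin m → F) :
    (Matrix.J (Fin m) F *ᵥ p) ⬝ᵥ v = Cfsg.sympForm m F v p := dotProduct_comm _ _

theorem dual_self (p : Fin m ⊕ Fin m → F) : (Matrix.J (Fin m) F *ᵥ p) ⬝ᵥ p = 0 := by
  rw [dual_dot, ← CfsgLib.Geom.sympBilin_apply, CfsgLib.Geom.sympBilin_self]

theorem dual_swap (p r : Fin m ⊕ Fin m → F) :
    (Matrix.J (Fin m) F *ᵥ r) ⬝ᵥ p = -((Matrix.J (Fin m) F *ᵥ p) ⬝ᵥ r) := by
  rw [dual_dot, dual_dot, ← CfsgLib.Geom.sympBilin_apply, ← CfsgLib.Geom.sympBilin_apply]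
  exact CfsgLib.Geom.sympBilin_swap _ _

theorem dual_ne {p : Fin m ⊕ Fin m → F} (hp : p ≠ 0) : Matrix.J (Fin m) F *ᵥ p ≠ 0 := by
  intro h
  refine hp (CfsgLib.Geom.sympBilin_sep p fun y => ?_)
  rw [CfsgLib.Geom.sympBilin_swap, CfsgLib.Geom.sympBilin_apply, ← dual_dot, h, zero_dotProduct,
    neg_zero]

theorem transvection_eq (p : Fin m ⊕ Fin m → F) (c : F) :
    Cfsg.sympTransvection m p c = tvMat (c • p) (Matrix.J (Fin m) F *ᵥ p) := by
  refine Matrix.toLin'.injective (LinearMap.ext fun x => ?_)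
  simp only [Matrix.toLin'_apply, CfsgLib.Geom.sympTransvection_mulVec, tvMat_mulVec, dual_dot,
    CfsgLib.Geom.sympBilin_apply, smul_smul]
  rw [mul_comm]

theorem gen_iff (p : Fin m ⊕ Fin m → F) (g : ↥(Matrix.symplecticGroup (Fin m) F)) (c : F) :
    (∀ v : Fin m ⊕ Fin m → F, (g : Matrix (Fin m ⊕ Fin m) (Fin m ⊕ Fin m) F) *ᵥ v =
      v + (c * (v ⬝ᵥ (Matrix.J (Fin m) F *ᵥ p))) • p) ↔
    spVal g = tvMat (c • p) (Matrix.J (Fin m) F *ᵥ p) := by
  constructor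
  · intro h
    refine Matrix.toLin'.injective (LinearMap.ext fun x => ?_)
    simp only [Matrix.toLin'_apply, tvMat_mulVec, smul_smul]
    rw [show spVal g *ᵥ x = _ from h x, dotProduct_comm, mul_comm]
  · intro h v
    show spVal g *ᵥ v = _
    rw [h, tvMat_mulVec, smul_smul, dotProduct_comm, mul_comm]

theorem tv_spGrp (p : Fin m ⊕ Fin m → F) :
    Tv spVal (spGrp p) p (Matrix.J (Fin m) F *ᵥ p) := by
  have h0 := dual_self p
  refine ⟨h0, fun g => ?_, fun c => ⟨⟨_, CfsgLib.Geom.sympTransvection_mem p c⟩,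
    transvection_eq p c⟩⟩
  constructor
  · intro hg
    induction hg using Subgroup.closure_induction with
    | mem t ht => obtain ⟨c, hc⟩ := ht; exact ⟨c, (gen_iff p t c).1 hc⟩
    | one => exact ⟨0, by rw [zero_smul, tvMat_zero_left, map_one]⟩
    | mul x y _ _ hx hy =>
        obtain ⟨c, hc⟩ := hx; obtain ⟨d, hd⟩ := hy
        refine ⟨c + d, ?_⟩
        rw [map_mul, hc, hd, tvMat_mul_same_dual _ _ _ (by rw [dotProduct_smul, h0, smul_zero]),
          add_smul]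
    | inv x _ hx =>
        obtain ⟨c, hc⟩ := hx
        exact ⟨-c, map_inv_eq (by rw [hc, tvMat_mul_neg h0])⟩
  · rintro ⟨c, hc⟩
    exact Subgroup.subset_closure ⟨c, (gen_iff p g c).2 hc⟩

theorem spGrp_conj (p : Fin m ⊕ Fin m → F) (g : ↥(Matrix.symplecticGroup (Fin m) F)) :
    conjBy (spGrp p) g = spGrp (spVal g *ᵥ p) := by
  have h := (tv_spGrp p).conj spVal_injective g
  have e : (Matrix.J (Fin m) F *ᵥ p) ᵥ* spVal g⁻¹ = Matrix.J (Fin m) F *ᵥ (spVal g *ᵥ p) := by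
    refine dotProduct_eq _ _ fun x => ?_
    rw [← dotProduct_mulVec, dual_dot, dual_dot]
    have h1 := (CfsgLib.Geom.mem_symplecticGroup_iff_form _).1 g.2 (spVal g⁻¹ *ᵥ x) p
    rw [← h1]
    congr 1
    show spVal g *ᵥ (spVal g⁻¹ *ᵥ x) = x
    rw [mulVec_mulVec, ← map_mul, mul_inv_cancel, map_one, one_mulVec]
  rw [e] at h
  exact h.eq_of_same spVal_injective (tv_spGrp _)

theorem pairOver {p r : Fin m ⊕ Fin m → F} (h : (Matrix.J (Fin m) F *ᵥ p) ⬝ᵥ r ≠ 0) :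
    IsPSL2PairOver F (spGrp p) (spGrp r) :=
  (tv_spGrp p).pairOver spVal_injective (tv_spGrp r) h (by rw [dual_swap]; exact neg_ne_zero.2 h)

theorem commBot {p r : Fin m ⊕ Fin m → F} (h : (Matrix.J (Fin m) F *ᵥ p) ⬝ᵥ r = 0) :
    ⁅spGrp p, spGrp r⁆ = ⊥ :=
  (tv_spGrp p).commutator_bot spVal_injective (tv_spGrp r) h (by rw [dual_swap, h, neg_zero])

theorem isConnected : IsConnectedFamily (FAdj (spSet (F := F) (m := m))) spSet := by
  rintro _ ⟨p, hp, rfl⟩ _ ⟨r, hr, rfl⟩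
  obtain ⟨s, hs1, hs2⟩ := exists_dot_ne_ne (dual_ne hp) (dual_ne hr)
  have hs : s ≠ 0 := fun h => hs1 (by rw [h, dotProduct_zero])
  refine (Relation.ReflTransGen.single ⟨⟨p, hp, rfl⟩, ⟨s, hs, rfl⟩,
    PairOver.isRankOnePair_of_pairOver (pairOver hs1)⟩).tail ⟨⟨s, hs, rfl⟩, ⟨r, hr, rfl⟩,
      PairOver.isRankOnePair_of_pairOver (pairOver (p := s) ?_)⟩
  rw [dual_swap]
  exact neg_ne_zero.2 hs2

theorem conj_mem {A : Subgroup ↥(Matrix.symplecticGroup (Fin m) F)} (hA : A ∈ spSet)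
    (g : ↥(Matrix.symplecticGroup (Fin m) F)) : conjBy A g ∈ spSet := by
  obtain ⟨p, hp, rfl⟩ := hA
  refine ⟨_, fun h => hp ?_, spGrp_conj p g⟩
  have := congrArg (fun v => spVal g⁻¹ *ᵥ v) h
  simpa only [mulVec_mulVec, ← map_mul, inv_mul_cancel, map_one, one_mulVec, mulVec_zero] using this

theorem isRootSubgroupClass :
    IsRootSubgroupClass (spSet (F := F) (m := m + 1)) := by
  refine ⟨⟨?_, ?_, ?_, fun A hA g => conj_mem hA g, ?_⟩, ⟨?_, fun A hA B hB => ?_⟩⟩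
  · rintro _ ⟨p, -, rfl⟩; exact (tv_spGrp p).isMulCommutative spVal_injective
  · rintro _ ⟨p, hp, rfl⟩; exact (tv_spGrp p).ne_bot hp (dual_ne hp)
  · rw [eq_top_iff, ← CfsgLib.Geom.closure_sympTransvection (F := F) (m + 1), Subgroup.closure_le]
    rintro A ⟨w, c, hA⟩
    rcases eq_or_ne w 0 with rfl | hw
    · have : A = 1 := Subtype.ext (by rw [hA, transvection_eq, smul_zero, tvMat_zero_left]; rfl)
      rw [this]; exact one_mem _
    · exact Subgroup.mem_iSup_of_mem (spGrp w) (Subgroup.mem_iSup_of_mem ⟨w, hw, rfl⟩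
        (((tv_spGrp w).mem A).2 ⟨c, hA.trans (transvection_eq w c)⟩))
  · rintro _ ⟨p, hp, rfl⟩ _ ⟨r, hr, rfl⟩
    by_cases h : (Matrix.J (Fin (m + 1)) F *ᵥ p) ⬝ᵥ r = 0
    · exact Or.inl (commBot h)
    · exact Or.inr (Or.inl (PairOver.isRankOnePair_of_pairOver (pairOver h)))
  · exact ⟨_, Pi.single (Sum.inl 0) 1, by simp, rfl⟩
  · induction isConnected A hA B hB with
    | refl => exact ⟨1, (conjBy_one A).symm⟩
    | @tail C D _ hCD ih =>
        obtain ⟨g, hg⟩ := ih hCD.1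
        obtain ⟨x, -, hx⟩ := right_mem hCD.2.2
        exact ⟨x * g, by rw [← conjBy_conjBy, ← hg]; exact hx⟩

theorem isDegenerate : IsDegenerateRootSet (spSet (F := F) (m := m)) := by
  rintro _ ⟨p, hp, rfl⟩ _ ⟨r, hr, rfl⟩ hc
  by_cases h : (Matrix.J (Fin m) F *ᵥ p) ⬝ᵥ r = 0
  · obtain ⟨⟨s, hs, he⟩, -⟩ := hc
    rw [commBot h] at he
    exact (tv_spGrp s).ne_bot hs (dual_ne hs) he.symm
  · exact PairOver.not_commutatorCase (PairOver.isRankOnePair_of_pairOver (pairOver h))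
      ((tv_spGrp p).isMulCommutative spVal_injective)
      ((tv_spGrp r).isMulCommutative spVal_injective) hc

theorem isKRootSubgroupSet : IsKRootSubgroupSet F (spSet (F := F) (m := m + 1)) := by
  refine ⟨isRootSubgroupClass.1, ?_⟩
  rintro _ ⟨p, hp, rfl⟩ _ ⟨r, hr, rfl⟩ h2
  by_cases h : (Matrix.J (Fin (m + 1)) F *ᵥ p) ⬝ᵥ r = 0
  · exact absurd (commBot h) (not_commutator_bot h2)
  · exact pairOver h

end CfsgLib.Trans3.TvSp
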