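import Cfsg.Agent.Lib.Trans3.TvGroup
import Mathlib.LinearAlgebra.FiniteDimensional.Lemmas

/-!
# Moves between incident point-functional pairs
-/

set_option autoImplicit false

namespace CfsgLib.Trans3.TvVec

open Matrix CfsgLib.MaxSub

variable {ι : Type} [Fintype ι] [DecidableEq ι] {k : Type*} [Field k]

theorem exists_dot_eq_one {u : ι → k} (hu : u ≠ 0) : ∃ x, u ⬝ᵥ x = 1 := by
  obtain ⟨i, hi⟩ := Function.ne_iff.1 hu
  exact ⟨Pi.single i (u i)⁻¹, by rw [dotProduct_single, mul_inv_cancel₀ hi]⟩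

theorem exists_dot_zero_one {u v : ι → k} (hu : u ≠ 0) (h : ∀ s : k, v ≠ s • u) :
    ∃ x, u ⬝ᵥ x = 0 ∧ v ⬝ᵥ x = 1 := by
  obtain ⟨z, hz⟩ := exists_dot_eq_one hu
  have hw : v - (v ⬝ᵥ z) • u ≠ 0 := sub_ne_zero.2 (h _)
  obtain ⟨y, hy⟩ := exists_dot_eq_one hw
  refine ⟨y - (u ⬝ᵥ y) • z, ?_, ?_⟩
  · rw [dotProduct_sub, dotProduct_smul, hz, smul_eq_mul, mul_one, sub_self]
  · rw [sub_dotProduct, smul_dotProduct, smul_eq_mul] at hy
    rw [dotProduct_sub, dotProduct_smul, smul_eq_mul, ← hy]; ring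

theorem exists_dot_one_one {u v : ι → k} (hu : u ≠ 0) (h : ∀ s : k, v ≠ s • u) :
    ∃ x, u ⬝ᵥ x = 1 ∧ v ⬝ᵥ x = 1 := by
  obtain ⟨z, hz⟩ := exists_dot_eq_one hu
  obtain ⟨y, hy0, hy1⟩ := exists_dot_zero_one hu h
  refine ⟨z + (1 - v ⬝ᵥ z) • y, ?_, ?_⟩ <;>
    simp [dotProduct_add, dotProduct_smul, hz, hy0, hy1]

theorem exists_dot_ne_ne {u v : ι → k} (hu : u ≠ 0) (hv : v ≠ 0) :
    ∃ x, u ⬝ᵥ x ≠ 0 ∧ v ⬝ᵥ x ≠ 0 := by
  by_cases h : ∀ s : k, v ≠ s • u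
  · obtain ⟨x, h1, h2⟩ := exists_dot_one_one hu h
    exact ⟨x, by simp [h1], by simp [h2]⟩
  · push Not at h
    obtain ⟨s, rfl⟩ := h
    obtain ⟨x, hx⟩ := exists_dot_eq_one hu
    refine ⟨x, by simp [hx], ?_⟩
    rw [smul_dotProduct, hx, smul_eq_mul, mul_one]
    exact fun h => hv (by rw [h, zero_smul])

theorem exists_zero_ne_ne {c a b : ι → k} (ha : ∀ s : k, a ≠ s • c) (hb : ∀ s : k, b ≠ s • c)
    (hc : c ≠ 0) : ∃ x, c ⬝ᵥ x = 0 ∧ a ⬝ᵥ x ≠ 0 ∧ b ⬝ᵥ x ≠ 0 := by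
  obtain ⟨x, hx0, hx1⟩ := exists_dot_zero_one hc ha
  obtain ⟨y, hy0, hy1⟩ := exists_dot_zero_one hc hb
  by_cases hbx : b ⬝ᵥ x = 0
  · by_cases hay : a ⬝ᵥ y = 0
    · exact ⟨x + y, by simp [dotProduct_add, hx0, hy0], by simp [dotProduct_add, hx1, hay],
        by simp [dotProduct_add, hbx, hy1]⟩
    · exact ⟨y, hy0, hay, by simp [hy1]⟩
  · exact ⟨x, hx0, by simp [hx1], hbx⟩

variable (hι : 3 ≤ Fintype.card ι)
include hι

omit [DecidableEq ι] in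
theorem exists_perp_pair (a b : ι → k) : ∃ x : ι → k, x ≠ 0 ∧ a ⬝ᵥ x = 0 ∧ b ⬝ᵥ x = 0 := by
  let L : (ι → k) →ₗ[k] k × k :=
    { toFun := fun x => (a ⬝ᵥ x, b ⬝ᵥ x)
      map_add' := fun x y => by simp [dotProduct_add]
      map_smul' := fun c x => by simp [dotProduct_smul] }
  have h : LinearMap.ker L ≠ ⊥ := by
    intro hk
    have h1 := LinearMap.finrank_le_finrank_of_injective (LinearMap.ker_eq_bot.1 hk)
    simp [Module.finrank_fintype_fun_eq_card, Module.finrank_prod] at h1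
    omega
  obtain ⟨x, hx, hx0⟩ := (Submodule.ne_bot_iff _).1 h
  exact ⟨x, hx0, congrArg Prod.fst hx, congrArg Prod.snd hx⟩

theorem exists_perp_indep {a φ : ι → k} (hφ : φ ≠ 0) :
    ∃ x : ι → k, a ⬝ᵥ x = 0 ∧ ∀ s : k, x ≠ s • φ := by
  obtain ⟨i, hi⟩ := Function.ne_iff.1 hφ
  obtain ⟨x, hx0, hxa, hxi⟩ := exists_perp_pair hι a (Pi.single i 1)
  refine ⟨x, hxa, fun s hs => hx0 ?_⟩
  rw [single_dotProduct, one_mul, hs, Pi.smul_apply, smul_eq_mul, mul_eq_zero] at hxi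
  rw [hs, hxi.resolve_right hi, zero_smul]

omit hι

variable {G : Type*} [Group G] (f : G →* Matrix ι ι k)

/-- `(a, φ)` is moved to `(b, ψ)` by some element. -/
def Moves (a φ b ψ : ι → k) : Prop := ∃ g : G, f g *ᵥ a = b ∧ φ ᵥ* f g⁻¹ = ψ

variable {f}

theorem Moves.trans {a φ b ψ c χ : ι → k} (h1 : Moves f a φ b ψ) (h2 : Moves f b ψ c χ) :
    Moves f a φ c χ := by
  obtain ⟨g, hg, hg'⟩ := h1
  obtain ⟨g', hh, hh'⟩ := h2
  refine ⟨g' * g, ?_, ?_⟩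
  · rw [map_mul, ← mulVec_mulVec, hg, hh]
  · rw [_root_.mul_inv_rev, map_mul, ← vecMul_vecMul, hg', hh']

/-- Every transvection lies in the image of `f`. -/
def HasAllTv (f : G →* Matrix ι ι k) : Prop :=
  ∀ a φ : ι → k, φ ⬝ᵥ a = 0 → ∃ g, f g = tvMat a φ

variable (hall : HasAllTv f)
include hall

theorem move_dual {a φ ψ : ι → k} (hφ : φ ≠ 0) (hφa : φ ⬝ᵥ a = 0) (hψa : ψ ⬝ᵥ a = 0)
    (hind : ∀ s : k, ψ ≠ s • φ) : Moves f a φ a ψ := by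
  obtain ⟨x, hx1, hx2⟩ := exists_dot_one_one hφ hind
  have hχ : (φ - ψ) ⬝ᵥ x = 0 := by rw [sub_dotProduct, hx1, hx2, sub_self]
  obtain ⟨g, hg⟩ := hall x (φ - ψ) hχ
  refine ⟨g, ?_, ?_⟩
  · rw [hg, tvMat_mulVec, sub_dotProduct, hφa, hψa, sub_self, zero_smul, add_zero]
  · rw [TvGroup.map_inv_eq (M := tvMat x (-(φ - ψ))) (by
      rw [hg, tvMat_mul_same_center _ _ _ hχ, add_neg_cancel, tvMat_zero]),
      vecMul_tvMat, hx1, one_smul]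
    abel

theorem move_center {a b φ : ι → k} (ha : a ≠ 0) (hφa : φ ⬝ᵥ a = 0) (hφb : φ ⬝ᵥ b = 0)
    (hind : ∀ s : k, b ≠ s • a) : Moves f a φ b φ := by
  obtain ⟨χ, hx1, hx2⟩ := exists_dot_one_one ha hind
  rw [dotProduct_comm] at hx1 hx2
  have hχ : χ ⬝ᵥ (b - a) = 0 := by rw [dotProduct_sub, hx1, hx2, sub_self]
  obtain ⟨g, hg⟩ := hall (b - a) χ hχ
  refine ⟨g, ?_, ?_⟩
  · rw [hg, tvMat_mulVec, hx1, one_smul, add_sub_cancel]
  · rw [TvGroup.map_inv_eq (M := tvMat (b - a) (-χ)) (by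
      rw [hg, tvMat_mul_same_center _ _ _ hχ, add_neg_cancel, tvMat_zero]),
      vecMul_tvMat, dotProduct_sub, hφb, hφa, sub_zero, zero_smul, add_zero]

include hι

theorem moves_dual {a φ ψ : ι → k} (hφ : φ ≠ 0) (hψ : ψ ≠ 0) (hφa : φ ⬝ᵥ a = 0)
    (hψa : ψ ⬝ᵥ a = 0) : Moves f a φ a ψ := by
  by_cases hind : ∀ s : k, ψ ≠ s • φ
  · exact move_dual hall hφ hφa hψa hind
  push Not at hind
  obtain ⟨s, rfl⟩ := hind
  obtain ⟨x, hxa, hx⟩ := exists_perp_indep hι (a := a) hφ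
  rw [dotProduct_comm] at hxa
  have hx0 : x ≠ 0 := fun h => hx 0 (by rw [h, zero_smul])
  refine (move_dual hall hφ hφa hxa hx).trans (move_dual hall hx0 hxa hψa fun t ht => ?_)
  rcases eq_or_ne t 0 with rfl | h0
  · rw [zero_smul] at ht; exact hψ ht
  · exact hx (t⁻¹ * s) (by rw [← smul_smul, ht, smul_smul, inv_mul_cancel₀ h0, one_smul])

theorem moves_center {a b φ : ι → k} (ha : a ≠ 0) (hb : b ≠ 0) (hφa : φ ⬝ᵥ a = 0)
    (hφb : φ ⬝ᵥ b = 0) : Moves f a φ b φ := by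
  by_cases hind : ∀ s : k, b ≠ s • a
  · exact move_center hall ha hφa hφb hind
  push Not at hind
  obtain ⟨s, rfl⟩ := hind
  obtain ⟨x, hxa, hx⟩ := exists_perp_indep hι (a := φ) ha
  have hx0 : x ≠ 0 := fun h => hx 0 (by rw [h, zero_smul])
  refine (move_center hall ha hφa hxa hx).trans (move_center hall hx0 hxa hφb fun t ht => ?_)
  rcases eq_or_ne t 0 with rfl | h0
  · rw [zero_smul] at ht; exact hb ht
  · exact hx (t⁻¹ * s) (by rw [← smul_smul, ht, smul_smul, inv_mul_cancel₀ h0, one_smul])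

theorem moves_all {a b φ ψ : ι → k} (ha : a ≠ 0) (hb : b ≠ 0) (hφ : φ ≠ 0) (hψ : ψ ≠ 0)
    (hφa : φ ⬝ᵥ a = 0) (hψb : ψ ⬝ᵥ b = 0) : Moves f a φ b ψ := by
  obtain ⟨χ, hχ, hχa, hχb⟩ := exists_perp_pair hι a b
  rw [dotProduct_comm] at hχa hχb
  exact ((moves_dual hι hall hφ hχ hφa hχa).trans (moves_center hι hall ha hb hχa hχb)).trans
    (moves_dual hι hall hχ hψ hχb hψb)

end CfsgLib.Trans3.TvVec
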